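import Mathlib
import Cfsg.Prelude.Def_OddOrderLocal

/-! Small general lemmas for the odd order local analysis block. -/

set_option autoImplicit false

namespace Cfsg.Agent.OddLocal.Basics

open scoped Pointwise

variable {G : Type*} [Group G]

/-- Every element of `A ⊔ B` is a product when `A` normalizes `B`. -/
theorem mem_sup_of_normalizing {A B : Subgroup G} (h : A ≤ Subgroup.normalizer (B : Set G)) {x : G} :
    x ∈ A ⊔ B ↔ ∃ a ∈ A, ∃ b ∈ B, x = a * b := by
  constructor
  · intro hx
    have : (x : G) ∈ (A : Set G) * (B : Set G) := by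
      rw [← Subgroup.coe_mul_of_left_le_normalizer_right A B h]
      exact hx
    obtain ⟨a, ha, b, hb, rfl⟩ := Set.mem_mul.mp this
    exact ⟨a, ha, b, hb, rfl⟩
  · rintro ⟨a, ha, b, hb, rfl⟩
    exact Subgroup.mul_mem_sup ha hb

/-- The cardinality of a product set of two subgroups meeting trivially. -/
theorem card_eq_of_isCompl' [Finite G] {A B M : Subgroup G} (hA : A ≤ M) (hB : B ≤ M)
    (hd : A ⊓ B = ⊥) (hf : ∀ m ∈ M, ∃ a ∈ A, ∃ b ∈ B, m = a * b) :
    Nat.card M = Nat.card A * Nat.card B := by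
  rw [← Nat.card_prod]
  symm
  refine Nat.card_eq_of_bijective (fun x : A × B => (⟨x.1.1 * x.2.1, M.mul_mem (hA x.1.2) (hB x.2.2)⟩ : M)) ⟨?_, ?_⟩
  · intro x y hxy
    have e : (x.1.1 : G) * x.2.1 = y.1.1 * y.2.1 := congrArg Subtype.val hxy
    have := (Subgroup.mul_injective_of_disjoint (disjoint_iff.mpr hd) (a₁ := (x.1, x.2)) (a₂ := (y.1, y.2)) e)
    exact this
  · rintro ⟨m, hm⟩
    obtain ⟨a, ha, b, hb, rfl⟩ := hf m hm
    exact ⟨(⟨a, ha⟩, ⟨b, hb⟩), rfl⟩

/-- The primes dividing the order of a join of finitely many normal subgroups. -/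
theorem prime_dvd_card_sSup [Finite G] (S : Set (Subgroup G)) (hS : ∀ N ∈ S, N.Normal) {p : ℕ}
    (hp : p.Prime) (h : p ∣ Nat.card ↥(sSup S)) : ∃ N ∈ S, p ∣ Nat.card N := by
  classical
  have hfin : S.Finite := Set.toFinite S
  revert h
  induction S, hfin using Set.Finite.induction_on with
  | empty =>
    intro h
    rw [sSup_empty, Subgroup.card_bot] at h
    exact absurd (Nat.dvd_one.mp h) hp.ne_one
  | @insert A T hA hT ih =>
    intro h
    rw [sSup_insert] at h
    have hAn : A.Normal := hS A (Set.mem_insert _ _)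
    have hTn : (sSup T).Normal := Subgroup.sSup_normal _ (fun N hN => hS N (Set.mem_insert_of_mem _ hN))
    have hd : Nat.card ↥(A ⊔ sSup T) ∣ Nat.card A * Nat.card ↥(sSup T) := by
      have h1 := Subgroup.relIndex_sup_right A (sSup T)
      have h2 : Nat.card ↥(A ⊔ sSup T) = Nat.card ↥(sSup T) * (sSup T).relIndex (A ⊔ sSup T) :=
        (Subgroup.card_mul_index ((sSup T).subgroupOf (A ⊔ sSup T))).symm.trans (by
          rw [Nat.card_congr (Subgroup.subgroupOfEquivOfLe (le_sup_right (a := A))).toEquiv]; rfl)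
      rw [h2, mul_comm (Nat.card A)]
      apply Nat.mul_dvd_mul_left
      rw [h1]
      exact (sSup T).relIndex_dvd_card A
    rcases hp.dvd_mul.mp (h.trans hd) with h' | h'
    · exact ⟨A, Set.mem_insert _ _, h'⟩
    · obtain ⟨N, hN, hdvd⟩ := ih (fun N hN => hS N (Set.mem_insert_of_mem _ hN)) h'
      exact ⟨N, Set.mem_insert_of_mem _ hN, hdvd⟩

/-- `M_F` is a Hall subgroup. -/
theorem fittingHall_coprime (M : Type*) [Group M] [Finite M] :
    (Nat.card (Cfsg.fittingHall M)).Coprime (Cfsg.fittingHall M).index := by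
  apply Nat.coprime_of_dvd
  intro p hp h1 h2
  obtain ⟨N, hN, hd⟩ := prime_dvd_card_sSup _ (fun N hN => hN.1) hp h1
  have hle : N ≤ Cfsg.fittingHall M := le_sSup hN
  exact hp.one_lt.ne' (Nat.dvd_one.mp (hN.2.2 ▸ Nat.dvd_gcd hd (h2.trans (Subgroup.index_dvd_of_le hle))))

theorem fittingHallOf_le (M : Subgroup G) : Cfsg.fittingHallOf M ≤ M := Subgroup.map_subtype_le _

theorem fittingHallOf_coprime [Finite G] (M : Subgroup G) :
    (Nat.card (Cfsg.fittingHallOf M)).Coprime ((Cfsg.fittingHallOf M).relIndex M) := by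
  have h := fittingHall_coprime ↥M
  have h1 : (Cfsg.fittingHallOf M).subgroupOf M = Cfsg.fittingHall ↥M := by
    rw [Cfsg.fittingHallOf, Subgroup.subgroupOf, Subgroup.comap_map_eq_self_of_injective M.subtype_injective]
  rw [Subgroup.relIndex, h1]
  rw [Cfsg.fittingHallOf, ← Nat.card_congr (Subgroup.equivMapOfInjective _ M.subtype M.subtype_injective).toEquiv]
  exact h

/-- A normal nilpotent Hall subgroup of `M` lies in `M_F`. -/
theorem le_fittingHallOf {M N : Subgroup G} (hNM : N ≤ M) (hn : M ≤ Subgroup.normalizer (N : Set G))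
    (hnil : Group.IsNilpotent N) (hc : (Nat.card N).Coprime (N.relIndex M)) : N ≤ Cfsg.fittingHallOf M := by
  have h : N.subgroupOf M ≤ Cfsg.fittingHall ↥M := by
    refine le_sSup ⟨?_, ?_, ?_⟩
    · exact Subgroup.normal_subgroupOf_of_le_normalizer hn
    · haveI := hnil
      exact Group.nilpotent_of_mulEquiv (Subgroup.subgroupOfEquivOfLe hNM).symm
    · rw [Nat.card_congr (Subgroup.subgroupOfEquivOfLe hNM).toEquiv]; exact hc
  have := Subgroup.map_mono (f := M.subtype) h
  rwa [Subgroup.subgroupOf_map_subtype, inf_eq_left.mpr hNM] at this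

/-- In a finite cyclic group a subgroup is determined by its order. -/
theorem subgroup_eq_of_card_eq_of_isCyclic [Finite G] [IsCyclic G] {A B : Subgroup G}
    (h : Nat.card A = Nat.card B) : A = B := by
  classical
  haveI := Fintype.ofFinite G
  have key : ∀ C : Subgroup G, (C : Set G) = {x | x ^ Nat.card C = 1} := by
    intro C
    refine Set.eq_of_subset_of_ncard_le ?_ ?_ (Set.toFinite _)
    · intro x hx
      have := pow_card_eq_one' (x := (⟨x, hx⟩ : C))
      exact congrArg Subtype.val this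
    · rw [Set.ncard_eq_toFinset_card', Set.toFinset_setOf]
      have := IsCyclic.card_pow_eq_one_le (α := G) (n := Nat.card C) Nat.card_pos
      exact this.trans (le_of_eq (Nat.card_coe_set_eq _))
  exact SetLike.coe_injective (by rw [key A, key B, h])

end Cfsg.Agent.OddLocal.Basics
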