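import Cfsg.Agent.OddLocal.SylowFusion
import Cfsg.Agent.Lib.CN.Basic
import Cfsg.Agent.Lib.Hall.Solvable

/-! Fusion in nilpotent Hall subgroups of a minimal simple group of odd order (BG 10.14 style). -/

set_option autoImplicit false

namespace Cfsg.Agent.OddLocal.HallFusion

open Cfsg Subgroup
open Cfsg.Agent.OddLocal.Bender (coprime_of_isPGroup)
open Cfsg.Agent.Transfer.Fusion (map_conj_mul card_map_conj map_conj_eq_self_iff mem_map_conj conj_mem_map_conj)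

variable {G : Type*} [Group G] [Finite G] {p : ℕ} [hp : Fact p.Prime]

theorem subgroupOf_sylow {P L : Subgroup G} (hPL : P ≤ L) (hP : IsPGroup p P) (h : ¬ p ∣ P.relIndex L) :
    ∃ S : Sylow p L, (S : Subgroup L).map L.subtype = P := by
  refine ⟨(hP.comap_subtype (K := L)).toSylow ?_, ?_⟩
  · exact h
  · exact map_subgroupOf_eq_of_le hPL

theorem exists_conj_sylow {P Q L : Subgroup G} (hPL : P ≤ L) (hQL : Q ≤ L) (hP : IsPGroup p P)
    (h : ¬ p ∣ P.relIndex L) (hQ : IsPGroup p Q) (hc : Nat.card Q = Nat.card P) :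
    ∃ c ∈ L, Q.map (MulAut.conj c).toMonoidHom = P := by
  obtain ⟨S, hS⟩ := subgroupOf_sylow hPL hP h
  obtain ⟨T, hT⟩ := (hQ.comap_subtype (K := L)).exists_le_sylow
  obtain ⟨c, hc'⟩ := MulAction.exists_smul_eq L T S
  refine ⟨c, c.2, eq_of_le_of_card_ge ?_ ?_⟩
  · rintro _ ⟨q, hq, rfl⟩
    rw [← hS]
    refine ⟨c * ⟨q, hQL hq⟩ * c⁻¹, ?_, rfl⟩
    rw [SetLike.mem_coe, ← hc', Cfsg.Agent.Transfer.Fusion.coe_smul_eq_map]
    exact conj_mem_map_conj (hT (show (⟨q, hQL hq⟩ : L) ∈ Q.subgroupOf L from hq)) c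
  · rw [card_map_conj, hc]

/-- The normaliser of a Sylow subgroup controls fusion of its elements in every subgroup. -/
theorem fusion_sylow (hG : IsMinSimpleOddOrder G) {P L : Subgroup G} (hPL : P ≤ L) (hP : IsPGroup p P)
    (h : ¬ p ∣ P.relIndex L) {x y l : G} (hx : x ∈ P) (hy : y ∈ P) (hl : l ∈ L) (e : l * x * l⁻¹ = y) :
    ∃ n ∈ L ⊓ normalizer (P : Set G), n * x * n⁻¹ = y := by
  by_cases hL : L = ⊤
  · subst hL
    rw [relIndex_top_right] at h
    set S : Sylow p G := hP.toSylow h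
    have hS : (S : Subgroup G) = P := rfl
    obtain ⟨m, hm, c, hc, rfl⟩ := SylowFusion.conj_eq hG S (X := zpowers x)
      (hS ▸ (zpowers_le.mpr hx)) (g := l) (by rw [hS, MonoidHom.map_zpowers, zpowers_le]; simpa [e] using hy)
    refine ⟨m, mem_inf.mpr ⟨mem_top _, hS ▸ hm⟩, ?_⟩
    have h1 : x * c = c * x := mem_centralizer_iff.mp hc x (mem_zpowers x)
    calc m * x * m⁻¹ = m * (x * c) * c⁻¹ * m⁻¹ := by group
      _ = m * c * x * (m * c)⁻¹ := by rw [h1]; group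
      _ = y := e
  · obtain ⟨S, hS⟩ := subgroupOf_sylow hPL hP h
    obtain ⟨o, ho, v, hv, hov⟩ := mem_sup_of_normal_left.mp
      ((pPrimeCore_sup_normalizer (PLengthOne.pLengthLE_of_ne_top (p := p) hG hL) S).ge
        (mem_top (⟨l, hl⟩ : L)))
    have hxS : (⟨x, hPL hx⟩ : L) ∈ (S : Subgroup L) := by
      rw [← hS] at hx
      obtain ⟨x', hx', rfl⟩ := hx
      exact hx'
    have hyS : (⟨y, hPL hy⟩ : L) ∈ (S : Subgroup L) := by
      rw [← hS] at hy
      obtain ⟨y', hy', rfl⟩ := hy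
      exact hy'
    set z : L := v * ⟨x, hPL hx⟩ * v⁻¹ with hz
    have hzS : z ∈ (S : Subgroup L) := (mem_normalizer_iff.mp hv _).mp hxS
    have hyz : o * z * o⁻¹ = ⟨y, hPL hy⟩ := by
      rw [hz, show o * (v * ⟨x, hPL hx⟩ * v⁻¹) * o⁻¹ = (o * v) * ⟨x, hPL hx⟩ * (o * v)⁻¹ by group, hov]
      exact Subtype.ext e
    have hmem : o * z * o⁻¹ * z⁻¹ ∈ pPrimeCore p L ⊓ (S : Subgroup L) := by
      refine mem_inf.mpr ⟨?_, by rw [hyz]; exact mul_mem hyS (inv_mem hzS)⟩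
      rw [show o * z * o⁻¹ * z⁻¹ = o * (z * o⁻¹ * z⁻¹) by group]
      exact mul_mem ho ((inferInstance : (pPrimeCore p L).Normal).conj_mem _ (inv_mem ho) z)
    have hd : pPrimeCore p L ⊓ (S : Subgroup L) = ⊥ := Bender.inf_eq_bot_of_coprime (coprime_of_isPGroup
      S.isPGroup' (fun hd => hp.out.coprime_iff_not_dvd.mp
        PLocal.Cores.coprime_card_pPrimeCore.symm hd)).symm
    rw [hd, mem_bot, hyz, mul_inv_eq_one] at hmem
    refine ⟨v, mem_inf.mpr ⟨v.2, hS ▸ le_normalizer_map (H := (S : Subgroup L)) L.subtype ⟨v, hv, rfl⟩⟩, ?_⟩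
    exact (congrArg Subtype.val hmem.symm :)

/-- In a nilpotent subgroup the Sylow subgroup for `p` has a complement centralising it. -/
theorem exists_decomp {H : Subgroup G} (hH : Group.IsNilpotent H) :
    ∃ P K : Subgroup G, P ≤ H ∧ K ≤ H ∧ IsPGroup p P ∧ (Nat.card P).Coprime (Nat.card K) ∧ P ⊔ K = H ∧
      (∀ u ∈ P, ∀ w ∈ K, u * w = w * u) ∧ Nat.card P * Nat.card K = Nat.card H ∧ ¬ p ∣ P.relIndex H := by
  have := hH
  obtain ⟨S⟩ : Nonempty (Sylow p H) := inferInstance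
  obtain ⟨K₀, hK₀, hK₀'⟩ := Hall.exists_hall {q | q ≠ p} H
  have hKp : ¬ p ∣ Nat.card K₀ := fun h => hK₀ p hp.out h rfl
  have hcop : (Nat.card (S : Subgroup H)).Coprime (Nat.card K₀) := coprime_of_isPGroup S.isPGroup' hKp
  have hcomm : ∀ u ∈ (S : Subgroup H), ∀ w ∈ K₀, u * w = w * u := fun u hu w hw =>
    CN.commute_of_coprime_group u w
      ((hcop.coprime_dvd_left (orderOf_dvd_natCard _ hu)).coprime_dvd_right (orderOf_dvd_natCard _ hw))
  have hsup : (S : Subgroup H) ⊔ K₀ = ⊤ := by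
    rw [← index_eq_one]
    by_contra hne
    obtain ⟨q, hq, hqd⟩ := Nat.exists_prime_and_dvd hne
    have h1 : q ∣ K₀.index := hqd.trans (index_dvd_of_le le_sup_right)
    have h2 : q ∣ (S : Subgroup H).index := hqd.trans (index_dvd_of_le le_sup_left)
    exact hK₀' q hq (fun e : q = p => S.not_dvd_index (e ▸ h2)) h1
  have hn : K₀ ≤ normalizer ((S : Subgroup H) : Set H) := fun w hw =>
    centralizer_le_normalizer _ (mem_centralizer_iff.mpr fun u hu => hcomm u hu w hw)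
  refine ⟨(S : Subgroup H).map H.subtype, K₀.map H.subtype, map_subtype_le _, map_subtype_le _,
    S.isPGroup'.map _, ?_, ?_, ?_, ?_, ?_⟩
  · rwa [card_map_of_injective H.subtype_injective, card_map_of_injective H.subtype_injective]
  · rw [← Subgroup.map_sup, hsup, ← MonoidHom.range_eq_map, range_subtype]
  · rintro _ ⟨u, hu, rfl⟩ _ ⟨w, hw, rfl⟩
    exact congrArg H.subtype (hcomm u hu w hw)
  · rw [card_map_of_injective H.subtype_injective, card_map_of_injective H.subtype_injective,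
      ← Coprime.card_sup_of_coprime hn hcop, hsup, card_top]
  · rw [relIndex, subgroupOf, comap_map_eq_self_of_injective H.subtype_injective]
    exact S.not_dvd_index

/-- Fusion in nilpotent Hall subgroups of subgroups is controlled by their normalisers. -/
theorem fusion_hall (hG : IsMinSimpleOddOrder G) :
    ∀ {H : Subgroup G} {L : Subgroup G}, H ≤ L → Group.IsNilpotent H →
      (Nat.card H).Coprime (H.relIndex L) → ∀ {x y l : G}, x ∈ H → y ∈ H → l ∈ L → l * x * l⁻¹ = y →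
        ∃ n ∈ L ⊓ normalizer (H : Set G), n * x * n⁻¹ = y := by
  intro H
  obtain ⟨k, hk⟩ : ∃ k, Nat.card H = k := ⟨_, rfl⟩
  induction k using Nat.strong_induction_on generalizing H with
  | _ k ih =>
  intro L hHL hnil hcop x y l hx hy hl e
  by_cases hk1 : Nat.card H = 1
  · have hb := eq_bot_of_card_eq H hk1
    rw [hb, mem_bot] at hx hy
    exact ⟨1, one_mem _, by rw [hx, hy]; group⟩
  obtain ⟨q, hq, hqd⟩ := Nat.exists_prime_and_dvd hk1
  have := Fact.mk hq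
  obtain ⟨P, K, hPH, hKH, hPq, hPK, hsup, hcomm, hcard, hPi⟩ := exists_decomp (p := q) hnil
  have hP1 : P ≠ ⊥ := fun e => hPi (by rwa [e, relIndex_bot_left])
  have hPone : 1 < Nat.card P := Finite.one_lt_card_iff_nontrivial.mpr ((nontrivial_iff_ne_bot P).mpr hP1)
  have hlt : Nat.card K < k := by
    rw [← hk, ← hcard]
    calc Nat.card K = 1 * Nat.card K := (one_mul _).symm
      _ < _ := Nat.mul_lt_mul_of_pos_right hPone Nat.card_pos
  have hKnil : Group.IsNilpotent K := CN.isNilpotent_le hKH hnil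
  have hPL : P ≤ L := hPH.trans hHL
  have hKL : K ≤ L := hKH.trans hHL
  have hPrel : ¬ q ∣ P.relIndex L := by
    rw [← relIndex_mul_relIndex P H L hPH hHL]
    refine hq.not_dvd_mul hPi fun h => ?_
    exact Nat.not_coprime_of_dvd_of_dvd hq.one_lt hqd h hcop
  have hKrel : (Nat.card K).Coprime (K.relIndex L) := by
    rw [← relIndex_mul_relIndex K H L hKH hHL]
    refine Nat.Coprime.mul_right ?_ (hcop.coprime_dvd_left (card_dvd_of_le hKH))
    refine hPK.symm.coprime_dvd_right (dvd_of_eq ?_)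
    have h := card_mul_index (K.subgroupOf H)
    rw [Nat.card_congr (subgroupOfEquivOfLe hKH).toEquiv, ← hcard, mul_comm (Nat.card P)] at h
    exact Nat.eq_of_mul_eq_mul_left Nat.card_pos h
  -- the two components as powers
  obtain ⟨a, ha1, ha0⟩ := Nat.chineseRemainder hPK 1 0
  obtain ⟨b, hb0, hb1⟩ := Nat.chineseRemainder hPK 0 1
  have hdec : ∀ h ∈ H, h ^ a ∈ P ∧ h ^ b ∈ K ∧ h = h ^ a * h ^ b := by
    intro h hh
    have hn : K ≤ normalizer (P : Set G) := fun w hw =>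
      centralizer_le_normalizer _ (mem_centralizer_iff.mpr fun u hu => hcomm u hu w hw)
    obtain ⟨u, hu, w, hw, rfl⟩ := (Coprime.mem_sup_of_le_normalizer hn).mp (hsup.ge hh)
    have hc : Commute u w := hcomm u hu w hw
    have hua : u ^ a = u := by
      conv_rhs => rw [← pow_one u]
      exact pow_eq_pow_iff_modEq.mpr (ha1.of_dvd (orderOf_dvd_natCard _ hu))
    have hub : u ^ b = 1 := by
      rw [← pow_zero u]
      exact pow_eq_pow_iff_modEq.mpr (hb0.of_dvd (orderOf_dvd_natCard _ hu))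
    have hwa : w ^ a = 1 := by
      rw [← pow_zero w]
      exact pow_eq_pow_iff_modEq.mpr (ha0.of_dvd (orderOf_dvd_natCard _ hw))
    have hwb : w ^ b = w := by
      conv_rhs => rw [← pow_one w]
      exact pow_eq_pow_iff_modEq.mpr (hb1.of_dvd (orderOf_dvd_natCard _ hw))
    rw [hc.mul_pow, hc.mul_pow, hua, hub, hwa, hwb, mul_one, one_mul]
    exact ⟨hu, hw, rfl⟩
  obtain ⟨hu, hw, hxe⟩ := hdec x hx
  obtain ⟨hu', hw', hye⟩ := hdec y hy
  have eu : l * x ^ a * l⁻¹ = y ^ a := by rw [← conj_pow, e]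
  have ew : l * x ^ b * l⁻¹ = y ^ b := by rw [← conj_pow, e]
  set u := x ^ a
  set w := x ^ b
  set u' := y ^ a
  set w' := y ^ b
  -- the part prime to `q`
  obtain ⟨n₁, hn₁, en₁⟩ := ih _ hlt (H := K) rfl hKL hKnil hKrel hw hw' hl ew
  rw [mem_inf] at hn₁
  obtain ⟨hn₁L, hn₁K⟩ := hn₁
  have hPC : P ≤ L ⊓ centralizer (K : Set G) := le_inf hPL fun z hz =>
    mem_centralizer_iff.mpr fun v hv => (hcomm z hz v hv).symm
  have hP' : P.map (MulAut.conj n₁).toMonoidHom ≤ L ⊓ centralizer (K : Set G) := by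
    rintro _ ⟨z, hz, rfl⟩
    refine mem_inf.mpr ⟨mul_mem (mul_mem hn₁L (hPL hz)) (inv_mem hn₁L), mem_centralizer_iff.mpr fun v hv => ?_⟩
    have h1 : n₁⁻¹ * v * n₁ ∈ K := by
      have hq' := (mem_normalizer_iff.mp (inv_mem hn₁K) v).mp hv
      rwa [inv_inv] at hq'
    have h2 := hcomm z hz _ h1
    change v * (n₁ * z * n₁⁻¹) = n₁ * z * n₁⁻¹ * v
    calc v * (n₁ * z * n₁⁻¹) = n₁ * (n₁⁻¹ * v * n₁ * z) * n₁⁻¹ := by group
      _ = n₁ * (z * (n₁⁻¹ * v * n₁)) * n₁⁻¹ := by rw [h2]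
      _ = _ := by group
  obtain ⟨c, hc, hcP⟩ := exists_conj_sylow hPC hP' hPq
    (fun h => hPrel (h.trans (Dvd.intro _ (relIndex_mul_relIndex P _ L hPC inf_le_left))))
    (hPq.map _) (card_map_conj _ _)
  rw [mem_inf] at hc
  set n₂ := c * n₁ with hn₂
  have hn₂P : n₂ ∈ normalizer (P : Set G) := map_conj_eq_self_iff.mp (by rw [hn₂, map_conj_mul, hcP])
  have hn₂K : n₂ ∈ normalizer (K : Set G) := mul_mem (centralizer_le_normalizer _ hc.2) hn₁K
  have hn₂L : n₂ ∈ L := mul_mem hc.1 hn₁L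
  have en₂ : n₂ * w * n₂⁻¹ = w' := by
    rw [hn₂, show c * n₁ * w * (c * n₁)⁻¹ = c * (n₁ * w * n₁⁻¹) * c⁻¹ by group, en₁,
      ← mem_centralizer_iff.mp hc.2 _ hw', mul_inv_cancel_right]
  -- the `q`-part, centralising the other part
  have hu'' : n₂⁻¹ * u' * n₂ ∈ P := by
    have hq' := (mem_normalizer_iff.mp (inv_mem hn₂P) u').mp hu'
    rwa [inv_inv] at hq'
  have hgC : n₂⁻¹ * l ∈ L ⊓ centralizer ({w} : Set G) := by
    refine mem_inf.mpr ⟨mul_mem (inv_mem hn₂L) hl, mem_centralizer_singleton_iff.mpr ?_⟩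
    calc n₂⁻¹ * l * w = n₂⁻¹ * (l * w * l⁻¹) * l := by group
      _ = n₂⁻¹ * (n₂ * w * n₂⁻¹) * l := by rw [ew, en₂]
      _ = _ := by group
  have hPCw : P ≤ L ⊓ centralizer ({w} : Set G) := le_inf hPL fun z hz =>
    mem_centralizer_singleton_iff.mpr (hcomm z hz w hw)
  obtain ⟨l₂, hl₂, el₂⟩ := fusion_sylow hG hPCw hPq
    (fun h => hPrel (h.trans (Dvd.intro _ (relIndex_mul_relIndex P _ L hPCw inf_le_left))))
    hu hu'' hgC (show n₂⁻¹ * l * u * (n₂⁻¹ * l)⁻¹ = n₂⁻¹ * u' * n₂ by rw [← eu]; group)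
  rw [mem_inf, mem_inf] at hl₂
  obtain ⟨⟨hl₂L, hl₂w⟩, hl₂P⟩ := hl₂
  -- back into the normaliser of the part prime to `q`
  set C₂ := L ⊓ centralizer (P : Set G) with hC₂
  have hKC : K ≤ C₂ := le_inf hKL fun v hv => mem_centralizer_iff.mpr fun z hz => hcomm z hz v hv
  have hK'C : K.map (MulAut.conj l₂).toMonoidHom ≤ C₂ := by
    rintro _ ⟨v, hv, rfl⟩
    refine mem_inf.mpr ⟨mul_mem (mul_mem hl₂L (hKL hv)) (inv_mem hl₂L), mem_centralizer_iff.mpr fun z hz => ?_⟩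
    have h1 : l₂⁻¹ * z * l₂ ∈ P := by
      have hq' := (mem_normalizer_iff.mp (inv_mem hl₂P) z).mp hz
      rwa [inv_inv] at hq'
    have h2 := hcomm _ h1 v hv
    change z * (l₂ * v * l₂⁻¹) = l₂ * v * l₂⁻¹ * z
    calc z * (l₂ * v * l₂⁻¹) = l₂ * (l₂⁻¹ * z * l₂ * v) * l₂⁻¹ := by group
      _ = l₂ * (v * (l₂⁻¹ * z * l₂)) * l₂⁻¹ := by rw [h2]
      _ = _ := by group
  have hC₂top : C₂ ≠ ⊤ := by
    intro e'
    by_cases hPt : P = ⊤
    · exact hG.2.2.1 ⟨⟨fun a b =>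
        mem_centralizer_iff.mp ((inf_le_right : C₂ ≤ _) (e'.ge (mem_top b))) a (hPt ▸ mem_top a)⟩⟩
    · refine Transitivity.normalizer_ne_top hG hP1 hPt (top_le_iff.mp ?_)
      exact e'.ge.trans (inf_le_right.trans (centralizer_le_normalizer _))
  have := Transitivity.isSolvable_of_ne_top hG hC₂top
  have hKC₂ : (Nat.card K).Coprime (K.relIndex C₂) :=
    hKrel.coprime_dvd_right (Dvd.intro _ (relIndex_mul_relIndex K _ L hKC inf_le_left))
  have hHall : ∀ T : Subgroup G, T ≤ C₂ → Nat.card T = Nat.card K →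
      IsPiHall {r | r ∣ Nat.card K} (T.subgroupOf C₂) := by
    intro T hT hcT
    refine ⟨fun r _ hrd => ?_, fun r hr hrK hrd => ?_⟩
    · rwa [Nat.card_congr (subgroupOfEquivOfLe hT).toEquiv, hcT] at hrd
    · have h1 : (T.subgroupOf C₂).index = (K.subgroupOf C₂).index := by
        have e₁ := card_mul_index (T.subgroupOf C₂)
        rw [Nat.card_congr (subgroupOfEquivOfLe hT).toEquiv, hcT] at e₁
        have e₂ := card_mul_index (K.subgroupOf C₂)
        rw [Nat.card_congr (subgroupOfEquivOfLe hKC).toEquiv] at e₂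
        exact Nat.eq_of_mul_eq_mul_left Nat.card_pos (e₁.trans e₂.symm)
      rw [h1] at hrd
      exact Nat.not_coprime_of_dvd_of_dvd hr.one_lt hrK hrd hKC₂
  obtain ⟨c₂, hc₂⟩ := Hall.exists_conj_eq_of_isPiHall (hHall _ hK'C (card_map_conj _ _)) (hHall K hKC rfl)
  have hc₂P : (c₂ : G) ∈ centralizer (P : Set G) := (mem_inf.mp c₂.2).2
  have hcl : (c₂ : G) * l₂ ∈ normalizer (K : Set G) := by
    refine map_conj_eq_self_iff.mp (eq_of_le_of_card_ge ?_ (card_map_conj _ _).ge)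
    rintro _ ⟨v, hv, rfl⟩
    have hm : l₂ * v * l₂⁻¹ ∈ C₂ := hK'C (conj_mem_map_conj hv l₂)
    have h1 : c₂ * (⟨_, hm⟩ : C₂) * c₂⁻¹ ∈ K.subgroupOf C₂ := by
      rw [← hc₂, Coprime.conj_smul_eq_map]
      exact conj_mem_map_conj (show (⟨_, hm⟩ : C₂) ∈ _ from conj_mem_map_conj hv l₂) c₂
    simpa [mem_subgroupOf, mul_assoc] using h1
  have hz : (c₂ : G) * w * (c₂ : G)⁻¹ ∈ K := by
    have h1 := (mem_normalizer_iff.mp hcl w).mp hw
    have h2 := mem_centralizer_singleton_iff.mp hl₂w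
    rwa [show (c₂ : G) * l₂ * w * (c₂ * l₂)⁻¹ = c₂ * w * (c₂ : G)⁻¹ by
      rw [show (c₂ : G) * l₂ * w * (c₂ * l₂)⁻¹ = c₂ * (l₂ * w) * l₂⁻¹ * (c₂ : G)⁻¹ by group, h2]
      group] at h1
  obtain ⟨d, hd, ed⟩ := ih _ hlt (H := K) rfl hKC hKnil hKC₂ hw hz c₂.2 rfl
  rw [mem_inf] at hd
  have hdP : d ∈ centralizer (P : Set G) := (mem_inf.mp hd.1).2
  set n₃ := d⁻¹ * c₂ * l₂ with hn₃
  have en₃u : n₃ * u * n₃⁻¹ = n₂⁻¹ * u' * n₂ := by
    have h1 : d⁻¹ * (c₂ : G) ∈ centralizer (P : Set G) := mul_mem (inv_mem hdP) hc₂P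
    rw [hn₃, show d⁻¹ * ↑c₂ * l₂ * u * (d⁻¹ * ↑c₂ * l₂)⁻¹ =
      (d⁻¹ * ↑c₂) * (l₂ * u * l₂⁻¹) * (d⁻¹ * ↑c₂)⁻¹ by group, el₂,
      ← mem_centralizer_iff.mp h1 _ hu'', mul_inv_cancel_right]
  have en₃w : n₃ * w * n₃⁻¹ = w := by
    have h2 := mem_centralizer_singleton_iff.mp hl₂w
    calc n₃ * w * n₃⁻¹ = d⁻¹ * c₂ * (l₂ * w) * l₂⁻¹ * (c₂ : G)⁻¹ * d := by rw [hn₃]; group
      _ = d⁻¹ * ((c₂ : G) * w * (c₂ : G)⁻¹) * d := by rw [h2]; group
      _ = d⁻¹ * (d * w * d⁻¹) * d := by rw [ed]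
      _ = w := by group
  have hn₃P : n₃ ∈ normalizer (P : Set G) := mul_mem (mul_mem (inv_mem (centralizer_le_normalizer _ hdP))
    (centralizer_le_normalizer _ hc₂P)) hl₂P
  have hn₃K : n₃ ∈ normalizer (K : Set G) := by
    rw [hn₃, mul_assoc]; exact mul_mem (inv_mem hd.2) hcl
  have hn₃L : n₃ ∈ L := mul_mem (mul_mem (inv_mem (mem_inf.mp hd.1).1) (mem_inf.mp c₂.2).1) hl₂L
  refine ⟨n₂ * n₃, mem_inf.mpr ⟨mul_mem hn₂L hn₃L, ?_⟩, ?_⟩
  · refine map_conj_eq_self_iff.mp ?_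
    rw [← hsup, Subgroup.map_sup, map_conj_eq_self_iff.mpr (mul_mem hn₂P hn₃P),
      map_conj_eq_self_iff.mpr (mul_mem hn₂K hn₃K)]
  · calc n₂ * n₃ * x * (n₂ * n₃)⁻¹ = n₂ * (n₃ * (u * w) * n₃⁻¹) * n₂⁻¹ := by rw [hxe]; group
      _ = n₂ * ((n₃ * u * n₃⁻¹) * (n₃ * w * n₃⁻¹)) * n₂⁻¹ := by group
      _ = u' * (n₂ * w * n₂⁻¹) := by rw [en₃u, en₃w]; group
      _ = y := by rw [en₂, ← hye]

end Cfsg.Agent.OddLocal.HallFusion
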