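import Cfsg.Agent.OddLocal.SigmaCore
import Cfsg.Agent.OddLocal.HallFusion
import Cfsg.Agent.Lib.Hall.Solvable

/-! Complements `E` of `M_σ` in a maximal subgroup `M`. -/

set_option autoImplicit false
set_option linter.unusedSectionVars false

namespace Cfsg.Agent.OddLocal.Compl

open Cfsg Subgroup Cfsg.Agent.OddLocal

variable {G : Type*} [Group G] [Finite G] {M E : Subgroup G}

theorem sup_eq (hE : IsComplIn E (sigmaCore M) M) : E ⊔ sigmaCore M = M :=
  le_antisymm (sup_le hE.1 hE.2.1) fun m hm => by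
    obtain ⟨e, he, s, hs, rfl⟩ := hE.2.2.2 m hm
    exact mul_mem (mem_sup_left he) (mem_sup_right hs)

theorem sigmaCore_inf (hE : IsComplIn E (sigmaCore M) M) : sigmaCore M ⊓ E = ⊥ := by
  rw [inf_comm]; exact hE.2.2.1

theorem card_sigmaCore : Nat.card (sigmaCore M) = Nat.card (piCore (sigma M) M) :=
  Nat.card_congr (equivMapOfInjective _ _ M.subtype_injective).toEquiv.symm

/-- The projection of a complement onto `M ⧸ M_σ`. -/
def proj (hE : IsComplIn E (sigmaCore M) M) : E →* ↥M ⧸ piCore (sigma M) M :=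
  (QuotientGroup.mk' _).comp (inclusion hE.1)

theorem proj_bijective (hE : IsComplIn E (sigmaCore M) M) : Function.Bijective (proj hE) := by
  refine ⟨(injective_iff_map_eq_one _).mpr fun e he => ?_, fun x => ?_⟩
  · have h1 : (inclusion hE.1 e) ∈ piCore (sigma M) M := (QuotientGroup.eq_one_iff _).mp he
    have h2 : (e : G) ∈ (⊥ : Subgroup G) := hE.2.2.1 ▸ mem_inf.mpr ⟨e.2, ⟨_, h1, rfl⟩⟩
    exact Subtype.ext (mem_bot.mp h2)
  · obtain ⟨m, rfl⟩ := QuotientGroup.mk_surjective x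
    obtain ⟨e, he, s, hs, hm⟩ := hE.2.2.2 m m.2
    obtain ⟨s', hs', rfl⟩ := hs
    refine ⟨⟨e, he⟩, (QuotientGroup.eq).mpr ?_⟩
    have e1 : (inclusion hE.1 ⟨e, he⟩)⁻¹ * m = s' := Subtype.ext (by
      simp only [coe_mul, coe_inv, coe_inclusion, hm, subtype_apply, inv_mul_cancel_left])
    rw [e1]; exact hs'

theorem index_eq (hE : IsComplIn E (sigmaCore M) M) : (piCore (sigma M) M).index = Nat.card E :=
  (Nat.card_congr (Equiv.ofBijective _ (proj_bijective hE))).symm

theorem card_mul (hE : IsComplIn E (sigmaCore M) M) :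
    Nat.card E * Nat.card (sigmaCore M) = Nat.card M := by
  rw [← index_eq hE, card_sigmaCore, mul_comm, card_mul_index]

theorem relIndex_eq (hE : IsComplIn E (sigmaCore M) M) : E.relIndex M = Nat.card (sigmaCore M) := by
  have h := card_mul_index (E.subgroupOf M)
  rw [Nat.card_congr (subgroupOfEquivOfLe hE.1).toEquiv, ← card_mul hE] at h
  exact Nat.eq_of_mul_eq_mul_left Nat.card_pos h

theorem not_sigma (hG : IsMinSimpleOddOrder G) (hM : IsCoatom M) (hE : IsComplIn E (sigmaCore M) M)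
    {p : ℕ} (hp : p.Prime) (h : p ∣ Nat.card E) : p ∉ sigma M := fun hσ =>
  (Sigma.cores_hall hG hM).2.1 p hp hσ (by rwa [index_eq hE])

theorem not_dvd_sigmaCore {p : ℕ} (hp : p.Prime) (h : p ∉ sigma M) : ¬ p ∣ Nat.card (sigmaCore M) :=
  fun hd => h (Transitivity.isPi_piCoreOf (sigma M) M p hp hd)

theorem dvd_of_dvd (hE : IsComplIn E (sigmaCore M) M) {p : ℕ} (hp : p.Prime) (h : p ∉ sigma M)
    (hd : p ∣ Nat.card M) : p ∣ Nat.card E := by
  rw [← card_mul hE] at hd
  exact (hp.dvd_mul.mp hd).resolve_right (not_dvd_sigmaCore hp h)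

/-- The `p`-subgroups of order the `p`-part of `|E|` are Sylow in `M`, for `p ∉ σ(M)`. -/
theorem sylow_map (hE : IsComplIn E (sigmaCore M) M) {p : ℕ} [hp : Fact p.Prime] (h : p ∉ sigma M)
    (S : Sylow p E) :
    ∃ P : Sylow p M, (P : Subgroup M).map M.subtype = (S : Subgroup E).map E.subtype := by
  refine HallFusion.subgroupOf_sylow ((map_subtype_le _).trans hE.1) (S.isPGroup'.map _) fun hd => ?_
  rw [← relIndex_mul_relIndex _ _ _ (map_subtype_le _) hE.1, relIndex_eq hE, relIndex, subgroupOf,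
    comap_map_eq_self_of_injective E.subtype_injective] at hd
  exact (hp.out.dvd_mul.mp hd).elim S.not_dvd_index (not_dvd_sigmaCore hp.out h)

theorem pRankLE (hE : IsComplIn E (sigmaCore M) M) {p k : ℕ} (h : PRankLE p k M) : PRankLE p k E :=
  RankTwoFitting.pRankLE_mono hE.1 h

theorem mem_commutator (hE : IsComplIn E (sigmaCore M) M) {y : M} (hy : y ∈ commutator M) :
    ∃ c ∈ commutator E, proj hE c = QuotientGroup.mk' (piCore (sigma M) M) y := by
  have h1 : (commutator E).map (proj hE) = (commutator M).map (QuotientGroup.mk' (piCore (sigma M) M)) := by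
    rw [_root_.commutator_def, _root_.commutator_def, map_commutator, map_commutator,
      map_top_of_surjective _ (proj_bijective hE).surjective,
      map_top_of_surjective _ (QuotientGroup.mk'_surjective _)]
  exact mem_map.mp (h1 ▸ mem_map_of_mem _ hy)

theorem inf_commutator (hE : IsComplIn E (sigmaCore M) M) : E ⊓ ⁅M, M⁆ = ⁅E, E⁆ := by
  refine le_antisymm ?_ (le_inf (commutator_le_self E) (commutator_mono hE.1 hE.1))
  rintro x ⟨hxE, hx⟩
  rw [SetLike.mem_coe, ← map_subtype_commutator] at hx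
  obtain ⟨y, hy, rfl⟩ := hx
  obtain ⟨c, hc, he⟩ := mem_commutator hE hy
  rw [← map_subtype_commutator]
  refine ⟨⟨(y : G), hxE⟩, ?_, rfl⟩
  have h2 : (⟨(y : G), hxE⟩ : E) = c := (proj_bijective hE).injective (by rw [he]; rfl)
  rw [h2]; exact hc

theorem commutator_eq (hG : IsMinSimpleOddOrder G) (hM : IsCoatom M)
    (hE : IsComplIn E (sigmaCore M) M) : ⁅M, M⁆ = sigmaCore M ⊔ ⁅E, E⁆ := by
  refine le_antisymm ?_ (sup_le (Sigma.sigmaCore_le_commutator hG hM) (commutator_mono hE.1 hE.1))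
  rw [← map_subtype_commutator]
  rintro _ ⟨y, hy, rfl⟩
  obtain ⟨c, hc, he⟩ := mem_commutator hE hy
  have h1 : y * (inclusion hE.1 c)⁻¹ ∈ piCore (sigma M) M := by
    rw [← QuotientGroup.ker_mk' (piCore (sigma M) M), MonoidHom.mem_ker, map_mul, map_inv, ← he]
    exact mul_inv_cancel _
  have h2 : (y : G) = (M.subtype (y * (inclusion hE.1 c)⁻¹)) * (c : G) := by simp
  show (y : G) ∈ _
  rw [h2]
  refine mul_mem (mem_sup_left ⟨_, h1, rfl⟩) (mem_sup_right ?_)
  rw [← map_subtype_commutator]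
  exact ⟨c, hc, rfl⟩

theorem dvd_commutator (hG : IsMinSimpleOddOrder G) (hM : IsCoatom M)
    (hE : IsComplIn E (sigmaCore M) M) {p : ℕ} [hp : Fact p.Prime] (h : p ∉ sigma M)
    (hd : p ∣ Nat.card ↥⁅M, M⁆) : p ∣ Nat.card ↥⁅E, E⁆ := by
  obtain ⟨x, hx⟩ := exists_prime_orderOf_dvd_card' p hd
  have hxM : ((x : G)) ∈ M := commutator_le_self M x.2
  obtain ⟨c, hc, he⟩ := mem_commutator hE (y := ⟨(x : G), hxM⟩) (by
    obtain ⟨y, hy, e⟩ := (map_subtype_commutator M).ge x.2
    have : y = (⟨(x : G), hxM⟩ : M) := Subtype.ext e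
    exact this ▸ hy)
  have hne : c ≠ 1 := by
    rintro rfl
    rw [map_one] at he
    have h1 := (QuotientGroup.eq_one_iff _).mp he.symm
    refine not_dvd_sigmaCore hp.out h ?_
    rw [← hx, ← orderOf_coe x]
    exact orderOf_dvd_natCard _ ⟨_, h1, rfl⟩
  have h3 : orderOf (proj hE c) = p := by
    rw [he]
    refine orderOf_eq_prime ?_ (fun h1 => hne ((proj_bijective hE).injective (by rw [he, h1, map_one])))
    rw [← map_pow]
    refine (congrArg _ (Subtype.ext ?_)).trans (map_one _)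
    show (x : G) ^ p = 1
    rw [← coe_pow, ← hx, pow_orderOf_eq_one]; rfl
  rw [orderOf_injective _ (proj_bijective hE).injective, ← orderOf_coe] at h3
  rw [← h3]
  refine orderOf_dvd_natCard _ ?_
  rw [← map_subtype_commutator]
  exact ⟨c, hc, rfl⟩

theorem exists_compl_ge (hG : IsMinSimpleOddOrder G) (hM : IsCoatom M) {A : Subgroup G} (hA : A ≤ M)
    (hAσ : ∀ p : ℕ, p.Prime → p ∣ Nat.card A → p ∉ sigma M) :
    ∃ E : Subgroup G, IsComplIn E (sigmaCore M) M ∧ A ≤ E := by
  have : Group.IsSolvable M := Transitivity.isSolvable_of_ne_top hG hM.1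
  obtain ⟨K, hK, hAK⟩ := Hall.exists_le_hall (G := M) (π := {q | q ∉ sigma M}) (U := A.subgroupOf M)
    (fun q hq hd => hAσ q hq (by rwa [Nat.card_congr (subgroupOfEquivOfLe hA).toEquiv] at hd))
  have hc1 : (Nat.card K).Coprime (Nat.card (piCore (sigma M) M)) :=
    Nat.coprime_of_dvd fun q hq h1 h2 => hK.1 q hq h1 (Cores.piCore_isPi _ q hq h2)
  have hc2 : ((piCore (sigma M) M).index).Coprime K.index :=
    Nat.coprime_of_dvd fun q hq h1 h2 =>
      (Sigma.cores_hall hG hM).2.1 q hq (not_not.mp fun h => hK.2 q hq h h2) h1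
  have e1 := card_mul_index K
  have e2 := card_mul_index (piCore (sigma M) M)
  have hKi : Nat.card K = (piCore (sigma M) M).index := by
    refine Nat.dvd_antisymm (hc1.dvd_of_dvd_mul_left ?_) (hc2.dvd_of_dvd_mul_right ?_)
    · exact e2.symm ▸ card_subgroup_dvd_card K
    · exact ⟨Nat.card (piCore (sigma M) M), by rw [e1, ← e2]; ring⟩
  have hcomp : IsComplement' K (piCore (sigma M) M) :=
    isComplement'_of_coprime (by rw [hKi, mul_comm, e2]) hc1
  refine ⟨K.map M.subtype, ⟨map_subtype_le _, Sigma.sigmaCore_le M, ?_, fun m hm => ?_⟩, fun a ha => ?_⟩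
  · rw [sigmaCore, ← map_inf _ _ _ M.subtype_injective, hcomp.disjoint.eq_bot, Subgroup.map_bot]
  · obtain ⟨⟨k, s⟩, e, -⟩ := hcomp.existsUnique ⟨m, hm⟩
    exact ⟨_, ⟨k, k.2, rfl⟩, _, ⟨s, s.2, rfl⟩, (congrArg Subtype.val e).symm⟩
  · exact ⟨⟨a, hA ha⟩, hAK (mem_subgroupOf.mpr ha), rfl⟩

theorem exists_compl (hG : IsMinSimpleOddOrder G) (hM : IsCoatom M) :
    ∃ E : Subgroup G, IsComplIn E (sigmaCore M) M := by
  obtain ⟨E, hE, -⟩ := exists_compl_ge hG hM (bot_le : (⊥ : Subgroup G) ≤ M) fun p hp h => by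
    rw [card_bot] at h; exact absurd (Nat.dvd_one.mp h) hp.ne_one
  exact ⟨E, hE⟩

/-- A subgroup of `M` of order prime to `σ(M)` is conjugate in `M_σ` into any complement. -/
theorem exists_conj_le (hG : IsMinSimpleOddOrder G) (hM : IsCoatom M) (hE : IsComplIn E (sigmaCore M) M)
    {A : Subgroup G} (hA : A ≤ M) (hAσ : ∀ p : ℕ, p.Prime → p ∣ Nat.card A → p ∉ sigma M) :
    ∃ s ∈ sigmaCore M, A.map (MulAut.conj s).toMonoidHom ≤ E := by
  have : Group.IsSolvable M := Transitivity.isSolvable_of_ne_top hG hM.1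
  have hK : IsPiHall {q | q ∉ sigma M} (E.subgroupOf M) := by
    refine ⟨fun q hq hd => not_sigma hG hM hE hq (by rwa [Nat.card_congr (subgroupOfEquivOfLe hE.1).toEquiv] at hd),
      fun q hq hqσ hd => not_dvd_sigmaCore hq hqσ ?_⟩
    rw [← relIndex_eq hE]; exact hd
  obtain ⟨g, hg⟩ := Hall.exists_conj_le_hall hK (U := A.subgroupOf M)
    (fun q hq hd => hAσ q hq (by rwa [Nat.card_congr (subgroupOfEquivOfLe hA).toEquiv] at hd))
  obtain ⟨e, he, s, hs, hges⟩ := hE.2.2.2 ((g⁻¹ : M) : G) (g⁻¹ : M).2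
  refine ⟨s, hs, ?_⟩
  rintro _ ⟨a, ha, rfl⟩
  have h1 := hg (show (⟨a, hA ha⟩ : M) ∈ A.subgroupOf M from ha)
  rw [Subgroup.mem_pointwise_smul_iff_inv_smul_mem] at h1
  have h2 : ((g⁻¹ : M) : G) * a * ((g⁻¹ : M) : G)⁻¹ ∈ E := by
    simpa [MulAut.smul_def, mem_subgroupOf] using h1
  have h3 : s * a * s⁻¹ = e⁻¹ * (((g⁻¹ : M) : G) * a * ((g⁻¹ : M) : G)⁻¹) * e := by
    rw [hges]; group
  show s * a * s⁻¹ ∈ E
  rw [h3]
  exact mul_mem (mul_mem (inv_mem he) h2) he

/-- In rank one, `p`-subgroups are cyclic. -/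
theorem isCyclic_of_rankOne (hG : IsMinSimpleOddOrder G) {p : ℕ} [hp : Fact p.Prime] (h : PRankLE p 1 M)
    {P : Subgroup G} (hP : IsPGroup p P) (hPM : P ≤ M) : IsCyclic P := by
  by_contra hc
  obtain ⟨n, hn⟩ := hP.exists_card_eq
  rcases n.eq_zero_or_pos with rfl | hn0
  · have : Subsingleton P := Finite.card_le_one_iff_subsingleton.mp (by simp [hn])
    exact hc isCyclic_of_subsingleton
  have hp2 : p ≠ 2 := by
    rintro rfl
    refine Nat.not_even_iff_odd.mpr (Sigma.odd_card hG P) ?_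
    rw [hn]; exact (Nat.even_pow.mpr ⟨even_two, by omega⟩)
  exact Unique.not_pRankLE_one_of_not_isCyclic hp2 hP hc (RankTwoFitting.pRankLE_mono hPM h)

/-- In a nilpotent group, a subgroup contains the subgroups of order prime to its index. -/
theorem le_of_nilpotent_hall {K H X : Subgroup G} (hK : Group.IsNilpotent K) (hH : H ≤ K) (hX : X ≤ K)
    (h : ∀ q : ℕ, q.Prime → q ∣ Nat.card X → ¬ q ∣ H.relIndex K) : X ≤ H := by
  refine CN.le_of_forall_isPGroup fun q hq x hx hxq => ?_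
  have := Fact.mk hq
  rcases eq_or_ne x 1 with rfl | hx1
  · exact one_mem H
  have hdvd : q ∣ Nat.card X := by
    obtain ⟨n, hn⟩ := hxq.exists_card_eq
    rw [Nat.card_zpowers] at hn
    rcases n.eq_zero_or_pos with rfl | hn0
    · exact absurd (orderOf_eq_one_iff.mp (by simpa using hn)) hx1
    · exact (hn ▸ dvd_pow_self q hn0.ne').trans (orderOf_dvd_natCard X hx)
  obtain ⟨S⟩ := (inferInstance : Nonempty (Sylow q H))
  obtain ⟨T, hT⟩ := HallFusion.subgroupOf_sylow (L := K) ((map_subtype_le (S : Subgroup H)).trans hH)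
    (S.isPGroup'.map _) fun hd => by
      rw [← relIndex_mul_relIndex _ _ _ (map_subtype_le _) hH, relIndex, subgroupOf,
        comap_map_eq_self_of_injective H.subtype_injective] at hd
      exact (hq.dvd_mul.mp hd).elim S.not_dvd_index (h q hq hdvd)
  have hTn : (T : Subgroup K).Normal :=
    (Group.isNilpotent_of_finite_tfae.out 0 3 rfl rfl).1 hK q inferInstance T
  have := Sylow.unique_of_normal T hTn
  obtain ⟨Q, hQ⟩ := (hxq.comap_subtype (K := K)).exists_le_sylow
  rw [Subsingleton.elim Q T] at hQ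
  have h1 := mem_map_of_mem K.subtype (hQ (show (⟨x, hX hx⟩ : K) ∈ (zpowers x).comap K.subtype from mem_zpowers x))
  rw [hT] at h1
  exact map_subtype_le _ h1

end Cfsg.Agent.OddLocal.Compl
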