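import Cfsg.Agent.OddLocal.RankTwoSolvable
import Cfsg.Agent.Lib.Hall.Solvable

/-! Solvable groups of odd order whose Fitting subgroup has rank at most two. -/

set_option autoImplicit false
set_option linter.unusedSectionVars false

namespace Cfsg.Agent.OddLocal.RankTwoFitting

open Cfsg Subgroup

variable {G : Type*} [Group G] [Finite G]

theorem pRankLE_of_le {p k : ℕ} {X : Subgroup G} (h : PRankLE p k G) : PRankLE p k X := fun A _ hA' => by
  rw [← card_subtype X A]
  refine h _ (map_isMulCommutative A X.subtype) ?_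
  rintro _ ⟨y, hy, rfl⟩
  exact congrArg Subtype.val (hA' y hy)

theorem pRankLE_mono {p k : ℕ} {X Y : Subgroup G} (hXY : X ≤ Y) (h : PRankLE p k Y) : PRankLE p k X :=
  fun A _ hA' => by
  rw [← card_map_of_injective (K := A) (inclusion_injective hXY)]
  refine h _ (map_isMulCommutative A _) ?_
  rintro _ ⟨y, hy, rfl⟩
  rw [← map_pow, hA' y hy, map_one]

theorem pCore_le_fitting (p : ℕ) [Fact p.Prime] : pCore p G ≤ fittingSubgroup G :=
  Cores.le_fittingSubgroup (Cores.pCore_isPGroup (G := G) p).isNilpotent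

theorem conjNormal_eq_one {N : Subgroup G} [N.Normal] {x : G}
    (h : (MulAut.conjNormal x : MulAut N) = 1) : x ∈ centralizer (N : Set G) := by
  refine mem_centralizer_iff.mpr fun r hr => ?_
  have h' := congrArg Subtype.val (DFunLike.congr_fun h ⟨r, hr⟩)
  rw [MulAut.conjNormal_apply] at h'
  exact (mul_inv_eq_iff_eq_mul.mp h').symm

set_option maxHeartbeats 1000000 in
/-- `G' ≤ F(G)` if `G'` induces `q`-groups on each `O_q(G)`. -/
theorem commutator_le_fitting_of_aut [Group.IsSolvable G]
    (haut : ∀ p : ℕ, ∀ [Fact p.Prime], p ∣ Nat.card G → ∀ c ∈ commutator G,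
      ∃ k : ℕ, (MulAut.conjNormal c : MulAut (pCore p G)) ^ p ^ k = 1) :
    commutator G ≤ fittingSubgroup G := by
  classical
  rw [← subgroupOf_eq_top]
  refine Cores.eq_top_of_sylow_le fun q hq hqd => ?_
  have := Fact.mk hq
  obtain ⟨S⟩ := (inferInstance : Nonempty (Sylow q (commutator G)))
  refine ⟨S, fun x hx => ?_⟩
  show (x : G) ∈ fittingSubgroup G
  set others := ⨆ p : {p : (Nat.card G).primeFactors // (p : ℕ) ≠ q}, pCore p.1 G with hothers
  set M := commutator G ⊓ centralizer (others : Set G) with hM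
  have hon : others.Normal := Subgroup.iSup_normal _
  have hMn : M.Normal := inferInstance
  have hcov : fittingSubgroup G ≤ pCore q G ⊔ others := by
    rw [Cores.fittingSubgroup_eq_iSup]
    refine iSup_le fun r => ?_
    by_cases hrq : (r : ℕ) = q
    · rw [hrq]; exact le_sup_left
    · exact le_sup_of_le_right
        (le_iSup (fun p : {p : (Nat.card G).primeFactors // (p : ℕ) ≠ q} => pCore p.1 G) ⟨r, hrq⟩)
  have hof : others ≤ fittingSubgroup G := iSup_le fun p => by
    have := Fact.mk (Nat.prime_of_mem_primeFactors p.1.2)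
    exact pCore_le_fitting _
  have hqG : q ∣ Nat.card G := hqd.trans (card_subgroup_dvd_card _)
  suffices hMnil : Group.IsNilpotent M by
    refine Cores.le_fittingSubgroup (hN := hMn) hMnil ⟨x.2, ?_⟩
    rw [SetLike.mem_coe, hothers]
    suffices (⨆ p : {p : (Nat.card G).primeFactors // (p : ℕ) ≠ q}, pCore p.1 G) ≤
        centralizer {(x : G)} from mem_centralizer_iff.mpr fun y hy =>
          mem_centralizer_singleton_iff.mp (this hy)
    refine iSup_le fun p => ?_
    have hpp := Nat.prime_of_mem_primeFactors p.1.2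
    have := Fact.mk hpp
    obtain ⟨k, hk⟩ := haut _ (Nat.dvd_of_mem_primeFactors p.1.2) (x : G) x.2
    obtain ⟨j, hj⟩ := IsPGroup.iff_orderOf.mp S.isPGroup' ⟨x, hx⟩
    rw [orderOf_mk, ← orderOf_coe] at hj
    have h1 : (MulAut.conjNormal (x : G) : MulAut (pCore (p.1 : ℕ) G)) = 1 :=
      orderOf_eq_one_iff.mp (Nat.eq_one_of_dvd_coprimes
        (((Nat.coprime_primes hq hpp).mpr (Ne.symm p.2)).pow j k)
        ((orderOf_map_dvd _ (x : G)).trans hj.dvd) (orderOf_dvd_of_pow_eq_one hk))
    exact fun y hy => mem_centralizer_singleton_iff.mpr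
      (mem_centralizer_iff.mp (conjNormal_eq_one h1) y hy)
  -- `M` is nilpotent
  set f := (QuotientGroup.mk' others).comp M.subtype with hf
  have hker : f.ker ≤ center M := by
    intro y hy
    rw [MonoidHom.mem_ker, hf, MonoidHom.comp_apply] at hy
    refine mem_center_iff.mpr fun z => Subtype.ext ?_
    exact (mem_centralizer_iff.mp z.2.2 _ ((QuotientGroup.eq_one_iff _).mp hy)).symm
  have hq' : IsPGroup q f.range := by
    rintro ⟨_, y, rfl⟩
    obtain ⟨k, hk⟩ := haut q hqG (y : G) y.2.1
    rw [← map_pow] at hk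
    have hyF : ((y : G) ^ q ^ k) ∈ fittingSubgroup G := by
      refine Solvable.Fitting.centralizer_fitting_le (mem_centralizer_iff.mpr fun u hu => ?_)
      have hle : pCore q G ⊔ others ≤ centralizer ({(y : G) ^ q ^ k} : Set G) := by
        refine sup_le (fun v hv => ?_) (fun v hv => ?_)
        · exact mem_centralizer_singleton_iff.mpr (mem_centralizer_iff.mp (conjNormal_eq_one hk) v hv)
        · exact mem_centralizer_singleton_iff.mpr
            (mem_centralizer_iff.mp (pow_mem y.2.2 _) v hv)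
      exact mem_centralizer_singleton_iff.mp (hle (hcov hu))
    obtain ⟨a, ha, b, hb, hab⟩ := mem_sup_of_normal_right.mp (hcov hyF)
    obtain ⟨l, hl⟩ := Cores.pCore_isPGroup (G := G) q ⟨a, ha⟩
    refine ⟨k + l, Subtype.ext ?_⟩
    have e : QuotientGroup.mk' others ((y : G) ^ q ^ k) = QuotientGroup.mk' others a := by
      rw [← hab, map_mul, show QuotientGroup.mk' others b = 1 from (QuotientGroup.eq_one_iff b).mpr hb,
        mul_one]
    show (QuotientGroup.mk' others (y : G)) ^ q ^ (k + l) = 1
    rw [pow_add, pow_mul, ← map_pow, e, ← map_pow, show a ^ q ^ l = 1 from congrArg Subtype.val hl,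
      map_one]
  have := hq'.isNilpotent
  exact Subgroup.isNilpotent_of_ker_le_center f.rangeRestrict (by rwa [MonoidHom.ker_rangeRestrict])

variable (hodd : Odd (Nat.card G))
  (hr : ∀ p : ℕ, p.Prime → PRankLE p 2 (fittingSubgroup G))
include hodd hr

theorem aut_pCore {p : ℕ} [Fact p.Prime] (hd : p ∣ Nat.card G) :
    (∀ c ∈ commutator G, ∃ k : ℕ, (MulAut.conjNormal c : MulAut (pCore p G)) ^ p ^ k = 1) ∧
    ∀ q : ℕ, q.Prime → q ∣ Nat.card (MulAut.conjNormal : G →* MulAut (pCore p G)).range → q ≠ p →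
      q ∣ p - 1 ∨ q ∣ p + 1 :=
  AutRankTwo.aut_rankTwo (RankTwoSolvable.odd_prime_of_dvd hodd hd) (Cores.pCore_isPGroup p)
    (pRankLE_mono (pCore_le_fitting p) (hr p Fact.out)) hodd MulAut.conjNormal

theorem commutator_le_fitting [Group.IsSolvable G] : commutator G ≤ fittingSubgroup G :=
  commutator_le_fitting_of_aut fun _p _ hd => (aut_pCore hodd hr hd).1

theorem char_sylow_normal [Group.IsSolvable G] {q : ℕ} [Fact q.Prime] (S : Sylow q G)
    (T : Subgroup ↥(S : Subgroup G)) (hT : T.Characteristic)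
    (hle : T.map (S : Subgroup G).subtype ≤ commutator G) :
    (T.map (S : Subgroup G).subtype).Normal := by
  have hGF := commutator_le_fitting hodd hr
  set F := fittingSubgroup G with hF
  set T' := T.map (S : Subgroup G).subtype with hT'
  have hT'F : T' ≤ F := hle.trans hGF
  have hTp : IsPGroup q T' := (S.isPGroup'.to_subgroup T).map _
  have hTO : T' ≤ pCore q G := by
    have := Cores.fittingSubgroup_isNilpotent (G := G)
    obtain ⟨U, hU⟩ := (hTp.comap_of_injective F.subtype F.subtype_injective :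
      IsPGroup q (T'.subgroupOf F)).exists_le_sylow
    exact (map_subgroupOf_eq_of_le hT'F).symm.le.trans ((map_mono hU).trans (Cores.sylow_fitting_map U).le)
  have hNS : normalizer ((S : Subgroup G) : Set G) ≤ normalizer (T' : Set G) := by
    intro g hg
    refine mem_normalizer_iff_map_conj_eq.mpr ?_
    let a : MulAut (S : Subgroup G) := (S : Subgroup G).normalizerMonoidHom ⟨g, hg⟩
    show T'.map (MulAut.conj g : G ≃* G).toMonoidHom = T'
    have hc := characteristic_iff_map_eq.mp hT a
    conv_rhs => rw [hT', ← hc, Subgroup.map_map]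
    rw [hT', Subgroup.map_map]
    rfl
  have hFN : F ≤ normalizer (T' : Set G) := by
    rw [hF, Cores.fittingSubgroup_eq_iSup]
    refine iSup_le fun r => ?_
    by_cases hrq : (r : ℕ) = q
    · rw [hrq]
      exact (PLocal.Cores.pCore_le_sylow S).trans (le_normalizer.trans hNS)
    · have := Fact.mk (Nat.prime_of_mem_primeFactors r.2)
      refine le_trans ?_ (centralizer_le_normalizer _)
      intro y hy
      refine mem_centralizer_iff.mpr fun t ht => ?_
      exact (commute_of_normal_of_disjoint (pCore q G) (pCore (r : ℕ) G) inferInstance inferInstance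
        (IsPGroup.disjoint_of_ne q r (Ne.symm hrq) _ _ (Cores.pCore_isPGroup q)
          (Cores.pCore_isPGroup _)) t y (hTO ht) hy).eq
  set K := F ⊔ (S : Subgroup G) with hK
  have hKn : K.Normal := Normal.of_commutator_le G (hGF.trans le_sup_left)
  refine normalizer_eq_top_iff.mp (top_le_iff.mp ?_)
  calc (⊤ : Subgroup G) ≤ normalizer ((S : Subgroup G) : Set G) ⊔ K := by
        have h := Sylow.normalizer_sup_eq_top (N := K) (S.subtype (le_sup_right (a := F)))
        rw [Sylow.coe_subtype, map_subgroupOf_eq_of_le (le_sup_right (a := F))] at h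
        exact h.ge
    _ ≤ _ := sup_le hNS (sup_le hFN (le_normalizer.trans hNS))

theorem exists_char_hall [Group.IsSolvable G] (p : ℕ) :
    ∃ N : Subgroup G, N.Characteristic ∧ Cfsg.IsPiHall {q | q.Prime ∧ p < q} N := by
  classical
  set π : Set ℕ := {q | q.Prime ∧ p < q} with hπ
  obtain ⟨H, hH⟩ := Hall.exists_hall π G
  have hH1 : ∀ q : ℕ, q.Prime → q ∣ Nat.card H → p < q := fun q hq hd => (hH.1 q hq hd).2
  have hH2 : ∀ q : ℕ, q.Prime → p < q → ¬ q ∣ H.index := fun q hq hd => hH.2 q hq ⟨hq, hd⟩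
  have hGF := commutator_le_fitting hodd hr
  set F := fittingSubgroup G with hF
  -- the `π'`-part of the Fitting subgroup
  set Z := ⨆ r : {r : (Nat.card G).primeFactors // (r : ℕ) ≤ p}, pCore r.1 G with hZ
  have hHZ : H ≤ centralizer (Z : Set G) := by
    rw [le_centralizer_iff, hZ]
    refine iSup_le fun r => ?_
    have hrp := Nat.prime_of_mem_primeFactors r.1.2
    have := Fact.mk hrp
    rw [le_centralizer_iff]
    intro h hh
    refine conjNormal_eq_one (orderOf_eq_one_iff.mp (Nat.eq_one_iff_not_exists_prime_dvd.mpr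
      fun q hq hd => ?_))
    have hqH : q ∣ Nat.card H :=
      hd.trans ((orderOf_map_dvd _ h).trans (H.orderOf_dvd_natCard hh))
    have hpq := hH1 q hq hqH
    have hqr : q ≠ (r.1 : ℕ) := fun e => absurd (e ▸ r.2) (not_le.mpr hpq)
    have hq2 : q % 2 = 1 := Nat.odd_iff.mp (hodd.of_dvd_nat (hqH.trans H.card_subgroup_dvd_card))
    have hr2 : (r.1 : ℕ) % 2 = 1 := Nat.odd_iff.mp (hodd.of_dvd_nat (Nat.dvd_of_mem_primeFactors r.1.2))
    have hmem : (MulAut.conjNormal h : MulAut (pCore (r.1 : ℕ) G)) ∈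
        (MulAut.conjNormal : G →* MulAut (pCore (r.1 : ℕ) G)).range := ⟨h, rfl⟩
    have h1r := hrp.two_le
    have hrle := r.2
    rcases (aut_pCore hodd hr (p := (r.1 : ℕ)) (Nat.dvd_of_mem_primeFactors r.1.2)).2 q hq
      (hd.trans (orderOf_dvd_natCard _ hmem)) hqr with h3 | h3
    · have := Nat.le_of_dvd (by omega) h3; omega
    · have := Nat.le_of_dvd (by omega) h3; omega
  have hFH : F ≤ H ⊔ Z := by
    rw [hF, Cores.fittingSubgroup_eq_iSup]
    refine iSup_le fun r => ?_
    by_cases hrp : (r : ℕ) ≤ p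
    · exact le_sup_of_le_right (le_iSup (fun r : {r : (Nat.card G).primeFactors // (r : ℕ) ≤ p} =>
        pCore r.1 G) ⟨r, hrp⟩)
    · refine le_sup_of_le_left fun x hx => ?_
      have := Fact.mk (Nat.prime_of_mem_primeFactors r.2)
      obtain ⟨S⟩ := (inferInstance : Nonempty (Sylow (r : ℕ) H))
      obtain ⟨P, hP⟩ := (S.isPGroup'.map H.subtype).exists_le_sylow
      have hPS : (P : Subgroup G) = (S : Subgroup H).map H.subtype := by
        refine (eq_of_le_of_card_ge hP ?_).symm
        rw [card_map_of_injective H.subtype_injective, S.card_eq_multiplicity, P.card_eq_multiplicity]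
        generalize (r : ℕ) = r' at *
        rw [← H.card_mul_index, Nat.factorization_mul Nat.card_pos.ne' index_ne_zero_of_finite]
        simp [Nat.factorization_eq_zero_of_not_dvd (hH2 r' (Fact.out) (not_le.mp hrp))]
      exact map_subtype_le _ (hPS ▸ PLocal.Cores.pCore_le_sylow P hx)
  set K := H ⊔ Z with hK
  have hKn : K.Normal := Normal.of_commutator_le G (hGF.trans hFH)
  have hHK : K ≤ normalizer (H : Set G) :=
    sup_le le_normalizer ((le_centralizer_iff.mp hHZ).trans (centralizer_le_normalizer _))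
  set N := normalizer (H : Set G) with hN
  have hHn : (H.subgroupOf K).Normal := normal_subgroupOf_of_le_normalizer hHK
  -- `π`-elements of `K` lie in `H`
  have key : ∀ x ∈ K, (orderOf x).Coprime H.index → x ∈ H := by
    intro x hx hc
    have h1 : ((⟨x, hx⟩ : K) : K ⧸ H.subgroupOf K) = 1 := by
      refine orderOf_eq_one_iff.mp (Nat.eq_one_of_dvd_coprimes hc ?_ ?_)
      · exact (orderOf_map_dvd (QuotientGroup.mk' _) (⟨x, hx⟩ : K)).trans (by rw [orderOf_mk])
      · exact (_root_.orderOf_dvd_natCard _).trans (relIndex_dvd_index_of_le le_sup_left)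
    exact (QuotientGroup.eq_one_iff (⟨x, hx⟩ : K)).mp h1
  have hcard : (Nat.card H).Coprime H.index :=
    Nat.coprime_of_dvd fun q hq h1 h2 => hH2 q hq (hH1 q hq h1) h2
  have hnorm : H.Normal := ⟨fun x hx g => key _ (hKn.conj_mem x (mem_sup_left hx) g) (by
    rw [← MulAut.conj_apply, MulEquiv.orderOf_eq]
    exact hcard.coprime_dvd_left (H.orderOf_dvd_natCard hx))⟩
  refine ⟨H, characteristic_iff_map_le.mpr fun f => ?_,
    ⟨fun q hq hd => ⟨hq, hH1 q hq hd⟩, fun q hq hd => hH2 q hq hd.2⟩⟩
  rintro _ ⟨x, hx, rfl⟩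
  refine (QuotientGroup.eq_one_iff (f x)).mp (orderOf_eq_one_iff.mp ?_)
  refine Nat.eq_one_of_dvd_coprimes hcard ?_ (_root_.orderOf_dvd_natCard _)
  exact (orderOf_map_dvd (QuotientGroup.mk' H) (f x)).trans
    ((MulEquiv.orderOf_eq f x).dvd.trans (H.orderOf_dvd_natCard hx))

end Cfsg.Agent.OddLocal.RankTwoFitting
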