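import Cfsg.Agent.OddLocal.SigmaBasic
import Cfsg.Agent.OddLocal.RankTwoFitting

/-! The cores `M_α` and `M_σ` are Hall subgroups. -/

set_option autoImplicit false
set_option linter.unusedSectionVars false

namespace Cfsg.Agent.OddLocal.Sigma

open Cfsg Subgroup Cfsg.Agent.OddLocal.Unique Cfsg.Agent.OddLocal.Bender

theorem le_pCore_of_le_fitting {H : Type*} [Group H] [Finite H] {p : ℕ} [Fact p.Prime] {T : Subgroup H}
    (hT : T ≤ fittingSubgroup H) (hTp : IsPGroup p T) : T ≤ pCore p H := by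
  obtain ⟨U, hU⟩ := (hTp.comap_subtype (K := fittingSubgroup H)).exists_le_sylow
  exact (map_subgroupOf_eq_of_le hT).symm.le.trans ((map_mono hU).trans (Cores.sylow_fitting_map U).le)

theorem pRankLE_of_not_dvd {H : Type*} [Group H] [Finite H] {p k : ℕ} [hp : Fact p.Prime]
    (h : ¬ p ∣ Nat.card H) : PRankLE p k H := fun A _ hA => by
  obtain ⟨n, hn⟩ := IsPGroup.iff_card.mp (show IsPGroup p A from fun a => ⟨1, Subtype.ext (by
    rw [pow_one]; exact hA a a.2)⟩)
  rcases Nat.eq_zero_or_pos n with rfl | hn0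
  · rw [hn, pow_zero]; exact Nat.one_le_pow _ _ hp.out.pos
  · exact absurd (((dvd_pow_self p hn0.ne').trans hn.symm.dvd).trans (card_subgroup_dvd_card A)) h

variable {G : Type*} [Group G] [Finite G] {M : Subgroup G}

theorem coatom_ne_bot (hG : IsMinSimpleOddOrder G) (hM : IsCoatom M) : M ≠ ⊥ := by
  rintro rfl
  have := hG.2.1
  obtain ⟨x, hx⟩ := exists_ne (1 : G)
  have hc : IsCyclic G := by
    refine ⟨x, fun y => ?_⟩
    have h := hM.2 (zpowers x) (lt_of_le_of_ne bot_le fun e => hx (zpowers_eq_bot.mp e.symm))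
    exact h.ge (mem_top y)
  exact hG.2.2.1 ⟨⟨fun a b => (IsCyclic.commGroup (α := G)).mul_comm a b⟩⟩

theorem alpha_subset_sigma (hG : IsMinSimpleOddOrder G) (hM : IsCoatom M) : alpha M ⊆ sigma M := by
  rintro p ⟨hpp, hr⟩
  have := Fact.mk hpp
  obtain ⟨P⟩ := (inferInstance : Nonempty (Sylow p M))
  have hpd : p ∣ Nat.card M := by
    by_contra h
    exact hr (pRankLE_of_not_dvd h)
  refine ⟨hpp, hpd, P, ?_⟩
  set T := (P : Subgroup M).map M.subtype with hT
  have hrT : ¬ PRankLE p 2 T := fun h => hr (NarrowSolvable.pRankLE_of_sylow P fun A hA hA' => by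
    let e : (P : Subgroup M) ≃* T := equivMapOfInjective _ M.subtype M.subtype_injective
    have := map_isMulCommutative A e.toMonoidHom
    rw [Nat.card_congr (A.equivMapOfInjective e.toMonoidHom e.injective).toEquiv]
    refine h _ inferInstance ?_
    rintro _ ⟨a, ha, rfl⟩
    rw [← map_pow, hA' a ha, map_one])
  obtain ⟨E, hE, hEu⟩ := exists_unique_le_of_rank_three hG (X := T) fun h => hrT (h p hpp)
  have hTM : T ≤ M := map_subtype_le _
  have hTtop : T ≠ ⊤ := fun e => hM.1 (top_le_iff.mp (e ▸ hTM))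
  refine le_max (Unique.mono hEu hE hTtop) hM hTM (Transitivity.normalizer_ne_top hG ?_ hTtop) le_normalizer
  intro e
  exact Unique.ne_bot hG (Unique.mono hEu hE hTtop) e

theorem sigma_prime {p : ℕ} (h : p ∈ sigma M) : p.Prime := h.1

theorem sylow_le_commutator_sub (hG : IsMinSimpleOddOrder G) (hM : IsCoatom M) {p : ℕ} [Fact p.Prime]
    (h : p ∈ sigma M) (P : Sylow p M) : (P : Subgroup M) ≤ commutator M := by
  obtain ⟨S, hS, hSM⟩ := exists_sylow_ge h (P.isPGroup'.map M.subtype) (map_subtype_le _)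
  intro x hx
  have h1 := sylow_le_commutator hG hM h S hSM (hS ⟨x, hx, rfl⟩)
  rw [← map_subtype_commutator] at h1
  obtain ⟨y, hy, e⟩ := h1
  exact M.subtype_injective e ▸ hy

theorem not_dvd_index_of_sigma {p : ℕ} [Fact p.Prime] (h : p ∈ sigma M) : ¬ p ∣ M.index := by
  obtain ⟨S, hS, -⟩ := exists_sylow_normalizer_le h
  exact fun hd => S.not_dvd_index (hd.trans (index_dvd_of_le hS))

theorem odd_card (hG : IsMinSimpleOddOrder G) (H : Subgroup G) : Odd (Nat.card H) :=
  hG.1.of_dvd_nat (card_subgroup_dvd_card H)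

/-- The structure of `M / M_α`, and `M_α`, `M_σ` are Hall subgroups of `M`. -/
theorem cores_hall (hG : IsMinSimpleOddOrder G) (hM : IsCoatom M) :
    (∀ p : ℕ, p.Prime → p ∈ alpha M → ¬ p ∣ (piCore (alpha M) M).index) ∧
    (∀ p : ℕ, p.Prime → p ∈ sigma M → ¬ p ∣ (piCore (sigma M) M).index) ∧
    RankLE 2 (M ⧸ piCore (alpha M) M) ∧
    commutator (M ⧸ piCore (alpha M) M) ≤ fittingSubgroup (M ⧸ piCore (alpha M) M) := by
  have := Transitivity.isSolvable_of_ne_top hG hM.1
  set A := piCore (alpha M) M with hA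
  have hAQ : piCore (alpha M) (M ⧸ A) = ⊥ := Cores.piCore_quotient_self _
  have hodd : Odd (Nat.card (M ⧸ A)) := (odd_card hG M).of_dvd_nat A.index_dvd_card
  have hFd : ∀ p : ℕ, p.Prime → p ∈ alpha M → ¬ p ∣ Nat.card (fittingSubgroup (M ⧸ A)) := by
    intro p hpp hp hd
    have := Fact.mk hpp
    obtain ⟨x, hx⟩ := exists_prime_orderOf_dvd_card' (G := fittingSubgroup (M ⧸ A)) p hd
    rw [← orderOf_coe] at hx
    have h1 : zpowers (x : M ⧸ A) ≤ pCore p (M ⧸ A) := le_pCore_of_le_fitting (zpowers_le.mpr x.2)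
      (IsPGroup.of_card (n := 1) (by rw [Nat.card_zpowers, hx, pow_one]))
    have h2 : pCore p (M ⧸ A) ≤ piCore (alpha M) (M ⧸ A) := by
      rw [Cores.pCore_eq_piCore]
      exact Cores.piCore_mono (Set.singleton_subset_iff.mpr hp)
    have h3 := h1.trans (h2.trans hAQ.le)
    rw [le_bot_iff, zpowers_eq_bot] at h3
    rw [h3, orderOf_one] at hx
    exact hpp.ne_one hx.symm
  have hnotα : ∀ p : ℕ, p.Prime → p ∉ alpha M → PRankLE p 2 (M ⧸ A) := by
    intro p hpp hp
    have := Fact.mk hpp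
    refine RankTwoSolvable.pRankLE_quotient (not_not.mp fun h => hp ⟨hpp, h⟩) A ?_
    exact (hpp.coprime_iff_not_dvd.mpr fun hd => hp (Cores.piCore_isPi _ p hpp hd)).symm
  have hrF : ∀ p : ℕ, p.Prime → PRankLE p 2 (fittingSubgroup (M ⧸ A)) := by
    intro p hpp
    have := Fact.mk hpp
    by_cases hp : p ∈ alpha M
    · exact pRankLE_of_not_dvd (hFd p hpp hp)
    · exact RankTwoFitting.pRankLE_of_le (hnotα p hpp hp)
  have hder := RankTwoFitting.commutator_le_fitting hodd hrF
  set π := QuotientGroup.mk' A with hπ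
  have hSF : ∀ (p : ℕ) [Fact p.Prime], p ∈ sigma M → ∀ P : Sylow p M,
      (P : Subgroup M).map π ≤ fittingSubgroup (M ⧸ A) := by
    intro p _ hp P
    refine (map_mono (sylow_le_commutator_sub hG hM hp P)).trans (le_trans ?_ hder)
    rw [_root_.commutator_def, Subgroup.map_commutator, _root_.commutator_def]
    exact commutator_mono le_top le_top
  have hα : ∀ p : ℕ, p.Prime → p ∈ alpha M → ¬ p ∣ A.index := by
    intro p hpp hp hd
    have := Fact.mk hpp
    obtain ⟨P⟩ := (inferInstance : Nonempty (Sylow p M))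
    refine P.not_dvd_index (hd.trans (index_dvd_of_le fun x hx => ?_))
    have h1 : π x = 1 := by
      refine orderOf_eq_one_iff.mp ?_
      obtain ⟨k, hk⟩ := (P.isPGroup'.map π) ⟨π x, mem_map_of_mem π hx⟩
      have hco : (Nat.card (fittingSubgroup (M ⧸ A))).Coprime (p ^ k) :=
        ((hpp.coprime_iff_not_dvd.mpr (hFd p hpp hp)).symm).pow_right k
      exact Nat.eq_one_of_dvd_coprimes hco
        ((fittingSubgroup (M ⧸ A)).orderOf_dvd_natCard (hSF p (alpha_subset_sigma hG hM hp) P ⟨x, hx, rfl⟩))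
        (orderOf_dvd_of_pow_eq_one (congrArg Subtype.val hk))
    exact (QuotientGroup.eq_one_iff x).mp h1
  refine ⟨hα, fun p hpp hp hd => ?_, fun p hpp => ?_, hder⟩
  · have := Fact.mk hpp
    obtain ⟨P⟩ := (inferInstance : Nonempty (Sylow p M))
    refine P.not_dvd_index (hd.trans (index_dvd_of_le ?_))
    have h1 : pCore p (M ⧸ A) ≤ piCore (sigma M) (M ⧸ A) := by
      rw [Cores.pCore_eq_piCore]
      exact Cores.piCore_mono (Set.singleton_subset_iff.mpr hp)
    have h2 : (piCore (sigma M) (M ⧸ A)).comap π ≤ piCore (sigma M) M :=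
      Cores.le_piCore (hN := inferInstance) (Cores.isPi_comap_mk'
        ((Cores.piCore_isPi _).mono (alpha_subset_sigma hG hM)) (Cores.piCore_isPi _))
    refine le_trans ?_ h2
    exact map_le_iff_le_comap.mp
      ((le_pCore_of_le_fitting (hSF p hp P) (P.isPGroup'.map π)).trans h1)
  · by_cases hp : p ∈ alpha M
    · have := Fact.mk hpp
      exact pRankLE_of_not_dvd (hα p hpp hp)
    · exact hnotα p hpp hp

theorem le_normalizer_sigmaCore (M : Subgroup G) : M ≤ normalizer (sigmaCore M : Set G) :=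
  Transitivity.le_normalizer_piCoreOf (sigma M) M

theorem sigmaCore_le (M : Subgroup G) : sigmaCore M ≤ M := map_subtype_le _

theorem alphaCore_le (M : Subgroup G) : alphaCore M ≤ M := map_subtype_le _

theorem le_normalizer_alphaCore (M : Subgroup G) : M ≤ normalizer (alphaCore M : Set G) :=
  Transitivity.le_normalizer_piCoreOf (alpha M) M

theorem isPiHall_of_subset {π : Set ℕ} (hπσ : π ⊆ sigma M)
    (h : ∀ p : ℕ, p.Prime → p ∈ π → ¬ p ∣ (piCore π M).index) :
    IsPiHallOf π (piCoreOf π M) M ∧ IsPiHall π (piCoreOf π M) := by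
  have h1 : ∀ p : ℕ, p.Prime → p ∣ Nat.card (piCoreOf π M) → p ∈ π := Transitivity.isPi_piCoreOf π M
  have h2 : (piCoreOf π M).relIndex M = (piCore π M).index := by
    rw [piCoreOf, relIndex, subgroupOf, comap_map_eq_self_of_injective M.subtype_injective]
  refine ⟨⟨map_subtype_le _, h1, fun p hpp hp => h2 ▸ h p hpp hp⟩, h1, fun p hpp hp hd => ?_⟩
  have := Fact.mk hpp
  rw [← relIndex_mul_index (Transitivity.piCoreOf_le π M), h2] at hd
  exact (hpp.dvd_mul.mp hd).elim (h p hpp hp) (not_dvd_index_of_sigma (hπσ hp))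

theorem alphaCore_hall (hG : IsMinSimpleOddOrder G) (hM : IsCoatom M) :
    IsPiHallOf (alpha M) (alphaCore M) M ∧ IsPiHall (alpha M) (alphaCore M) :=
  isPiHall_of_subset (alpha_subset_sigma hG hM) (cores_hall hG hM).1

theorem sigmaCore_hall (hG : IsMinSimpleOddOrder G) (hM : IsCoatom M) :
    IsPiHallOf (sigma M) (sigmaCore M) M ∧ IsPiHall (sigma M) (sigmaCore M) :=
  isPiHall_of_subset le_rfl (cores_hall hG hM).2.1

theorem alphaCore_le_sigmaCore (hG : IsMinSimpleOddOrder G) (hM : IsCoatom M) :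
    alphaCore M ≤ sigmaCore M :=
  map_mono (Cores.piCore_mono (alpha_subset_sigma hG hM))

theorem sylow_le_sigmaCore (hG : IsMinSimpleOddOrder G) (hM : IsCoatom M) {p : ℕ} [Fact p.Prime]
    (h : p ∈ sigma M) {X : Subgroup G} (hX : IsPGroup p X) (hXM : X ≤ M) : X ≤ sigmaCore M := by
  intro x hx
  refine ⟨⟨x, hXM hx⟩, ?_, rfl⟩
  obtain ⟨k, hk⟩ := hX ⟨x, hx⟩
  refine (QuotientGroup.eq_one_iff _).mp (orderOf_eq_one_iff.mp ?_)
  refine Nat.eq_one_of_dvd_coprimes (a := (piCore (sigma M) M).index) (b := p ^ k) ?_ (orderOf_dvd_natCard _) ?_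
  · exact (((Fact.out : p.Prime).coprime_iff_not_dvd.mpr ((cores_hall hG hM).2.1 p Fact.out h)).symm).pow_right k
  · refine (orderOf_map_dvd (QuotientGroup.mk' _) _).trans (orderOf_dvd_of_pow_eq_one (Subtype.ext ?_))
    simpa using congrArg Subtype.val hk

theorem piCore_sigma_le_commutator (hG : IsMinSimpleOddOrder G) (hM : IsCoatom M) :
    piCore (sigma M) M ≤ commutator M := by
  rw [← relIndex_eq_one]
  refine Nat.eq_one_iff_not_exists_prime_dvd.mpr fun q hq hd => ?_
  have := Fact.mk hq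
  have hqσ : q ∈ sigma M := Cores.piCore_isPi _ q hq (hd.trans (relIndex_dvd_card _ _))
  obtain ⟨P⟩ := (inferInstance : Nonempty (Sylow q M))
  exact P.not_dvd_index ((hd.trans (relIndex_dvd_index_of_normal _ _)).trans
    (index_dvd_of_le (sylow_le_commutator_sub hG hM hqσ P)))

theorem sigmaCore_le_commutator (hG : IsMinSimpleOddOrder G) (hM : IsCoatom M) :
    sigmaCore M ≤ ⁅M, M⁆ := by
  rw [← map_subtype_commutator]
  exact map_mono (piCore_sigma_le_commutator hG hM)

theorem sigmaCore_ne_bot (hG : IsMinSimpleOddOrder G) (hM : IsCoatom M) : sigmaCore M ≠ ⊥ := by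
  intro h0
  have := Transitivity.isSolvable_of_ne_top hG hM.1
  have hα : ∀ q : ℕ, q.Prime → q ∈ sigma M → False := by
    intro q hq hqσ
    have := Fact.mk hq
    obtain ⟨S, hS, -⟩ := exists_sylow_normalizer_le hqσ
    have h1 := (sylow_le_sigmaCore hG hM hqσ S.isPGroup' hS).trans h0.le
    rw [le_bot_iff] at h1
    refine S.ne_bot_of_dvd_card (hqσ.2.1.trans (card_subgroup_dvd_card M)) h1
  have hr : ∀ q : ℕ, q.Prime → PRankLE q 2 M := fun q hq => not_not.mp fun h =>
    hα q hq (alpha_subset_sigma hG hM ⟨hq, h⟩)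
  set n := Nat.card M with hn
  have hn1 : n ≠ 1 := fun e => coatom_ne_bot hG hM (eq_bot_of_card_eq _ e)
  obtain ⟨p, hpmem, hmax⟩ := n.primeFactors.exists_max_image id
    (Nat.nonempty_primeFactors.mpr (lt_of_le_of_ne Nat.card_pos (Ne.symm hn1)))
  have hpp := Nat.prime_of_mem_primeFactors hpmem
  have hpd := Nat.dvd_of_mem_primeFactors hpmem
  have := Fact.mk hpp
  obtain ⟨N, hNc, hN1, hN2⟩ := RankTwoFitting.exists_char_hall (odd_card hG M)
    (fun q hq => RankTwoFitting.pRankLE_of_le (hr q hq)) (p - 1)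
  have hNp : IsPGroup p N := (Cores.isPi_iff_isPGroup N).mp fun q hq hd => by
    have h1 : p - 1 < q := (hN1 q hq hd).2
    have h2 : q ≤ p := hmax q (Nat.mem_primeFactors.mpr ⟨hq, hd.trans (card_subgroup_dvd_card N), Nat.card_pos.ne'⟩)
    show q = p
    omega
  have hNi : ¬ p ∣ N.index := hN2 p hpp ⟨hpp, by have := hpp.two_le; omega⟩
  set P := hNp.toSylow hNi
  refine hα p hpp ⟨hpp, hpd, P, ?_⟩
  have hNM : M ≤ normalizer ((N.map M.subtype : Subgroup G) : Set G) := by
    refine le_normalizer_of_normal_subgroupOf (hK := ?_) (map_subtype_le _)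
    rw [subgroupOf, comap_map_eq_self_of_injective M.subtype_injective]
    infer_instance
  refine ((hM.le_iff.mp hNM).resolve_left ?_).le
  refine Transitivity.normalizer_ne_top hG (fun e => ?_) fun e => hM.1 (top_le_iff.mp (e ▸ map_subtype_le N))
  exact P.ne_bot_of_dvd_card hpd ((map_eq_bot_iff_of_injective _ M.subtype_injective).mp e)

end Cfsg.Agent.OddLocal.Sigma
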