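import Cfsg.Agent.OddLocal.CyclicFixed
import Cfsg.Agent.S1415

/-! The nilpotent Hall core `M_F` (BG 15.2). -/

set_option autoImplicit false
set_option linter.unusedSectionVars false

namespace Cfsg.Agent.OddLocal.Fcore

open Cfsg Subgroup

variable {G : Type*} [Group G] [Finite G] {M K U : Subgroup G}

/-- Every maximal subgroup has a standard factorisation. -/
theorem exists_decomp (hG : IsMinSimpleOddOrder G) (hM : IsCoatom M) :
    ∃ K U : Subgroup G, IsSigmaDecomposition M K U := by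
  obtain ⟨K, hK, -⟩ := PType.exists_hall_ge hG hM (π := kappa M) (V := ⊥) bot_le
    fun q hq hd => absurd (Nat.dvd_one.mp (by rwa [card_bot] at hd)) hq.ne_one
  refine ⟨K, ?_⟩
  by_cases hK1 : K = ⊥
  · exact KappaDecomp.exists_decomposition hG hM hK (by subst hK1; infer_instance)
  · obtain ⟨S, hP⟩ := PType.exists_pair hG hM hK hK1
    have := hP.cyclic
    exact KappaDecomp.exists_decomposition hG hM hK
      (isCyclic_of_injective (inclusion (le_sup_left : K ≤ K ⊔ PType.star M K)) (inclusion_injective _))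

theorem exists_core_compl (hG : IsMinSimpleOddOrder G) {Q : Subgroup G} {q : ℕ}
    (c : NonNilpotent.Core M K Q q) : ∃ D : Subgroup G, IsComplIn Q D (sigmaCore M) := by
  have hq := c.hq
  have := Fact.mk hq
  have : (Q.subgroupOf (sigmaCore M)).Normal := (normal_subgroupOf_iff_le_normalizer c.le).mpr
    ((Sigma.sigmaCore_le M).trans c.normal)
  obtain ⟨D₁, hD₁⟩ := exists_right_complement'_of_coprime (N := Q.subgroupOf (sigmaCore M)) (by
      obtain ⟨k, hk⟩ := c.pgroup.exists_card_eq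
      rw [Nat.card_congr (subgroupOfEquivOfLe c.le).toEquiv, hk]
      exact Nat.Coprime.pow_left _ (hq.coprime_iff_not_dvd.mpr c.index))
  refine ⟨D₁.map (sigmaCore M).subtype, c.le, map_subtype_le _, eq_bot_iff.mpr fun x hx => ?_,
    fun x hx => ?_⟩
  · obtain ⟨hxQ, d, hd, rfl⟩ := mem_inf.mp hx
    exact mem_bot.mpr (congrArg Subtype.val (mem_bot.mp
      (hD₁.disjoint.le_bot (mem_inf.mpr ⟨hxQ, hd⟩))))
  · obtain ⟨⟨⟨a, ha⟩, ⟨b, hb⟩⟩, hab⟩ := hD₁.2 ⟨x, hx⟩
    exact ⟨a, ha, b, mem_map_of_mem _ hb, (congrArg Subtype.val hab).symm⟩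

/-- `M' / M_F` is nilpotent. -/
theorem commutator_quotient (hG : IsMinSimpleOddOrder G) (hM : IsCoatom M) :
    Group.IsNilpotent ↥((commutator ↥M).map (QuotientGroup.mk' (fittingHall ↥M))) := by
  obtain ⟨K, U, hKU⟩ := exists_decomp hG hM
  set f := QuotientGroup.mk' (fittingHall ↥M) with hf
  have hker : ∀ x : M, (x : G) ∈ fittingHallOf M → f x = 1 := fun x hx => by
    obtain ⟨y, hy, e⟩ := hx
    exact (QuotientGroup.eq_one_iff x).mpr (Subtype.ext e ▸ hy)
  have hσM := Sigma.sigmaCore_le M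
  by_cases hn : Group.IsNilpotent (sigmaCore M)
  · obtain ⟨E, hE⟩ := Compl.exists_compl hG hM
    have htop : (⊤ : Subgroup M).map f = (E.subgroupOf M).map f := by
      refine le_antisymm ?_ (map_mono le_top)
      rintro _ ⟨x, -, rfl⟩
      obtain ⟨a, ha, b, hb, e⟩ := hE.2.2.2 x x.2
      have hx : x = (⟨a, hE.1 ha⟩ : M) * ⟨b, hσM hb⟩ := Subtype.ext e
      rw [hx, map_mul, hker ⟨b, hσM hb⟩ (by
        rw [← SigmaParts.sigmaCore_eq_fittingHallOf hG hM hn]; exact hb), mul_one]
      exact mem_map_of_mem f ha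
    rw [commutator_def, map_commutator, htop, ← map_commutator]
    refine Cores.isNilpotent_map _ f ?_
    have h1 : (⁅E.subgroupOf M, E.subgroupOf M⁆).map M.subtype = ⁅E, E⁆ := by
      rw [map_commutator, map_subgroupOf_eq_of_le hE.1]
    have h2 := (S1415.result hG M hM E hE).1
    rw [← h1] at h2
    exact Group.nilpotent_of_mulEquiv
      ((⁅E.subgroupOf M, E.subgroupOf M⁆).equivMapOfInjective M.subtype M.subtype_injective).symm
  · obtain ⟨q, Q, c⟩ := NonNilpotent.exists_core hG hM hKU hn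
    obtain ⟨D, hD⟩ := exists_core_compl hG c
    have hU := NonNilpotent.U_eq_bot hG hM hKU hn
    have hc : commutator M = (sigmaCore M).subgroupOf M := by
      refine map_injective M.subtype_injective ?_
      rw [map_subtype_commutator, map_subgroupOf_eq_of_le hσM,
        PType.commutator_eq hG hM hKU (NonNilpotent.K_ne_bot hG hM hKU hn), hU, bot_sup_eq]
    have hle : (commutator M).map f ≤ (D.subgroupOf M).map f := by
      rintro _ ⟨x, hx, rfl⟩
      rw [hc] at hx
      obtain ⟨a, ha, b, hb, e⟩ := hD.2.2.2 x hx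
      have hbM : b ∈ M := hσM (hD.2.1 hb)
      have haM : a ∈ M := hσM (c.le ha)
      have hx' : x = (⟨a, haM⟩ : M) * ⟨b, hbM⟩ := Subtype.ext e
      rw [hx', map_mul, hker ⟨a, haM⟩ (c.le_F ha), one_mul]
      exact mem_map_of_mem f hb
    exact Cores.isNilpotent_to_le hle (Cores.isNilpotent_map _ f
      (Cores.isNilpotent_subgroupOf (c.compl D hD).1 M))

theorem fittingHallOf_ne_bot (hG : IsMinSimpleOddOrder G) (hM : IsCoatom M) : fittingHallOf M ≠ ⊥ := by
  intro e
  obtain ⟨K, U, hKU⟩ := exists_decomp hG hM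
  by_cases hn : Group.IsNilpotent (sigmaCore M)
  · exact Sigma.sigmaCore_ne_bot hG hM ((SigmaParts.sigmaCore_eq_fittingHallOf hG hM hn).trans e)
  · obtain ⟨q, Q, c⟩ := NonNilpotent.exists_core hG hM hKU hn
    have h1 : Nat.card ↥(sigmaCore M ⊓ centralizer (K : Set G)) = 1 :=
      card_eq_one.mpr (le_bot_iff.mp (e ▸ c.star_le.trans c.le_F))
    exact c.hq.ne_one (c.hc.symm.trans h1)

end Cfsg.Agent.OddLocal.Fcore
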