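import Mathlib
import Cfsg.Agent.Lib.Coprime.Commutator
import Cfsg.Agent.Lib.Coprime.PGroup

/-! Further coprime action lemmas for the odd order local analysis. -/

set_option autoImplicit false

namespace Cfsg.Agent.OddLocal.Coprime

open scoped commutatorElement

variable {G : Type*} [Group G]

theorem le_normalizer_commutator_self {A K : Subgroup G}
    (h : A ≤ Subgroup.normalizer (K : Set G)) : A ≤ Subgroup.normalizer (⁅K, K⁆ : Subgroup G) := by
  intro a ha
  have e := Subgroup.mem_normalizer_iff_map_conj_eq.mp (h ha)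
  rw [Subgroup.mem_normalizer_iff_map_conj_eq, Subgroup.map_commutator, e]

theorem pow_conj_of_central_commutator {u v c : G} (hv : v * u * v⁻¹ = c * u) (hcv : Commute c v)
    (n : ℕ) : v ^ n * u = c ^ n * u * v ^ n := by
  have h1 : v * u = c * u * v := mul_inv_eq_iff_eq_mul.mp hv
  induction n with
  | zero => simp
  | succ n ih =>
    calc v ^ (n + 1) * u = v * (v ^ n * u) := by rw [pow_succ']; group
      _ = v * c ^ n * (u * v ^ n) := by rw [ih]; group
      _ = c ^ n * (v * u) * v ^ n := by rw [((hcv.pow_left n).symm.eq)]; group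
      _ = c ^ n * (c * u * v) * v ^ n := by rw [h1]
      _ = c ^ (n + 1) * u * v ^ (n + 1) := by rw [pow_succ c n, pow_succ' v n]; group

theorem mul_pow_of_central_commutator {u v c : G} (hv : v * u * v⁻¹ = c * u) (hcu : Commute c u)
    (hcv : Commute c v) : ∀ n : ℕ, (u * v) ^ n = c ^ (n.choose 2) * (u ^ n * v ^ n)
  | 0 => by simp
  | n + 1 => by
    have e : (n + 1).choose 2 = n.choose 2 + n := by
      rw [Nat.choose_succ_succ, Nat.choose_one_right]; ring
    calc (u * v) ^ (n + 1) = c ^ n.choose 2 * (u ^ n * v ^ n) * (u * v) := by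
          rw [pow_succ, mul_pow_of_central_commutator hv hcu hcv n]
      _ = c ^ n.choose 2 * (u ^ n * (v ^ n * u) * v) := by group
      _ = c ^ n.choose 2 * (u ^ n * c ^ n * u * (v ^ n * v)) := by
          rw [pow_conj_of_central_commutator hv hcv n]; group
      _ = c ^ n.choose 2 * (c ^ n * u ^ n * u * (v ^ n * v)) := by
          rw [((hcu.pow_pow n n).symm.eq)]
      _ = c ^ ((n + 1).choose 2) * (u ^ (n + 1) * v ^ (n + 1)) := by
          rw [e, pow_add, pow_succ u n, pow_succ v n]; group

/-- For odd `p`, a coprime group of operators fixing every element of order `p` acts trivially. -/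
theorem le_centralizer_of_fix_order_p [Finite G] {p : ℕ} [Fact p.Prime] (hp : p ≠ 2)
    {P A : Subgroup G} (hP : IsPGroup p P) (hAP : A ≤ Subgroup.normalizer (P : Set G))
    (hcop : (Nat.card A).Coprime p) (hfix : ∀ x ∈ P, x ^ p = 1 → ∀ a ∈ A, a * x = x * a) :
    A ≤ Subgroup.centralizer (P : Set G) := by
  induction hn : Nat.card P using Nat.strongRecOn generalizing P with
  | _ n ih =>
    have hsolv : Group.IsSolvable P := Cfsg.Agent.Coprime.isSolvable_of_isPGroup hP
    have hcopP : (Nat.card A).Coprime (Nat.card P) := by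
      obtain ⟨k, hk⟩ := IsPGroup.iff_card.mp hP
      exact hk ▸ hcop.pow_right k
    have hrec : ∀ Q : Subgroup G, Q < P → A ≤ Subgroup.normalizer (Q : Set G) →
        A ≤ Subgroup.centralizer (Q : Set G) := by
      intro Q hQ hAQ
      refine ih (Nat.card Q) ?_ (hP.to_le hQ.le) hAQ (fun x hx => hfix x (hQ.le hx)) rfl
      exact hn ▸ Set.Finite.card_lt_card (Set.toFinite _) (SetLike.coe_ssubset_coe.mpr hQ)
    by_cases hbot : P = ⊥
    · rw [hbot]; intro a _
      rw [Subgroup.mem_centralizer_iff]; intro x hx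
      simp_all
    by_cases hlt : ⁅P, A⁆ = P
    swap
    · have h1 : ⁅P, A⁆ < P :=
        lt_of_le_of_ne (Cfsg.Agent.Coprime.commutator_le_of_le_normalizer hAP) hlt
      exact Cfsg.Agent.Coprime.le_centralizer_of_series hAP hcopP (Or.inr hsolv)
        (hrec _ h1 (Subgroup.normalizer_commutator_ge_right P A)) le_rfl
    -- the derived subgroup is centralized by A and P
    have hD : ⁅P, P⁆ < P := Cfsg.Agent.Coprime.commutator_lt_of_isSolvable hsolv hbot
    have hAD : A ≤ Subgroup.centralizer (⁅P, P⁆ : Subgroup G) :=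
      hrec _ hD (le_normalizer_commutator_self hAP)
    have hDA : ⁅⁅P, P⁆, A⁆ = ⊥ := Cfsg.Agent.Coprime.commutator_eq_bot_iff_le_centralizer'.mpr hAD
    have hPD : ⁅P, ⁅P, P⁆⁆ = ⊥ := by
      conv_lhs => rw [← hlt]
      rw [hlt]
      have h1 : ⁅⁅A, ⁅P, P⁆⁆, P⁆ = ⊥ := by
        rw [Subgroup.commutator_comm A, hDA, Subgroup.commutator_bot_left]
      have h2 : ⁅⁅⁅P, P⁆, P⁆, A⁆ = ⊥ :=
        le_bot_iff.mp (le_trans (Subgroup.commutator_mono
          (Subgroup.commutator_mono hD.le le_rfl) le_rfl) hDA.le)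
      have h3 := Subgroup.commutator_commutator_eq_bot_of_rotate h1 h2
      rwa [hlt] at h3
    have hcentral : ∀ u ∈ P, ∀ v ∈ P, ∀ z ∈ P, Commute (v * u * v⁻¹ * u⁻¹) z := by
      intro u hu v hv z hz
      have hc : v * u * v⁻¹ * u⁻¹ ∈ ⁅P, P⁆ := Subgroup.commutator_mem_commutator hv hu
      exact (Subgroup.mem_centralizer_iff.mp
        ((Subgroup.commutator_eq_bot_iff_le_centralizer.mp hPD) hz) _ hc)
    -- p-th powers modulo the derived subgroup form a proper invariant subgroup
    let S' : Subgroup P := (powMonoidHom p : Abelianization P →* Abelianization P).range.comap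
      Abelianization.of
    have hS'top : S' ≠ ⊤ := by
      intro h
      have hsurj : Function.Surjective (powMonoidHom p : Abelianization P →* Abelianization P) := by
        intro y
        obtain ⟨x, rfl⟩ := QuotientGroup.mk_surjective y
        have : x ∈ S' := h ▸ Subgroup.mem_top x
        exact this
      have hinj := Finite.injective_iff_surjective.mpr hsurj
      haveI : Nontrivial (Abelianization P) := by
        haveI : Nontrivial P := Subgroup.nontrivial_iff_ne_bot P |>.mpr hbot
        exact QuotientGroup.nontrivial_iff.mpr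
          (Group.IsSolvable.commutator_lt_top_of_nontrivial (G := P)).ne
      have hA' : IsPGroup p (Abelianization P) :=
        hP.of_surjective Abelianization.of QuotientGroup.mk_surjective
      obtain ⟨k, hk⟩ := IsPGroup.iff_card.mp hA'
      have hk0 : k ≠ 0 := by
        intro h0; rw [h0, pow_zero] at hk
        exact (Finite.one_lt_card (α := Abelianization P)).ne' hk
      obtain ⟨z, hz⟩ := exists_prime_orderOf_dvd_card' (G := Abelianization P) p
        (hk ▸ dvd_pow_self p hk0)
      have : z = 1 := hinj (by simp [← hz, pow_orderOf_eq_one])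
      rw [this, orderOf_one] at hz
      exact (Fact.out : p.Prime).ne_one hz.symm
    let S : Subgroup G := S'.map P.subtype
    have hSP : S < P := by
      refine lt_of_le_of_ne (Subgroup.map_subtype_le _) fun h => hS'top ?_
      rw [← Subgroup.comap_map_eq_self_of_injective P.subtype_injective S']
      show Subgroup.comap P.subtype S = ⊤
      rw [h]; exact Subgroup.subgroupOf_self P
    have hAS : A ≤ Subgroup.normalizer (S : Set G) := by
      intro a ha
      have hmem : ∀ x : P, (a : G) * x * a⁻¹ ∈ P := fun x =>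
        ((Subgroup.mem_normalizer_iff.mp (hAP ha)) x).mp x.2
      let φ : P →* P :=
        { toFun := fun x => ⟨a * x * a⁻¹, hmem x⟩
          map_one' := by ext; simp
          map_mul' := fun x y => by ext; simp [mul_assoc] }
      apply Subgroup.mem_normalizer_fintype (S := (S : Set G))
      rintro _ ⟨x, hx, rfl⟩
      refine ⟨φ x, ?_, rfl⟩
      obtain ⟨y, hy⟩ := MonoidHom.mem_range.mp hx
      refine MonoidHom.mem_range.mpr ⟨Abelianization.map φ y, ?_⟩
      calc (powMonoidHom p) (Abelianization.map φ y)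
          = Abelianization.map φ ((powMonoidHom p) y) := by simp [map_pow]
        _ = Abelianization.of (φ x) := by rw [hy, Abelianization.map_of]
    have hApow : ∀ x ∈ P, ∀ a ∈ A, a * x ^ p = x ^ p * a := by
      intro x hx a ha
      refine ((Subgroup.mem_centralizer_iff.mp (hrec S hSP hAS ha)) (x ^ p) ?_).symm
      exact ⟨⟨x, hx⟩ ^ p, MonoidHom.mem_range.mpr ⟨Abelianization.of ⟨x, hx⟩, (map_pow _ _ _).symm⟩, rfl⟩
    rw [← hlt, Subgroup.le_centralizer_iff, Subgroup.commutator_le]
    intro x hx a ha
    have hy : a * x⁻¹ * a⁻¹ ∈ P := ((Subgroup.mem_normalizer_iff.mp (hAP ha)) _).mp (inv_mem hx)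
    rw [Subgroup.mem_centralizer_iff]
    intro b hb
    show b * (x * a * x⁻¹ * a⁻¹) = (x * a * x⁻¹ * a⁻¹) * b
    have e : x * a * x⁻¹ * a⁻¹ = x * (a * x⁻¹ * a⁻¹) := by group
    rw [e]
    set y := a * x⁻¹ * a⁻¹ with hydef
    refine hfix _ (mul_mem hx hy) ?_ b hb
    set c := y * x * y⁻¹ * x⁻¹ with hcdef
    have hv : y * x * y⁻¹ = c * x := by rw [hcdef]; group
    have hcy : Commute c y := hcentral x hx y hy y hy
    have hcx : Commute c x := hcentral x hx y hy x hx
    have hyp : y ^ p = (x ^ p)⁻¹ := by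
      rw [hydef, conj_pow, inv_pow]
      rw [← inv_pow]
      rw [hApow x⁻¹ (inv_mem hx) a ha, mul_inv_cancel_right, inv_pow]
    have hcp : c ^ p = 1 := by
      have h := pow_conj_of_central_commutator hv hcy p
      have hcomm : y ^ p * x = x * y ^ p := by
        rw [hyp]; exact ((Commute.refl x).pow_left p).inv_left.eq
      rw [hcomm, mul_assoc] at h
      exact right_eq_mul.mp h
    rw [mul_pow_of_central_commutator hv hcx hcy p, hyp, mul_inv_cancel, mul_one]
    obtain ⟨k, hk⟩ : ∃ k, p.choose 2 = p * k := by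
      refine (Fact.out : p.Prime).dvd_choose_self two_ne_zero ?_
      exact lt_of_le_of_ne (Fact.out : p.Prime).two_le (Ne.symm hp)
    rw [hk, pow_mul, hcp, one_pow]

end Cfsg.Agent.OddLocal.Coprime

namespace Cfsg.Agent.OddLocal.Coprime

open scoped commutatorElement

variable {G : Type*} [Group G]

/-- A nontrivial normal subgroup of a finite nilpotent group meets the center. -/
theorem inf_center_ne_bot [Finite G] [Group.IsNilpotent G] {N : Subgroup G} (hn : N.Normal)
    (hN : N ≠ ⊥) : N ⊓ Subgroup.center G ≠ ⊥ := by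
  induction N using WellFoundedLT.induction with
  | _ N ih =>
    haveI := hn
    haveI : Group.IsNilpotent (⊤ : Subgroup G) := Group.nilpotent_of_mulEquiv Subgroup.topEquiv.symm
    by_cases h : ⁅N, (⊤ : Subgroup G)⁆ = ⊥
    · have hle : N ≤ Subgroup.center G := by
        rw [← Subgroup.centralizer_univ, ← Subgroup.coe_top]
        exact Subgroup.commutator_eq_bot_iff_le_centralizer.mp h
      rwa [inf_eq_left.mpr hle]
    · have hlt : ⁅N, (⊤ : Subgroup G)⁆ < N :=
        Cfsg.Agent.Coprime.commutator_lt_of_isNilpotent le_top hN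
          (by rw [Subgroup.normalizer_eq_top])
      intro hbot
      exact ih _ hlt inferInstance h (le_bot_iff.mp ((inf_le_inf_right _ hlt.le).trans hbot.le))

/-- If the quotient by an abelian normal subgroup `V` is cyclic of prime order `q` and `V` is the
derived subgroup, then `q` does not divide the order of `V`. -/
theorem coprime_of_index_prime [Finite G] {V : Subgroup G} [V.Normal] [IsMulCommutative V] {q : ℕ}
    (hq : q.Prime) (hidx : V.index = q) (hder : commutator G = V) : ¬ q ∣ Nat.card V := by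
  intro hdvd
  haveI := Fact.mk hq
  obtain ⟨⟨x, hxV⟩, hx⟩ := exists_prime_orderOf_dvd_card' (G := V) q hdvd
  rw [Subgroup.orderOf_mk] at hx
  obtain ⟨S, hxS⟩ := (IsPGroup.of_card (G := Subgroup.zpowers x) (p := q) (n := 1)
    (by rw [Nat.card_zpowers, hx, pow_one])).exists_le_sylow
  have hSV : ¬ (S : Subgroup G) ≤ V := fun h => by
    have := (Subgroup.index_dvd_of_le h)
    rw [hidx] at this
    exact S.not_dvd_index this
  obtain ⟨t, htS, htV⟩ := SetLike.not_le_iff_exists.mp hSV
  haveI := S.2.isNilpotent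
  have hxS' : x ∈ (S : Subgroup G) := hxS (Subgroup.mem_zpowers x)
  have hinf : V.subgroupOf (S : Subgroup G) ≠ ⊥ := by
    intro h
    have : (⟨x, hxS'⟩ : (S : Subgroup G)) ∈ V.subgroupOf (S : Subgroup G) := hxV
    rw [h, Subgroup.mem_bot] at this
    have h1 : x = 1 := congrArg Subtype.val this
    rw [h1, orderOf_one] at hx
    exact hq.ne_one hx.symm
  obtain ⟨⟨z, hzS⟩, ⟨hzV, hzc⟩, hz1⟩ :=
    (Subgroup.bot_or_exists_ne_one _).resolve_left (inf_center_ne_bot inferInstance hinf)
  have hzV' : z ∈ V := hzV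
  have hzt : t * z = z * t := congrArg Subtype.val (Subgroup.mem_center_iff.mp hzc ⟨t, htS⟩)
  -- commutation with t is a bijective endomorphism of V
  have hn := fun v (hv : v ∈ V) => (inferInstance : V.Normal).conj_mem v hv t
  let φ : V →* V :=
    { toFun := fun v => ⟨t * v * t⁻¹ * (v : G)⁻¹, mul_mem (hn v v.2) (inv_mem v.2)⟩
      map_one' := by ext; simp
      map_mul' := fun a b => by
        ext
        have hab : ∀ x ∈ V, ∀ y ∈ V, x * y = y * x := fun x hx y hy =>
          setLike_mul_comm (s := V) hx hy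
        show t * (a * b) * t⁻¹ * ((a : G) * b)⁻¹ = (t * a * t⁻¹ * (a : G)⁻¹) * (t * b * t⁻¹ * (b : G)⁻¹)
        calc t * (a * b) * t⁻¹ * ((a : G) * b)⁻¹
            = (t * a * t⁻¹) * ((t * b * t⁻¹ * (b : G)⁻¹) * (a : G)⁻¹) := by group
          _ = _ := by
            rw [hab _ (mul_mem (hn b b.2) (inv_mem b.2)) _ (inv_mem a.2)]
            group }
  let K : Subgroup G := φ.range.map V.subtype
  have hgen : V ⊔ Subgroup.zpowers t = ⊤ := by
    have h1 : (V ⊔ Subgroup.zpowers t).index ∣ q := hidx ▸ Subgroup.index_dvd_of_le le_sup_left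
    rcases (Nat.dvd_prime hq).mp h1 with h | h
    · exact Subgroup.index_eq_one.mp h
    · exfalso
      have h2 := Subgroup.relIndex_mul_index (H := V) (K := V ⊔ Subgroup.zpowers t) le_sup_left
      rw [h, hidx] at h2
      have h3 : V.relIndex (V ⊔ Subgroup.zpowers t) = 1 :=
        Nat.eq_of_mul_eq_mul_right hq.pos (by rw [h2, one_mul])
      exact htV ((Subgroup.relIndex_eq_one.mp h3) (Subgroup.mem_sup_right (Subgroup.mem_zpowers t)))
  -- the image of φ is normal and contains all commutators
  have hKn : K.Normal := by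
    refine Subgroup.normalizer_eq_top_iff.mp (top_le_iff.mp (hgen ▸ sup_le ?_ ?_))
    · refine le_trans ?_ (Subgroup.centralizer_le_normalizer (K : Set G))
      exact (Subgroup.le_centralizer V).trans
        (Subgroup.centralizer_le (Subgroup.map_subtype_le φ.range))
    · rw [Subgroup.zpowers_le]
      apply Subgroup.mem_normalizer_fintype (S := (K : Set G))
      rintro _ ⟨_, ⟨v, rfl⟩, rfl⟩
      refine ⟨φ ⟨t * v * t⁻¹, hn v v.2⟩, ⟨_, rfl⟩, ?_⟩
      simp [φ, mul_assoc]
  haveI := hKn
  have hVK : V ≤ K := by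
    let f := QuotientGroup.mk' K
    have htop : ∀ H' : Subgroup (G ⧸ K), (∀ v ∈ V, f v ∈ H') → f t ∈ H' → ∀ g : G, f g ∈ H' := by
      intro H' h1 h2 g
      have : (⊤ : Subgroup G) ≤ H'.comap f := hgen ▸ sup_le h1 (Subgroup.zpowers_le.mpr h2)
      exact this (Subgroup.mem_top g)
    have hVt : ∀ v ∈ V, f t * f v = f v * f t := by
      intro v hv
      have hmem : t * v * t⁻¹ * v⁻¹ ∈ K := ⟨φ ⟨v, hv⟩, ⟨_, rfl⟩, rfl⟩
      have e : f (t * v * t⁻¹ * v⁻¹) = 1 := (QuotientGroup.eq_one_iff _).mpr hmem
      simp only [map_mul, map_inv] at e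
      exact mul_inv_eq_iff_eq_mul.mp (mul_inv_eq_one.mp e)
    have hVc : ∀ v ∈ V, ∀ g : G, f v * f g = f g * f v := by
      intro v hv g
      refine Subgroup.mem_centralizer_singleton_iff.mp (htop (Subgroup.centralizer {f v}) ?_ ?_ g) |>.symm
      · intro w hw
        rw [Subgroup.mem_centralizer_singleton_iff, ← map_mul, ← map_mul, setLike_mul_comm (s := V) hv hw]
      · exact Subgroup.mem_centralizer_singleton_iff.mpr (hVt v hv)
    have hall : ∀ g h : G, f g * f h = f h * f g := by
      intro g h
      refine Subgroup.mem_centralizer_singleton_iff.mp (htop (Subgroup.centralizer {f h}) ?_ ?_ g)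
      · exact fun v hv => Subgroup.mem_centralizer_singleton_iff.mpr (hVc v hv h)
      · refine Subgroup.mem_centralizer_singleton_iff.mpr (Eq.symm ?_)
        exact Subgroup.mem_centralizer_singleton_iff.mp (htop (Subgroup.centralizer {f t})
          (fun v hv => Subgroup.mem_centralizer_singleton_iff.mpr (hVt v hv).symm)
          (Subgroup.mem_centralizer_singleton_iff.mpr rfl) h)
    refine hder.ge.trans ?_
    rw [commutator_def, Subgroup.commutator_le]
    intro g _ h _
    rw [← QuotientGroup.eq_one_iff (N := K)]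
    show f ⁅g, h⁆ = 1
    rw [map_commutatorElement, commutatorElement_eq_one_iff_commute]
    exact hall g h
  have hsurj : Function.Surjective φ := by
    rintro ⟨v, hv⟩
    obtain ⟨w, ⟨u, hu⟩, hw⟩ := hVK hv
    exact ⟨u, by rw [hu]; exact Subtype.ext hw⟩
  have hz : φ ⟨z, hzV'⟩ = 1 := by
    ext; show t * z * t⁻¹ * z⁻¹ = 1
    rw [hzt]; group
  have h1 := Finite.injective_iff_surjective.mpr hsurj (hz.trans φ.map_one.symm)
  exact hz1 (Subtype.ext (show z = 1 from congrArg (fun v : V => (v : G)) h1))

end Cfsg.Agent.OddLocal.Coprime
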