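import Cfsg.Agent.OddLocal.GL2
import Cfsg.Agent.Techniques.Critical
import Cfsg.Agent.Lib.PGroups.AbelianNormal
import Cfsg.Agent.Lib.Coprime.PGroup
import Cfsg.Agent.S0096
import Cfsg.Agent.S0120
import Cfsg.Agent.S0121
import Cfsg.Agent.S4207
import Cfsg.Prelude.Def_OddOrderLocal

/-! Odd order automorphism groups of `p`-groups of `p`-rank at most two. -/

set_option autoImplicit false
set_option linter.unusedSectionVars false

namespace Cfsg.Agent.OddLocal.AutRankTwo

open Matrix
open scoped commutatorElement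

section GLTwo

variable {F : Type*} [Field F] {p : ℕ} [hp : Fact p.Prime] [CharP F p]

/-- The derived group of an odd order subgroup of `GL₂` consists of `p`-elements. -/
theorem pow_eq_one_of_mem_commutator (hp2 : p ≠ 2) {H : Type*} [Group H] [Finite H]
    (hodd : Odd (Nat.card H)) (φ : H →* GL (Fin 2) F) (hinj : Function.Injective φ) {c : H}
    (hc : c ∈ commutator H) : ∃ k : ℕ, c ^ p ^ k = 1 := by
  let ρ : H →* Matrix (Fin 2) (Fin 2) F := (Units.coeHom _).comp φ
  have hρ : Function.Injective ρ := Units.val_injective.comp hinj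
  let δ : H →* F := Matrix.detMonoidHom.comp ρ
  by_cases hpH : p ∣ Nat.card H
  · have e : H ≃ φ.range := (φ.ofInjective hinj).toEquiv
    have := Finite.of_equiv H e
    obtain ⟨v, hv, hev⟩ := GL2.exists_common_eigenvector hp2 φ.range
      (by rwa [← Nat.card_congr e]) (by rwa [← Nat.card_congr e])
    have hex : ∀ h : H, ∃ a : F, ρ h *ᵥ v = a • v := fun h => by
      obtain ⟨a, ha⟩ := Submodule.mem_span_singleton.mp (hev (φ h) ⟨h, rfl⟩)
      exact ⟨a, ha.symm⟩
    choose χ hχ using hex
    have huniq : ∀ {h : H} {a : F}, ρ h *ᵥ v = a • v → χ h = a := fun {h a} ha =>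
      smul_left_injective F hv ((hχ h).symm.trans ha)
    let Χ : H →* F :=
      { toFun := χ
        map_one' := huniq (by rw [map_one, one_mulVec, one_smul])
        map_mul' := fun a b => huniq (by
          rw [map_mul, ← mulVec_mulVec, hχ b, mulVec_smul, hχ a, smul_smul, mul_comm]) }
    let Φ : H →* (F × F)ˣ := (Χ.prod δ).toHomUnits
    have hc1 : Φ c = 1 := (Abelianization.commutator_subset_ker Φ hc : c ∈ Φ.ker)
    have hc2 : (χ c, δ c) = (1, 1) := congrArg Units.val hc1
    obtain ⟨hcv, hcd⟩ := Prod.mk.inj hc2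
    refine ⟨1, hρ ?_⟩
    rw [pow_one, map_one, map_pow]
    set M := ρ c with hM
    have hd : M.det = 1 := hcd
    have hMv : M *ᵥ v = v := by rw [hχ c, hcv, one_smul]
    have hdet0 : (M - 1).det = 0 := by
      rw [← exists_mulVec_eq_zero_iff]
      exact ⟨v, hv, by rw [sub_mulVec, hMv, one_mulVec, sub_self]⟩
    have hN : (M - 1) * (M - 1) = 0 := by
      rw [det_fin_two] at hd hdet0
      simp only [Matrix.sub_apply, Matrix.one_apply_eq, Matrix.one_apply_ne (by decide : (0 : Fin 2) ≠ 1),
        Matrix.one_apply_ne (by decide : (1 : Fin 2) ≠ 0), sub_zero] at hdet0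
      ext i j
      fin_cases i <;> fin_cases j <;> simp [Matrix.mul_apply, Fin.sum_univ_two]
      · linear_combination (-M 0 0) * hdet0 + (M 0 0) * hd - hd
      · linear_combination (-M 0 1) * hdet0 + (M 0 1) * hd
      · linear_combination (-M 1 0) * hdet0 + (M 1 0) * hd
      · linear_combination (-M 1 1) * hdet0 + (M 1 1) * hd - hd
    have hNp : (M - 1) ^ p = 0 := by
      rw [show p = 2 + (p - 2) by have := hp.out.two_le; omega, pow_add, pow_two, hN, Matrix.zero_mul]
    rwa [sub_pow_char_of_commute p (Commute.one_right M), one_pow, sub_eq_zero] at hNp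
  -- of order prime to `p`: the group is abelian
  refine ⟨0, ?_⟩
  have hcopH : ∀ h : H, (orderOf h).Coprime p := fun h =>
    Nat.Coprime.coprime_dvd_left (orderOf_dvd_natCard h) (hp.out.coprime_iff_not_dvd.mpr hpH).symm
  set K := δ.toHomUnits.ker with hK
  have hKdet : ∀ h ∈ K, (ρ h).det = 1 := fun h hh => congrArg Units.val hh
  have hcK : c ∈ K := Abelianization.commutator_subset_ker _ hc
  let ρK : K →* Matrix (Fin 2) (Fin 2) F := ρ.comp K.subtype
  have hρK : Function.Injective ρK := hρ.comp K.subtype_injective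
  have hKodd : Odd (Nat.card K) := hodd.of_dvd_nat K.card_subgroup_dvd_card
  have hKab : ∀ x y : K, x * y = y * x := by
    intro x y
    rw [← commutatorElement_eq_one_iff_mul_comm]
    by_contra hne
    obtain ⟨r, hr, hrd⟩ := Nat.exists_prime_and_dvd (fun h => hne (orderOf_eq_one_iff.mp h))
    have := Fact.mk hr
    have hrp : r ≠ p := by
      rintro rfl
      exact hpH (hrd.trans ((orderOf_dvd_natCard _).trans K.card_subgroup_dvd_card))
    obtain ⟨R⟩ : Nonempty (Sylow r K) := inferInstance
    have hN := GL2.normalizer_le_centralizer hp2 hKodd ρK hρK (fun h => hKdet h h.2) hrp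
      (R : Subgroup K) R.isPGroup'
    have hRab : IsMulCommutative (R : Subgroup K) :=
      ⟨⟨fun a b => Subtype.ext
        (Subgroup.mem_centralizer_iff.mp (hN (Subgroup.le_normalizer b.2)) a a.2)⟩⟩
    set f := MonoidHom.transferSylow R hN
    set w := ⁅x, y⁆ ^ (orderOf ⁅x, y⁆ / r) with hw
    have hwk : w ∈ f.ker := by
      rw [MonoidHom.mem_ker, hw, map_pow, map_commutatorElement]
      have : ⁅f x, f y⁆ = 1 := by
        rw [commutatorElement_eq_one_iff_mul_comm]; exact hRab.is_comm.comm _ _
      rw [this, one_pow]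
    have hwo : orderOf w = r := orderOf_pow_orderOf_div (orderOf_pos _).ne' hrd
    have hw1 : w = 1 := (Subgroup.disjoint_def.mp (MonoidHom.ker_transferSylow_disjoint R hN _
      (IsPGroup.of_card (n := 1) (by rw [Nat.card_zpowers, hwo, pow_one])))) hwk (Subgroup.mem_zpowers w)
    rw [hw1, orderOf_one] at hwo
    exact hr.ne_one hwo.symm
  have hcent : ∀ z ∈ K, ∀ n : H, n * z = z * n := fun z hz n =>
    GL2.conj_comm_eq hp2 hodd ρ hρ (hKdet z hz) (hcopH z) (congrArg Subtype.val
      (hKab ⟨n * z * n⁻¹, (inferInstance : K.Normal).conj_mem z hz n⟩ ⟨z, hz⟩))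
  rw [pow_zero, pow_one]
  by_contra hc1
  have hns : ¬ GL2.Classes.IsScalar (ρ c) := by
    rintro ⟨s, hs⟩
    have h1 : s ^ 2 = 1 := by
      have := hKdet c hcK
      rwa [hs, det_smul, det_one, Fintype.card_fin, mul_one] at this
    have h2 : c ^ 2 = 1 := hρ (by rw [map_pow, map_one, hs, smul_pow, one_pow, h1, one_smul])
    have hcop2 : (orderOf c).Coprime 2 :=
      Nat.coprime_two_right.mpr (hodd.of_dvd_nat (orderOf_dvd_natCard c))
    exact hc1 (orderOf_eq_one_iff.mp (hcop2.eq_one_of_dvd (orderOf_dvd_of_pow_eq_one h2)))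
  have hab : ∀ a b : H, a * b = b * a := fun a b => hρ (by
    rw [map_mul, map_mul]
    exact GL2.commute_of_commute hns (by rw [← map_mul, hcent c hcK a, map_mul])
      (by rw [← map_mul, hcent c hcK b, map_mul]))
  refine hc1 ?_
  have : commutator H = ⊥ := by
    rw [eq_bot_iff, _root_.commutator_def, Subgroup.commutator_le]
    exact fun a _ b _ => Subgroup.mem_bot.mpr (commutatorElement_eq_one_iff_mul_comm.mpr (hab a b))
  exact Subgroup.mem_bot.mp (this ▸ hc)

end GLTwo

variable {p : ℕ} [hp : Fact p.Prime]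

/-- Odd order automorphism groups of elementary abelian groups of order dividing `p²`. -/
theorem elementary_aut (hp2 : p ≠ 2) {V : Type*} [CommGroup V] [Finite V]
    (hexp : ∀ v : V, v ^ p = 1) (hcard : Nat.card V ∣ p ^ 2) {B : Type*} [Group B] [Finite B]
    (hodd : Odd (Nat.card B)) (φ : B →* MulAut V) :
    (∀ c ∈ commutator B, ∃ k : ℕ, φ c ^ p ^ k = 1) ∧
      ∀ q : ℕ, q.Prime → q ∣ Nat.card φ.range → q ≠ p → q ∣ p - 1 ∨ q ∣ p + 1 := by
  obtain ⟨j, hj2, hj⟩ := (Nat.dvd_prime_pow hp.out).mp hcard
  rcases Nat.lt_or_ge j 2 with hj1 | hj1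
  · -- cyclic
    have : IsCyclic V := by
      interval_cases j
      · have : Subsingleton V := (Nat.card_eq_one_iff_unique.mp (by simpa using hj)).1
        infer_instance
      · exact isCyclic_of_prime_card (hp := hp) (by simpa using hj)
    let e := IsCyclic.mulAutMulEquiv V
    constructor
    · intro c hc
      refine ⟨0, ?_⟩
      have h1 : e.toMonoidHom (φ c) = 1 :=
        (Abelianization.commutator_subset_ker (e.toMonoidHom.comp φ) hc :
          c ∈ (e.toMonoidHom.comp φ).ker)
      rw [pow_zero, pow_one]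
      exact e.injective (h1.trans (map_one e).symm)
    · intro q hq hd hqp
      have h1 : q ∣ (Nat.card V).totient := by
        have h2 := hd.trans (Subgroup.card_subgroup_dvd_card φ.range)
        rwa [Nat.card_congr e.toEquiv, Nat.card_eq_fintype_card, ZMod.card_units_eq_totient] at h2
      interval_cases j
      · rw [hj, pow_zero, Nat.totient_one] at h1
        exact absurd h1 hq.not_dvd_one
      · rw [hj, pow_one, Nat.totient_prime hp.out] at h1
        exact Or.inl h1
  have hj' : j = 2 := by omega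
  subst hj'
  have hexp' : ∀ x : Additive V, p • x = 0 := fun x => by
    apply Additive.toMul.injective
    rw [toMul_nsmul]
    exact hexp _
  have : Module (ZMod p) (Additive V) := AddCommGroup.zmodModule hexp'
  haveI : Module.Finite (ZMod p) (Additive V) := Module.Finite.of_finite
  have hfin : Module.finrank (ZMod p) (Additive V) = 2 := by
    let b₀ := Module.finBasis (ZMod p) (Additive V)
    have h : Nat.card (Additive V) = Nat.card (ZMod p) ^ Module.finrank (ZMod p) (Additive V) := by
      rw [Nat.card_congr b₀.equivFun.toEquiv, Nat.card_fun, Nat.card_fin]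
    rw [Nat.card_zmod, Nat.card_congr Additive.toMul, hj] at h
    exact (Nat.pow_right_injective hp.out.two_le h).symm
  let b : Module.Basis (Fin 2) (ZMod p) (Additive V) :=
    Module.finBasisOfFinrankEq (ZMod p) (Additive V) hfin
  let L : MulAut V →* Module.End (ZMod p) (Additive V) :=
    { toFun := fun a => AddMonoidHom.toZModLinearMap p a.toMonoidHom.toAdditive
      map_one' := LinearMap.ext fun x => by
        simp only [AddMonoidHom.coe_toZModLinearMap, Module.End.one_apply]
        show Additive.ofMul ((1 : MulAut V) x.toMul) = x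
        simp
      map_mul' := fun a a' => LinearMap.ext fun x => by
        simp only [AddMonoidHom.coe_toZModLinearMap, Module.End.mul_apply]
        rfl }
  let ψ : MulAut V →* GL (Fin 2) (ZMod p) :=
    (((LinearMap.toMatrixAlgEquiv b).toAlgHom.toRingHom.toMonoidHom).comp L).toHomUnits
  have hψ : Function.Injective ψ := by
    intro a a' h
    have h1 : (LinearMap.toMatrixAlgEquiv b) (L a) = (LinearMap.toMatrixAlgEquiv b) (L a') :=
      congrArg Units.val h
    have h2 := (LinearMap.toMatrixAlgEquiv b).injective h1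
    exact MulEquiv.ext fun v =>
      Additive.ofMul.injective (congrArg (fun f : Module.End (ZMod p) (Additive V) => f (Additive.ofMul v)) h2)
  constructor
  · intro c hc
    have hc' : φ.rangeRestrict c ∈ commutator φ.range := by
      have h1 : (commutator B).map φ.rangeRestrict ≤ commutator φ.range := by
        rw [_root_.commutator_def, Subgroup.map_commutator, _root_.commutator_def]
        exact Subgroup.commutator_mono le_top le_top
      exact h1 ⟨c, hc, rfl⟩
    obtain ⟨k, hk⟩ := pow_eq_one_of_mem_commutator hp2 (hodd.of_dvd_nat (Subgroup.card_range_dvd φ))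
      (ψ.comp φ.range.subtype) (hψ.comp φ.range.subtype_injective) hc'
    exact ⟨k, congrArg Subtype.val hk⟩
  · intro q hq hd hqp
    have h1 : q ∣ Nat.card (GL (Fin 2) (ZMod p)) :=
      hd.trans ((Subgroup.card_subgroup_dvd_card φ.range).trans
        (Subgroup.card_dvd_of_injective ψ hψ))
    rw [Matrix.card_GL_field, Fin.prod_univ_two] at h1
    simp only [Fintype.card_eq_nat_card, Nat.card_zmod, Fin.val_zero, Fin.val_one, pow_zero, pow_one] at h1
    have e1 : p ^ 2 - 1 = (p + 1) * (p - 1) := by
      rw [← Nat.sq_sub_sq, one_pow]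
    have e2 : p ^ 2 - p = p * (p - 1) := by rw [Nat.mul_sub, mul_one, pow_two]
    rw [e1, e2] at h1
    rcases hq.dvd_mul.mp h1 with h | h <;> rcases hq.dvd_mul.mp h with h' | h'
    · exact Or.inr h'
    · exact Or.inl h'
    · exact absurd ((Nat.prime_dvd_prime_iff_eq hq hp.out).mp h') hqp
    · exact Or.inl h'

variable {R : Type*} [Group R] [Finite R]

/-- A `p`-group of exponent `p` and rank at most two has order at most `p³`. -/
theorem card_le_cube (hexp : ∀ x : R, x ^ p = 1) (hr : Cfsg.PRankLE p 2 R) :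
    Nat.card R ≤ p ^ 3 := by
  have hR : IsPGroup p R := fun x => ⟨1, by rw [pow_one]; exact hexp x⟩
  obtain ⟨A, -, hA⟩ := (Set.toFinite {A : Subgroup R | A.Normal ∧ IsMulCommutative A}).exists_le_maximal
    (show (⊥ : Subgroup R) ∈ _ from ⟨inferInstance, inferInstance⟩)
  obtain ⟨hAn, hAc⟩ := hA.1
  have hC := PGroups.AbelianNormal.centralizer_eq_self hR A
    (fun B hB hB' hAB => le_antisymm (hA.2 ⟨hB, hB'⟩ hAB) hAB)
  obtain ⟨a, ha⟩ := (hR.to_subgroup A).exists_card_eq
  have ha2 : a ≤ 2 := (Nat.pow_le_pow_iff_right hp.out.one_lt).mp (ha ▸ hr A hAc (fun x _ => hexp x))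
  have h := PGroups.AbelianNormal.index_centralizer_le hR A ha
  rw [hC] at h
  calc Nat.card R = Nat.card A * A.index := (A.card_mul_index).symm
    _ ≤ p ^ a * p ^ a.choose 2 := by rw [ha]; exact Nat.mul_le_mul le_rfl h
    _ ≤ p ^ 3 := by
      rw [← pow_add]
      refine Nat.pow_le_pow_right hp.out.pos ?_
      interval_cases a <;> simp [Nat.choose_two_right]

/-- A small characteristic subgroup detecting automorphisms of order prime to `p`. -/
theorem exists_char_small (hp2 : p ≠ 2) (hR : IsPGroup p R) (hr : Cfsg.PRankLE p 2 R) :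
    ∃ (C : Subgroup R), C.Characteristic ∧ (∀ x ∈ C, x ^ p = 1) ∧ (frattini C).index ∣ p ^ 2 ∧
      ∀ a : MulAut R, (orderOf a).Coprime p →
        (∀ x : C, ∀ h : a x ∈ C, (⟨a x, h⟩ : C) * x⁻¹ ∈ frattini C) → a = 1 := by
  obtain ⟨H, hH, h1, h2, h3⟩ := Techniques.Critical.exists_critical hR
  have hcl : ⁅commutator H, (⊤ : Subgroup H)⁆ = ⊥ := by
    rw [Subgroup.commutator_eq_bot_iff_le_centralizer]
    intro u hu
    have hu' : (u : R) ∈ H ⊓ Subgroup.centralizer (H : Set R) := by
      refine h2 ?_
      have h4 : (commutator H).map H.subtype ≤ ⁅H, (⊤ : Subgroup R)⁆ := by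
        rw [Subgroup.map_subtype_commutator]
        exact Subgroup.commutator_mono le_rfl le_top
      exact h4 ⟨u, hu, rfl⟩
    exact fun y _ => Subtype.ext (hu'.2 _ y.2)
  set W := Subgroup.closure {x : H | x ^ p = 1} with hW
  have hWexp : ∀ x ∈ W, x ^ p = 1 := S0096.result hp2 (hR.to_subgroup H) hcl
  set C := W.map H.subtype with hC
  have hCH : C ≤ H := Subgroup.map_subtype_le _
  have hCexp : ∀ x ∈ C, x ^ p = 1 := by
    rintro _ ⟨x, hx, rfl⟩
    exact congrArg Subtype.val (hWexp x hx)
  have hmem : ∀ {x : R}, x ∈ H → x ^ p = 1 → x ∈ C := fun {x} hx hxp =>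
    ⟨⟨x, hx⟩, Subgroup.subset_closure (Subtype.ext hxp), rfl⟩
  have hinvH : ∀ (f : R ≃* R) (x : R), x ∈ H → f x ∈ H := fun f x hx =>
    Subgroup.characteristic_iff_map_le.mp hH f ⟨x, hx, rfl⟩
  have hCchar : C.Characteristic := Subgroup.characteristic_iff_map_le.mpr fun f => by
    rintro _ ⟨x, hx, rfl⟩
    exact hmem (hinvH f x (hCH hx)) (by show f x ^ p = 1; rw [← map_pow, hCexp x hx, map_one])
  refine ⟨C, hCchar, hCexp, ?_, fun a ha hfix => ?_⟩
  · have hCe : ∀ x : C, x ^ p = 1 := fun x => Subtype.ext (hCexp x x.2)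
    have hle := card_le_cube hCe (fun A hA hA' => by
      rw [← Subgroup.card_subtype C A]
      refine hr _ (Subgroup.map_isMulCommutative A C.subtype) ?_
      rintro _ ⟨y, hy, rfl⟩
      exact congrArg Subtype.val (hA' y hy))
    have hCp : IsPGroup p C := hR.to_subgroup C
    obtain ⟨n, hn⟩ := hCp.exists_card_eq
    have hn3 : n ≤ 3 := (Nat.pow_le_pow_iff_right hp.out.one_lt).mp (hn ▸ hle)
    obtain ⟨i, hi, hie⟩ := (Nat.dvd_prime_pow hp.out).mp (hn ▸ (frattini C).index_dvd_card)
    rcases Nat.lt_or_ge i 3 with h | h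
    · exact hie ▸ Nat.pow_dvd_pow p (by omega)
    exfalso
    have hbot : frattini C = ⊥ := by
      refine Subgroup.eq_bot_of_card_eq _ ?_
      have := (frattini C).card_mul_index
      rw [hn, hie, show n = i by omega] at this
      exact (Nat.mul_eq_right (pow_ne_zero i hp.out.ne_zero)).mp this
    have := hCp.isNilpotent
    have hcomm : IsMulCommutative C := ⟨⟨fun x y => commutatorElement_eq_one_iff_mul_comm.mp
      (Subgroup.mem_bot.mp (hbot ▸ Coprime.commutator_le_frattini C
        (Subgroup.commutator_mem_commutator (Subgroup.mem_top x) (Subgroup.mem_top y))))⟩⟩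
    have h4 := hr C hcomm hCexp
    rw [hn, Nat.pow_le_pow_iff_right hp.out.one_lt] at h4
    omega
  · have hCinv : ∀ (b : MulAut R) (x : R), x ∈ C → b x ∈ C := fun b x hx =>
      Subgroup.characteristic_iff_map_le.mp hCchar b ⟨x, hx, rfl⟩
    -- restrict to `C`
    let res : Subgroup.zpowers a →* MulAut C :=
      { toFun := fun b =>
          { toFun := fun x => ⟨(b : MulAut R) x, hCinv b x x.2⟩
            invFun := fun x => ⟨((b : MulAut R)⁻¹) x, hCinv _ x x.2⟩
            left_inv := fun x => Subtype.ext (MulEquiv.symm_apply_apply _ _)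
            right_inv := fun x => Subtype.ext (MulEquiv.apply_symm_apply _ _)
            map_mul' := fun x y => Subtype.ext (map_mul (b : MulAut R) _ _) }
        map_one' := rfl
        map_mul' := fun _ _ => rfl }
    set ga : Subgroup.zpowers a := ⟨a, Subgroup.mem_zpowers a⟩
    have hAtriv : ∀ α ∈ res.range, ∀ x : C, α x * x⁻¹ ∈ frattini C := by
      let q := QuotientGroup.mk' (frattini C)
      let S : Subgroup (MulAut C) :=
        { carrier := {α | ∀ x, q (α x) = q x}
          one_mem' := fun _ => rfl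
          mul_mem' := fun {α β} hα hβ x => (hα (β x)).trans (hβ x)
          inv_mem' := fun {α} hα x => by
            have h := hα (α⁻¹ x)
            rw [show α (α⁻¹ x) = x from MulEquiv.apply_symm_apply α x] at h
            exact h.symm }
      have hS : res.range ≤ S := by
        rintro _ ⟨⟨b, m, rfl⟩, rfl⟩
        have e : (⟨a ^ m, m, rfl⟩ : Subgroup.zpowers a) = ga ^ m := Subtype.ext rfl
        rw [e, map_zpow]
        refine zpow_mem (show res ga ∈ S from fun x => ?_) m
        refine (mul_inv_eq_one.mp ?_)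
        rw [← map_inv, ← map_mul]
        exact (QuotientGroup.eq_one_iff _).mpr (hfix x (hCinv a x x.2))
      intro α hα x
      refine (QuotientGroup.eq_one_iff _).mp ?_
      show q (α x * x⁻¹) = 1
      rw [map_mul, map_inv, hS hα x, mul_inv_cancel]
    obtain ⟨n, hn⟩ := (hR.to_subgroup C).exists_card_eq
    obtain ⟨i, -, hie⟩ := (Nat.dvd_prime_pow hp.out).mp (hn ▸ (frattini C).index_dvd_card)
    have hd := S4207.result hn hie res.range hAtriv
    have hbot : res.range = ⊥ := Subgroup.eq_bot_of_card_eq _ (Nat.eq_one_of_dvd_coprimes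
      (ha.pow_right (i * (n - i)))
      ((Subgroup.card_range_dvd res).trans (by rw [Nat.card_zpowers])) hd)
    have hfixC : ∀ x ∈ C, a x = x := fun x hx => by
      have h1 : res ga = 1 := Subgroup.mem_bot.mp (hbot ▸ ⟨ga, rfl⟩)
      exact congrArg Subtype.val (DFunLike.congr_fun h1 ⟨x, hx⟩)
    refine S0121.result hR H hH h1 h2 h3 a ha fun x hx => ?_
    -- restrict to `H`
    let aH : MulAut H :=
      { toFun := fun y => ⟨a y, hinvH a y y.2⟩
        invFun := fun y => ⟨a.symm y, hinvH a.symm y y.2⟩
        left_inv := fun y => Subtype.ext (a.symm_apply_apply _)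
        right_inv := fun y => Subtype.ext (a.apply_symm_apply _)
        map_mul' := fun y z => Subtype.ext (map_mul a _ _) }
    have hpow : ∀ (m : ℕ) (y : H), ((aH ^ m) y : R) = (a ^ m) (y : R) := by
      intro m
      induction m with
      | zero => intro y; rfl
      | succ m ih =>
        intro y
        rw [pow_succ', pow_succ', MulAut.mul_apply, MulAut.mul_apply, ← ih y]
        rfl
    have haH : (orderOf aH).Coprime p := Nat.Coprime.coprime_dvd_left (orderOf_dvd_of_pow_eq_one
      (MulEquiv.ext fun y => Subtype.ext (by rw [hpow, pow_orderOf_eq_one]; rfl))) ha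
    have hone : aH = 1 := S0120.result hp2 (hR.to_subgroup H) aH haH fun y hy =>
      Subtype.ext (hfixC y (hmem y.2 (congrArg Subtype.val hy)))
    exact congrArg Subtype.val (DFunLike.congr_fun hone ⟨x, hx⟩)

/-- Odd order groups acting on a `p`-group of rank at most two: the derived group acts as a `p`-group
and the primes other than `p` of the induced group divide `p ± 1`. -/
theorem aut_rankTwo (hp2 : p ≠ 2) (hR : IsPGroup p R) (hr : Cfsg.PRankLE p 2 R) {A : Type*} [Group A]
    [Finite A] (hodd : Odd (Nat.card A)) (φ : A →* MulAut R) :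
    (∀ c ∈ commutator A, ∃ k : ℕ, φ c ^ p ^ k = 1) ∧
      ∀ q : ℕ, q.Prime → q ∣ Nat.card φ.range → q ≠ p → q ∣ p - 1 ∨ q ∣ p + 1 := by
  obtain ⟨C, hC, hCexp, hidx, hdet⟩ := exists_char_small hp2 hR hr
  have := (hR.to_subgroup C).isNilpotent
  have hcf := Coprime.commutator_le_frattini C
  letI : CommGroup (C ⧸ frattini C) :=
    { (inferInstance : Group (C ⧸ frattini C)) with
      mul_comm := fun x y => by
        obtain ⟨x, rfl⟩ := QuotientGroup.mk'_surjective _ x
        obtain ⟨y, rfl⟩ := QuotientGroup.mk'_surjective _ y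
        rw [← commutatorElement_eq_one_iff_mul_comm, ← map_commutatorElement]
        exact (QuotientGroup.eq_one_iff _).mpr
          (hcf (Subgroup.commutator_mem_commutator (Subgroup.mem_top x) (Subgroup.mem_top y))) }
  have hVexp : ∀ v : C ⧸ frattini C, v ^ p = 1 := fun v => by
    obtain ⟨x, rfl⟩ := QuotientGroup.mk'_surjective _ v
    rw [← map_pow, show x ^ p = 1 from Subtype.ext (hCexp x x.2), map_one]
  have hinv : ∀ (b : MulAut R) (x : R), x ∈ C → b x ∈ C := fun b x hx =>
    Subgroup.characteristic_iff_map_le.mp hC b ⟨x, hx, rfl⟩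
  let res : A →* MulAut C :=
    { toFun := fun b =>
        { toFun := fun x => ⟨φ b x, hinv _ x x.2⟩
          invFun := fun x => ⟨(φ b)⁻¹ x, hinv _ x x.2⟩
          left_inv := fun x => Subtype.ext (MulEquiv.symm_apply_apply _ _)
          right_inv := fun x => Subtype.ext (MulEquiv.apply_symm_apply _ _)
          map_mul' := fun x y => Subtype.ext (map_mul (φ b) _ _) }
      map_one' := MulEquiv.ext fun x => Subtype.ext (by simp)
      map_mul' := fun b b' => MulEquiv.ext fun x => Subtype.ext (by simp) }
  have hfr : ∀ b : MulAut C, (frattini C).map b.toMonoidHom = frattini C := fun b =>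
    Subgroup.characteristic_iff_map_eq.mp inferInstance b
  let quo : MulAut C →* MulAut (C ⧸ frattini C) :=
    { toFun := fun b => QuotientGroup.congr (frattini C) (frattini C) b (hfr b)
      map_one' := MulEquiv.ext fun x => by
        obtain ⟨x, rfl⟩ := QuotientGroup.mk'_surjective _ x
        rfl
      map_mul' := fun b b' => MulEquiv.ext fun x => by
        obtain ⟨x, rfl⟩ := QuotientGroup.mk'_surjective _ x
        rfl }
  obtain ⟨hA1, hA2⟩ := elementary_aut hp2 hVexp hidx hodd (quo.comp res)
  have hker : ∀ b : A, quo (res b) = 1 → (orderOf (φ b)).Coprime p → φ b = 1 := by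
    intro b hb hcop
    refine hdet _ hcop fun x hx => ?_
    refine (QuotientGroup.eq_one_iff _).mp ?_
    have h := DFunLike.congr_fun hb (QuotientGroup.mk x)
    show QuotientGroup.mk' (frattini C) ((res b x : C) * x⁻¹) = 1
    rw [map_mul, map_inv, show QuotientGroup.mk' (frattini C) (res b x) = QuotientGroup.mk x from h,
      QuotientGroup.mk'_apply, mul_inv_cancel]
  constructor
  · intro c hc
    obtain ⟨k, hk⟩ := hA1 c hc
    set o := orderOf (φ c) with ho
    refine ⟨k + o.factorization p, ?_⟩
    have h1 : φ (c ^ p ^ (k + o.factorization p)) = 1 := by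
      refine hker _ ?_ ?_
      · rw [pow_add, pow_mul, map_pow, map_pow]
        rw [show quo (res (c ^ p ^ k)) = 1 by rw [map_pow, map_pow]; exact hk, one_pow]
      · rw [map_pow, orderOf_pow' _ (pow_ne_zero _ hp.out.ne_zero), ← ho]
        refine Nat.Coprime.coprime_dvd_left ?_ (Nat.coprime_ordCompl hp.out (orderOf_pos (φ c)).ne').symm
        refine Nat.div_dvd_div_left (Nat.gcd_dvd_left _ _) (Nat.dvd_gcd (Nat.ordProj_dvd o p) ?_)
        exact pow_dvd_pow p (Nat.le_add_left _ _)
    rwa [map_pow] at h1
  · intro q hq hd hqp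
    have := Fact.mk hq
    refine hA2 q hq ?_ hqp
    by_contra hnd
    obtain ⟨⟨y, hy⟩, hbo⟩ := exists_prime_orderOf_dvd_card' (G := φ.range) q hd
    rw [Subgroup.orderOf_mk] at hbo
    obtain ⟨b, rfl⟩ := MonoidHom.mem_range.mp hy
    set o := orderOf (quo (res b))
    have hoq : ¬ q ∣ o := fun h => hnd (h.trans (by
      have h2 : quo (res b) ∈ (quo.comp res).range := ⟨b, rfl⟩
      exact Subgroup.orderOf_dvd_natCard _ h2))
    have h1 : φ (b ^ o) = 1 := by
      refine hker _ ?_ ?_
      · rw [map_pow, map_pow]; exact pow_orderOf_eq_one _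
      · rw [map_pow]
        exact Nat.Coprime.coprime_dvd_left (hbo ▸ orderOf_pow_dvd o)
          ((Nat.coprime_primes hq hp.out).mpr hqp)
    rw [map_pow] at h1
    exact hoq (hbo ▸ orderOf_dvd_of_pow_eq_one h1)

end Cfsg.Agent.OddLocal.AutRankTwo
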