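import Cfsg.Agent.OddLocal.UniqueBasic
import Cfsg.Agent.S1460
import Cfsg.Agent.S1962

/-! A maximal subgroup whose derived group contains a Sylow `p`-subgroup. -/

set_option autoImplicit false
set_option linter.unusedSectionVars false

namespace Cfsg.Agent.OddLocal.Unique

open Cfsg Subgroup Cfsg.Agent.OddLocal.Bender Cfsg.Agent.OddLocal.Puig
open Cfsg.Agent.OddLocal.Uniqueness (puigCenter puigCenter_le puigCenter_ne_bot normalizer_le_puigCenter)

variable {G : Type*} [Group G] [Finite G] {p : ℕ} [hp : Fact p.Prime]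

/-- `H ∩ X' = H ∩ U'` if `X = KU` with `K` normal and `H ≤ U` of coprime order. -/
theorem inf_commutator_of_sup {X K U H : Subgroup G} (hX : Group.IsSolvable X) (hKX : K ≤ X)
    (hXK : X ≤ normalizer (K : Set G)) (hU : U ≤ X) (hXle : X ≤ K ⊔ U) (hH : H ≤ U)
    (hcop : (Nat.card H).Coprime (Nat.card K)) : H ⊓ ⁅X, X⁆ = H ⊓ ⁅U, U⁆ := by
  have hn : (K.subgroupOf X).Normal := (normal_subgroupOf_iff_le_normalizer hKX).mpr hXK
  have hsup : K.subgroupOf X ⊔ U.subgroupOf X = ⊤ := by
    rw [← subgroupOf_sup hKX hU, subgroupOf_eq_top]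
    exact hXle
  have h := (S1460.result (K.subgroupOf X) (U.subgroupOf X) (H.subgroupOf X) hsup (fun x hx => hH hx)
    (by rwa [Nat.card_congr (subgroupOfEquivOfLe (hH.trans hU)).toEquiv,
      Nat.card_congr (subgroupOfEquivOfLe hKX).toEquiv])).1
  have h1 := congrArg (Subgroup.map X.subtype) h
  rw [Subgroup.map_inf _ _ _ X.subtype_injective, Subgroup.map_inf _ _ _ X.subtype_injective,
    map_subgroupOf_eq_of_le (hH.trans hU), map_subtype_commutator, Subgroup.map_commutator,
    map_subgroupOf_eq_of_le hU] at h1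
  exact h1

theorem sylow_ne_top (hG : IsMinSimpleOddOrder G) (P : Sylow p G) : (P : Subgroup G) ≠ ⊤ := by
  intro h
  have := hG.2.1
  have hGp : IsPGroup p G := fun g => by
    obtain ⟨k, hk⟩ := P.isPGroup' ⟨g, h ▸ mem_top g⟩
    exact ⟨k, congrArg Subtype.val hk⟩
  have : Nontrivial G := IsSimpleGroup.toNontrivial
  rcases (inferInstance : (center G).Normal).eq_bot_or_eq_top with h0 | h0
  · exact (nontrivial_iff_ne_bot _).mp hGp.center_nontrivial h0
  · exact hG.2.2.1 ⟨⟨fun a b => mem_center_iff.mp (h0 ▸ mem_top b) a⟩⟩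

theorem commutator_top (hG : IsMinSimpleOddOrder G) : ⁅(⊤ : Subgroup G), (⊤ : Subgroup G)⁆ = ⊤ := by
  have := hG.2.1
  rcases (inferInstance : (⁅(⊤ : Subgroup G), (⊤ : Subgroup G)⁆).Normal).eq_bot_or_eq_top with h | h
  · exact absurd ⟨⟨fun a b => (commutatorElement_eq_one_iff_mul_comm.mp
      (mem_bot.mp (h ▸ commutator_mem_commutator (mem_top a) (mem_top b))))⟩⟩ hG.2.2.1
  · exact h

theorem puigCenter_map {f : G →* G} (hf : Function.Injective f) (T : Subgroup G) :
    puigCenter (T.map f) = (puigCenter T).map f := by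
  rw [puigCenter, puigCenter, CharP.map_centre_inf hf, upOf_map hf.injOn]

theorem isConjugacyFunctor_puigCenter :
    IsConjugacyFunctor p (puigCenter : Subgroup G → Subgroup G) := fun T hT =>
  ⟨puigCenter_le T, fun h => puigCenter_ne_bot hT h, fun g => puigCenter_map (MulAut.conj g).injective T⟩

/-- Some maximal subgroup contains `P` in its derived group. -/
theorem exists_derived_max (hG : IsMinSimpleOddOrder G) (P : Sylow p G) (hp2 : p ≠ 2)
    (hP1 : (P : Subgroup G) ≠ ⊥) :
    ∃ M : Subgroup G, IsCoatom M ∧ (P : Subgroup G) ≤ ⁅M, M⁆ := by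
  obtain ⟨T, -, hTp, hTd, hT⟩ := S1962.result P puigCenter isConjugacyFunctor_puigCenter
    (fun V hV0 hV => by
      set N := normalizer (V : Set G) with hN
      have hNtop : N ≠ ⊤ := Transitivity.normalizer_ne_top hG hV0
        fun e => sylow_ne_top hG P (top_le_iff.mp (e ▸ hV.1))
      have hd : ¬ p ∣ ((P : Subgroup G) ⊓ N).relIndex N := hV.2 0
      have hS0 : IsPGroup p ((P : Subgroup G) ⊓ N : Subgroup G) := P.isPGroup'.to_le inf_le_left
      refine ⟨(P : Subgroup G) ⊓ N, inf_le_right, hS0, hd, ?_⟩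
      have hS : IsPGroup p (((P : Subgroup G) ⊓ N).subgroupOf N) := hS0.comap_subtype
      obtain ⟨S, hS'⟩ : ∃ S : Sylow p N, (S : Subgroup N) = ((P : Subgroup G) ⊓ N).subgroupOf N :=
        ⟨hS.toSylow hd, rfl⟩
      have hNs := Transitivity.isSolvable_of_ne_top hG hNtop
      have hdec := le_primeCore_sup_puigCenter hNs (hG.1.of_dvd_nat (card_subgroup_dvd_card N)) hp2 S
      rw [hS', map_subgroupOf_eq_of_le inf_le_right] at hdec
      refine inf_commutator_of_sup hNs (primeCore_le N) (le_normalizer_primeCore N) inf_le_left hdec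
        (le_inf inf_le_right (le_normalizer.trans (normalizer_le_puigCenter _))) ?_
      obtain ⟨k, hk⟩ := hS0.exists_card_eq
      exact hk ▸ ((primeCore_coprime N).symm.pow_left k))
  rw [commutator_top hG, inf_top_eq, top_inf_eq] at hT
  have hTd' : ¬ p ∣ T.index := by rwa [relIndex_top_right] at hTd
  obtain ⟨g, hg⟩ := MulAction.exists_smul_eq G (hTp.toSylow hTd') P
  have hPg : (P : Subgroup G) = T.map (MulAut.conj g).toMonoidHom := by rw [← hg]; rfl
  have hW : normalizer (puigCenter T : Set G) ≠ ⊤ := by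
    have hT0 : T ≠ ⊥ := fun h => hP1 (by rw [hPg, h, Subgroup.map_bot])
    refine Transitivity.normalizer_ne_top hG (puigCenter_ne_bot hTp hT0) fun e => sylow_ne_top hG (hTp.toSylow hTd')
      (top_le_iff.mp (e ▸ puigCenter_le T))
  obtain ⟨M, hM, hNM⟩ := (eq_top_or_exists_le_coatom _).resolve_left hW
  refine ⟨M.map (MulAut.conj g).toMonoidHom, isCoatom_map_conj hM g, ?_⟩
  rw [hPg, ← Subgroup.map_commutator]
  exact map_mono (((inf_eq_left.mp hT.symm : T ≤ _)).trans (commutator_mono hNM hNM))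

end Cfsg.Agent.OddLocal.Unique
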