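import Cfsg.Agent.OddLocal.UniqueTheorem
import Cfsg.Agent.OddLocal.UniqueFocal
import Cfsg.Agent.Lib.Cores.Fitting

/-! Fusion in a maximal subgroup at the primes of `σ(M)`, and the cores `M_α`, `M_σ`. -/

set_option autoImplicit false
set_option linter.unusedSectionVars false

namespace Cfsg.Agent.OddLocal.Sigma

open Cfsg Subgroup Cfsg.Agent.OddLocal.Unique Cfsg.Agent.OddLocal.Bender
open Cfsg.Agent.Transfer.Fusion (map_conj_mul map_conj_one card_map_conj map_conj_eq_self_iff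
  mem_map_conj conj_mem_map_conj map_conj_le_iff exists_conj_le_of_isPGroup exists_conj_eq_of_le)
open scoped commutatorElement

variable {G : Type*} [Group G] [Finite G] {p : ℕ} [hp : Fact p.Prime] {M : Subgroup G}

theorem card_lt_of_lt {A B : Subgroup G} (h : A < B) : Nat.card A < Nat.card B :=
  lt_of_le_of_ne (Nat.le_of_dvd Nat.card_pos (card_dvd_of_le h.le))
    fun e => h.ne (eq_of_le_of_card_ge h.le e.ge)

/-- A `p`-subgroup of `L` containing a Sylow `p`-subgroup of `L` is equal to it. -/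
theorem sylow_map_eq {L B : Subgroup G} (S : Sylow p L) (hBL : B ≤ L) (hB : IsPGroup p B)
    (hle : (S : Subgroup L).map L.subtype ≤ B) : (S : Subgroup L).map L.subtype = B := by
  have h := S.3 (hB.comap_subtype (K := L)) fun x hx => hle ⟨x, hx, rfl⟩
  rw [← h, ← subgroupOf, map_subgroupOf_eq_of_le hBL]

theorem exists_sylow_normalizer_le (h : p ∈ sigma M) :
    ∃ S : Sylow p G, (S : Subgroup G) ≤ M ∧ normalizer ((S : Subgroup G) : Set G) ≤ M := by
  obtain ⟨-, -, P, hN⟩ := h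
  obtain ⟨S, hS⟩ := (P.isPGroup'.map M.subtype).exists_le_sylow
  rcases hS.eq_or_lt with he | hlt
  · exact ⟨S, he ▸ map_subtype_le _, he ▸ hN⟩
  · have h1 := Uniqueness.lt_inf_normalizer S.isPGroup' hlt
    exact absurd (sylow_map_eq P (inf_le_right.trans hN) (S.isPGroup'.to_le inf_le_left) h1.le) h1.ne

theorem sylow_normalizer_le (h : p ∈ sigma M) (S : Sylow p G) (hS : (S : Subgroup G) ≤ M) :
    normalizer ((S : Subgroup G) : Set G) ≤ M := by
  obtain ⟨S₀, hS₀, hN⟩ := exists_sylow_normalizer_le h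
  obtain ⟨k, hk, e⟩ := exists_conj_eq_of_le hS hS₀
  intro n hn
  have h1 : k * n * k⁻¹ ∈ normalizer ((S₀ : Subgroup G) : Set G) := by
    rw [← map_conj_eq_self_iff, ← e, ← map_conj_mul, inv_mul_cancel_right, map_conj_mul,
      map_conj_eq_self_iff.mpr hn]
  simpa [mul_assoc] using mul_mem (mul_mem (inv_mem hk) (hN h1)) hk

theorem exists_sylow_ge (h : p ∈ sigma M) {X : Subgroup G} (hX : IsPGroup p X) (hXM : X ≤ M) :
    ∃ S : Sylow p G, X ≤ (S : Subgroup G) ∧ (S : Subgroup G) ≤ M := by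
  obtain ⟨S₀, hS₀, -⟩ := exists_sylow_normalizer_le h
  obtain ⟨k, hk, hle⟩ := exists_conj_le_of_isPGroup S₀ hS₀ hX hXM
  refine ⟨k⁻¹ • S₀, ?_, ?_⟩
  · rw [Transfer.Fusion.coe_smul_eq_map]; exact map_conj_le_iff.mp hle
  · rw [Transfer.Fusion.coe_smul_eq_map, map_conj_le_iff, inv_inv,
      Transfer.Fusion.map_conj_le_of_mem hk]
    exact hS₀

/-- Fusion of `p`-subgroups of `M` for `p ∈ σ(M)` is controlled by `M`. -/
theorem sigma_conj (hG : IsMinSimpleOddOrder G) (hM : IsCoatom M) (h : p ∈ sigma M) {X : Subgroup G}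
    (hX : IsPGroup p X) (hX1 : X ≠ ⊥) (hXM : X ≤ M) {g : G}
    (hg : X.map (MulAut.conj g).toMonoidHom ≤ M) :
    ∃ m ∈ M, ∃ c ∈ centralizer (X : Set G), g = m * c := by
  obtain ⟨k, hk⟩ : ∃ k, Nat.card G - Nat.card X = k := ⟨_, rfl⟩
  induction k using Nat.strong_induction_on generalizing X g with
  | _ k ih =>
  have ih' : ∀ {Y : Subgroup G}, IsPGroup p Y → Y ≤ M → Nat.card X < Nat.card Y → ∀ {g : G},
      Y.map (MulAut.conj g).toMonoidHom ≤ M → ∃ m ∈ M, ∃ c ∈ centralizer (Y : Set G), g = m * c :=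
    fun {Y} hY hYM hlt {g} hg => ih _ (by have := card_le_card_group Y; omega) hY
      (fun e => by
        rw [e, card_bot] at hlt
        exact absurd hlt (not_lt.mpr Nat.card_pos)) hYM hg rfl
  obtain ⟨S₁, hXS, hS₁⟩ := exists_sylow_ge h hX hXM
  rcases hXS.eq_or_lt with he | hlt
  · subst he
    have hgS : ((g • S₁ : Sylow p G) : Subgroup G) ≤ M := by
      rwa [Transfer.Fusion.coe_smul_eq_map]
    obtain ⟨a, ha, e⟩ := exists_conj_eq_of_le hgS hS₁
    rw [Transfer.Fusion.coe_smul_eq_map, ← map_conj_mul, map_conj_eq_self_iff] at e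
    refine ⟨g, ?_, 1, one_mem _, (mul_one g).symm⟩
    simpa [← mul_assoc] using mul_mem (inv_mem ha) (sylow_normalizer_le h S₁ hS₁ e)
  set L := normalizer (X : Set G) with hL
  have hXL : X ≤ L := le_normalizer
  have hLtop : L ≠ ⊤ := Transitivity.normalizer_ne_top hG hX1 fun e => hM.1 (top_le_iff.mp (e ▸ hXM))
  have hLsol := Transitivity.isSolvable_of_ne_top hG hLtop
  have hP₁ := Uniqueness.lt_inf_normalizer S₁.isPGroup' hlt
  set X' := X.map (MulAut.conj g).toMonoidHom with hX'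
  obtain ⟨S₂, hXS₂, hS₂⟩ := exists_sylow_ge h (hX.map _) hg
  have hlt₂ : X' < (S₂ : Subgroup G) := lt_of_le_of_ne hXS₂ fun e => by
    have hc := card_lt_of_lt hlt
    rw [S₁.card_eq_multiplicity, ← S₂.card_eq_multiplicity, ← e, card_map_conj] at hc
    exact lt_irrefl _ hc
  have hQ₂ := Uniqueness.lt_inf_normalizer S₂.isPGroup' hlt₂
  set Q₂ := (S₂ : Subgroup G) ⊓ normalizer (X' : Set G) with hQ₂def
  set P₂ := Q₂.map (MulAut.conj g⁻¹).toMonoidHom with hP₂
  have hP₂L : P₂ ≤ L := by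
    intro y hy
    have h1 : g * y * g⁻¹ ∈ normalizer (X' : Set G) := by
      simpa [mul_assoc] using (mem_map_conj.mp hy).2
    rw [← map_conj_eq_self_iff, hX', ← map_conj_mul, inv_mul_cancel_right, map_conj_mul] at h1
    exact map_conj_eq_self_iff.mp (map_injective (MulAut.conj g).injective h1)
  obtain ⟨T₀, hT₀⟩ := ((S₁.isPGroup'.to_le inf_le_left :
      IsPGroup p ((S₁ : Subgroup G) ⊓ L : Subgroup G)).comap_subtype (K := L)).exists_le_sylow
  set T := (T₀ : Subgroup L).map L.subtype with hT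
  have hTL : T ≤ L := map_subtype_le _
  have hTp : IsPGroup p T := T₀.isPGroup'.map _
  have hP₁T : (S₁ : Subgroup G) ⊓ L ≤ T := fun x hx => ⟨⟨x, hx.2⟩, hT₀ hx, rfl⟩
  have hXT : X < T := hP₁.trans_le hP₁T
  obtain ⟨R, hTR⟩ := hTp.exists_le_sylow
  obtain ⟨g₀, hg₀⟩ := MulAction.exists_smul_eq G R S₁
  have hg₀T : T.map (MulAut.conj g₀).toMonoidHom ≤ M := by
    refine (map_mono hTR).trans ?_
    rw [← Transfer.Fusion.coe_smul_eq_map, hg₀]
    exact hS₁
  obtain ⟨m₀, hm₀, c₀, hc₀, e₀⟩ := ih' (S₁.isPGroup'.to_le inf_le_left) (inf_le_left.trans hS₁)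
    (card_lt_of_lt hP₁) ((map_mono hP₁T).trans hg₀T)
  replace hc₀ : c₀ ∈ centralizer (X : Set G) :=
    centralizer_le (show (X : Set G) ⊆ ((S₁ : Subgroup G) ⊓ L : Subgroup G) from hP₁.le) hc₀
  have hCn : ∀ {u c : G}, u ∈ L → c ∈ centralizer (X : Set G) → u⁻¹ * c * u ∈ centralizer (X : Set G) := by
    intro u c hu hc
    refine mem_centralizer_iff.mpr fun x hx => ?_
    have h1 := mem_centralizer_iff.mp hc (u * x * u⁻¹) ((mem_normalizer_iff.mp hu x).mp hx)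
    calc x * (u⁻¹ * c * u) = u⁻¹ * (u * x * u⁻¹ * c) * u := by group
      _ = u⁻¹ * (c * (u * x * u⁻¹)) * u := by rw [h1]
      _ = u⁻¹ * c * u * x := by group
  have hmk : ∀ u ∈ L, (∃ m ∈ M, ∃ c ∈ centralizer (X : Set G), g₀ * u = m * g₀ * c) →
      ∃ m ∈ M, ∃ c ∈ centralizer (X : Set G), u = m * c := by
    rintro u hu ⟨m, hm, c, hc, e⟩
    refine ⟨m₀⁻¹ * m * m₀, mul_mem (mul_mem (inv_mem hm₀) hm) hm₀, c₀ * c * (u⁻¹ * c₀ * u)⁻¹,
      mul_mem (mul_mem hc₀ hc) (inv_mem (hCn hu hc₀)), ?_⟩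
    rw [e₀] at e
    calc u = (m₀⁻¹ * (m₀ * c₀ * u)) * (u⁻¹ * c₀ * u)⁻¹ := by group
      _ = (m₀⁻¹ * (m * (m₀ * c₀) * c)) * (u⁻¹ * c₀ * u)⁻¹ := by rw [e]
      _ = _ := by group
  have hall : ∀ u ∈ L, ∃ m ∈ M, ∃ c ∈ centralizer (X : Set G), u = m * c := by
    by_cases hr : PRankLE p 2 T
    · have hrT : PRankLE p 2 (T₀ : Subgroup L) := by
        intro A hA hA'
        let e : (T₀ : Subgroup L) ≃* T := equivMapOfInjective _ L.subtype L.subtype_injective
        have := map_isMulCommutative A e.toMonoidHom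
        rw [Nat.card_congr (A.equivMapOfInjective e.toMonoidHom e.injective).toEquiv]
        refine hr _ inferInstance ?_
        rintro _ ⟨a, ha, rfl⟩
        rw [← map_pow, hA' a ha, map_one]
      have hpl : PLengthLE p 1 L := by
        refine pLengthLE_one_iff.mpr ?_
        exact (RankTwoSolvable.structure_rankTwo (hG.1.of_dvd_nat (card_subgroup_dvd_card L))
          ((dvd_card_of_ne_bot hX hX1).trans (card_dvd_of_le hXL))
          (NarrowSolvable.pRankLE_of_sylow T₀ hrT)).2.1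
      intro u hu
      obtain ⟨o, ho, v, hv, e⟩ := mem_sup_of_normal_left.mp
        ((pPrimeCore_sup_normalizer hpl T₀).ge (mem_top (⟨u, hu⟩ : L)))
      have hvN : (v : G) ∈ normalizer (T : Set G) :=
        le_normalizer_map (H := (T₀ : Subgroup L)) L.subtype ⟨v, hv, rfl⟩
      have hoC : (o : G) ∈ centralizer (X : Set G) := by
        have hn : L ≤ normalizer (primeCore p L : Set G) := le_normalizer_primeCore L
        have hd : primeCore p L ⊓ X = ⊥ := Bender.inf_eq_bot_of_coprime (coprime_of_isPGroup hX (fun hd => hp.out.coprime_iff_not_dvd.mp (primeCore_coprime (p := p) L).symm hd)).symm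
        exact le_centralizer_of_mutual (primeCore_le L) (hXL.trans hn) hd ⟨o, ho, rfl⟩
      obtain ⟨m₂, hm₂, c₂, hc₂, e₂⟩ := ih' (hTp.map (MulAut.conj g₀).toMonoidHom) hg₀T
        (by rw [card_map_conj]; exact card_lt_of_lt hXT) (g := g₀ * v * g₀⁻¹) (by
          rw [← map_conj_mul, inv_mul_cancel_right, map_conj_mul, map_conj_eq_self_iff.mpr hvN]
          exact hg₀T)
      obtain ⟨m, hm, c, hc, em⟩ := hmk v v.2 ⟨m₂, hm₂, g₀⁻¹ * c₂ * g₀, mem_centralizer_iff.mpr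
        fun x hx => by
          have h1 := mem_centralizer_iff.mp hc₂ _ (conj_mem_map_conj (hXT.le hx) g₀)
          calc x * (g₀⁻¹ * c₂ * g₀) = g₀⁻¹ * (g₀ * x * g₀⁻¹ * c₂) * g₀ := by group
            _ = g₀⁻¹ * (c₂ * (g₀ * x * g₀⁻¹)) * g₀ := by rw [h1]
            _ = g₀⁻¹ * c₂ * g₀ * x := by group, by
        calc g₀ * v = g₀ * v * g₀⁻¹ * g₀ := by group
          _ = m₂ * c₂ * g₀ := by rw [e₂]
          _ = _ := by group⟩
      refine ⟨m, hm, c * ((v : G)⁻¹ * o * v), mul_mem hc (hCn v.2 hoC), ?_⟩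
      have e' : (o : G) * v = u := congrArg Subtype.val e
      rw [← mul_assoc, ← em, ← e']
      group
    · intro u hu
      obtain ⟨E, hE, hEu⟩ := exists_unique_le_of_rank_three hG (X := T) fun h => hr (h p hp.out)
      have hTu := Unique.mono hEu hE fun e => hLtop (top_le_iff.mp (e ▸ hTL))
      have hle := le_max hTu (isCoatom_map_conj hM g₀⁻¹) (map_conj_le_iff.mp hg₀T) hLtop hTL hu
      refine hmk u hu ⟨g₀ * u * g₀⁻¹, ?_, 1, one_mem _, by group⟩
      simpa [mul_assoc] using mem_map_conj.mp hle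
  obtain ⟨R', hTR'⟩ := hTp.exists_le_sylow
  obtain ⟨n, hn, R₀, hT₀R, hP₂R⟩ := Transfer.Fusion.exists_conj_le_sylow hTp hTL
    ((S₂.isPGroup'.to_le inf_le_left : IsPGroup p Q₂).map _) hP₂L
  have hRT : T = (R₀ : Subgroup G) ⊓ L :=
    sylow_map_eq T₀ inf_le_right (R₀.isPGroup'.to_le inf_le_left) (le_inf hT₀R hTL)
  have hnP₂ : P₂.map (MulAut.conj n).toMonoidHom ≤ T := by
    rw [hRT]
    refine le_inf hP₂R ?_
    rintro _ ⟨y, hy, rfl⟩
    exact mul_mem (mul_mem hn (hP₂L hy)) (inv_mem hn)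
  obtain ⟨m₁, hm₁, c₁, hc₁, e₁⟩ := ih' (S₂.isPGroup'.to_le inf_le_left : IsPGroup p Q₂)
    (inf_le_left.trans hS₂) (by rw [← card_map_conj X g]; exact card_lt_of_lt hQ₂)
    (g := g₀ * n * g⁻¹) (by
      rw [map_conj_mul, map_conj_mul]
      exact (map_mono hnP₂).trans hg₀T)
  have hc₁' : g⁻¹ * c₁ * g ∈ centralizer (X : Set G) := mem_centralizer_iff.mpr fun x hx => by
    have h1 := mem_centralizer_iff.mp hc₁ (g * x * g⁻¹) (hQ₂.le (conj_mem_map_conj hx g))
    calc x * (g⁻¹ * c₁ * g) = g⁻¹ * (g * x * g⁻¹ * c₁) * g := by group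
      _ = g⁻¹ * (c₁ * (g * x * g⁻¹)) * g := by rw [h1]
      _ = g⁻¹ * c₁ * g * x := by group
  obtain ⟨m, hm, c, hc, em⟩ := hall n hn
  refine ⟨m₁⁻¹ * m₀ * m, mul_mem (mul_mem (inv_mem hm₁) hm₀) hm,
    c * (n⁻¹ * c₀ * n) * (g⁻¹ * c₁ * g)⁻¹, mul_mem (mul_mem hc (hCn hn hc₀)) (inv_mem hc₁'), ?_⟩
  have e₂ : g₀ * n * g⁻¹ = m₁ * c₁ := e₁
  calc g = m₁⁻¹ * (m₁ * c₁) * g * (g⁻¹ * c₁ * g)⁻¹ := by group
    _ = m₁⁻¹ * (g₀ * n) * (g⁻¹ * c₁ * g)⁻¹ := by rw [← e₂]; group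
    _ = m₁⁻¹ * m₀ * n * (n⁻¹ * c₀ * n) * (g⁻¹ * c₁ * g)⁻¹ := by rw [e₀]; group
    _ = m₁⁻¹ * m₀ * (m * c) * (n⁻¹ * c₀ * n) * (g⁻¹ * c₁ * g)⁻¹ := by rw [em]
    _ = _ := by group

/-- Normalizers of `p`-subgroups for `p ∈ σ(M)`. -/
theorem normalizer_eq_sup (hG : IsMinSimpleOddOrder G) (hM : IsCoatom M) (h : p ∈ sigma M) {X : Subgroup G}
    (hX : IsPGroup p X) (hX1 : X ≠ ⊥) (hXM : X ≤ M) :
    normalizer (X : Set G) = (M ⊓ normalizer (X : Set G)) ⊔ centralizer (X : Set G) := by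
  refine le_antisymm (fun n hn => ?_) (sup_le inf_le_right (centralizer_le_normalizer _))
  have e := map_conj_eq_self_iff.mpr hn
  obtain ⟨m, hm, c, hc, rfl⟩ := sigma_conj hG hM h hX hX1 hXM (g := n) (e.symm ▸ hXM)
  refine mul_mem (mem_sup_left ⟨hm, ?_⟩) (mem_sup_right hc)
  simpa using mul_mem hn (inv_mem (centralizer_le_normalizer _ hc))

/-- Sylow subgroups for `p ∈ σ(M)` lie in the derived group of `M`. -/
theorem sylow_le_commutator (hG : IsMinSimpleOddOrder G) (hM : IsCoatom M) (h : p ∈ sigma M)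
    (S : Sylow p G) (hS : (S : Subgroup G) ≤ M) : (S : Subgroup G) ≤ ⁅M, M⁆ := by
  refine le_trans ?_ (Transfer.Fusion.focal_le_of_fusion S (F := ⁅M, M⁆) ?_)
  · rw [_root_.commutator_def, commutator_top hG, top_inf_eq]
  intro x hx g hgx
  by_cases hx1 : x = 1
  · exact ⟨1, by simp [hx1], by simp⟩
  obtain ⟨m, hm, c, hc, rfl⟩ := sigma_conj hG hM h (S.isPGroup'.to_le (zpowers_le.mpr hx))
    (zpowers_ne_bot.mpr hx1) (zpowers_le.mpr (hS hx)) (g := g) (by
      rw [MonoidHom.map_zpowers]; exact zpowers_le.mpr (hS hgx))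
  refine ⟨m, ?_, commutator_mem_commutator (hS hx) hm⟩
  have h1 := mem_centralizer_iff.mp hc x (mem_zpowers x)
  calc m * x * m⁻¹ = m * (x * c) * c⁻¹ * m⁻¹ := by group
    _ = m * (c * x) * c⁻¹ * m⁻¹ := by rw [h1]
    _ = _ := by group

end Cfsg.Agent.OddLocal.Sigma
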