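import Cfsg.Agent.OddLocal.TauTwoNonabelian
import Cfsg.Agent.OddLocal.AutRankTwo
import Cfsg.Agent.Lib.CharTheory.MonomialLift
import Cfsg.Agent.S1404

/-! Consequences of the `τ₂` analysis for `σ(M)'`-subgroups (BG 12.10). -/

set_option autoImplicit false
set_option linter.unusedSectionVars false

namespace Cfsg.Agent.OddLocal.SigmaCompl

open Cfsg Subgroup
open TauTwo (Ctx)

variable {G : Type*} [Group G] [Finite G] {M E : Subgroup G}

theorem exists_ctx (hG : IsMinSimpleOddOrder G) (hM : IsCoatom M) (hE : IsComplIn E (sigmaCore M) M)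
    {p : ℕ} [Fact p.Prime] (hp : p ∈ tau2 M) : ∃ A : Subgroup G, A ≤ E ∧ Ctx p A M := by
  obtain ⟨B, hBM, hBe, hBc⟩ := Unique.exists_elementary_of_not_pRankLE hp.2.2.2
  obtain ⟨m, -, hle⟩ := Compl.exists_conj_le hG hM hE hBM fun q hq hd =>
    (show q = p from (Cores.isPi_iff_isPGroup B).mpr (Components.Hyperplane.isPGroup hBe) q hq hd) ▸ hp.2.1
  exact ⟨_, hle, Ctx.mk' hG hM hp (hle.trans hE.1) (PLocal.ThompsonSubgroup.IsElementaryAbelian.map hBe _)
    (by rw [Transfer.Fusion.card_map_conj, hBc])⟩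

theorem rank_le (hG : IsMinSimpleOddOrder G) (hM : IsCoatom M) {q : ℕ} (hq : q.Prime)
    (hqσ : q ∉ sigma M) : PRankLE q 2 M :=
  by_contra fun hr => hqσ (Sigma.alpha_subset_sigma hG hM ⟨hq, hr⟩)

/-- The `σ(M)'`-subgroups of prime power order of `M` are abelian. -/
theorem pgroup_comm (hG : IsMinSimpleOddOrder G) (hM : IsCoatom M) {r : ℕ} [hr : Fact r.Prime]
    (hrσ : r ∉ sigma M) {X : Subgroup G} (hX : IsPGroup r X) (hXM : X ≤ M) : IsMulCommutative X := by
  by_cases h1 : PRankLE r 1 M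
  · have := Compl.isCyclic_of_rankOne hG h1 hX hXM
    exact IsCyclic.isMulCommutative
  obtain ⟨E, hE⟩ := Compl.exists_compl hG hM
  obtain ⟨A, -, h⟩ := exists_ctx hG hM hE ⟨hr.out, hrσ, rank_le hG hM hr.out hrσ, h1⟩
  exact h.pgroup_comm hX hXM

theorem nilpotent_comm (hG : IsMinSimpleOddOrder G) (hM : IsCoatom M) {N : Subgroup G} (hNM : N ≤ M)
    (hN : Group.IsNilpotent N) (hσ : ∀ r : ℕ, r.Prime → r ∣ Nat.card N → r ∉ sigma M) :
    IsMulCommutative N := by
  refine ⟨⟨fun x y => Subtype.ext (CharTheory.MonomialLift.comm_of_nilpotent hN ?_ x x.2 y y.2)⟩⟩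
  intro r hr P hPN hP a ha b hb
  have := Fact.mk hr
  rcases eq_or_ne a 1 with rfl | ha1
  · simp
  suffices hd : r ∣ Nat.card N by
    have := pgroup_comm hG hM (hσ r hr hd) hP (hPN.trans hNM)
    exact setLike_mul_comm ha hb
  obtain ⟨n, hn⟩ := hP.exists_card_eq
  refine (hn ▸ dvd_pow_self r ?_ : r ∣ Nat.card P).trans (card_dvd_of_le hPN)
  rintro rfl
  rw [card_eq_one.mp (by simpa using hn : Nat.card P = 1), mem_bot] at ha
  exact ha1 ha

/-- The normaliser of a noncyclic `σ(M)`-subgroup of prime power order lies in `M`. -/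
theorem normalizer_le (hG : IsMinSimpleOddOrder G) (hM : IsCoatom M) {p : ℕ} [Fact p.Prime]
    (hp : p ∈ sigma M) {P : Subgroup G} (hP : IsPGroup p P) (hPM : P ≤ M) (hPc : ¬ IsCyclic P) :
    normalizer (P : Set G) ≤ M := by
  have hP1 : P ≠ ⊥ := fun e => hPc (by subst e; exact isCyclic_of_subsingleton)
  rw [(S1404.result hG M hM p hp P hP hP1 hPM).2]
  refine sup_le inf_le_left ?_
  obtain ⟨A, hAP, hAe, hAc⟩ := Unique.exists_elementary_of_not_pRankLE
    (Unique.not_pRankLE_one_of_not_isCyclic (Unique.ne_two hG hp.2.1) hP hPc)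
  exact (Subgroup.centralizer_le hAP).trans
    (S1416.result hG M hM p A ⟨hAP.trans hPM, hAe, hAc⟩).1

/-- A `q`-element normalising an elementary abelian group of order `p²`, `q > p`, centralises it. -/
theorem centralizes_of_lt (hG : IsMinSimpleOddOrder G) {p q : ℕ} [hp : Fact p.Prime] [hq : Fact q.Prime]
    (hlt : p < q) {A : Subgroup G} (hA : Max2 p A) {u : G} (hu : IsPGroup q (zpowers u))
    (huN : u ∈ normalizer (A : Set G)) : u ∈ centralizer (A : Set G) := by
  let _ : CommGroup A := { (inferInstance : Group A) with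
    mul_comm := fun a b => Subtype.ext (Components.Hyperplane.mem_comm hA.el a.2 b.2) }
  let φ : zpowers u →* MulAut A := A.normalizerMonoidHom.comp (inclusion (zpowers_le.mpr huN))
  have h1 := (AutRankTwo.elementary_aut (hA.ne_two hG) (fun v : A => Subtype.ext (hA.el.2 _ v.2))
    hA.card.dvd (Sigma.odd_card hG (zpowers u)) φ).2
  have hφ : φ.range = ⊥ := by
    by_contra hne
    obtain ⟨n, hn⟩ := (hu.of_surjective φ.rangeRestrict φ.rangeRestrict_surjective).exists_card_eq
    have hn0 : n ≠ 0 := by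
      rintro rfl
      exact hne (card_eq_one.mp (by simpa using hn))
    have hp2 := hp.out.two_le
    rcases h1 q hq.out (hn ▸ dvd_pow_self q hn0) hlt.ne' with h2 | h2
    · have := Nat.le_of_dvd (by omega) h2; omega
    · have h3 := Nat.le_of_dvd (by omega) h2
      have hq1 : q = p + 1 := by omega
      have h4 : p % 2 = 1 := (Nat.Prime.eq_two_or_odd hp.out).resolve_left (hA.ne_two hG)
      have h5 : q % 2 = 1 := (Nat.Prime.eq_two_or_odd hq.out).resolve_left (by omega)
      omega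
  refine mem_centralizer_iff.mpr fun a ha => ?_
  have h2 : φ ⟨u, mem_zpowers u⟩ = 1 := mem_bot.mp (hφ ▸ ⟨_, rfl⟩ :
    φ ⟨u, mem_zpowers u⟩ ∈ (⊥ : Subgroup (MulAut A)))
  exact (mul_inv_eq_iff_eq_mul.mp (show u * a * u⁻¹ = a from
    congrArg Subtype.val (DFunLike.congr_fun h2 (⟨a, ha⟩ : A)))).symm

/-- `C(x) ≤ M` uniquely for a `τ₂`-element with fixed points on `M_σ`. -/
theorem centralizer_unique (hG : IsMinSimpleOddOrder G) (hM : IsCoatom M) {x : G} (hx : x ∈ M)
    (hx1 : x ≠ 1) (hτ : ∀ p : ℕ, p.Prime → p ∣ orderOf x → p ∈ tau2 M) {y : G} (hy : y ∈ sigmaCore M)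
    (hy1 : y ≠ 1) (hxy : x * y = y * x) :
    centralizer ({x} : Set G) ≤ M ∧
      ∀ L : Subgroup G, IsCoatom L → centralizer ({x} : Set G) ≤ L → L = M := by
  set n := orderOf x with hn
  have hn1 : n ≠ 1 := fun e => hx1 (orderOf_eq_one_iff.mp e)
  set p := n.minFac with hpdef
  have hpn : p ∣ n := Nat.minFac_dvd n
  have := Fact.mk (Nat.minFac_prime hn1)
  obtain ⟨E, hE, hxE⟩ := Compl.exists_compl_ge hG hM (zpowers_le.mpr hx) fun q hq hd =>
    (hτ q hq (by rwa [Nat.card_zpowers] at hd)).2.1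
  have hxE' : x ∈ E := hxE (mem_zpowers x)
  obtain ⟨A, hAE, h⟩ := exists_ctx hG hM hE (hτ p Fact.out hpn)
  set x' := x ^ (n / p) with hx'
  have hx'o : orderOf x' = p := orderOf_pow_orderOf_div (orderOf_pos x).ne' hpn
  have hx'A : x' ∈ A := h.mem_of_pow hE hAE (pow_mem hxE' _) (hx'o ▸ pow_orderOf_eq_one x')
  have hx'1 : x' ≠ 1 := fun e => (Fact.out : p.Prime).ne_one (by rw [← hx'o, e, orderOf_one])
  have hAx : A ≤ centralizer ({x} : Set G) := by
    rw [← TauTwo.centralizer_zpowers, le_centralizer_iff]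
    refine CN.le_of_forall_isPGroup fun q hq z hz hzq => ?_
    have := Fact.mk hq
    have hzN : z ∈ normalizer (A : Set G) := h.le_normalizer_compl hE hAE (hxE hz)
    rcases eq_or_ne z 1 with rfl | hz1
    · exact one_mem _
    have hqn : q ∣ n := by
      obtain ⟨k, hk⟩ := hzq.exists_card_eq
      rw [Nat.card_zpowers] at hk
      rcases k.eq_zero_or_pos with rfl | hk0
      · exact absurd (orderOf_eq_one_iff.mp (by simpa using hk)) hz1
      · exact (hk ▸ dvd_pow_self q hk0.ne').trans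
          ((orderOf_dvd_natCard _ hz).trans (Nat.card_zpowers x).dvd)
    rcases lt_or_eq_of_le (Nat.minFac_le_of_dvd hq.two_le hqn) with hlt | heq
    · exact centralizes_of_lt hG hlt h.hA hzq hzN
    · obtain ⟨W, hWC, -, hWp⟩ := h.exists_normal_cover hE hAE
      have heq' : q = p := heq.symm
      subst heq'
      exact hWC (hWp _ hzq (zpowers_le.mpr (hxE hz)) (mem_zpowers z))
  have hle : centralizer ({x} : Set G) ≤ centralizer ({x'} : Set G) := fun w hw =>
    mem_centralizer_singleton_iff.mpr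
      ((show Commute w x from mem_centralizer_singleton_iff.mp hw).pow_right _).eq
  have hyC : y ∈ centralizer ({x} : Set G) := mem_centralizer_singleton_iff.mpr hxy.symm
  refine ⟨hle.trans (h.good_centralizer_le h.good_sigma hx'A hx'1 fun e => hy1 (mem_bot.mp
    (e ▸ mem_inf.mpr ⟨hy, hle hyC⟩))), fun L hL hCL => ?_⟩
  by_contra hne
  exact hy1 (mem_bot.mp (h.sigma_inf hL hne (hAx.trans hCL) ▸ mem_inf.mpr ⟨hy, hCL hyC⟩))

end Cfsg.Agent.OddLocal.SigmaCompl
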