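import Cfsg.Agent.OddLocal.HallCore
import Cfsg.Agent.S1420
import Cfsg.Agent.S1364

/-! The Fitting subgroup of a maximal subgroup (BG 15.2). -/

set_option autoImplicit false
set_option linter.unusedSectionVars false

namespace Cfsg.Agent.OddLocal.FittingStructure

open Cfsg Subgroup SigmaParts
open scoped commutatorElement

variable {G : Type*} [Group G] [Finite G] {M K U : Subgroup G}

theorem fittingHallOf_hall (M : Subgroup G) :
    (Nat.card (fittingHallOf M)).Coprime ((fittingHallOf M).relIndex M) := by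
  exact Basics.fittingHallOf_coprime M

theorem fittingHallOf_le (M : Subgroup G) : fittingHallOf M ≤ M := map_subtype_le _

theorem le_normalizer_fittingHallOf (M : Subgroup G) : M ≤ normalizer (fittingHallOf M : Set G) := by
  refine (normal_subgroupOf_iff_le_normalizer (fittingHallOf_le M)).mp ?_
  unfold fittingHallOf
  rw [subgroupOf, comap_map_eq_self_of_injective M.subtype_injective]
  infer_instance

theorem mem_fittingHall {x : M} (hx : (x : G) ∈ fittingHallOf M) : x ∈ fittingHall ↥M := by
  obtain ⟨y, hy, e⟩ := hx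
  exact Subtype.ext e ▸ hy

theorem centralizer_nilpotent (hG : IsMinSimpleOddOrder G) (hM : IsCoatom M) :
    Group.IsNilpotent ↥(M ⊓ centralizer (fittingHallOf M : Set G)) := by
  obtain ⟨K, U, hKU⟩ := Fcore.exists_decomp hG hM
  set F0 := fittingHallOf M with hF0
  have hF0σ : F0 ≤ sigmaCore M := fittingHallOf_le_sigmaCore hG hM
  have hHall : (Nat.card F0).Coprime (F0.relIndex (sigmaCore M)) :=
    (fittingHallOf_hall M).coprime_dvd_right
      (Dvd.intro _ (relIndex_mul_relIndex F0 (sigmaCore M) M hF0σ (Sigma.sigmaCore_le M)))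
  obtain ⟨X, hXc, hXτ, hCX⟩ := HallCore.centralizer_split hG hM hF0σ
    (Fcore.fittingHallOf_ne_bot hG hM) hHall
  set C := M ⊓ centralizer (F0 : Set G) with hC
  let g : C →* ↥M ⧸ fittingHall ↥M :=
    (QuotientGroup.mk' (fittingHall ↥M)).comp (inclusion (inf_le_left : C ≤ M))
  have hker : g.rangeRestrict.ker ≤ center C := by
    intro z hz
    rw [MonoidHom.ker_rangeRestrict] at hz
    refine mem_center_iff.mpr fun w => Subtype.ext ?_
    have h1 : (z : G) ∈ F0 :=
      ⟨_, (QuotientGroup.eq_one_iff _).mp hz, rfl⟩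
    exact (mem_centralizer_iff.mp (mem_inf.mp w.2).2 _ h1).symm
  suffices hr : Group.IsNilpotent g.range from
    Subgroup.isNilpotent_of_ker_le_center g.rangeRestrict hker
  by_cases hn : Group.IsNilpotent (sigmaCore M)
  · have hle : g.range ≤ (X.subgroupOf M).map (QuotientGroup.mk' (fittingHall ↥M)) := by
      rintro _ ⟨z, rfl⟩
      have hXM : X ≤ M := (le_sup_right.trans hCX.ge).trans inf_le_left
      have hXn : X ≤ normalizer ((sigmaCore M ⊓ centralizer (F0 : Set G) : Subgroup G) : Set G) :=
        (le_inf (hXM.trans (Sigma.le_normalizer_sigmaCore M)) ((le_sup_right.trans hCX.ge).trans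
          (inf_le_right.trans le_normalizer))).trans inf_normalizer_le_normalizer_inf
      obtain ⟨a, ha, b, hb, e⟩ := KappaDecomp.exists_mul_sup hXn (hCX.le z.2)
      have haM : a ∈ M := Sigma.sigmaCore_le M ha.1
      refine ⟨⟨b, hXM hb⟩, hb, ?_⟩
      show QuotientGroup.mk' _ _ = QuotientGroup.mk' _ (inclusion (inf_le_left : C ≤ M) z)
      have hz : inclusion (inf_le_left : C ≤ M) z = (⟨a, haM⟩ : M) * ⟨b, hXM hb⟩ := Subtype.ext e
      have ha' : QuotientGroup.mk' (fittingHall ↥M) (⟨a, haM⟩ : M) = 1 :=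
        (QuotientGroup.eq_one_iff _).mpr (mem_fittingHall
          (show a ∈ fittingHallOf M from (sigmaCore_eq_fittingHallOf hG hM hn) ▸ ha.1))
      rw [hz, map_mul, ha', one_mul]
    have hXn : Group.IsNilpotent X := @CommGroup.isNilpotent X IsCyclic.commGroup
    exact Cores.isNilpotent_to_le hle (Cores.isNilpotent_map _ _ (Cores.isNilpotent_subgroupOf hXn M))
  · have hX1 : X = ⊥ := by
      by_contra hX1
      obtain ⟨p, hp, hd⟩ := Nat.exists_prime_and_dvd (fun e : Nat.card X = 1 => hX1 (card_eq_one.mp e))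
      have := Fact.mk hp
      have hτ := hXτ p hp hd
      have h1 := KappaDecomp.dvd_of_not hKU hp
        (Sigma.dvd_of_not_pRankLE hτ.2.2.2) hτ.2.1 (fun hκ => hτ.2.2.2 (KappaStructure.rank_of_kappa hκ))
      rw [NonNilpotent.U_eq_bot hG hM hKU hn, card_bot] at h1
      exact hp.ne_one (Nat.dvd_one.mp h1)
    have hle : g.range ≤ (commutator ↥M).map (QuotientGroup.mk' (fittingHall ↥M)) := by
      rintro _ ⟨z, rfl⟩
      refine mem_map_of_mem (QuotientGroup.mk' (fittingHall ↥M)) ?_
      have hz : (z : G) ∈ sigmaCore M := by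
        have := hCX.le z.2
        rw [hX1, sup_bot_eq] at this
        exact this.1
      have h1 := Sigma.sigmaCore_le_commutator hG hM hz
      rw [← map_subtype_commutator] at h1
      obtain ⟨w, hw, e⟩ := h1
      exact (Subtype.ext e : w = inclusion (inf_le_left : C ≤ M) z) ▸ hw
    exact Cores.isNilpotent_to_le hle (Fcore.commutator_quotient hG hM)

theorem fittingOf_nilpotent (M : Subgroup G) : Group.IsNilpotent (fittingOf M) :=
  FPFFitting.fittingOf_isNilpotent M

theorem fittingOf_eq (hG : IsMinSimpleOddOrder G) (hM : IsCoatom M) :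
    fittingOf M = (M ⊓ centralizer (fittingHallOf M : Set G)) ⊔ fittingHallOf M := by
  set F0 := fittingHallOf M with hF0
  have hF0M := fittingHallOf_le M
  have hF0n := le_normalizer_fittingHallOf M
  refine le_antisymm (CN.le_of_forall_isPGroup fun p hp z hz hzp => ?_) (sup_le ?_ ?_)
  · have := Fact.mk hp
    have hzM : z ∈ M := map_subtype_le _ hz
    obtain ⟨k, hk⟩ := hzp.exists_card_eq
    rw [Nat.card_zpowers] at hk
    by_cases hd : p ∣ Nat.card F0
    · refine mem_sup_right (KappaDecomp.mem_of_normal_coprime hF0n hF0M hzM ?_)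
      rw [hk]
      exact Nat.Coprime.pow_left k ((fittingHallOf_hall M).coprime_dvd_left hd)
    · refine mem_sup_left (mem_inf.mpr ⟨hzM, mem_centralizer_iff.mpr fun a ha => ?_⟩)
      have hle : F0 ≤ fittingOf M := by
        rw [hF0, fittingHallOf, fittingOf]
        exact map_mono (Cores.le_fittingSubgroup (N := fittingHall ↥M)
          (CN.fittingHall_isNilpotent (G := M)))
      have hc := CN.commute_of_mem (fittingOf_nilpotent M) (hle ha) hz (by
        rw [hk]
        exact ((Nat.Coprime.pow_left k (hp.coprime_iff_not_dvd.mpr hd)).coprime_dvd_right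
          (orderOf_dvd_natCard F0 ha)).symm)
      exact hc.eq
  · have hn : ((M ⊓ centralizer (F0 : Set G)).subgroupOf M).Normal :=
      (normal_subgroupOf_iff_le_normalizer inf_le_left).mpr ((le_inf le_normalizer (hF0n.trans
        (CharP.normalizer_le_normalizer_centralizer _))).trans inf_normalizer_le_normalizer_inf)
    refine (map_subgroupOf_eq_of_le (inf_le_left : M ⊓ centralizer (F0 : Set G) ≤ M)).ge.trans ?_
    exact map_mono (Cores.le_fittingSubgroup
      (Cores.isNilpotent_subgroupOf (centralizer_nilpotent hG hM) M))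
  · exact map_mono (Cores.le_fittingSubgroup (N := fittingHall ↥M)
      (CN.fittingHall_isNilpotent (G := M)))

theorem second_derived_le (hG : IsMinSimpleOddOrder G) (hM : IsCoatom M) :
    ⁅⁅M, M⁆, ⁅M, M⁆⁆ ≤ fittingOf M := by
  obtain ⟨K, U, hKU⟩ := Fcore.exists_decomp hG hM
  have hσM := Sigma.sigmaCore_le M
  by_cases hn : Group.IsNilpotent (sigmaCore M)
  · obtain ⟨E, hE⟩ := Compl.exists_compl hG hM
    set f := QuotientGroup.mk' (fittingHall ↥M) with hf
    have htop : (⊤ : Subgroup M).map f = (E.subgroupOf M).map f := by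
      refine le_antisymm ?_ (map_mono le_top)
      rintro _ ⟨x, -, rfl⟩
      obtain ⟨a, ha, b, hb, e⟩ := hE.2.2.2 x x.2
      have hx : x = (⟨a, hE.1 ha⟩ : M) * ⟨b, hσM hb⟩ := Subtype.ext e
      have hb' : f (⟨b, hσM hb⟩ : M) = 1 := (QuotientGroup.eq_one_iff _).mpr (mem_fittingHall
        (show b ∈ fittingHallOf M from (sigmaCore_eq_fittingHallOf hG hM hn) ▸ hb))
      rw [hx, map_mul, hb', mul_one]
      exact mem_map_of_mem f ha
    have hab := (S1420.result hG M hM E hE).2.1
    have hzero : (⁅commutator ↥M, commutator ↥M⁆).map f = ⊥ := by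
      rw [Subgroup.map_commutator, _root_.commutator_def, Subgroup.map_commutator, htop, ← Subgroup.map_commutator,
        ← Subgroup.map_commutator, Subgroup.map_eq_bot_iff]
      refine commutator_le.mpr fun a ha b hb => ?_
      have h1 : ∀ z ∈ ⁅E.subgroupOf M, E.subgroupOf M⁆, (z : G) ∈ ⁅E, E⁆ := fun z hz => by
        have := mem_map_of_mem M.subtype hz
        rwa [Subgroup.map_commutator, map_subgroupOf_eq_of_le hE.1] at this
      have h2 : ⁅a, b⁆ = 1 := commutatorElement_eq_one_iff_mul_comm.mpr (Subtype.ext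
        (congrArg (Subtype.val : ↥⁅E, E⁆ → G) (hab.is_comm.comm ⟨a, h1 a ha⟩ ⟨b, h1 b hb⟩)))
      rw [h2]
      exact one_mem _
    rw [Subgroup.map_eq_bot_iff, QuotientGroup.ker_mk'] at hzero
    have h3 : ⁅⁅M, M⁆, ⁅M, M⁆⁆ = (⁅commutator ↥M, commutator ↥M⁆).map M.subtype := by
      rw [Subgroup.map_commutator, map_subtype_commutator]
    rw [h3]
    exact map_mono (hzero.trans (Cores.le_fittingSubgroup (N := fittingHall ↥M)
      (CN.fittingHall_isNilpotent (G := M))))
  · obtain ⟨q, Q, c⟩ := NonNilpotent.exists_core hG hM hKU hn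
    have := Fact.mk c.hq
    obtain ⟨D, hD⟩ := Fcore.exists_core_compl hG c
    rw [PType.commutator_eq hG hM hKU (NonNilpotent.K_ne_bot hG hM hKU hn),
      NonNilpotent.U_eq_bot hG hM hKU hn, bot_sup_eq]
    set S := ⁅sigmaCore M, sigmaCore M⁆ with hS
    set W := Q ⊔ ⁅D, D⁆ with hW
    have hDσ := hD.2.1
    have hD'D : ⁅D, D⁆ ≤ D := commutator_le_self D
    have hQn : (Q.subgroupOf (sigmaCore M)).Normal :=
      (normal_subgroupOf_iff_le_normalizer c.le).mpr (hσM.trans c.normal)
    set f := QuotientGroup.mk' (Q.subgroupOf (sigmaCore M)) with hf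
    have htop : (⊤ : Subgroup (sigmaCore M)).map f = (D.subgroupOf (sigmaCore M)).map f := by
      refine le_antisymm ?_ (map_mono le_top)
      rintro _ ⟨x, -, rfl⟩
      obtain ⟨a, ha, b, hb, e⟩ := hD.2.2.2 x x.2
      have hx : x = (⟨a, c.le ha⟩ : sigmaCore M) * ⟨b, hDσ hb⟩ := Subtype.ext e
      have ha' : f (⟨a, c.le ha⟩ : sigmaCore M) = 1 := (QuotientGroup.eq_one_iff _).mpr ha
      rw [hx, map_mul, ha', one_mul]
      exact mem_map_of_mem f hb
    have hSW : S ≤ W := by
      have h1 : commutator (sigmaCore M) ≤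
          ⁅D.subgroupOf (sigmaCore M), D.subgroupOf (sigmaCore M)⁆ ⊔ Q.subgroupOf (sigmaCore M) := by
        rw [← QuotientGroup.ker_mk' (Q.subgroupOf (sigmaCore M)), ← comap_map_eq, ← map_le_iff_le_comap,
          _root_.commutator_def, Subgroup.map_commutator, htop, ← Subgroup.map_commutator]
      have h2 := map_mono (f := (sigmaCore M).subtype) h1
      rwa [map_subtype_commutator, Subgroup.map_sup, Subgroup.map_commutator,
        map_subgroupOf_eq_of_le hDσ, map_subgroupOf_eq_of_le c.le, sup_comm] at h2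
    have hder := c.derived D hD
    have hWn : Group.IsNilpotent W := by
      have hQW : Q ≤ W := le_sup_left
      have hDW : ⁅D, D⁆ ≤ W := le_sup_right
      have hn1 : (Q.subgroupOf W).Normal := (normal_subgroupOf_iff_le_normalizer hQW).mpr
        (sup_le le_normalizer (hder.trans (centralizer_le_normalizer _)))
      have hn2 : (⁅D, D⁆.subgroupOf W).Normal := (normal_subgroupOf_iff_le_normalizer hDW).mpr
        (sup_le ((le_centralizer_iff.mp hder).trans (centralizer_le_normalizer _)) le_normalizer)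
      refine Cores.fittingSubgroup_eq_top_iff.mp (top_le_iff.mp ?_)
      rw [← subgroupOf_self W]
      conv_lhs => arg 1; rw [hW]
      rw [subgroupOf_sup hQW hDW]
      exact sup_le (Cores.le_fittingSubgroup (Cores.isNilpotent_subgroupOf c.pgroup.isNilpotent W))
        (Cores.le_fittingSubgroup (Cores.isNilpotent_subgroupOf
          (Cores.isNilpotent_to_le hD'D (c.compl D hD).1) W))
    have hSM : S ≤ M := (commutator_le_self _).trans hσM
    have hSn : (S.subgroupOf M).Normal := (normal_subgroupOf_iff_le_normalizer hSM).mpr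
      ((Sigma.le_normalizer_sigmaCore M).trans fun _ h => Coprime.le_normalizer_commutator_self le_rfl h)
    refine (map_subgroupOf_eq_of_le hSM).ge.trans ?_
    exact map_mono (Cores.le_fittingSubgroup
      (Cores.isNilpotent_subgroupOf (Cores.isNilpotent_to_le hSW hWn) M))

theorem fittingOf_le_commutator (hG : IsMinSimpleOddOrder G) (hM : IsCoatom M)
    (hκ : (kappa M).Nonempty) : fittingOf M ≤ ⁅M, M⁆ := by
  obtain ⟨K, U, hKU⟩ := Fcore.exists_decomp hG hM
  have hK1 : K ≠ ⊥ := by
    rintro rfl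
    obtain ⟨r, hr⟩ := hκ
    exact hKU.hall.2.2 r hr.1 hr (by rw [relIndex_bot_left]; exact hr.2.1)
  rw [PType.commutator_eq hG hM hKU hK1]
  intro z hz
  refine KappaDecomp.mem_sup_of_not_kappa hG hM hKU (map_subtype_le _ hz) fun p hp hd hκp => ?_
  have := Fact.mk hp
  set k := z ^ (orderOf z / p)
  have hko : orderOf k = p := orderOf_pow_orderOf_div (orderOf_pos z).ne' hd
  have hkM : k ∈ M := pow_mem (map_subtype_le _ hz) _
  obtain ⟨m, hm, hle⟩ := PType.exists_conj_le_hall hG hM hKU.hall (zpowers_le.mpr hkM) fun r hr hd' => by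
    rw [Nat.card_zpowers, hko] at hd'
    rw [(Nat.prime_dvd_prime_iff_eq hr hp).mp hd']
    exact hκp
  obtain ⟨k', hk', hkk⟩ := hle (mem_zpowers k)
  have hkk' : k = m * k' * m⁻¹ := hkk.symm
  have hk'1 : k' ≠ 1 := fun e => KappaCentral.ne_one_of_order hko (by rw [hkk', e]; group)
  have hd' := KappaDecomp.data_of hG hM hKU hK1
  obtain ⟨hc, -, -, hnc⟩ := S1364.result hG M hM K U hKU hK1
  have hle0 : fittingHallOf M ≤ sigmaCore M ⊓ centralizer (K : Set G) := by
    intro a ha
    refine (hd'.fixed k' hk' hk'1).le (mem_inf.mpr ⟨fittingHallOf_le_sigmaCore hG hM ha,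
      mem_centralizer_singleton_iff.mpr ?_⟩)
    have ha' : m * a * m⁻¹ ∈ fittingHallOf M :=
      (mem_normalizer_iff.mp (le_normalizer_fittingHallOf M hm) a).mp ha
    have hF : fittingHallOf M ≤ fittingOf M := by rw [fittingOf_eq hG hM]; exact le_sup_right
    have h1 := CN.commute_of_mem (fittingOf_nilpotent M) (hF ha') (pow_mem hz (orderOf z / p)) (by
      rw [show orderOf (z ^ (orderOf z / p)) = p from hko]
      refine (hp.coprime_iff_not_dvd.mpr fun h => ?_).symm
      exact KappaDecomp.kappa_not_sigma hκp (mem_sigma_core (fittingHallOf_le_sigmaCore hG hM ha') p hp h))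
    have h2 : m * a * m⁻¹ * (m * k' * m⁻¹) = m * k' * m⁻¹ * (m * a * m⁻¹) := hkk' ▸ h1.eq
    calc a * k' = m⁻¹ * (m * a * m⁻¹ * (m * k' * m⁻¹)) * m := by group
      _ = m⁻¹ * (m * k' * m⁻¹ * (m * a * m⁻¹)) * m := by rw [h2]
      _ = k' * a := by group
  have := hc
  exact hnc (isCyclic_of_injective (inclusion hle0) (inclusion_injective _))

end Cfsg.Agent.OddLocal.FittingStructure
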