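import Cfsg.Agent.OddLocal.FrobeniusCoprime
import Cfsg.Agent.Lib.Coprime.Commutator
import Cfsg.Agent.Solvable.Thompson
import Cfsg.Agent.Lib.Coprime.FrobeniusPGroup
import Cfsg.Agent.Lib.Coprime.OmegaDetect

/-! Wielandt's fixed point formula for a Frobenius group acting coprimely, and the case of a line of
fixed points. -/

set_option autoImplicit false

namespace Cfsg.Agent.OddLocal.FrobeniusFormula

open Cfsg Subgroup
open scoped commutatorElement

universe u

variable {G : Type u} [Group G] [Finite G]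

/-- `UE` acts on `H` coprimely, `E` fixing no non-trivial element of `U`. -/
structure Hyp (H U E : Subgroup G) : Prop where
  hEU : E ≤ normalizer (U : Set G)
  fpf : ∀ a ∈ E, a ≠ 1 → ∀ u ∈ U, a * u = u * a → u = 1
  hUH : U ≤ normalizer (H : Set G)
  hEH : E ≤ normalizer (H : Set G)
  solv : Group.IsSolvable H
  cop : (Nat.card H).Coprime (Nat.card U * Nat.card E)

/-- The conclusion. -/
def Formula (H U E : Subgroup G) : Prop :=
  Nat.card ↥(H ⊓ centralizer ((U ⊔ E : Subgroup G) : Set G)) ^ Nat.card E * Nat.card H =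
    Nat.card ↥(H ⊓ centralizer (E : Set G)) ^ Nat.card E * Nat.card ↥(H ⊓ centralizer (U : Set G))

theorem centralizer_sup (U E : Subgroup G) :
    centralizer ((U ⊔ E : Subgroup G) : Set G) = centralizer (U : Set G) ⊓ centralizer (E : Set G) :=
  le_antisymm (le_inf (centralizer_le (show (U : Set G) ⊆ (U ⊔ E : Subgroup G) from le_sup_left (a := U)))
    (centralizer_le (show (E : Set G) ⊆ (U ⊔ E : Subgroup G) from le_sup_right (a := U))))
    (le_centralizer_iff.mp (sup_le (le_centralizer_iff.mp inf_le_left) (le_centralizer_iff.mp inf_le_right)))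

theorem Hyp.coprime_UE {H U E : Subgroup G} (h : Hyp H U E) : (Nat.card E).Coprime (Nat.card U) := by
  refine Coprime.fpf_coprime h.hEU fun a ha ha1 => le_bot_iff.mp fun u hu => ?_
  obtain ⟨huU, huC⟩ := mem_inf.mp hu
  exact mem_bot.mpr (h.fpf a ha ha1 u huU (mem_centralizer_singleton_iff.mp huC).symm)

theorem Hyp.mono {H U E N : Subgroup G} (h : Hyp H U E) (hle : N ≤ H) (hU : U ≤ normalizer (N : Set G))
    (hE : E ≤ normalizer (N : Set G)) : Hyp N U E :=
  { h with
    hUH := hU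
    hEH := hE
    solv := Coprime.isSolvable_of_le hle h.solv
    cop := h.cop.coprime_dvd_left (card_dvd_of_le hle) }

theorem card_eq_inf_ker_mul {L M : Type*} [Group L] [Finite L] [Group M] (f : L →* M) (K : Subgroup L) :
    Nat.card K = Nat.card ↥(K ⊓ f.ker) * Nat.card (K.map f) := by
  set fK := f.comp K.subtype with hfK
  have h1 := card_eq_card_quotient_mul_card_subgroup fK.ker
  have h2 : Nat.card (K ⧸ fK.ker) = Nat.card (K.map f) := by
    rw [Nat.card_congr (QuotientGroup.quotientKerEquivRange fK).toEquiv, hfK, MonoidHom.range_comp, range_subtype]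
  have h3 : Nat.card fK.ker = Nat.card ↥(K ⊓ f.ker) := by
    rw [hfK, ← MonoidHom.comap_ker, ← card_map_of_injective K.subtype_injective]
    exact congrArg (fun S : Subgroup L => Nat.card S) ((subgroupOf_map_subtype f.ker K).trans (inf_comm _ _))
  rw [h1, h2, h3, mul_comm]

/-- Passing to a quotient by an invariant normal subgroup of `H`. -/
theorem exists_quotient {H U E N : Subgroup G} (h : Hyp H U E) (hNH : N ≤ H) (hHN : H ≤ normalizer (N : Set G))
    (hUN : U ≤ normalizer (N : Set G)) (hEN : E ≤ normalizer (N : Set G)) :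
    ∃ (G' : Type u) (_ : Group G') (_ : Finite G') (H' U' E' : Subgroup G'),
      Hyp H' U' E' ∧ Nat.card U' = Nat.card U ∧ Nat.card E' = Nat.card E ∧
      Nat.card H = Nat.card N * Nat.card H' ∧
      (∀ S ∈ ({(U, U'), (E, E'), (U ⊔ E, U' ⊔ E')} : Set (Subgroup G × Subgroup G')),
        Nat.card ↥(H ⊓ centralizer (S.1 : Set G)) =
          Nat.card ↥(N ⊓ centralizer (S.1 : Set G)) * Nat.card ↥(H' ⊓ centralizer (S.2 : Set G'))) := by
  set L := normalizer (N : Set G) with hL
  set N₀ := N.subgroupOf L with hN₀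
  have hN₀n : N₀.Normal := normal_subgroupOf_of_le_normalizer le_rfl
  let f := QuotientGroup.mk' N₀
  have hker : ∀ K : Subgroup G, K ≤ L → Nat.card ↥(K.subgroupOf L ⊓ f.ker) = Nat.card ↥(K ⊓ N) := by
    intro K hK
    rw [QuotientGroup.ker_mk', hN₀, ← card_map_of_injective L.subtype_injective,
      map_inf _ _ _ L.subtype_injective, map_subgroupOf_eq_of_le hK, map_subgroupOf_eq_of_le le_normalizer]
  have hcard : ∀ K : Subgroup G, K ≤ L →
      Nat.card K = Nat.card ↥(K ⊓ N) * Nat.card ((K.subgroupOf L).map f) := fun K hK => by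
    rw [← hker K hK, ← card_eq_inf_ker_mul, Nat.card_congr (subgroupOfEquivOfLe hK).toEquiv]
  have hbot : ∀ K : Subgroup G, (Nat.card H).Coprime (Nat.card K) → K ⊓ N = ⊥ := fun K hK => by
    rw [inf_comm]
    exact disjoint_iff.mp (Coprime.disjoint_of_coprime (hK.coprime_dvd_left (card_dvd_of_le hNH)))
  have hcU : (Nat.card H).Coprime (Nat.card U) := h.cop.coprime_dvd_right (dvd_mul_right _ _)
  have hcE : (Nat.card H).Coprime (Nat.card E) := h.cop.coprime_dvd_right (dvd_mul_left _ _)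
  have hUc : Nat.card ((U.subgroupOf L).map f) = Nat.card U := by
    rw [hcard U hUN, hbot U hcU, card_bot, one_mul]
  have hEc : Nat.card ((E.subgroupOf L).map f) = Nat.card E := by
    rw [hcard E hEN, hbot E hcE, card_bot, one_mul]
  have hnorm : ∀ {A B : Subgroup G}, A ≤ normalizer (B : Set G) → A ≤ L →
      (A.subgroupOf L).map f ≤ normalizer ((B.subgroupOf L).map f : Set (L ⧸ N₀)) := by
    rintro A B hAB hAL _ ⟨a, ha, rfl⟩
    refine le_normalizer_map f ⟨a, ?_, rfl⟩
    refine mem_normalizer_fintype fun z hz => ?_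
    exact (mem_normalizer_iff.mp (hAB ha) (z : G)).mp hz
  refine ⟨L ⧸ N₀, inferInstance, inferInstance, (H.subgroupOf L).map f, (U.subgroupOf L).map f,
    (E.subgroupOf L).map f, ⟨hnorm h.hEU hEN, ?_, hnorm h.hUH hUN, hnorm h.hEH hEN, ?_, ?_⟩, hUc, hEc, ?_, ?_⟩
  · rintro _ ⟨a, ha, rfl⟩ ha1 _ ⟨u, hu, rfl⟩ e
    have h1 : (a : G) * u * (a : G)⁻¹ * (u : G)⁻¹ ∈ U ⊓ N := by
      refine mem_inf.mpr ⟨mul_mem ((mem_normalizer_iff.mp (h.hEU ha) _).mp hu) (inv_mem hu), ?_⟩
      have h2 : f (a * u * a⁻¹ * u⁻¹) = 1 := by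
        rw [map_mul, map_mul, map_mul, map_inv, map_inv, e]; group
      exact mem_subgroupOf.mp ((QuotientGroup.eq_one_iff _).mp h2)
    rw [hbot U hcU, mem_bot] at h1
    have ha' : (a : G) ≠ 1 := fun e1 => ha1 (by rw [show a = 1 from Subtype.ext e1, map_one])
    have hu1 : (u : G) = 1 := h.fpf _ ha ha' _ hu (mul_inv_eq_iff_eq_mul.mp (mul_inv_eq_one.mp h1))
    rw [show u = 1 from Subtype.ext hu1, map_one]
  · have := h.solv
    exact Coprime.isSolvable_map f (Group.isSolvable_of_isSolvable_injective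
      (f := (subgroupOfEquivOfLe hHN).toMonoidHom) (subgroupOfEquivOfLe hHN).injective)
  · rw [hUc, hEc]
    refine h.cop.coprime_dvd_left ((card_map_dvd _ _).trans (dvd_of_eq ?_))
    exact Nat.card_congr (subgroupOfEquivOfLe hHN).toEquiv
  · rw [hcard H hHN, inf_eq_right.mpr hNH]
  · have key : ∀ S : Subgroup G, S ≤ L → S ≤ normalizer (H : Set G) → (Nat.card S).Coprime (Nat.card H) →
        Nat.card ↥(H ⊓ centralizer (S : Set G)) = Nat.card ↥(N ⊓ centralizer (S : Set G)) *
          Nat.card ↥((H.subgroupOf L).map f ⊓ centralizer ((S.subgroupOf L).map f : Set (L ⧸ N₀))) := by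
      intro S hS hSH hcS
      have e : (H ⊓ centralizer (S : Set G)).subgroupOf L =
          H.subgroupOf L ⊓ centralizer ((S.subgroupOf L : Subgroup L) : Set L) := by
        ext x
        simp only [mem_subgroupOf, mem_inf, mem_centralizer_iff, SetLike.mem_coe, and_congr_right_iff]
        exact fun _ => ⟨fun hx s hs => Subtype.ext (hx s hs), fun hx s hs =>
          congrArg Subtype.val (hx ⟨s, hS hs⟩ hs)⟩
      have hn : S.subgroupOf L ≤ normalizer ((H.subgroupOf L : Subgroup L) : Set L) := fun a ha =>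
        mem_normalizer_fintype fun z hz => (mem_normalizer_iff.mp (hSH ha) (z : G)).mp hz
      have := h.solv
      have hsol : Group.IsSolvable (H.subgroupOf L) :=
        Group.isSolvable_of_isSolvable_injective (f := (subgroupOfEquivOfLe hHN).toMonoidHom)
          (subgroupOfEquivOfLe hHN).injective
      rw [hcard (H ⊓ centralizer (S : Set G)) (inf_le_left.trans hHN), e,
        Coprime.map_inf_centralizer f hn (by
          rwa [Nat.card_congr (subgroupOfEquivOfLe hS).toEquiv, Nat.card_congr (subgroupOfEquivOfLe hHN).toEquiv])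
          (Or.inr hsol), inf_right_comm, inf_eq_right.mpr hNH]
    rintro ⟨S, S'⟩ hS
    simp only [Set.mem_insert_iff, Set.mem_singleton_iff, Prod.mk.injEq] at hS
    rcases hS with ⟨rfl, rfl⟩ | ⟨rfl, rfl⟩ | ⟨rfl, rfl⟩
    · exact key _ hUN h.hUH hcU.symm
    · exact key _ hEN h.hEH hcE.symm
    · have hk := key (U ⊔ E) (sup_le hUN hEN) (sup_le h.hUH h.hEH) (by
        rw [Coprime.card_sup_of_coprime h.hEU h.coprime_UE.symm]
        exact h.cop.symm)
      rwa [subgroupOf_sup hUN hEN, Subgroup.map_sup] at hk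

/-- Passing to a faithful action. -/
theorem exists_faithful {p : ℕ} {H U E : Subgroup G} (h : Hyp H U E) (hHel : IsElementaryAbelian p H)
    (hne : U ⊓ centralizer (H : Set G) ≠ ⊥) (hU : H ⊓ centralizer (U : Set G) = ⊥)
    (hE : ∀ a ∈ E, a ≠ 1 → a ∉ centralizer (H : Set G)) :
    ∃ (G' : Type u) (_ : Group G') (_ : Finite G') (H' U' E' : Subgroup G'),
      Hyp H' U' E' ∧ IsElementaryAbelian p H' ∧ H' ⊓ centralizer (U' : Set G') = ⊥ ∧
      Nat.card H' = Nat.card H ∧ Nat.card U' < Nat.card U ∧ Nat.card E' = Nat.card E ∧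
      Nat.card ↥(H' ⊓ centralizer (E' : Set G')) = Nat.card ↥(H ⊓ centralizer (E : Set G)) ∧
      ((⁅U', U'⁆ ≤ centralizer (H' : Set G')) → ⁅U, U⁆ ≤ centralizer (H : Set G)) := by
  set N := normalizer (H : Set G) with hN
  let G' := SemidirectProduct H (MulAut H) (MonoidHom.id _)
  have hfin : Finite G' := Finite.of_equiv _ SemidirectProduct.equivProd.symm
  let g : N →* MulAut H := H.normalizerMonoidHom
  let ψ : N →* G' := (SemidirectProduct.inr).comp g
  let ι : H →* G' := SemidirectProduct.inl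
  let H' : Subgroup G' := (⊤ : Subgroup H).map ι
  let U' : Subgroup G' := (U.subgroupOf N).map ψ
  let E' : Subgroup G' := (E.subgroupOf N).map ψ
  have hconj : ∀ (a : N) (v : H), ψ a * ι v * (ψ a)⁻¹ = ι (g a v) := fun a v => by
    show SemidirectProduct.inr (g a) * _ * (SemidirectProduct.inr (g a))⁻¹ = _
    rw [← map_inv]
    exact (SemidirectProduct.inl_aut (g a) v).symm
  have hg : ∀ (a : N) (v : H), (g a v : G) = a * v * (a : G)⁻¹ := fun a v => rfl
  have hcom : ∀ (a : N) (v : H), Commute (ψ a) (ι v) ↔ Commute (a : G) (v : G) := by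
    intro a v
    constructor
    · intro hc
      have h1 := hconj a v
      rw [hc.eq, mul_inv_cancel_right] at h1
      have h2 := congrArg Subtype.val (SemidirectProduct.inl_injective h1)
      rw [hg] at h2
      exact eq_mul_inv_iff_mul_eq.mp h2 |>.symm
    · intro hc
      have h1 := hconj a v
      rw [show g a v = v from Subtype.ext (by rw [hg, hc.eq, mul_inv_cancel_right])] at h1
      exact mul_inv_eq_iff_eq_mul.mp h1
  have hcen : ∀ a : N, ψ a ∈ centralizer (H' : Set G') ↔ (a : G) ∈ centralizer (H : Set G) := by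
    intro a
    constructor
    · intro ha
      refine mem_centralizer_iff.mpr fun v hv => ?_
      exact ((hcom a ⟨v, hv⟩).mp (mem_centralizer_iff.mp ha _ (mem_map_of_mem ι (mem_top _))).symm).symm
    · intro ha
      refine mem_centralizer_iff.mpr ?_
      rintro _ ⟨v, -, rfl⟩
      exact ((hcom a v).mpr (mem_centralizer_iff.mp ha v v.2).symm).symm
  have hnorm : ∀ a : N, ψ a ∈ normalizer (H' : Set G') := by
    intro a
    refine mem_normalizer_fintype ?_
    rintro _ ⟨v, -, rfl⟩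
    exact ⟨g a v, mem_top _, (hconj a v).symm⟩
  have hUN : U ≤ N := h.hUH
  have hEN : E ≤ N := h.hEH
  have hfix : ∀ S : Subgroup G, S ≤ N →
      H' ⊓ centralizer ((S.subgroupOf N).map ψ : Set G') = ((H ⊓ centralizer (S : Set G)).subgroupOf H).map ι := by
    intro S hS
    refine le_antisymm ?_ ?_
    · rintro _ ⟨⟨v, -, rfl⟩, hv⟩
      refine mem_map_of_mem ι (mem_subgroupOf.mpr (mem_inf.mpr ⟨v.2, mem_centralizer_iff.mpr fun s hs => ?_⟩))
      exact ((hcom ⟨s, hS hs⟩ v).mp (mem_centralizer_iff.mp hv _ (mem_map_of_mem ψ (show (⟨s, hS hs⟩ : N) ∈ S.subgroupOf N from hs)))).eq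
    · rintro _ ⟨v, hv, rfl⟩
      refine mem_inf.mpr ⟨mem_map_of_mem ι (mem_top v), mem_centralizer_iff.mpr ?_⟩
      rintro _ ⟨s, hs, rfl⟩
      exact ((hcom s v).mpr (mem_centralizer_iff.mp (mem_inf.mp (mem_subgroupOf.mp hv)).2 s hs)).eq
  have hψ1 : ∀ a : N, ψ a = 1 → (a : G) ∈ centralizer (H : Set G) := fun a e => (hcen a).mp (e ▸ one_mem _)
  have hcard_le : ∀ S : Subgroup G, S ≤ N → Nat.card ((S.subgroupOf N).map ψ) ∣ Nat.card S := fun S hS =>
    (card_map_dvd _ _).trans (dvd_of_eq (Nat.card_congr (subgroupOfEquivOfLe hS).toEquiv))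
  have hEc : Nat.card E' = Nat.card E := by
    have h1 := FrobeniusFormula.card_eq_inf_ker_mul ψ (E.subgroupOf N)
    have h2 : E.subgroupOf N ⊓ ψ.ker = ⊥ := le_bot_iff.mp fun a ha => by
      obtain ⟨haE, hak⟩ := mem_inf.mp ha
      by_contra hne1
      exact hE (a : G) haE (fun e => hne1 (mem_bot.mpr (Subtype.ext e))) (hψ1 a hak)
    rw [h2, card_bot, one_mul, Nat.card_congr (subgroupOfEquivOfLe hEN).toEquiv] at h1
    exact h1.symm
  have hUc : Nat.card U' < Nat.card U := by
    have h1 := FrobeniusFormula.card_eq_inf_ker_mul ψ (U.subgroupOf N)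
    rw [Nat.card_congr (subgroupOfEquivOfLe hUN).toEquiv] at h1
    obtain ⟨y, hy, hy1⟩ := (bot_or_exists_ne_one _).resolve_left hne
    obtain ⟨hyU, hyC⟩ := mem_inf.mp hy
    have hk : (⟨y, hUN hyU⟩ : N) ∈ U.subgroupOf N ⊓ ψ.ker := by
      refine mem_inf.mpr ⟨hyU, ?_⟩
      show SemidirectProduct.inr (g _) = 1
      rw [show g ⟨y, hUN hyU⟩ = 1 from MulEquiv.ext fun v => Subtype.ext (by
        rw [hg, MulAut.one_apply, ← mem_centralizer_iff.mp hyC v v.2, mul_inv_cancel_right]), map_one]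
    have h2 : 1 < Nat.card ↥(U.subgroupOf N ⊓ ψ.ker) := (one_lt_card_iff_ne_bot _).mpr fun e => hy1 (by
      rw [e, mem_bot] at hk; exact congrArg Subtype.val hk)
    rw [h1]
    exact lt_mul_of_one_lt_left Nat.card_pos h2
  have hfixc : ∀ S : Subgroup G, S ≤ N → Nat.card ↥(H' ⊓ centralizer ((S.subgroupOf N).map ψ : Set G')) =
      Nat.card ↥(H ⊓ centralizer (S : Set G)) := fun S hS => by
    rw [hfix S hS, card_map_of_injective SemidirectProduct.inl_injective,
      Nat.card_congr (subgroupOfEquivOfLe inf_le_left).toEquiv]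
  have hH'c : Nat.card H' = Nat.card H := by
    rw [card_map_of_injective SemidirectProduct.inl_injective, card_top]
  have hU'H : U' ≤ normalizer (H' : Set G') := by rintro _ ⟨a, -, rfl⟩; exact hnorm a
  have hE'H : E' ≤ normalizer (H' : Set G') := by rintro _ ⟨a, -, rfl⟩; exact hnorm a
  have hH'el : IsElementaryAbelian p H' := by
    refine ⟨⟨⟨?_⟩⟩, ?_⟩
    · rintro ⟨_, v, -, rfl⟩ ⟨_, w, -, rfl⟩
      apply Subtype.ext
      simp only [Subgroup.coe_mul]
      rw [← map_mul, ← map_mul, hHel.1.is_comm.comm v w]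
    · rintro _ ⟨v, -, rfl⟩
      rw [← map_pow, show v ^ p = 1 from Subtype.ext (hHel.2 _ v.2), map_one]
  have hE'U : E' ≤ normalizer (U' : Set G') := by
    rintro _ ⟨a, ha, rfl⟩
    refine le_normalizer_map ψ ⟨a, ?_, rfl⟩
    exact mem_normalizer_fintype fun z hz => (mem_normalizer_iff.mp (h.hEU ha) (z : G)).mp hz
  have hfpf' : ∀ a ∈ E', a ≠ 1 → ∀ u ∈ U', a * u = u * a → u = 1 := by
    rintro _ ⟨a, ha, rfl⟩ ha1 _ ⟨u, hu, rfl⟩ e
    set C₀ := U ⊓ centralizer (H : Set G) with hC₀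
    have hN₀ : ∀ {A : Subgroup G}, A ≤ normalizer (U : Set G) → A ≤ N → A ≤ normalizer (C₀ : Set G) :=
      fun hA hAN => le_trans (le_inf hA (hAN.trans (CharP.normalizer_le_normalizer_centralizer H)))
        inf_normalizer_le_normalizer_inf
    have hmem : ∀ b ∈ zpowers (a : G), b * u * b⁻¹ * (u : G)⁻¹ ∈ C₀ := by
      intro b hb
      have hbE : b ∈ E := zpowers_le.mpr (show (a : G) ∈ E from ha) hb
      refine mem_inf.mpr ⟨mul_mem ((mem_normalizer_iff.mp (h.hEU hbE) _).mp hu) (inv_mem hu), ?_⟩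
      obtain ⟨n, hn⟩ := mem_zpowers_iff.mp hb
      refine (hcen (⟨b, hEN hbE⟩ * u * ⟨b, hEN hbE⟩⁻¹ * u⁻¹)).mp ?_
      have eb : (⟨b, hEN hbE⟩ : N) = a ^ n := Subtype.ext (by rw [SubgroupClass.coe_zpow, hn])
      have hc : Commute (ψ a ^ n) (ψ u) := (show Commute (ψ a) (ψ u) from e).zpow_left n
      rw [eb, map_mul, map_mul, map_mul, map_inv, map_inv, map_zpow, hc.eq, mul_inv_cancel_right, mul_inv_cancel]
      exact one_mem _
    have hcopA : (Nat.card (zpowers (a : G))).Coprime (Nat.card U) :=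
      h.coprime_UE.coprime_dvd_left (card_dvd_of_le (zpowers_le.mpr (show (a : G) ∈ E from ha)))
    obtain ⟨c, hc, hcu⟩ := Coprime.exists_fixed_mod hcopA
      (Or.inl (Coprime.isSolvable_of_isMulCommutative _)) inf_le_left (hN₀ le_normalizer hUN)
      ((zpowers_le.mpr (show (a : G) ∈ E from ha)).trans (hN₀ h.hEU hEN)) hu hmem
    obtain ⟨hcU, hcA⟩ := mem_inf.mp hc
    have ha' : (a : G) ≠ 1 := fun e1 => ha1 (by rw [show a = 1 from Subtype.ext e1, map_one])
    rw [h.fpf _ ha ha' c hcU (mem_centralizer_iff.mp hcA a (mem_zpowers _)), mul_one] at hcu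
    have huC : (u : G) ∈ centralizer (H : Set G) := by simpa using inv_mem (mem_inf.mp hcu).2
    show SemidirectProduct.inr (g u) = 1
    rw [show g u = 1 from MulEquiv.ext fun v => Subtype.ext (by
      rw [hg, MulAut.one_apply, ← mem_centralizer_iff.mp huC v v.2, mul_inv_cancel_right]), map_one]
  refine ⟨G', inferInstance, hfin, H', U', E', ⟨hE'U, hfpf', hU'H, hE'H, ?_, ?_⟩, hH'el, ?_, hH'c, hUc, hEc,
    hfixc E hEN, ?_⟩
  · have := hH'el.1
    exact Coprime.isSolvable_of_isMulCommutative H'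
  · rw [hH'c, hEc]
    exact h.cop.coprime_dvd_right (Nat.mul_dvd_mul_right (hcard_le U hUN) _)
  · rw [← card_eq_one, hfixc U hUN, hU, card_bot]
  · intro h1
    rw [commutator_le] at h1 ⊢
    intro x hx y hy
    have h2 := h1 _ (mem_map_of_mem ψ (show (⟨x, hUN hx⟩ : N) ∈ U.subgroupOf N from hx)) _
      (mem_map_of_mem ψ (show (⟨y, hUN hy⟩ : N) ∈ U.subgroupOf N from hy))
    rw [← map_commutatorElement] at h2
    exact (hcen _).mp h2

theorem not_centralizing {H U E : Subgroup G} (h : Hyp H U E) (hU : H ⊓ centralizer (U : Set G) = ⊥)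
    (hH : H ≠ ⊥) : ∀ a ∈ E, a ≠ 1 → a ∉ centralizer (H : Set G) := by
  intro a ha ha1 hc
  refine hH (le_bot_iff.mp (hU ▸ le_inf le_rfl (le_centralizer_iff.mp fun u hu => ?_)))
  -- every element of `U` is a commutator with `a`
  have hinj : Function.Injective fun v : U =>
      (⟨(v : G)⁻¹ * (a * v * a⁻¹), mul_mem (inv_mem v.2) ((mem_normalizer_iff.mp (h.hEU ha) _).mp v.2)⟩ : U) := by
    intro x y e
    have e1 : (x : G)⁻¹ * (a * x * a⁻¹) = (y : G)⁻¹ * (a * y * a⁻¹) := congrArg Subtype.val e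
    refine Subtype.ext (mul_inv_eq_one.mp (h.fpf a ha ha1 _ (mul_mem x.2 (inv_mem y.2)) ?_))
    calc a * (x * (y : G)⁻¹) = x * ((x : G)⁻¹ * (a * x * a⁻¹)) * a * (y : G)⁻¹ := by group
      _ = x * ((y : G)⁻¹ * (a * y * a⁻¹)) * a * (y : G)⁻¹ := by rw [e1]
      _ = _ := by group
  obtain ⟨v, hv⟩ := (Finite.injective_iff_surjective.mp hinj) ⟨u, hu⟩
  have e : (v : G)⁻¹ * (a * v * a⁻¹) = u := congrArg Subtype.val hv
  rw [← e]
  refine mem_centralizer_iff.mpr fun w hw => ?_
  have hvN := h.hUH v.2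
  have hm : (v : G)⁻¹ * a * v ∈ centralizer (H : Set G) := by
    have h1 := (mem_normalizer_iff.mp (CharP.normalizer_le_normalizer_centralizer H (inv_mem hvN)) a).mp hc
    rwa [inv_inv] at h1
  have hm2 : (v : G)⁻¹ * (a * v * a⁻¹) ∈ centralizer (H : Set G) := by
    rw [show (v : G)⁻¹ * (a * v * a⁻¹) = ((v : G)⁻¹ * a * v) * a⁻¹ by group]
    exact mul_mem hm (inv_mem hc)
  exact mem_centralizer_iff.mp hm2 w hw

theorem isNilpotent_kernel {H U E : Subgroup G} (h : Hyp H U E) (hE : E ≠ ⊥) : Group.IsNilpotent U := by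
  obtain ⟨p, hp, hpd⟩ := Nat.exists_prime_and_dvd ((one_lt_card_iff_ne_bot _).mpr hE).ne'
  have := Fact.mk hp
  obtain ⟨a, ha⟩ := exists_prime_orderOf_dvd_card' (G := E) p hpd
  have ha1 : (a : G) ≠ 1 := fun e => hp.ne_one (by rw [← ha, ← Subgroup.orderOf_coe, e, orderOf_one])
  refine Solvable.Thompson.isNilpotent_of_fixedPointFree (U.normalizerMonoidHom ⟨a, h.hEU a.2⟩ : MulAut U) hp
    (fun x hx => Subtype.ext (h.fpf a a.2 ha1 x x.2 (mul_inv_eq_iff_eq_mul.mp (congrArg Subtype.val hx :)))) ?_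
  rw [← map_pow, show (⟨(a : G), h.hEU a.2⟩ : normalizer (U : Set G)) ^ p = 1 from Subtype.ext (by
    rw [SubmonoidClass.coe_pow, ← ha, ← Subgroup.orderOf_coe, pow_orderOf_eq_one, OneMemClass.coe_one]), map_one]

/-- The abelian centre of the kernel. -/
theorem exists_center {H U E : Subgroup G} (h : Hyp H U E) (hE : E ≠ ⊥) (hU : U ≠ ⊥) :
    ∃ Z : Subgroup G, Z ≤ U ∧ Z ≠ ⊥ ∧ E ≤ normalizer (Z : Set G) ∧ U ≤ normalizer (Z : Set G) ∧
      (∀ u ∈ U, ∀ z ∈ Z, u * z = z * u) := by
  have := isNilpotent_kernel h hE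
  refine ⟨(center U).map U.subtype, map_subtype_le _, ?_, ?_, ?_, ?_⟩
  · rw [Ne, map_eq_bot_iff_of_injective _ U.subtype_injective]
    have : Nontrivial U := (nontrivial_iff_ne_bot U).mpr hU
    have h1 := Cores.inf_center_ne_bot (N := (⊤ : Subgroup U)) top_ne_bot
    rwa [top_inf_eq] at h1
  · exact h.hEU.trans (Coprime.OmegaDetect.normalizer_le_normalizer_char U _)
  · exact le_normalizer.trans (Coprime.OmegaDetect.normalizer_le_normalizer_char U _)
  · rintro u hu _ ⟨z, hz, rfl⟩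
    exact congrArg Subtype.val (mem_center_iff.mp hz ⟨u, hu⟩)

theorem not_dvd {H U E : Subgroup G} (h : Hyp H U E) {p : ℕ} (hp : p.Prime) (hpH : p ∣ Nat.card H) :
    ¬ p ∣ Nat.card U ∧ ¬ p ∣ Nat.card E :=
  ⟨fun hd => hp.ne_one (Nat.eq_one_of_dvd_coprimes h.cop hpH (hd.trans (dvd_mul_right _ _))),
    fun hd => hp.ne_one (Nat.eq_one_of_dvd_coprimes h.cop hpH (hd.trans (dvd_mul_left _ _)))⟩

theorem dvd_card_of_elementary {H : Subgroup G} {p : ℕ} (hp : p.Prime) (hel : IsElementaryAbelian p H)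
    (hH : H ≠ ⊥) : p ∣ Nat.card H := by
  have := Fact.mk hp
  exact (Components.Hyperplane.isPGroup hel).card_eq_or_dvd.resolve_left fun e => hH (card_eq_one.mp e)

/-- The induction on `|H| |U|`. -/
theorem formula_aux : ∀ (n : ℕ) {G : Type u} [Group G] [Finite G] {H U E : Subgroup G},
    Hyp H U E → Nat.card H * Nat.card U < n → Formula H U E := by
  intro n
  induction n with
  | zero => intro G _ _ H U E _ hlt; exact absurd hlt (Nat.not_lt_zero _)
  | succ n ih =>
  intro G _ _ H U E h hlt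
  classical
  rw [Nat.lt_succ_iff] at hlt
  by_cases hH : H = ⊥
  · simp [Formula, hH]
  by_cases hE : E = ⊥
  · have htop : H ⊓ centralizer ((⊥ : Subgroup G) : Set G) = H := inf_eq_left.mpr fun x _ => by
      simp [mem_centralizer_iff]
    rw [Formula, hE, sup_bot_eq, card_bot, pow_one, pow_one, htop, mul_comm]
  -- splitting along an invariant normal subgroup
  have hsplit : ∀ N : Subgroup G, N ≤ H → N ≠ ⊥ → N ≠ H → H ≤ normalizer (N : Set G) →
      U ≤ normalizer (N : Set G) → E ≤ normalizer (N : Set G) → Formula H U E := by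
    intro N hNH hN0 hNne hHN hUN hEN
    obtain ⟨G', _, _, H', U', E', h', hU', hE', hH', hfix⟩ := exists_quotient h hNH hHN hUN hEN
    have h1 := hfix (U, U') (by simp)
    have h2 := hfix (E, E') (by simp)
    have h3 := hfix (U ⊔ E, U' ⊔ E') (by simp)
    simp only at h1 h2 h3
    have hNlt : Nat.card N < Nat.card H := lt_of_le_of_ne (card_le_of_le hNH)
      fun e => hNne (eq_of_le_of_card_ge hNH e.ge)
    have hN1 : 1 < Nat.card N := (one_lt_card_iff_ne_bot _).mpr hN0
    have hH'lt : Nat.card H' < Nat.card H := hH' ▸ lt_mul_of_one_lt_left Nat.card_pos hN1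
    have a := ih (h.mono hNH hUN hEN) (lt_of_lt_of_le (Nat.mul_lt_mul_of_pos_right hNlt Nat.card_pos) hlt)
    have b := ih h' (by
      rw [hU']; exact lt_of_lt_of_le (Nat.mul_lt_mul_of_pos_right hH'lt Nat.card_pos) hlt)
    unfold Formula at a b ⊢
    rw [hE'] at b
    rw [h1, h2, h3, hH', mul_pow, mul_pow, mul_mul_mul_comm, a, b, mul_mul_mul_comm]
  -- reduce to an abelian group
  have hHn : ∀ N : Subgroup H, N.Characteristic →
      H ≤ normalizer ((N.map H.subtype : Subgroup G) : Set G) ∧ U ≤ normalizer ((N.map H.subtype : Subgroup G) : Set G) ∧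
        E ≤ normalizer ((N.map H.subtype : Subgroup G) : Set G) := fun N hN => by
    have := hN
    exact ⟨le_normalizer.trans (Coprime.OmegaDetect.normalizer_le_normalizer_char H N),
      h.hUH.trans (Coprime.OmegaDetect.normalizer_le_normalizer_char H N),
      h.hEH.trans (Coprime.OmegaDetect.normalizer_le_normalizer_char H N)⟩
  by_cases hab : ⁅H, H⁆ = ⊥
  swap
  · obtain ⟨a, b, c⟩ := hHn (commutator H) inferInstance
    rw [map_subtype_commutator] at a b c
    exact hsplit _ (Coprime.commutator_le_of_le_normalizer le_normalizer) hab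
      (Coprime.commutator_lt_of_isSolvable h.solv hH).ne a b c
  have hHc : ∀ x ∈ H, ∀ y ∈ H, x * y = y * x := fun x hx y hy =>
    commutatorElement_eq_one_iff_mul_comm.mp ((eq_bot_iff_forall _).mp hab _ (commutator_mem_commutator hx hy))
  have hHcomm : IsMulCommutative H := ⟨⟨fun a b => Subtype.ext (hHc a a.2 b b.2)⟩⟩
  obtain ⟨p, hp, hpd⟩ := Nat.exists_prime_and_dvd ((one_lt_card_iff_ne_bot _).mpr hH).ne'
  have := Fact.mk hp
  let Ω : Subgroup G :=
    { carrier := {x | x ∈ H ∧ x ^ p = 1}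
      one_mem' := ⟨one_mem _, one_pow _⟩
      mul_mem' := fun {a b} ha hb => ⟨mul_mem ha.1 hb.1, by
        rw [(show Commute a b from hHc a ha.1 b hb.1).mul_pow, ha.2, hb.2, one_mul]⟩
      inv_mem' := fun {a} ha => ⟨inv_mem ha.1, by rw [inv_pow, ha.2, inv_one]⟩ }
  by_cases hΩ : Ω = H
  swap
  · have hΩH : Ω ≤ H := fun x hx => hx.1
    have hΩ0 : Ω ≠ ⊥ := by
      obtain ⟨x, hx⟩ := exists_prime_orderOf_dvd_card' (G := H) p hpd
      intro e
      have h1 : (x : G) ∈ Ω := ⟨x.2, by rw [← hx, ← Subgroup.orderOf_coe, pow_orderOf_eq_one]⟩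
      rw [e, mem_bot] at h1
      exact hp.ne_one (by rw [← hx, ← Subgroup.orderOf_coe, h1, orderOf_one])
    have hn : normalizer (H : Set G) ≤ normalizer (Ω : Set G) := fun x hx =>
      mem_normalizer_fintype fun y hy => ⟨(mem_normalizer_iff.mp hx y).mp hy.1, by
        rw [conj_pow, hy.2, mul_one, mul_inv_cancel]⟩
    exact hsplit Ω hΩH hΩ0 hΩ (le_normalizer.trans hn) (h.hUH.trans hn) (h.hEH.trans hn)
  have hel : IsElementaryAbelian p H := ⟨hHcomm, fun x hx => (show x ∈ Ω from hΩ.ge hx).2⟩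
  have hcN : ∀ S : Subgroup G, U ≤ normalizer (S : Set G) → E ≤ normalizer (S : Set G) →
      H ≤ normalizer ((H ⊓ centralizer (S : Set G) : Subgroup G) : Set G) ∧
      U ≤ normalizer ((H ⊓ centralizer (S : Set G) : Subgroup G) : Set G) ∧
      E ≤ normalizer ((H ⊓ centralizer (S : Set G) : Subgroup G) : Set G) := fun S hUS hES =>
    ⟨fun x hx => centralizer_le_normalizer _ (mem_centralizer_iff.mpr fun y hy => hHc y (mem_inf.mp hy).1 x hx),
      le_trans (le_inf h.hUH (hUS.trans (CharP.normalizer_le_normalizer_centralizer S))) inf_normalizer_le_normalizer_inf,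
      le_trans (le_inf h.hEH (hES.trans (CharP.normalizer_le_normalizer_centralizer S))) inf_normalizer_le_normalizer_inf⟩
  by_cases hCU : H ⊓ centralizer (U : Set G) = ⊥
  swap
  · by_cases hCU' : H ⊓ centralizer (U : Set G) = H
    · show _ * _ = _ * _
      rw [centralizer_sup, ← inf_assoc, hCU']
    · obtain ⟨a, b, c⟩ := hcN U le_normalizer h.hEU
      exact hsplit _ inf_le_left hCU hCU' a b c
  have hU0 : U ≠ ⊥ := fun e => hH (by
    rw [← hCU, e, inf_eq_left.mpr]
    intro x _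
    simp [mem_centralizer_iff])
  show _ * _ = _ * _
  rw [centralizer_sup, ← inf_assoc, hCU, bot_inf_eq, card_bot, one_pow, one_mul, mul_one]
  by_cases hne : U ⊓ centralizer (H : Set G) = ⊥
  swap
  · obtain ⟨G', _, _, H', U', E', h', hel', hU', hcH, hcU, hcE, hcfix, -⟩ :=
      exists_faithful h hel hne hCU (not_centralizing h hCU hH)
    have a := ih h' (by rw [hcH]; exact lt_of_lt_of_le (Nat.mul_lt_mul_of_pos_left hcU Nat.card_pos) hlt)
    unfold Formula at a
    rw [centralizer_sup, ← inf_assoc, hU', bot_inf_eq, card_bot, one_pow, one_mul, mul_one, hcH, hcE, hcfix] at a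
    exact a
  obtain ⟨Z, hZU, hZ0, hEZ, hUZ, hUZc⟩ := exists_center h hE hU0
  by_cases hCZ : H ⊓ centralizer (Z : Set G) = ⊥
  · obtain ⟨hpU, hpE⟩ := not_dvd h hp hpd
    exact (FrobeniusCoprime.core_abelian hp hel (hZU.trans h.hUH) h.hEH hEZ
      (fun x hx y hy => hUZc x (hZU hx) y hy) (fun a ha ha1 z hz e => h.fpf a ha ha1 z (hZU hz) e)
      hCZ (fun hd => hpU (hd.trans (card_dvd_of_le hZU))) hpE).1
  · have hCZ' : H ⊓ centralizer (Z : Set G) ≠ H := fun e => hZ0 (le_bot_iff.mp (hne ▸ le_inf hZU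
      (le_centralizer_iff.mp (inf_eq_left.mp e))))
    obtain ⟨a, b, c⟩ := hcN Z hUZ hEZ
    have h1 := hsplit _ inf_le_left hCZ hCZ' a b c
    unfold Formula at h1
    rwa [centralizer_sup, ← inf_assoc, hCU, bot_inf_eq, card_bot, one_pow, one_mul, mul_one] at h1

/-- Wielandt's formula. -/
theorem formula {H U E : Subgroup G} (h : Hyp H U E) : Formula H U E :=
  formula_aux _ h (Nat.lt_succ_self _)

/-- No fixed points of the kernel, at most a line for the complement: the kernel acts as an abelian group. -/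
theorem commutator_aux {p : ℕ} (hp : p.Prime) : ∀ (n : ℕ) {G : Type u} [Group G] [Finite G] {H U E : Subgroup G},
    Hyp H U E → IsElementaryAbelian p H → H ⊓ centralizer (U : Set G) = ⊥ → E ≠ ⊥ →
    Nat.card ↥(H ⊓ centralizer (E : Set G)) ≤ p → Nat.card U < n → ⁅U, U⁆ ≤ centralizer (H : Set G) := by
  intro n
  induction n with
  | zero => intro G _ _ H U E _ _ _ _ _ hlt; exact absurd hlt (Nat.not_lt_zero _)
  | succ n ih =>
  intro G _ _ H U E h hel hCU hE hW hlt
  have := Fact.mk hp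
  by_cases hH : H = ⊥
  · intro x _
    rw [mem_centralizer_iff]
    intro y hy
    rw [hH, SetLike.mem_coe, mem_bot] at hy
    simp [hy]
  have hU0 : U ≠ ⊥ := fun e => hH (by
    rw [← hCU, e, inf_eq_left.mpr]
    intro x _
    simp [mem_centralizer_iff])
  by_cases hne : U ⊓ centralizer (H : Set G) = ⊥
  swap
  · obtain ⟨G', _, _, H', U', E', h', hel', hU', hcH, hcU, hcE, hcfix, hback⟩ :=
      exists_faithful h hel hne hCU (not_centralizing h hCU hH)
    refine hback (ih h' hel' hU' (fun e => hE ?_) (hcfix ▸ hW) (lt_of_lt_of_le hcU (Nat.lt_succ_iff.mp hlt)))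
    rw [← card_eq_one, ← hcE, e, card_bot]
  obtain ⟨Z, hZU, hZ0, hEZ, hUZ, hUZc⟩ := exists_center h hE hU0
  obtain ⟨hpU, hpE⟩ := not_dvd h hp (dvd_card_of_elementary hp hel hH)
  have := hel.1
  have hfixed : ∀ V₀ : Subgroup G, V₀ ≤ H → U ≤ normalizer (V₀ : Set G) → E ≤ normalizer (V₀ : Set G) →
      V₀ ≠ ⊥ → H ⊓ centralizer (E : Set G) ≤ V₀ := by
    intro V₀ hle hUV hEV hV0
    have h1 := formula (h.mono hle hUV hEV)
    unfold Formula at h1
    rw [centralizer_sup, ← inf_assoc, show V₀ ⊓ centralizer (U : Set G) = ⊥ from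
      le_bot_iff.mp ((inf_le_inf_right _ hle).trans hCU.le), bot_inf_eq, card_bot, one_pow, one_mul, mul_one] at h1
    have hW0 : V₀ ⊓ centralizer (E : Set G) ≠ ⊥ := fun e => hV0 (by
      rw [← card_eq_one, h1, e, card_bot, one_pow])
    have hsub : V₀ ⊓ centralizer (E : Set G) ≤ H ⊓ centralizer (E : Set G) := inf_le_inf_right _ hle
    rw [← eq_of_le_of_card_ge hsub]
    · exact inf_le_left
    · refine hW.trans (Nat.le_of_dvd Nat.card_pos ?_)
      exact dvd_card_of_elementary hp (Components.Hyperplane.isElementaryAbelian_of_le hel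
        (inf_le_left.trans hle)) hW0
  have hZH : Z ≤ normalizer (H : Set G) := hZU.trans h.hUH
  have hcopZ : (Nat.card Z).Coprime (Nat.card H) :=
    (h.cop.coprime_dvd_right ((card_dvd_of_le hZU).trans (dvd_mul_right _ _))).symm
  by_cases hCZ : H ⊓ centralizer (Z : Set G) = ⊥
  · rw [commutator_le]
    intro x hx y hy
    exact (FrobeniusCoprime.core_abelian hp hel hZH h.hEH hEZ
      (fun a ha b hb => hUZc a (hZU ha) b hb) (fun a ha ha1 z hz e => h.fpf a ha ha1 z (hZU hz) e)
      hCZ (fun hd => hpU (hd.trans (card_dvd_of_le hZU))) hpE).2 hW x (h.hUH hx) y (h.hUH hy)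
      (fun z hz => hUZc x hx z hz) (fun z hz => hUZc y hy z hz)
  exfalso
  set V₁ := H ⊓ centralizer (Z : Set G) with hV₁
  set V₂ := ⁅H, Z⁆ with hV₂
  have hV₂0 : V₂ ≠ ⊥ := fun e => hZ0 (le_bot_iff.mp (hne ▸ le_inf hZU
    (Coprime.commutator_eq_bot_iff_le_centralizer'.mp e)))
  have hdisj := Coprime.inf_centralizer_inf_commutator (V := H) hZH hcopZ
  have hWV₁ := hfixed V₁ inf_le_left
    (le_trans (le_inf h.hUH (hUZ.trans (CharP.normalizer_le_normalizer_centralizer Z))) inf_normalizer_le_normalizer_inf)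
    (le_trans (le_inf h.hEH (hEZ.trans (CharP.normalizer_le_normalizer_centralizer Z))) inf_normalizer_le_normalizer_inf)
    hCZ
  have hWV₂ := hfixed V₂ (Coprime.commutator_le_of_le_normalizer hZH)
    (fun a ha => Coprime.FrobeniusPGroup.mem_normalizer_commutator (h.hUH ha) (hUZ ha))
    (fun a ha => Coprime.FrobeniusPGroup.mem_normalizer_commutator (h.hEH ha) (hEZ ha)) hV₂0
  have hW0 : H ⊓ centralizer (E : Set G) = ⊥ := le_bot_iff.mp ((le_inf hWV₁ hWV₂).trans hdisj.le)
  have h1 := formula h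
  unfold Formula at h1
  rw [centralizer_sup, ← inf_assoc, hCU, bot_inf_eq, card_bot, one_pow, one_mul, mul_one, hW0, card_bot, one_pow] at h1
  exact hH (card_eq_one.mp h1)

theorem commutator_le_centralizer {p : ℕ} (hp : p.Prime) {H U E : Subgroup G} (h : Hyp H U E)
    (hel : IsElementaryAbelian p H) (hCU : H ⊓ centralizer (U : Set G) = ⊥) (hE : E ≠ ⊥)
    (hW : Nat.card ↥(H ⊓ centralizer (E : Set G)) ≤ p) : ⁅U, U⁆ ≤ centralizer (H : Set G) :=
  commutator_aux hp _ h hel hCU hE hW (Nat.lt_succ_self _)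

end Cfsg.Agent.OddLocal.FrobeniusFormula
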