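import Cfsg.Agent.OddLocal.CN
import Cfsg.Agent.Lib.Coprime.FixedPointFree
import Cfsg.Agent.OddLocal.Basics
import Mathlib.GroupTheory.FixedPointFree
import Mathlib.GroupTheory.SpecificGroups.ZGroup

/-! Fixed-point-free actions in CN-groups. -/

set_option autoImplicit false
set_option linter.unusedSectionVars false

namespace Cfsg.Agent.OddLocal.CN

open Cfsg Subgroup
open scoped commutatorElement

universe u

variable {G : Type u} [Group G] [Finite G]

theorem isCNGroup_subgroup (hCN : IsCNGroup G) (E : Subgroup G) : IsCNGroup E := by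
  intro e he
  have h := Cores.isNilpotent_subgroupOf (hCN (e : G) (fun h => he (Subtype.ext h))) E
  refine Cores.isNilpotent_to_le (fun x hx => ?_) h
  exact mem_centralizer_singleton_iff.mpr (congrArg Subtype.val (mem_centralizer_singleton_iff.mp hx))

/-- An involution acting without fixed points inverts. -/
theorem conj_eq_inv_of_involution {K : Subgroup G} {i : G} (hiK : i ∈ normalizer (K : Set G))
    (hi : orderOf i = 2) (hfpf : K ⊓ centralizer {i} = ⊥) {k : G} (hk : k ∈ K) :
    i * k * i⁻¹ = k⁻¹ := by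
  have hii : i * i = 1 := by rw [← pow_two, ← hi, pow_orderOf_eq_one]
  set φ : MulAut K := normalizerMonoidHom K ⟨i, hiK⟩ with hφ
  have happ : ∀ x : K, ((φ x : K) : G) = i * x * i⁻¹ := fun x => rfl
  have h1 : MonoidHom.FixedPointFree φ := by
    intro x hx
    have hx' := congrArg Subtype.val hx
    rw [happ, mul_inv_eq_iff_eq_mul] at hx'
    refine Subtype.ext (mem_bot.mp (hfpf ▸ (⟨x.2, mem_centralizer_singleton_iff.mpr hx'.symm⟩ :
      (x : G) ∈ K ⊓ centralizer {i})))
  have h2 : Function.Involutive φ := fun x => Subtype.ext (by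
    rw [happ, happ]
    calc i * (i * (x : G) * i⁻¹) * i⁻¹ = (i * i) * x * (i * i)⁻¹ := by group
      _ = x := by rw [hii]; group)
  have h3 := congrArg Subtype.val (congrFun (MonoidHom.FixedPointFree.coe_eq_inv_of_involutive h1 h2) ⟨k, hk⟩)
  rwa [happ] at h3

/-- A nontrivial group acting without fixed points has a nontrivial centre. -/
theorem fpf_center_ne_bot {A K : Subgroup G} (hAK : A ≤ normalizer (K : Set G))
    (hfpf : ∀ a ∈ A, a ≠ 1 → K ⊓ centralizer {a} = ⊥) (hK : K ≠ ⊥) (hA : A ≠ ⊥) :
    center A ≠ ⊥ := by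
  by_cases heven : 2 ∣ Nat.card A
  · have := Fact.mk Nat.prime_two
    obtain ⟨i, hi⟩ := exists_prime_orderOf_dvd_card' (G := A) 2 heven
    have hiG : orderOf (i : G) = 2 := by rw [orderOf_coe, hi]
    have huniq : ∀ j : A, orderOf j = 2 → j = i := by
      intro j hj
      have hjG : orderOf (j : G) = 2 := by rw [orderOf_coe, hj]
      have hi1 : (i : G) ≠ 1 := fun h => by rw [h, orderOf_one] at hiG; exact absurd hiG (by norm_num)
      have hj1 : (j : G) ≠ 1 := fun h => by rw [h, orderOf_one] at hjG; exact absurd hjG (by norm_num)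
      by_contra hne
      have hmem : (j : G) * i ∈ A := mul_mem j.2 i.2
      have hne1 : (j : G) * i ≠ 1 := fun h => hne (Subtype.ext (by
        have h2 : (i : G) * i = 1 := by rw [← pow_two, ← hiG, pow_orderOf_eq_one]
        exact mul_right_cancel (h.trans h2.symm)))
      obtain ⟨k, hk, hk1⟩ := (bot_or_exists_ne_one K).resolve_left hK
      refine hk1 (mem_bot.mp (hfpf _ hmem hne1 ▸ (⟨hk, mem_centralizer_singleton_iff.mpr ?_⟩ :
        k ∈ K ⊓ centralizer {(j : G) * i})))
      have e1 := conj_eq_inv_of_involution (hAK i.2) hiG (hfpf _ i.2 hi1) hk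
      have e2 := conj_eq_inv_of_involution (hAK j.2) hjG (hfpf _ j.2 hj1) (inv_mem hk)
      rw [inv_inv] at e2
      have e3 : (j : G) * i * k * ((j : G) * i)⁻¹ = k := by
        calc (j : G) * i * k * ((j : G) * i)⁻¹ = j * (i * k * (i : G)⁻¹) * (j : G)⁻¹ := by group
          _ = k := by rw [e1, e2]
      exact (mul_inv_eq_iff_eq_mul.mp e3).symm
    intro hbot
    have hic : i ∈ center A := by
      rw [mem_center_iff]
      intro g
      have h := huniq (g * i * g⁻¹) (by
        rw [← MulAut.conj_apply]; exact (MulEquiv.orderOf_eq (MulAut.conj g) i).trans hi)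
      exact (mul_inv_eq_iff_eq_mul.mp h)
    rw [hbot, mem_bot] at hic
    rw [hic, orderOf_one] at hi
    exact absurd hi (by norm_num)
  · have : Nontrivial A := (nontrivial_iff_ne_bot A).mpr hA
    have hZ : IsZGroup A := ⟨fun l hl P => by
      have := Fact.mk hl
      have hPA : (P : Subgroup A).map A.subtype ≤ A := map_subtype_le _
      rcases Coprime.fpf_isCyclic_or_quaternion (P.isPGroup'.map A.subtype) (hPA.trans hAK)
        (Coprime.fpf_mono hfpf hPA le_rfl) hK with h | ⟨h2, -⟩
      · exact (MulEquiv.isCyclic ((P : Subgroup A).equivMapOfInjective _ A.subtype_injective)).mpr h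
      · subst h2
        have h0 : (P : Subgroup A) = ⊥ := by
          obtain ⟨j, hj⟩ := P.isPGroup'.exists_card_eq
          rcases Nat.eq_zero_or_pos j with rfl | hj0
          · exact eq_bot_of_card_eq _ (by simpa using hj)
          · exact absurd ((dvd_pow_self 2 hj0.ne').trans (hj ▸ card_subgroup_dvd_card _)) heven
        have : Subsingleton (P : Subgroup A) := by rw [h0]; infer_instance
        exact isCyclic_of_subsingleton⟩
    set C := commutator A with hC
    have hlt : C < ⊤ := IsZGroup.commutator_lt A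
    obtain ⟨l, hl, hld⟩ := Nat.exists_prime_and_dvd (mt index_eq_one.mp hlt.ne)
    have := Fact.mk hl
    have hlC : ¬ l ∣ Nat.card C := fun h =>
      Nat.not_coprime_of_dvd_of_dvd hl.one_lt h hld (IsZGroup.coprime_commutator_index A)
    obtain ⟨x, hx⟩ := exists_prime_orderOf_dvd_card' (G := A) l (hld.trans (index_dvd_card C))
    have hcyc : IsCyclic C := IsZGroup.isCyclic_commutator A
    have : IsMulCommutative C := hcyc.isMulCommutative
    have hxC : zpowers x ≤ centralizer (C : Set A) := by
      refine Coprime.le_centralizer_of_prime_order_abelian le_normalizer_of_normal ?_ ?_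
      · rw [Nat.card_zpowers, hx]; exact hl.coprime_iff_not_dvd.mpr hlC
      intro v hv hvp a ha
      have hsame : x * v * x⁻¹ ∈ zpowers v := by
        have hvx : x * v * x⁻¹ ∈ C := (inferInstance : C.Normal).conj_mem v hv x
        have e1 : (zpowers (⟨v, hv⟩ : C)) = zpowers (⟨x * v * x⁻¹, hvx⟩ : C) := by
          refine Basics.subgroup_eq_of_card_eq_of_isCyclic ?_
          simp only [Nat.card_zpowers, orderOf_mk]
          exact (MulEquiv.orderOf_eq (MulAut.conj x) v).symm
        obtain ⟨m, hm⟩ := mem_zpowers_iff.mp (e1 ▸ mem_zpowers _ :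
          (⟨x * v * x⁻¹, hvx⟩ : C) ∈ zpowers (⟨v, hv⟩ : C))
        exact ⟨m, congrArg Subtype.val hm⟩
      obtain ⟨m, hm⟩ := mem_zpowers_iff.mp hsame
      have hc := (Coprime.fpf_commute_and_mem hAK hfpf hK hvp hl v.2 x.2 (orderOf_coe v)
        (by rw [orderOf_coe, hx]) ⟨m, by simpa using congrArg Subtype.val hm⟩).1
      obtain ⟨j, rfl⟩ := mem_zpowers_iff.mp ha
      exact ((show Commute x v from Subtype.ext hc).zpow_left j).eq
    intro hbot
    have hxc : x ∈ center A := by
      rw [mem_center_iff]
      intro g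
      have hc' : ⁅g, x⁆ ∈ C := commutator_mem_commutator (mem_top g) (mem_top x)
      have h1 : Commute x ⁅g, x⁆ := (mem_centralizer_iff.mp (hxC (mem_zpowers x)) _ hc').symm
      have h3 : g * x * g⁻¹ = ⁅g, x⁆ * x := by rw [commutatorElement_def]; group
      have h2 : ⁅g, x⁆ ^ l = 1 := by
        have h4 : (g * x * g⁻¹) ^ l = 1 := by
          rw [conj_pow, ← hx, pow_orderOf_eq_one, mul_one, mul_inv_cancel]
        rw [h3, h1.symm.mul_pow, ← hx, pow_orderOf_eq_one, mul_one, hx] at h4
        exact h4
      have h5 : ⁅g, x⁆ = 1 := congrArg Subtype.val ((powCoprime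
        (hl.coprime_iff_not_dvd.mpr hlC).symm).injective (a₁ := (⟨_, hc'⟩ : C)) (a₂ := 1)
          (Subtype.ext (by simpa using h2)))
      exact commutatorElement_eq_one_iff_mul_comm.mp h5
    rw [hbot, mem_bot] at hxc
    rw [hxc, orderOf_one] at hx
    exact hl.ne_one hx.symm

/-- In a CN-group a group acting without fixed points is nilpotent. -/
theorem fpf_isNilpotent (hCN : IsCNGroup G) {A K : Subgroup G} (hAK : A ≤ normalizer (K : Set G))
    (hfpf : ∀ a ∈ A, a ≠ 1 → K ⊓ centralizer {a} = ⊥) (hK : K ≠ ⊥) : Group.IsNilpotent A := by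
  rcases eq_or_ne A ⊥ with rfl | hA
  · infer_instance
  obtain ⟨z, hz, hz1⟩ := (bot_or_exists_ne_one _).resolve_left (fpf_center_ne_bot hAK hfpf hK hA)
  refine Cores.isNilpotent_to_le (fun a ha => ?_) (hCN (z : G) (fun h => hz1 (Subtype.ext h)))
  exact mem_centralizer_singleton_iff.mpr (congrArg Subtype.val (mem_center_iff.mp hz ⟨a, ha⟩))

end Cfsg.Agent.OddLocal.CN
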