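import Cfsg.Agent.OddLocal.CN
import Cfsg.Agent.OddLocal.CNFrobenius
import Cfsg.Agent.OddLocal.Basics
import Cfsg.Prelude.Def_OddOrderLocal

/-! The nilpotent normal Hall subgroup of a CN-group. -/

set_option autoImplicit false
set_option linter.unusedSectionVars false

namespace Cfsg.Agent.OddLocal.CN

open Cfsg Subgroup

universe u

variable {G : Type u} [Group G] [Finite G]

/-- An element of order prime to a nilpotent subgroup, commuting with one of its nontrivial
elements, centralises it. -/
theorem mem_centralizer_of_commute (hCN : IsCNGroup G) {M : Subgroup G} (hM : Group.IsNilpotent M)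
    {m a : G} (hm : m ∈ M) (hm1 : m ≠ 1) (ham : Commute a m)
    (hcop : (orderOf a).Coprime (Nat.card M)) : a ∈ centralizer (M : Set G) := by
  have hM1 : M ≠ ⊥ := fun h => hm1 (mem_bot.mp (h ▸ hm))
  have : Nontrivial M := (nontrivial_iff_ne_bot M).mpr hM1
  have := hM
  obtain ⟨z, hz, hz1⟩ := (bot_or_exists_ne_one (center M)).resolve_left (by
    intro h
    have := OddLocal.Coprime.inf_center_ne_bot (G := M) (N := ⊤) inferInstance top_ne_bot
    rw [top_inf_eq] at this
    exact this h)
  have hzg : (z : G) ≠ 1 := fun h => hz1 (Subtype.ext h)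
  have hzM : ∀ y ∈ M, Commute y (z : G) := fun y hy =>
    congrArg Subtype.val (mem_center_iff.mp hz ⟨y, hy⟩)
  have haz : Commute a (z : G) :=
    commute_of_commute hCN hm1 ham (hzM m hm).symm
      (hcop.coprime_dvd_right (M.orderOf_dvd_natCard (z : M).2))
  rw [mem_centralizer_iff]
  intro y hy
  exact (commute_of_commute hCN hzg haz (hzM y hy)
    (hcop.coprime_dvd_right (M.orderOf_dvd_natCard hy))).eq.symm

theorem fittingHall_isNilpotent : Group.IsNilpotent (fittingHall G) :=
  Cores.isNilpotent_to_le (L := fittingSubgroup G) (sSup_le fun _ hN => le_sSup ⟨hN.1, hN.2.1⟩)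
    Cores.fittingSubgroup_isNilpotent

/-- `C(M_F)` has no nontrivial elements of order prime to `|M_F|`. -/
theorem eq_one_of_mem_centralizer_fittingHall (hCN : IsCNGroup G) (hne : fittingHall G ≠ ⊥) {a : G}
    (ha : a ∈ centralizer (fittingHall G : Set G))
    (hcop : (orderOf a).Coprime (Nat.card (fittingHall G))) : a = 1 := by
  set M := fittingHall G with hM
  have : M.Normal := Subgroup.sSup_normal _ (fun _ h => h.1)
  by_contra ha1
  obtain ⟨t, ht, htd⟩ := Nat.exists_prime_and_dvd (mt orderOf_eq_one_iff.mp ha1)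
  have := Fact.mk ht
  set C := centralizer (M : Set G) with hC
  obtain ⟨m, hm, hm1⟩ := (bot_or_exists_ne_one M).resolve_left hne
  have hCnil : Group.IsNilpotent C :=
    Cores.isNilpotent_to_le (centralizer_le (Set.singleton_subset_iff.mpr hm)) (hCN m hm1)
  set T := (pCore t C).map C.subtype with hT
  have hTn : T.Normal := Cores.normal_map_subtype C (pCore t C)
  have htC : ∀ U : Subgroup G, U ≤ C → IsPGroup t U → U ≤ T := by
    intro U hUC hU
    obtain ⟨S, hS⟩ := (hU.comap_of_injective C.subtype C.subtype_injective).exists_le_sylow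
    have := hCnil
    have hSn : (S : Subgroup C).Normal :=
      S.normal_of_normalizerCondition Group.normalizerCondition_of_isNilpotent
    rw [← map_subgroupOf_eq_of_le hUC]
    exact map_mono (hS.trans (Cores.le_pCore S.isPGroup'))
  set b := a ^ (orderOf a / t) with hb
  have hbo : orderOf b = t := orderOf_pow_orderOf_div (orderOf_pos _).ne' htd
  have hbT : b ∈ T := htC (zpowers b) (zpowers_le.mpr (pow_mem ha _))
    (IsPGroup.of_card (n := 1) (by rw [Nat.card_zpowers, hbo, pow_one])) (mem_zpowers b)
  have hb1 : b ≠ 1 := fun h => by rw [h, orderOf_one] at hbo; exact ht.ne_one hbo.symm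
  obtain ⟨R⟩ := (inferInstance : Nonempty (Sylow t G))
  have hTp : IsPGroup t T := (Cores.pCore_isPGroup t).map C.subtype
  have hTR : T ≤ (R : Subgroup G) := hTp.le_sylow_of_normal R
  have := R.isPGroup'.isNilpotent
  have hne' : T.subgroupOf (R : Subgroup G) ≠ ⊥ := fun h => hb1 (by
    rw [← mem_bot, ← Subgroup.map_bot (R : Subgroup G).subtype, ← h, map_subgroupOf_eq_of_le hTR]
    exact hbT)
  obtain ⟨u, hu, hu1⟩ := (bot_or_exists_ne_one _).resolve_left
    (OddLocal.Coprime.inf_center_ne_bot (G := (R : Subgroup G)) inferInstance hne')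
  have hug : (u : G) ≠ 1 := fun h => hu1 (Subtype.ext h)
  have hTC : T ≤ C := map_subtype_le _
  have hMR : ∀ y ∈ (R : Subgroup G), y ∈ C := by
    intro y hy
    rw [hC, mem_centralizer_iff]
    intro x hx
    have h1 : Commute x (u : G) := mem_centralizer_iff.mp (hTC hu.1) x hx
    have h2 : Commute y (u : G) := congrArg Subtype.val (mem_center_iff.mp hu.2 ⟨y, hy⟩)
    refine (commute_of_commute hCN hug h1 h2 ?_).eq
    obtain ⟨j, hj⟩ := IsPGroup.iff_orderOf.mp R.isPGroup' ⟨y, hy⟩
    rw [orderOf_mk] at hj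
    rw [hj]
    refine ((hcop.coprime_dvd_left htd).pow_left j).symm.coprime_dvd_left ?_
    exact M.orderOf_dvd_natCard hx
  have hRT : (R : Subgroup G) = T := le_antisymm (htC _ hMR R.isPGroup') hTR
  have : (R : Subgroup G).Normal := hRT ▸ hTn
  have hRM : (R : Subgroup G) ≤ M :=
    le_sSup ⟨inferInstance, inferInstance, R.card_coprime_index⟩
  have hbM : b ∈ M := hRM (hRT ▸ hbT)
  refine Nat.not_coprime_of_dvd_of_dvd ht.one_lt htd ?_ hcop
  exact hbo ▸ M.orderOf_dvd_natCard hbM

/-- A complement of a nontrivial `M_F` acts on it without fixed points. -/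
theorem fpf_fittingHall (hCN : IsCNGroup G) (hne : fittingHall G ≠ ⊥) {e : G}
    (hcop : (orderOf e).Coprime (Nat.card (fittingHall G))) (he : e ≠ 1) :
    fittingHall G ⊓ centralizer ({e} : Set G) = ⊥ := by
  rw [eq_bot_iff]
  rintro m ⟨hm, hme⟩
  by_contra hm1
  exact he (eq_one_of_mem_centralizer_fittingHall hCN hne
    (mem_centralizer_of_commute hCN fittingHall_isNilpotent hm (fun h => hm1 (mem_bot.mpr h))
      (show Commute e m from (mem_centralizer_singleton_iff.mp hme).symm) hcop) hcop)

end Cfsg.Agent.OddLocal.CN
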