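import Cfsg.Agent.OddLocal.FPFAction
import Cfsg.Agent.Lib.CN.Basic
import Cfsg.Agent.Lib.Cores.Fitting
import Cfsg.Agent.Lib.Coprime.Sylow

/-! An element of prime order without fixed points in `F(K)` centralises `K / F(K)` (BG 3.7 style). -/

set_option autoImplicit false

namespace Cfsg.Agent.OddLocal.FPFFitting

open Cfsg Subgroup
open scoped commutatorElement

variable {G : Type*} [Group G] [Finite G]

theorem fittingOf_normal {K : Subgroup G} [K.Normal] : (fittingOf K).Normal := by
  have : (fittingSubgroup K).Characteristic := Cores.fittingSubgroup_characteristic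
  unfold fittingOf
  infer_instance

theorem fittingOf_isNilpotent (K : Subgroup G) : Group.IsNilpotent (fittingOf K) :=
  Cores.isNilpotent_map _ K.subtype Cores.fittingSubgroup_isNilpotent

theorem le_fittingOf {K C : Subgroup G} [C.Normal] (hCK : C ≤ K) (hC : Group.IsNilpotent C) :
    C ≤ fittingOf K := by
  have : (C.subgroupOf K).Normal := inferInstance
  rw [← map_subgroupOf_eq_of_le hCK, fittingOf]
  exact map_mono (Cores.le_fittingSubgroup (Cores.isNilpotent_subgroupOf hC K))

/-- `X` acts trivially on the part prime to `q` of a nilpotent normal subgroup. -/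
theorem commutator_le_centralizer_sylow {q r s : ℕ} [Fact q.Prime] [Fact s.Prime] {D Q X : Subgroup G}
    [hDn : D.Normal] (hD : IsPGroup s D) (hQ : IsPGroup q Q) (hX : Nat.card X = r) (hr : r.Prime)
    (hsq : s ≠ q) (hsr : s ≠ r) (hqr : q ≠ r) (hq2 : q ≠ 2) (hXQ : X ≤ normalizer (Q : Set G))
    (hDX : D ⊓ centralizer (X : Set G) = ⊥) : ⁅Q, X⁆ ≤ centralizer (D : Set G) := by
  have hs : s.Prime := Fact.out
  have hq : q.Prime := Fact.out
  have hTQ : ⁅Q, X⁆ ≤ Q := Coprime.commutator_le_of_le_normalizer hXQ
  set Φ := (frattini D).map D.subtype with hΦ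
  have : Φ.Normal := by rw [hΦ]; infer_instance
  set f := QuotientGroup.mk' Φ with hf
  have hΦs : IsPGroup s Φ := hD.to_le (map_subtype_le _)
  have hcX : Nat.card (X.map f) = r := by
    refine ((Nat.dvd_prime hr).mp (hX ▸ card_map_dvd X f)).resolve_left fun e => ?_
    have hXΦ : X ≤ Φ := by
      intro x hx
      have h1 := mem_map_of_mem f hx
      rw [card_eq_one.mp e, mem_bot] at h1
      exact (QuotientGroup.eq_one_iff x).mp h1
    obtain ⟨k, hk⟩ := hΦs.exists_card_eq
    have h2 : r ∣ s ^ k := hk ▸ hX ▸ card_dvd_of_le hXΦ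
    exact hsr ((Nat.prime_dvd_prime_iff_eq hr hs).mp (hr.dvd_of_dvd_pow h2)).symm
  have hcop : (Nat.card X).Coprime (Nat.card D) := by
    obtain ⟨k, hk⟩ := hD.exists_card_eq
    rw [hX, hk]
    exact ((Nat.coprime_primes hr hs).mpr (Ne.symm hsr)).pow_right k
  have hel : IsElementaryAbelian s (D.map f) := by
    refine ⟨⟨⟨?_⟩⟩, ?_⟩
    · rintro ⟨_, a, ha, rfl⟩ ⟨_, b, hb, rfl⟩
      apply Subtype.ext
      simp only [Subgroup.coe_mul]
      rw [← commutatorElement_eq_one_iff_mul_comm, ← map_commutatorElement]
      refine (QuotientGroup.eq_one_iff _).mpr ?_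
      have := hD.isNilpotent
      exact mem_map_of_mem D.subtype (Coprime.commutator_le_frattini D
        (commutator_mem_commutator (mem_top (⟨a, ha⟩ : D)) (mem_top (⟨b, hb⟩ : D))))
    · rintro _ ⟨a, ha, rfl⟩
      rw [← map_pow]
      exact (QuotientGroup.eq_one_iff _).mpr
        (mem_map_of_mem D.subtype (Solvable.Basics.pow_mem_frattini hD (⟨a, ha⟩ : D)))
  have hXs : Group.IsSolvable X := by
    have := Fact.mk hr
    exact Coprime.isSolvable_of_isPGroup (IsPGroup.of_card (p := r) (n := 1) (by rw [hX, pow_one]))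
  have h := FPFAction.commutator_le_centralizer (p := s) (q := q) (r := r) (V := D.map f) (Q := Q.map f)
    (X := X.map f)
    ⟨hs, hq, hr, hsq, hsr, hqr, hq2, hel, hQ.map f, hcX, (map_mono hXQ).trans (le_normalizer_map f),
      (map_mono le_normalizer_of_normal).trans (le_normalizer_map f),
      (map_mono le_normalizer_of_normal).trans (le_normalizer_map f),
      by rw [← Coprime.map_inf_centralizer f le_normalizer_of_normal hcop (Or.inl hXs), hDX, Subgroup.map_bot]⟩
  rw [← Subgroup.map_commutator] at h
  refine Coprime.le_centralizer_of_frattini le_normalizer_of_normal ?_ fun t ht d hd => ?_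
  · obtain ⟨k, hk⟩ := (hD.to_subgroup ⊤).exists_card_eq
    obtain ⟨j, hj⟩ := (hQ.to_le hTQ).exists_card_eq
    refine Nat.Coprime.coprime_dvd_right (card_subgroup_dvd_card (frattini D)) ?_
    rw [card_top] at hk
    rw [hj, hk]
    exact ((Nat.coprime_primes hq hs).mpr (Ne.symm hsq)).pow j k
  · refine (QuotientGroup.eq_one_iff _).mp ?_
    show f (t * d * t⁻¹ * d⁻¹) = 1
    rw [← commutatorElement_def, map_commutatorElement, commutatorElement_eq_one_iff_mul_comm]
    exact (mem_centralizer_iff.mp (h (mem_map_of_mem f ht)) _ (mem_map_of_mem f hd)).symm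

/-- An element of prime order acting without fixed points on `F(K)` centralises `K / F(K)`. -/
theorem commutator_le_fittingOf {r : ℕ} {K X : Subgroup G} [K.Normal] (hK : Group.IsSolvable K)
    (hodd : Odd (Nat.card K)) (hX : Nat.card X = r) (hr : r.Prime)
    (hcop : (Nat.card K).Coprime (Nat.card X))
    (hF : fittingOf K ⊓ centralizer (X : Set G) = ⊥) : ⁅K, X⁆ ≤ fittingOf K := by
  classical
  set F := fittingOf K with hFdef
  have : F.Normal := fittingOf_normal
  have hFK : F ≤ K := map_subtype_le _
  set f := QuotientGroup.mk' F with hf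
  set K' := K.map f with hK'
  set X' := X.map f with hX'
  set L := fittingOf K' with hL
  have hK'n : K'.Normal := Normal.map inferInstance f (QuotientGroup.mk'_surjective F)
  have hLn : L.Normal := fittingOf_normal
  have hLnil : Group.IsNilpotent L := fittingOf_isNilpotent K'
  have hLK : L ≤ K' := map_subtype_le _
  have hcop' : (Nat.card X').Coprime (Nat.card K') :=
    (hcop.symm.coprime_dvd_left (card_map_dvd _ _)).coprime_dvd_right (card_map_dvd _ _)
  have hK's : Group.IsSolvable K' := Coprime.isSolvable_map f hK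
  -- `X` centralises the `q`-parts of the Fitting subgroup of `K / F`
  have hLX : X' ≤ centralizer (L : Set (G ⧸ F)) := by
    refine le_centralizer_iff.mp (CN.le_of_forall_isPGroup fun q hq z hz hzq => ?_)
    have := Fact.mk hq
    set Nq := (pCore q L).map L.subtype with hNq
    have hNn : Nq.Normal := by
      have : (pCore q L).Characteristic := Cores.pCore_characteristic q
      rw [hNq]; infer_instance
    have hNL : Nq ≤ L := map_subtype_le _
    have hNp : IsPGroup q Nq := (Cores.pCore_isPGroup q).map _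
    have hzN : z ∈ Nq := by
      obtain ⟨S, hS⟩ : ∃ S : Sylow q L, (S : Subgroup L).Normal := ⟨default,
        (Group.isNilpotent_of_finite_tfae.out 0 3 rfl rfl).1 hLnil q inferInstance default⟩
      have : Subsingleton (Sylow q L) := by
        have := Sylow.unique_of_normal S hS
        infer_instance
      have h1 : IsPGroup q (zpowers (⟨z, hz⟩ : L)) := by
        refine IsPGroup.of_injective hzq ((L.subtype.comp (zpowers (⟨z, hz⟩ : L)).subtype).codRestrict
          (zpowers z) fun w => ?_) fun a b e => Subtype.ext (Subtype.ext (congrArg Subtype.val e :))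
        obtain ⟨m, hm⟩ := mem_zpowers_iff.mp w.2
        exact mem_zpowers_iff.mpr ⟨m, by simpa using congrArg Subtype.val hm⟩
      obtain ⟨S', hS'⟩ := h1.exists_le_sylow
      rw [Subsingleton.elim S' S] at hS'
      exact mem_map_of_mem L.subtype (Cores.le_pCore (N := (S : Subgroup L)) S.isPGroup' (hS' (mem_zpowers _)))
    set W := Nq.comap f with hW
    have hWn : W.Normal := hNn.comap f
    have hWK : W ≤ K := by
      intro w hw
      obtain ⟨k, hk, e⟩ := hLK (hNL (show f w ∈ Nq from hw))
      have h1 : k⁻¹ * w ∈ F := QuotientGroup.eq.mp e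
      simpa using mul_mem hk (hFK h1)
    have hcW : (Nat.card X).Coprime (Nat.card W) := hcop.symm.coprime_dvd_right (card_dvd_of_le hWK)
    have hXs : Group.IsSolvable X := by
      have := Fact.mk hr
      exact Coprime.isSolvable_of_isPGroup (IsPGroup.of_card (p := r) (n := 1) (by rw [hX, pow_one]))
    obtain ⟨S, hSX⟩ := Coprime.exists_invariant_sylow q (A := X) (K := W) le_normalizer_of_normal hcW (Or.inl hXs)
    set Q := (S : Subgroup W).map W.subtype with hQ
    have hQp : IsPGroup q Q := S.isPGroup'.map _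
    have hQW : Q ≤ W := map_subtype_le _
    have hQN : Nq ≤ Q.map f := by
      have hsurj : Function.Surjective (f.subgroupComap Nq) :=
        MonoidHom.subgroupComap_surjective_of_surjective f Nq (QuotientGroup.mk'_surjective F)
      intro y hy
      have h1 : (⟨y, hy⟩ : Nq) ∈ ((S.mapSurjective hsurj : Sylow q Nq) : Subgroup Nq) := by
        exact ((S.mapSurjective hsurj).is_maximal' (hNp.to_subgroup ⊤) le_top).le (mem_top _)
      rw [Sylow.coe_mapSurjective] at h1
      obtain ⟨w, hw, e⟩ := h1
      exact ⟨w, mem_map_of_mem _ hw, congrArg Subtype.val e⟩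
    by_cases hdvd : q ∣ Nat.card K
    swap
    · have hd : ¬ q ∣ Nat.card Nq := fun h =>
        hdvd (h.trans ((card_dvd_of_le (hNL.trans hLK)).trans (card_map_dvd _ _)))
      have h1 : Nq = ⊥ := by
        rcases hNp.card_eq_or_dvd with h2 | h2
        · exact card_eq_one.mp h2
        · exact absurd h2 hd
      rw [h1, mem_bot] at hzN
      exact hzN ▸ one_mem _
    have hq2 : q ≠ 2 := fun e => Nat.not_even_iff_odd.mpr hodd (even_iff_two_dvd.mpr (e ▸ hdvd))
    have hqr : q ≠ r := fun e => hr.ne_one (Nat.eq_one_of_dvd_coprimes hcop (e ▸ hdvd) (hX ▸ dvd_rfl))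
    -- the commutator centralises the elements of `F` of order prime to `q`
    set S' : Set G := {y | y ∈ F ∧ ¬ q ∣ orderOf y} with hS'
    set T := ⁅Q, X⁆ with hT
    have hTQ : T ≤ Q := Coprime.commutator_le_of_le_normalizer hSX
    have hFnil : Group.IsNilpotent F := fittingOf_isNilpotent K
    have hTS : T ≤ centralizer S' := by
      intro t ht
      refine mem_centralizer_iff.mpr fun y hy => ?_
      have key : zpowers y ≤ centralizer ({t} : Set G) := CN.le_of_forall_isPGroup fun s hs w hw hws => ?_
      · exact mem_centralizer_singleton_iff.mp (key (mem_zpowers y))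
      have := Fact.mk hs
      by_cases hw1 : w = 1
      · exact hw1 ▸ one_mem _
      have hwF : w ∈ F := zpowers_le.mpr hy.1 hw
      have hsy : s ∣ orderOf y := by
        refine Dvd.dvd.trans ?_ (orderOf_dvd_of_mem_zpowers hw)
        rw [← Nat.card_zpowers]
        exact hws.card_eq_or_dvd.resolve_left (fun e => hw1 (by simpa using card_eq_one.mp e))
      have hsq : s ≠ q := fun e => hy.2 (e ▸ hsy)
      obtain ⟨Sf, hSf⟩ : ∃ Sf : Sylow s F, (Sf : Subgroup F).Normal := ⟨default,
        (Group.isNilpotent_of_finite_tfae.out 0 3 rfl rfl).1 hFnil s inferInstance default⟩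
      set D := (Sf : Subgroup F).map F.subtype with hD
      have hDn : D.Normal := by
        have : (Sf : Subgroup F).Characteristic := Sylow.characteristic_of_normal Sf hSf
        rw [hD]; infer_instance
      have hDF : D ≤ F := map_subtype_le _
      have hsr : s ≠ r := fun e => hr.ne_one (Nat.eq_one_of_dvd_coprimes hcop
        (e ▸ (hsy.trans (orderOf_dvd_natCard _ (hFK hy.1)))) (hX ▸ dvd_rfl))
      have hwD : w ∈ D := by
        have : Subsingleton (Sylow s F) := by
          have := Sylow.unique_of_normal Sf hSf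
          infer_instance
        obtain ⟨Sw, hSw⟩ := (hws.comap_subtype (K := F)).exists_le_sylow
        rw [Subsingleton.elim Sw Sf] at hSw
        exact ⟨⟨w, hwF⟩, hSw (show (⟨w, hwF⟩ : F) ∈ (zpowers w).subgroupOf F from mem_zpowers w), rfl⟩
      have h2 := commutator_le_centralizer_sylow (D := D) (Sf.isPGroup'.map _) hQp hX hr hsq hsr hqr hq2 hSX
        (le_bot_iff.mp ((inf_le_inf_right _ hDF).trans hF.le))
      exact mem_centralizer_singleton_iff.mpr (mem_centralizer_iff.mp (h2 ht) w hwD)
    set C := W ⊓ centralizer S' with hC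
    have hCn : C.Normal := by
      refine normalizer_eq_top_iff.mp (top_le_iff.mp fun g _ => ?_)
      refine mem_normalizer_fintype fun c hc => ?_
      obtain ⟨hcW, hcS⟩ := mem_inf.mp hc
      refine mem_inf.mpr ⟨hWn.conj_mem c hcW g, mem_centralizer_iff.mpr fun y hy => ?_⟩
      have hy' : g⁻¹ * y * g ∈ S' := by
        refine ⟨by simpa using (inferInstance : F.Normal).conj_mem y hy.1 g⁻¹, ?_⟩
        have e : g⁻¹ * y * g = MulAut.conj g⁻¹ y := by simp
        rw [e, ← MulEquiv.coe_toMonoidHom, orderOf_injective _ (MulAut.conj g⁻¹).injective]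
        exact hy.2
      have h1 := mem_centralizer_iff.mp hcS _ hy'
      calc y * (g * c * g⁻¹) = g * (g⁻¹ * y * g * c) * g⁻¹ := by group
        _ = g * (c * (g⁻¹ * y * g)) * g⁻¹ := by rw [h1]
        _ = _ := by group
    have hCnil : Group.IsNilpotent C := by
      have hquot : IsPGroup q (↥C ⧸ center C) := by
        intro u
        obtain ⟨c, rfl⟩ := QuotientGroup.mk'_surjective (center C) u
        obtain ⟨hcW, hcS⟩ := mem_inf.mp c.2
        obtain ⟨k, hk⟩ := hNp ⟨f c, hcW⟩
        have hF1 : (c : G) ^ q ^ k ∈ F := (QuotientGroup.eq_one_iff _).mp (congrArg Subtype.val hk :)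
        obtain ⟨j, m, hm, e⟩ := Nat.exists_eq_pow_mul_and_not_dvd (orderOf_pos ((c : G) ^ q ^ k)).ne' q hq.ne_one
        refine ⟨k + j, ?_⟩
        rw [← map_pow]
        refine (QuotientGroup.eq_one_iff _).mpr (mem_center_iff.mpr fun d => Subtype.ext ?_)
        have hmem : ((c : G) ^ q ^ k) ^ q ^ j ∈ S' := by
          refine ⟨pow_mem hF1 _, fun h => hm (h.trans (orderOf_dvd_of_pow_eq_one ?_))⟩
          rw [← pow_mul, ← e, pow_orderOf_eq_one]
        have h1 := mem_centralizer_iff.mp (mem_inf.mp d.2).2 _ hmem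
        simp only [Subgroup.coe_mul, SubmonoidClass.coe_pow, pow_add, pow_mul]
        exact h1.symm
      exact Group.of_quotient_center_nilpotent hquot.isNilpotent
    have hTF : T ≤ F := (le_inf (hTQ.trans hQW) hTS).trans (le_fittingOf (inf_le_left.trans hWK) hCnil)
    obtain ⟨w, hw, e⟩ := hQN hzN
    rw [← e]
    refine mem_centralizer_iff.mpr ?_
    rintro _ ⟨x, hx, rfl⟩
    have h1 : f ⁅w, x⁆ = 1 := (QuotientGroup.eq_one_iff _).mpr (hTF (commutator_mem_commutator hw hx))
    rw [map_commutatorElement, commutatorElement_eq_one_iff_mul_comm] at h1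
    exact h1.symm
  -- hence `X` centralises `K / F`
  have h1 : ⁅⁅L, X'⁆, K'⁆ = ⊥ := by
    rw [Coprime.commutator_eq_bot_iff_le_centralizer'.mpr hLX, commutator_bot_left]
  have h2 : ⁅⁅K', L⁆, X'⁆ = ⊥ := by
    refine commutator_eq_bot_iff_le_centralizer.mpr ?_
    exact (le_normalizer_iff_commutator_le_right.mp le_normalizer_of_normal).trans (le_centralizer_iff.mp hLX)
  have h3 := commutator_commutator_eq_bot_of_rotate h2 h1
  have hX'K : X' ≤ normalizer (K' : Set (G ⧸ F)) := le_normalizer_of_normal
  have h4 : ⁅K', X'⁆ ≤ L := by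
    have hle : ⁅K', X'⁆ ≤ K' := Coprime.commutator_le_of_le_normalizer hX'K
    rw [commutator_comm] at hle ⊢
    intro y hy
    have hyC : (⟨y, hle hy⟩ : K') ∈ centralizer (fittingSubgroup K' : Set K') :=
      mem_centralizer_iff.mpr fun l hl => Subtype.ext
        (mem_centralizer_iff.mp (commutator_eq_bot_iff_le_centralizer.mp h3 hy) l (mem_map_of_mem _ hl))
    exact mem_map_of_mem K'.subtype (Cores.centralizer_fittingSubgroup_le hyC)
  have h5 : X' ≤ centralizer (K' : Set (G ⧸ F)) :=
    Coprime.le_centralizer_of_series hX'K hcop' (Or.inr hK's) hLX h4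
  rw [← QuotientGroup.ker_mk' F, ← Subgroup.map_eq_bot_iff, Subgroup.map_commutator]
  exact Coprime.commutator_eq_bot_iff_le_centralizer'.mpr h5

end Cfsg.Agent.OddLocal.FPFFitting
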