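import Cfsg.Agent.OddLocal.RegularPart

/-! The regular part of a complement: assembly (BG 12.12). -/

set_option autoImplicit false
set_option linter.unusedSectionVars false

namespace Cfsg.Agent.OddLocal.RegularMain

open Cfsg Subgroup
open scoped commutatorElement Pointwise
open TauTwo (Ctx Nab centralizer_zpowers centralizer_map_conj)
open RegularPart
open Cfsg.Agent.Transfer.Fusion (map_conj_eq_self_iff card_map_conj)

variable {G : Type*} [Group G] [Finite G] {M E : Subgroup G}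

theorem card_sup_dvd {N H : Subgroup G} (h : H ≤ normalizer (N : Set G)) :
    Nat.card (N ⊔ H : Subgroup G) ∣ Nat.card N * Nat.card H := by
  set L := N ⊔ H
  have hn : (N.subgroupOf L).Normal :=
    (normal_subgroupOf_iff_le_normalizer le_sup_left).mpr (sup_le le_normalizer h)
  have h1 := PLocal.Cores.card_sup_dvd_of_normal' (N.subgroupOf L) (H.subgroupOf L)
  rw [← subgroupOf_sup le_sup_left le_sup_right, Nat.card_congr (subgroupOfEquivOfLe (le_refl L)).toEquiv,
    Nat.card_congr (subgroupOfEquivOfLe (le_sup_left : N ≤ L)).toEquiv,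
    Nat.card_congr (subgroupOfEquivOfLe (le_sup_right : H ≤ L)).toEquiv] at h1
  exact h1

theorem exists_conj_mem {p : ℕ} [Fact p.Prime] {P L : Subgroup G} (hPL : P ≤ L) (hP : IsPGroup p P)
    (hidx : ¬ p ∣ P.relIndex L) {z : G} (hz : z ∈ L) (hzp : IsPGroup p (zpowers z)) :
    ∃ c ∈ L, c * z * c⁻¹ ∈ P := by
  obtain ⟨T, hT⟩ := HallFusion.subgroupOf_sylow hPL hP hidx
  obtain ⟨Q, hQ⟩ := (hzp.comap_subtype (K := L)).exists_le_sylow
  obtain ⟨c, hc⟩ := MulAction.exists_smul_eq L Q T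
  refine ⟨c, c.2, hT ▸ ⟨c * ⟨z, hz⟩ * c⁻¹, ?_, rfl⟩⟩
  rw [← hc, Sylow.coe_subgroup_smul]
  exact ⟨⟨z, hz⟩, hQ (show (⟨z, hz⟩ : L) ∈ (zpowers z).comap L.subtype from mem_zpowers z), rfl⟩

theorem conj_fixed {c x z : G} (hc : c ∈ M) (hx : x ∈ sigmaCore M) (hx1 : x ≠ 1)
    (hcomm : Commute z x) : c * x * c⁻¹ ∈ sigmaCore M ∧ c * x * c⁻¹ ≠ 1 ∧
      c * x * c⁻¹ ∈ centralizer ({c * z * c⁻¹} : Set G) := by
  refine ⟨(mem_normalizer_iff.mp (Sigma.le_normalizer_sigmaCore M hc) x).mp hx,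
    fun h => hx1 (conj_eq_one_iff.mp h), mem_centralizer_singleton_iff.mpr ?_⟩
  calc c * x * c⁻¹ * (c * z * c⁻¹) = c * (x * z) * c⁻¹ := by group
    _ = c * (z * x) * c⁻¹ := by rw [hcomm.eq]
    _ = c * z * c⁻¹ * (c * x * c⁻¹) := by group

theorem centralizer_le_of (hG : IsMinSimpleOddOrder G) (hM : IsCoatom M)
    (hE : IsComplIn E (sigmaCore M) M) (hreg : Regular M E) {A₀ : Subgroup G}
    (hA₀ : ∀ (p : ℕ) [Fact p.Prime], p ∈ tau2 M → ∀ z ∈ E, IsPGroup p (zpowers z) → ∀ x ∈ sigmaCore M,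
      x ≠ 1 → Commute z x → z ∈ A₀)
    {x : G} (hx : x ∈ sigmaCore M) (hx1 : x ≠ 1) : E ⊓ centralizer ({x} : Set G) ≤ A₀ := by
  intro e he
  obtain ⟨heE, hec⟩ := mem_inf.mp he
  suffices h : zpowers e ≤ A₀ from h (mem_zpowers e)
  refine CN.le_of_forall_isPGroup fun q hq z hz hzq => ?_
  have := Fact.mk hq
  rcases eq_or_ne z 1 with rfl | hz1
  · exact one_mem _
  obtain ⟨i, rfl⟩ := mem_zpowers_iff.mp hz
  have hzE : e ^ i ∈ E := zpow_mem heE i
  have hzx : Commute (e ^ i) x :=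
    (show Commute e x from mem_centralizer_singleton_iff.mp hec).zpow_left i
  have hqd : q ∣ orderOf (e ^ i) := by
    obtain ⟨k, hk⟩ := hzq.exists_card_eq
    rw [Nat.card_zpowers] at hk
    exact hk ▸ dvd_pow_self q fun hh => hz1 (orderOf_eq_one_iff.mp (by rw [hk, hh, pow_zero]))
  rcases tau_cases hG hM hE hq (hqd.trans (orderOf_dvd_natCard E hzE)) with h2 | ⟨h13, -⟩
  · exact hA₀ q h2 _ hzE hzq x hx hx1 hzx
  · have h := hreg _ hzE hz1 fun r hr hd => orderOf_prime_dvd hzq hr hd ▸ h13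
    exact absurd (mem_bot.mp (h ▸ mem_inf.mpr ⟨hx, mem_centralizer_singleton_iff.mpr hzx.eq.symm⟩)) hx1

theorem regular_of_pieces (hG : IsMinSimpleOddOrder G) (hM : IsCoatom M)
    (hE : IsComplIn E (sigmaCore M) M) (hreg : Regular M E) {E₀ : Subgroup G} (hE₀ : E₀ ≤ E)
    (h13 : ∀ q : ℕ, q.Prime → q ∈ tau1 M ∪ tau3 M → ¬ q ∣ E₀.relIndex E)
    (h2 : ∀ (p : ℕ) [Fact p.Prime], p ∈ tau2 M → ∃ P Y : Subgroup G, Piece p M P ⊥ Y ∧ Y ≤ E₀ ∧
      ¬ p ∣ Y.relIndex E₀ ∧ P ≤ E ∧ IsPGroup p P ∧ ¬ p ∣ P.relIndex E) :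
    Monoid.exponent E₀ = Monoid.exponent E ∧
      ∀ e ∈ E₀, e ≠ 1 → sigmaCore M ⊓ centralizer ({e} : Set G) = ⊥ := by
  refine ⟨Nat.dvd_antisymm ?_ ?_, fun e he he1 => ?_⟩
  · refine Monoid.exponent_dvd_iff_forall_pow_eq_one.mpr fun g => Subtype.ext ?_
    exact (congrArg Subtype.val (Monoid.pow_exponent_eq_one (inclusion hE₀ g)) :)
  · refine Monoid.exponent_dvd.mpr fun g => Nat.dvd_iff_prime_pow_dvd_dvd _ _ |>.mpr fun q i hq hd => ?_
    have := Fact.mk hq
    rcases i.eq_zero_or_pos with rfl | hi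
    · simp
    rw [← orderOf_coe] at hd
    set z := (g : G) ^ (orderOf (g : G) / q ^ i) with hz
    have hzo : orderOf z = q ^ i := orderOf_pow_orderOf_div (orderOf_pos _).ne' hd
    have hzE : z ∈ E := pow_mem g.2 _
    have hzp : IsPGroup q (zpowers z) := IsPGroup.of_card (n := i) (by rw [Nat.card_zpowers, hzo])
    have hconj : ∀ c : G, orderOf (c * z * c⁻¹) = q ^ i := fun c => by
      rw [← hzo]; exact orderOf_injective (MulAut.conj c).toMonoidHom (MulAut.conj c).injective z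
    have hexp : ∀ w ∈ E₀, orderOf w ∣ Monoid.exponent E₀ := fun w hw => by
      have := Monoid.order_dvd_exponent (⟨w, hw⟩ : E₀)
      rwa [← orderOf_coe] at this
    rcases tau_cases hG hM hE hq (((dvd_pow_self q hi.ne').trans (hd)).trans (orderOf_dvd_natCard E g.2))
      with hτ | ⟨hτ, -⟩
    · obtain ⟨P, Y, hY, hYE, -, hPE, hP, hPi⟩ := h2 q hτ
      obtain ⟨c, -, hcP⟩ := exists_conj_mem hPE hP hPi hzE hzp
      obtain ⟨y, hy, hmax⟩ := hY.gen
      exact (hconj c ▸ hmax _ hcP).trans (hexp y (hYE (hy ▸ mem_zpowers y)))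
    · obtain ⟨T⟩ := (inferInstance : Nonempty (Sylow q E₀))
      obtain ⟨c, -, hcT⟩ := exists_conj_mem ((map_subtype_le (T : Subgroup E₀)).trans hE₀)
        (T.isPGroup'.map E₀.subtype) (fun hdd => by
          rw [← relIndex_mul_relIndex _ _ _ (map_subtype_le (T : Subgroup E₀)) hE₀] at hdd
          rcases hq.dvd_mul.mp hdd with h | h
          · rw [relIndex, subgroupOf, comap_map_eq_self_of_injective E₀.subtype_injective] at h
            exact T.not_dvd_index h
          · exact h13 q hq hτ h) hzE hzp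
      exact hconj c ▸ hexp _ (map_subtype_le _ hcT)
  · by_contra hne
    obtain ⟨x, hx, hx1⟩ := (bot_or_exists_ne_one _).resolve_left hne
    obtain ⟨hxσ, hxc⟩ := mem_inf.mp hx
    set q := (orderOf e).minFac with hqdef
    have hne1 : orderOf e ≠ 1 := fun h => he1 (orderOf_eq_one_iff.mp h)
    have hq : q.Prime := Nat.minFac_prime hne1
    have := Fact.mk hq
    set z := e ^ (orderOf e / q) with hz
    have hzo : orderOf z = q := orderOf_pow_orderOf_div (orderOf_pos e).ne' (Nat.minFac_dvd _)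
    have hz1 : z ≠ 1 := fun h => hq.ne_one (by rw [← hzo, h, orderOf_one])
    have hzp : IsPGroup q (zpowers z) := IsPGroup.of_card (n := 1) (by rw [Nat.card_zpowers, hzo, pow_one])
    have hzx : Commute z x :=
      (show Commute e x from (mem_centralizer_singleton_iff.mp hxc).symm).pow_left _
    rcases tau_cases hG hM hE hq ((Nat.minFac_dvd _).trans (orderOf_dvd_natCard E (hE₀ he))) with hτ | ⟨hτ, -⟩
    · obtain ⟨P, Y, hY, hYE, hYi, -, hP, -⟩ := h2 q hτ
      obtain ⟨c, hc, hcY⟩ := exists_conj_mem hYE (hP.to_le hY.le) hYi (pow_mem he _) hzp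
      obtain ⟨h1, h1', h1''⟩ := conj_fixed (hE.1 (hE₀ hc)) hxσ hx1 hzx
      exact h1' (mem_bot.mp (hY.fpf _ hcY (fun h => hz1 (conj_eq_one_iff.mp h)) ▸ mem_inf.mpr ⟨h1, h1''⟩))
    · have h := hreg z (hE₀ (pow_mem he _)) hz1 fun r hr hd => orderOf_prime_dvd hzp hr hd ▸ hτ
      exact hx1 (mem_bot.mp (h ▸ mem_inf.mpr ⟨hxσ, mem_centralizer_singleton_iff.mpr hzx.eq.symm⟩))

/-- The conclusion of the theorem. -/
def Goal (M E : Subgroup G) : Prop :=
  (∃ A₀ : Subgroup G, A₀ ≤ E ∧ E ≤ normalizer (A₀ : Set G) ∧ IsMulCommutative A₀ ∧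
      ∀ x ∈ sigmaCore M, x ≠ 1 → E ⊓ centralizer ({x} : Set G) ≤ A₀) ∧
    ∃ E₀ : Subgroup G, E₀ ≤ E ∧ Monoid.exponent E₀ = Monoid.exponent E ∧
      ∀ e ∈ E₀, e ≠ 1 → sigmaCore M ⊓ centralizer ({e} : Set G) = ⊥

theorem goal_abelian (hG : IsMinSimpleOddOrder G) (hM : IsCoatom M) (hE : IsComplIn E (sigmaCore M) M)
    (hreg : Regular M E)
    (hab : ∀ (p : ℕ) [Fact p.Prime], p ∈ tau2 M → ∀ S : Sylow p G, IsMulCommutative (S : Subgroup G)) :
    Goal M E := by
  classical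
  have hdata : ∀ (p : ℕ) [Fact p.Prime], p ∈ tau2 M → ∃ (A : Subgroup G) (S : Sylow p G), Ctx p A M ∧
      A ≤ E ∧ A ≤ (S : Subgroup G) ∧ (S : Subgroup G) ≤ E ∧ E ≤ normalizer ((S : Subgroup G) : Set G) ∧
      ∀ z ∈ E, IsPGroup p (zpowers z) → z ∈ (S : Subgroup G) := by
    intro p _ hp
    obtain ⟨A, hAE, h⟩ := SigmaCompl.exists_ctx hG hM hE hp
    obtain ⟨S, hAS⟩ := h.hA.isPGroup.exists_le_sylow
    have hN := h.compl_le_normalizer_sylow (hab p hp) hE hAE S hAS
    refine ⟨A, S, h, hAE, hAS, (h.sylow_le_compl (hab p hp) hE hAE S hAS).2.1, hN, fun z hz hzp => ?_⟩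
    have hle : (S : Subgroup G) ⊔ zpowers z = S := S.is_maximal'
      (IsPGroup.to_sup_of_normal_left' S.isPGroup' hzp ((zpowers_le.mpr hz).trans hN)) le_sup_left
    exact hle ▸ mem_sup_right (mem_zpowers z)
  set T : Set G := {z | z ∈ E ∧ ∃ p : ℕ, p.Prime ∧ p ∈ tau2 M ∧ IsPGroup p (zpowers z)} with hT
  have hTc : ∀ a ∈ T, ∀ b ∈ T, a * b = b * a := by
    rintro a ⟨haE, p, hp, hpτ, hap⟩ b ⟨hbE, q, hq, hqτ, hbq⟩
    have := Fact.mk hp
    have := Fact.mk hq
    obtain ⟨A, S, -, -, -, hSE, hSN, hSmem⟩ := hdata p hpτ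
    obtain ⟨A', S', -, -, -, hS'E, hS'N, hS'mem⟩ := hdata q hqτ
    rcases eq_or_ne p q with rfl | hne
    · have := hab p hpτ S
      exact setLike_mul_comm (hSmem a haE hap) (hSmem b hbE hbq)
    · refine commutatorElement_eq_one_iff_mul_comm.mp (mem_bot.mp ?_)
      refine (IsPGroup.disjoint_of_ne p q hne _ _ S.isPGroup' S'.isPGroup').le_bot (mem_inf.mpr ⟨?_, ?_⟩)
      · exact Coprime.commutator_le_of_le_normalizer (hS'E.trans hSN)
          (commutator_mem_commutator (hSmem a haE hap) (hS'mem b hbE hbq))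
      · have h1 := commutator_mem_commutator (hSmem a haE hap) (hS'mem b hbE hbq)
        rw [commutator_comm] at h1
        exact Coprime.commutator_le_of_le_normalizer (hSE.trans hS'N) h1
  refine ⟨⟨closure T, (closure_le _).mpr fun z hz => hz.1, ?_, isMulCommutative_closure hTc,
    fun x hx hx1 => centralizer_le_of hG hM hE hreg (fun p hp hpτ z hz hzp _ _ _ _ =>
      subset_closure (show z ∈ T from ⟨hz, p, hp.out, hpτ, hzp⟩)) hx hx1⟩, ?_⟩
  · intro e he
    rw [← map_conj_eq_self_iff, MonoidHom.map_closure]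
    refine eq_of_le_of_card_ge ((closure_le _).mpr ?_) (by
      rw [← MonoidHom.map_closure, card_map_conj])
    rintro _ ⟨z, ⟨hz, p, hp, hpτ, hzp⟩, rfl⟩
    refine subset_closure ⟨mul_mem (mul_mem he hz) (inv_mem he), p, hp, hpτ, ?_⟩
    rw [← MonoidHom.map_zpowers]
    exact hzp.map _
  -- the regular subgroup
  have hEs : Group.IsSolvable E := Transitivity.isSolvable_of_ne_top hG
    fun hh => hM.1 (top_le_iff.mp (hh ▸ hE.1))
  obtain ⟨H₀, hH₀⟩ := Hall.exists_hall (tau1 M ∪ tau3 M) E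
  set H := H₀.map E.subtype with hH
  have hHE : H ≤ E := map_subtype_le _
  have hHπ : ∀ q : ℕ, q.Prime → q ∣ Nat.card H → q ∈ tau1 M ∪ tau3 M := fun q hq hd =>
    hH₀.1 q hq (by rwa [hH, card_map_of_injective E.subtype_injective] at hd)
  have hpiece : ∀ p : ℕ, ∃ Y : Subgroup G, p.Prime → p ∈ tau2 M → ∃ S : Sylow p G,
      (S : Subgroup G) ≤ E ∧ E ≤ normalizer ((S : Subgroup G) : Set G) ∧ Piece p M (S : Subgroup G) H Y := by
    intro p
    by_cases hp : p.Prime ∧ p ∈ tau2 M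
    · have := Fact.mk hp.1
      obtain ⟨A, S, h, hAE, hAS, hSE, hSN, -⟩ := hdata p hp.2
      obtain ⟨Y, hY⟩ := exists_piece_abelian h (hab p hp.2) hE hAE hreg hHE hHπ S hAS
      exact ⟨Y, fun _ _ => ⟨S, hSE, hSN, hY⟩⟩
    · exact ⟨⊥, fun h1 h2 => absurd ⟨h1, h2⟩ hp⟩
  choose Y hY using hpiece
  set s := (Nat.card E).primeFactors.filter (· ∈ tau2 M) with hs
  have hmem : ∀ p ∈ s, p.Prime ∧ p ∈ tau2 M := fun p hp =>
    ⟨Nat.prime_of_mem_primeFactors (Finset.mem_filter.mp hp).1, (Finset.mem_filter.mp hp).2⟩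
  have hYT : ∀ p ∈ s, Y p ≤ closure T ∧ Y p ≤ E ∧ H ≤ normalizer (Y p : Set G) := by
    intro p hp
    have := Fact.mk (hmem p hp).1
    obtain ⟨S, hSE, -, hp'⟩ := hY p (hmem p hp).1 (hmem p hp).2
    exact ⟨fun z hz => subset_closure ⟨hSE (hp'.le hz), p, (hmem p hp).1, (hmem p hp).2,
      (S.isPGroup'.to_le hp'.le).to_le (zpowers_le.mpr hz)⟩, hp'.le.trans hSE, hp'.inv⟩
  have hbound : ∀ t ⊆ s, H ⊔ t.sup Y ≤ E ∧
      Nat.card (H ⊔ t.sup Y : Subgroup G) ∣ Nat.card H * ∏ p ∈ t, Nat.card (Y p) := by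
    intro t ht
    induction t using Finset.induction with
    | empty => simp [hHE]
    | @insert a t hat ih =>
      obtain ⟨ih1, ih2⟩ := ih fun x hx => ht (Finset.mem_insert_of_mem hx)
      have ha := hYT a (ht (Finset.mem_insert_self a t))
      have hnorm : H ⊔ t.sup Y ≤ normalizer (Y a : Set G) := by
        refine sup_le ha.2.2 (Finset.sup_le fun b hb => ?_)
        refine ((hYT b (ht (Finset.mem_insert_of_mem hb))).1.trans ?_).trans (centralizer_le_normalizer _)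
        have := isMulCommutative_closure hTc
        exact (le_centralizer (closure T)).trans (Subgroup.centralizer_le ha.1)
      rw [Finset.sup_insert, Finset.prod_insert hat, sup_left_comm]
      refine ⟨sup_le ha.2.1 ih1, (card_sup_dvd hnorm).trans ?_⟩
      rw [mul_left_comm (Nat.card H)]
      exact mul_dvd_mul_left _ ih2
  obtain ⟨hle, hcard⟩ := hbound s subset_rfl
  refine ⟨H ⊔ s.sup Y, hle, regular_of_pieces hG hM hE hreg hle (fun q hq hτ hd => ?_) fun p hp hpτ => ?_⟩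
  · have h1 := relIndex_mul_relIndex H (H ⊔ s.sup Y) E le_sup_left hle
    refine hH₀.2 q hq hτ ?_
    have h2 : H.relIndex E = H₀.index := by
      rw [relIndex, hH, subgroupOf, comap_map_eq_self_of_injective E.subtype_injective]
    rw [← h2, ← h1]
    exact hd.mul_left _
  · obtain ⟨S, hSE, -, hp'⟩ := hY p hp.out hpτ
    have hSi : ¬ p ∣ (S : Subgroup G).relIndex E := fun hd =>
      S.not_dvd_index (hd.trans (relIndex_dvd_index_of_le hSE))
    have hps : p ∈ s := by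
      refine Finset.mem_filter.mpr ⟨Nat.mem_primeFactors.mpr ⟨hp.out, ?_, Nat.card_pos.ne'⟩, hpτ⟩
      obtain ⟨A, hAE, h⟩ := SigmaCompl.exists_ctx hG hM hE hpτ
      exact h.hA.dvd_card.trans (card_dvd_of_le hAE)
    have hle' : Y p ≤ H ⊔ s.sup Y := le_sup_of_le_right (Finset.le_sup hps)
    refine ⟨S, Y p, ⟨hp'.le, hp'.gen, hp'.fpf, bot_le⟩, hle', fun hd => ?_, hSE, S.isPGroup', hSi⟩
    have h1 : Nat.card (Y p) * (Y p).relIndex (H ⊔ s.sup Y) = Nat.card (H ⊔ s.sup Y : Subgroup G) := by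
      rw [← relIndex_bot_left, ← relIndex_bot_left, relIndex_mul_relIndex ⊥ (Y p) _ bot_le hle']
    rw [← h1, ← Finset.mul_prod_erase s _ hps, mul_left_comm] at hcard
    have h2 := hd.trans (Nat.dvd_of_mul_dvd_mul_left Nat.card_pos hcard)
    rcases hp.out.dvd_mul.mp h2 with h3 | h3
    · exact not_tau2 (hHπ p hp.out h3) hpτ
    · obtain ⟨q, hq, hq'⟩ := (hp.out.prime.dvd_finsetProd_iff _).mp h3
      obtain ⟨hqp, hqs⟩ := Finset.mem_erase.mp hq
      have := Fact.mk (hmem q hqs).1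
      obtain ⟨S', -, -, hq2⟩ := hY q (hmem q hqs).1 (hmem q hqs).2
      exact hqp ((Cores.isPi_iff_isPGroup (Y q)).mpr (S'.isPGroup'.to_le hq2.le) p hp.out hq').symm

theorem goal_nonabelian (hG : IsMinSimpleOddOrder G) (hM : IsCoatom M) (hE : IsComplIn E (sigmaCore M) M)
    (hreg : Regular M E) {p : ℕ} [hp : Fact p.Prime] (hpτ : p ∈ tau2 M)
    (hS : ∀ S : Sylow p G, ¬ IsMulCommutative (S : Subgroup G)) : Goal M E := by
  obtain ⟨A, hAE, h⟩ := SigmaCompl.exists_ctx hG hM hE hpτ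
  obtain ⟨S, Z, s, hn⟩ := h.exists_nab hS hE hAE
  obtain ⟨P₀, hAP, hPS⟩ := hn.PS
  set P := (P₀ : Subgroup M).map M.subtype with hP
  have hPC : P ≤ centralizer (A : Set G) :=
    le_centralizer_iff.mp (TauTwo.le_centralizer_of_sylow hG hM hpτ h.hA P₀ hAP)
  have hPE : P ≤ E := h.inf_normalizer hE hAE ▸
    le_inf (map_subtype_le _) (hPC.trans (centralizer_le_normalizer _))
  have hPp : IsPGroup p P := P₀.isPGroup'.map _
  have hPi : ¬ p ∣ P.relIndex E := fun hd => P₀.not_dvd_index (by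
    have h1 := relIndex_mul_relIndex P E M hPE hE.1
    have h2 : P.relIndex M = (P₀ : Subgroup M).index := by
      rw [relIndex, hP, subgroupOf, comap_map_eq_self_of_injective M.subtype_injective]
    rw [← h2, ← h1]; exact hd.mul_right _)
  have honly : ∀ q, q ∈ tau2 M → q = p := fun q hq => h.tau2_eq hn hE hAE hq
  obtain ⟨a, ha, ha1, haZ, hA₀, hothers⟩ := h.exists_center_line hn hE hAE
  have hEA₀ : E ≤ normalizer ((A ⊓ centralizer (sigmaCore M : Set G) : Subgroup G) : Set G) :=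
    (le_inf (h.le_normalizer_compl hE hAE) ((hE.1.trans (Sigma.le_normalizer_sigmaCore M)).trans
      (CharP.normalizer_le_normalizer_centralizer _))).trans inf_normalizer_le_normalizer_inf
  refine ⟨⟨A ⊓ centralizer (sigmaCore M : Set G), inf_le_left.trans hAE, hEA₀, ?_,
    fun x hx hx1 => centralizer_le_of hG hM hE hreg (fun q hq hqτ z hz hzp x hx hx1 hzx => ?_) hx hx1⟩, ?_⟩
  · exact ⟨⟨fun u v => Subtype.ext (Components.Hyperplane.mem_comm h.hA.el (mem_inf.mp u.2).1 (mem_inf.mp v.2).1)⟩⟩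
  · obtain rfl := honly q hqτ
    obtain ⟨c, hc, hcP⟩ := exists_conj_mem hPE hPp hPi hz hzp
    obtain ⟨h1, h1', h1''⟩ := conj_fixed (hE.1 hc) hx hx1 hzx
    set z' := c * z * c⁻¹ with hz'
    suffices hmem : z' ∈ A ⊓ centralizer (sigmaCore M : Set G) from
      (mem_normalizer_iff.mp (hEA₀ hc) z).mpr hmem
    rw [hA₀]
    rcases eq_or_ne z' 1 with h0 | h0
    · rw [h0]; exact one_mem _
    obtain ⟨k, hk⟩ := (hPp.to_le (zpowers_le.mpr hcP)).exists_card_eq
    rw [Nat.card_zpowers] at hk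
    set w := z' ^ (orderOf z' / q) with hw
    have hwo : orderOf w = q := orderOf_pow_orderOf_div (orderOf_pos _).ne'
      (hk ▸ dvd_pow_self q fun hh => h0 (orderOf_eq_one_iff.mp (by rw [hk, hh, pow_zero])))
    have hwA : w ∈ A := h.mem_of_pow hE hAE (pow_mem (hPE hcP) _) (hwo ▸ pow_orderOf_eq_one w)
    have hw1 : w ≠ 1 := fun hh => hp.out.ne_one (by rw [← hwo, hh, orderOf_one])
    have hwa : w ∈ zpowers a := by
      by_contra hwa
      refine h1' (mem_bot.mp ((hothers w hwA hwa).1 ▸ mem_inf.mpr ⟨h1, mem_centralizer_singleton_iff.mpr ?_⟩))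
      exact ((show Commute (c * x * c⁻¹) z' from mem_centralizer_singleton_iff.mp h1'').pow_right _).eq
    have heq : zpowers w = zpowers a := eq_of_le_of_card_ge (zpowers_le.mpr hwa)
      (by rw [h.hA.card_zpowers ha ha1, h.hA.card_zpowers hwA hw1])
    exact h.le_line hn (Y := zpowers z') (zpowers_le.mpr (hPS hcP)) (zpowers_le.mpr (hPC hcP)) inferInstance
      ha ha1 (zpowers_le.mpr (pow_mem (mem_zpowers z') _) (heq.symm ▸ mem_zpowers a)) haZ (mem_zpowers z')
  -- the regular subgroup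
  have hEtop : E ≠ ⊤ := fun hh => hM.1 (top_le_iff.mp (hh ▸ hE.1))
  have : Group.IsSolvable E := Transitivity.isSolvable_of_ne_top hG hEtop
  have hpl : PLengthLE p 1 E := S1410.result hG p E hEtop
  obtain ⟨PE, hPE'⟩ := HallFusion.subgroupOf_sylow hPE hPp hPi
  set N' := normalizer ((PE : Subgroup E) : Set E) with hN'
  set K' := pPrimeCore p E with hK'
  have htop : K' ⊔ N' = ⊤ := OddLocal.pPrimeCore_sup_normalizer hpl PE
  obtain ⟨H', hH'⟩ := Hall.exists_hall {q : ℕ | q ≠ p} N'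
  set H := (H'.map N'.subtype).map E.subtype with hH
  have hHE : H ≤ E := map_subtype_le _
  have hHP : H ≤ normalizer (P : Set G) := by
    rw [hH, ← hPE']
    exact (map_mono (map_subtype_le H')).trans (le_normalizer_map E.subtype)
  have hHp : ¬ p ∣ Nat.card H := by
    rw [hH, card_map_of_injective E.subtype_injective, card_map_of_injective N'.subtype_injective]
    exact fun hd => hH'.1 p hp.out hd rfl
  obtain ⟨Y, hY⟩ := exists_piece_nonabelian h hn hE hAE hAP hPS hPE hPC hHE hHP hHp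
  set K := K'.map E.subtype with hK
  have hKE : K ≤ E := map_subtype_le _
  have hEK : E ≤ normalizer (K : Set G) := by
    have : (pPrimeCore p E).Characteristic := PLocal.Cores.pPrimeCore_characteristic
    exact le_normalizer.trans (Coprime.OmegaDetect.normalizer_le_normalizer_char E _)
  have hYE : Y ≤ E := hY.le.trans hPE
  have hle : K ⊔ (Y ⊔ H) ≤ E := sup_le hKE (sup_le hYE hHE)
  refine ⟨K ⊔ (Y ⊔ H), hle, regular_of_pieces hG hM hE hreg hle (fun q hq hτ hd => ?_) fun q hq hqτ => ?_⟩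
  · have hqp : q ≠ p := fun hh => not_tau2 hτ (hh ▸ hpτ)
    set f := QuotientGroup.mk' K' with hf
    set g := f.comp N'.subtype with hg
    have hgs : Function.Surjective g := fun w => by
      obtain ⟨e, rfl⟩ := QuotientGroup.mk'_surjective K' w
      obtain ⟨k, hk, m, hm, rfl⟩ := mem_sup_of_normal_left.mp (htop ▸ mem_top e : e ∈ K' ⊔ N')
      exact ⟨⟨m, hm⟩, by
        show f m = f (k * m)
        rw [map_mul, show f k = 1 from (QuotientGroup.eq_one_iff k).mpr hk, one_mul]⟩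
    have h1 : ((H'.map N'.subtype) ⊔ K').index = (H'.map g).index := by
      rw [← index_comap_of_surjective (H := H'.map g) (QuotientGroup.mk'_surjective K'), hg,
        ← Subgroup.map_map, comap_map_eq, QuotientGroup.ker_mk']
    have h2 : ¬ q ∣ ((H'.map N'.subtype) ⊔ K').index := fun hh =>
      hH'.2 q hq hqp ((h1 ▸ hh).trans (index_map_dvd H' hgs))
    refine h2 ?_
    have h3 : ((H'.map N'.subtype) ⊔ K').map E.subtype ≤ K ⊔ (Y ⊔ H) := by
      rw [Subgroup.map_sup, sup_comm]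
      exact sup_le_sup_left le_sup_right _
    have h4 := relIndex_mul_relIndex _ (K ⊔ (Y ⊔ H)) E h3 hle
    have h5 : (((H'.map N'.subtype) ⊔ K').map E.subtype).relIndex E = ((H'.map N'.subtype) ⊔ K').index := by
      rw [relIndex, subgroupOf, comap_map_eq_self_of_injective E.subtype_injective]
    rw [← h5, ← h4]
    exact hd.mul_left _
  · obtain rfl := honly q hqτ
    have hle' : Y ≤ K ⊔ (Y ⊔ H) := le_sup_of_le_right le_sup_left
    refine ⟨P, Y, ⟨hY.le, hY.gen, hY.fpf, bot_le⟩, hle', fun hd => ?_, hPE, hPp, hPi⟩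
    have h1 : Nat.card Y * Y.relIndex (K ⊔ (Y ⊔ H)) = Nat.card (K ⊔ (Y ⊔ H) : Subgroup G) := by
      rw [← relIndex_bot_left, ← relIndex_bot_left, relIndex_mul_relIndex ⊥ Y _ bot_le hle']
    have h2 := (card_sup_dvd ((sup_le hYE hHE).trans hEK)).trans
      (mul_dvd_mul_left (Nat.card K) (card_sup_dvd hY.inv))
    rw [← h1, mul_left_comm] at h2
    rcases hq.out.dvd_mul.mp (hd.trans (Nat.dvd_of_mul_dvd_mul_left Nat.card_pos h2)) with h3 | h3
    · rw [hK, card_map_of_injective E.subtype_injective] at h3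
      exact (hq.out.coprime_iff_not_dvd.mp (PLocal.Cores.coprime_card_pPrimeCore (p := q)).symm) h3
    · exact hHp h3

theorem main (hG : IsMinSimpleOddOrder G) (hM : IsCoatom M) (hE : IsComplIn E (sigmaCore M) M)
    (hreg : Regular M E) : Goal M E := by
  by_cases hN : ∀ (p : ℕ) [Fact p.Prime], p ∈ tau2 M → ∀ S : Sylow p G, IsMulCommutative (S : Subgroup G)
  · exact goal_abelian hG hM hE hreg hN
  push Not at hN
  obtain ⟨p, hp, hpτ, S, hS⟩ := hN
  exact goal_nonabelian hG hM hE hreg hpτ fun T hT => hS ⟨⟨fun x y =>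
    (S.equiv T).injective (by rw [map_mul, map_mul]; exact hT.is_comm.comm _ _)⟩⟩

end Cfsg.Agent.OddLocal.RegularMain
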