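import Cfsg.Agent.OddLocal.FrobeniusFormula
import Cfsg.Agent.Lib.CN.Basic
import Cfsg.Agent.Solvable.Basics

/-! A Frobenius group acting on a nilpotent group with cyclic fixed points of the complement. -/

set_option autoImplicit false

namespace Cfsg.Agent.OddLocal.FrobeniusNilpotent

open Cfsg Subgroup
open scoped commutatorElement
open Cfsg.Agent.OddLocal.FrobeniusFormula (Hyp)

universe u

variable {G : Type u} [Group G] [Finite G]

theorem commutator_le_centralizer_pgroup {D K R : Subgroup G} (h : Hyp D K R) (hR : R ≠ ⊥) {s : ℕ} [Fact s.Prime]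
    (hD : IsPGroup s D) (hCK : D ⊓ centralizer (K : Set G) = ⊥)
    (hW : IsCyclic ↥(D ⊓ centralizer (R : Set G))) : ⁅K, K⁆ ≤ centralizer (D : Set G) := by
  have hs : s.Prime := Fact.out
  set L := normalizer (D : Set G) with hL
  set Φ := (frattini D).map D.subtype with hΦdef
  have hΦD : Φ ≤ D := map_subtype_le _
  have hLΦ : L ≤ normalizer (Φ : Set G) := Coprime.OmegaDetect.normalizer_le_normalizer_char D (frattini D)
  set N₀ := Φ.subgroupOf L with hN₀
  have hN₀n : N₀.Normal := normal_subgroupOf_of_le_normalizer hLΦ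
  let f := QuotientGroup.mk' N₀
  have hDL : D ≤ L := le_normalizer
  set D₁ := D.subgroupOf L with hD₁
  set K₁ := K.subgroupOf L with hK₁
  set R₁ := R.subgroupOf L with hR₁
  have hcK : (Nat.card K).Coprime (Nat.card D) := (h.cop.coprime_dvd_right (dvd_mul_right _ _)).symm
  have hcR : (Nat.card R).Coprime (Nat.card D) := (h.cop.coprime_dvd_right (dvd_mul_left _ _)).symm
  have hcard : ∀ {S : Subgroup G}, S ≤ L → (Nat.card S).Coprime (Nat.card D) →
      Nat.card ((S.subgroupOf L).map f) = Nat.card S := by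
    intro S hS hc
    have h1 := FrobeniusFormula.card_eq_inf_ker_mul f (S.subgroupOf L)
    rw [QuotientGroup.ker_mk', Nat.card_congr (subgroupOfEquivOfLe hS).toEquiv] at h1
    rw [h1, show S.subgroupOf L ⊓ N₀ = ⊥ from ?_, card_bot, one_mul]
    refine le_bot_iff.mp fun x hx => mem_bot.mpr (Subtype.ext ?_)
    exact disjoint_def.mp (Coprime.disjoint_of_coprime hc) (mem_inf.mp hx).1 (hΦD (mem_inf.mp hx).2)
  have hcen : ∀ {S : Subgroup G}, S ≤ L →
      (D ⊓ centralizer (S : Set G)).subgroupOf L = D₁ ⊓ centralizer ((S.subgroupOf L : Subgroup L) : Set L) := by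
    intro S hS
    ext x
    simp only [hD₁, mem_subgroupOf, mem_inf, mem_centralizer_iff, SetLike.mem_coe, and_congr_right_iff]
    exact fun _ => ⟨fun hx z hz => Subtype.ext (hx z hz), fun hx z hz =>
      congrArg Subtype.val (hx ⟨z, hS hz⟩ hz)⟩
  have hnorm : ∀ {A B : Subgroup G}, A ≤ normalizer (B : Set G) →
      A.subgroupOf L ≤ normalizer ((B.subgroupOf L : Subgroup L) : Set L) := fun hAB a ha =>
    mem_normalizer_fintype fun z hz => (mem_normalizer_iff.mp (hAB ha) (z : G)).mp hz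
  have := h.solv
  have hD₁s : Group.IsSolvable D₁ := Group.isSolvable_of_isSolvable_injective
    (f := (subgroupOfEquivOfLe hDL).toMonoidHom) (subgroupOfEquivOfLe hDL).injective
  have hmapcen : ∀ {S : Subgroup G}, S ≤ L → (Nat.card S).Coprime (Nat.card D) →
      D₁.map f ⊓ centralizer ((S.subgroupOf L).map f : Set (L ⧸ N₀)) =
        ((D ⊓ centralizer (S : Set G)).subgroupOf L).map f := by
    intro S hS hc
    rw [hcen hS, Coprime.map_inf_centralizer f (hnorm hS) (by
      rwa [Nat.card_congr (subgroupOfEquivOfLe hS).toEquiv, Nat.card_congr (subgroupOfEquivOfLe hDL).toEquiv])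
      (Or.inr hD₁s)]
  have h' : Hyp (D₁.map f) (K₁.map f) (R₁.map f) := by
    refine ⟨(map_mono (hnorm h.hEU)).trans (le_normalizer_map f), ?_, (map_mono (hnorm h.hUH)).trans (le_normalizer_map f),
      (map_mono (hnorm h.hEH)).trans (le_normalizer_map f), Coprime.isSolvable_map f hD₁s, ?_⟩
    · rintro _ ⟨a, ha, rfl⟩ ha1 _ ⟨u, hu, rfl⟩ e
      have h1 : (a : G) * u * (a : G)⁻¹ * (u : G)⁻¹ = 1 := by
        refine disjoint_def.mp (Coprime.disjoint_of_coprime hcK)
          (mul_mem ((mem_normalizer_iff.mp (h.hEU ha) _).mp hu) (inv_mem hu)) (hΦD ?_)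
        have h2 : f (a * u * a⁻¹ * u⁻¹) = 1 := by
          rw [map_mul, map_mul, map_mul, map_inv, map_inv, e]; group
        exact mem_subgroupOf.mp ((QuotientGroup.eq_one_iff _).mp h2)
      have ha' : (a : G) ≠ 1 := fun e1 => ha1 (by rw [show a = 1 from Subtype.ext e1, map_one])
      have hu1 : (u : G) = 1 := h.fpf _ ha ha' _ hu (mul_inv_eq_iff_eq_mul.mp (mul_inv_eq_one.mp h1))
      rw [show u = 1 from Subtype.ext hu1, map_one]
    · rw [hK₁, hR₁, hcard h.hUH hcK, hcard h.hEH hcR]
      exact h.cop.coprime_dvd_left ((card_map_dvd _ _).trans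
        (dvd_of_eq (Nat.card_congr (subgroupOfEquivOfLe hDL).toEquiv)))
  have hel : IsElementaryAbelian s (D₁.map f) := by
    have := hD.isNilpotent
    refine ⟨⟨⟨?_⟩⟩, ?_⟩
    · rintro ⟨_, a, ha, rfl⟩ ⟨_, b, hb, rfl⟩
      apply Subtype.ext
      simp only [Subgroup.coe_mul]
      rw [← commutatorElement_eq_one_iff_mul_comm, ← map_commutatorElement]
      refine (QuotientGroup.eq_one_iff _).mpr ?_
      exact mem_map_of_mem D.subtype (Coprime.commutator_le_frattini D
        (commutator_mem_commutator (mem_top (⟨_, ha⟩ : D)) (mem_top (⟨_, hb⟩ : D))))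
    · rintro _ ⟨a, ha, rfl⟩
      rw [← map_pow]
      exact (QuotientGroup.eq_one_iff _).mpr
        (mem_map_of_mem D.subtype (Solvable.Basics.pow_mem_frattini hD (⟨_, ha⟩ : D)))
  have hCK' : D₁.map f ⊓ centralizer (K₁.map f : Set (L ⧸ N₀)) = ⊥ := by
    rw [hK₁, hmapcen h.hUH hcK, hCK, bot_subgroupOf, Subgroup.map_bot]
  have hR' : R₁.map f ≠ ⊥ := fun e => hR (card_eq_one.mp (by
    rw [← hcard h.hEH hcR, ← hR₁, e, card_bot]))
  have hW' : Nat.card ↥(D₁.map f ⊓ centralizer (R₁.map f : Set (L ⧸ N₀))) ≤ s := by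
    rw [hR₁, hmapcen h.hEH hcR]
    set W := D ⊓ centralizer (R : Set G)
    have hWL : W ≤ L := inf_le_left.trans hDL
    have : IsCyclic (W.subgroupOf L) :=
      isCyclic_of_surjective (subgroupOfEquivOfLe hWL).symm.toMonoidHom (subgroupOfEquivOfLe hWL).symm.surjective
    have : IsCyclic ((W.subgroupOf L).map f) :=
      isCyclic_of_surjective (f.subgroupMap _) (f.subgroupMap_surjective _)
    obtain ⟨g, hg⟩ := IsCyclic.exists_ofOrder_eq_natCard (α := ↥((W.subgroupOf L).map f))
    rw [← hg]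
    refine Nat.le_of_dvd hs.pos (orderOf_dvd_of_pow_eq_one (Subtype.ext ?_))
    obtain ⟨w, hw, e⟩ := g.2
    rw [SubmonoidClass.coe_pow, OneMemClass.coe_one]
    exact hel.2 _ ⟨w, (mem_inf.mp hw).1, e⟩
  have hmain := FrobeniusFormula.commutator_le_centralizer hs h' hel hCK' hR' hW'
  have hKK : ⁅K, K⁆ ≤ K := Coprime.commutator_le_of_le_normalizer le_normalizer
  refine Coprime.le_centralizer_of_frattini (hKK.trans h.hUH) ?_ fun t ht d hd => ?_
  · exact (hcK.coprime_dvd_left (card_dvd_of_le hKK)).coprime_dvd_right (card_subgroup_dvd_card (frattini D))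
  · rw [← Subgroup.map_commutator] at hmain
    have htL : t ∈ L := h.hUH (hKK ht)
    have ht' : (⟨t, htL⟩ : L) ∈ ⁅K₁, K₁⁆ := by
      have e : ⁅K₁, K₁⁆.map L.subtype = ⁅K, K⁆ := by
        rw [Subgroup.map_commutator, map_subgroupOf_eq_of_le h.hUH]
      obtain ⟨y, hy, hyt⟩ := e.ge ht
      rwa [show (⟨t, htL⟩ : L) = y from Subtype.ext hyt.symm]
    have h1 := (mem_centralizer_iff.mp (hmain (mem_map_of_mem f ht')) _
      (mem_map_of_mem f (show (⟨d, hDL hd⟩ : L) ∈ D₁ from hd))).symm
    have h2 : f (⟨t, htL⟩ * ⟨d, hDL hd⟩ * ⟨t, htL⟩⁻¹ * ⟨d, hDL hd⟩⁻¹) = 1 := by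
      rw [map_mul, map_mul, map_mul, map_inv, map_inv, h1]; group
    exact mem_subgroupOf.mp ((QuotientGroup.eq_one_iff _).mp h2)

/-- The commutator subgroup of the kernel centralises a nilpotent group. -/
theorem commutator_le_centralizer {M K R : Subgroup G} (h : Hyp M K R) (hR : R ≠ ⊥) (hM : Group.IsNilpotent M)
    (hCK : M ⊓ centralizer (K : Set G) = ⊥) (hW : IsCyclic ↥(M ⊓ centralizer (R : Set G))) :
    ⁅K, K⁆ ≤ centralizer (M : Set G) := by
  refine le_centralizer_iff.mp (CN.le_of_forall_isPGroup fun s hs x hx hxs => ?_)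
  have := Fact.mk hs
  obtain ⟨S, hS⟩ : ∃ S : Sylow s M, (S : Subgroup M).Normal := ⟨default,
    (Group.isNilpotent_of_finite_tfae.out 0 3 rfl rfl).1 hM s inferInstance default⟩
  have := Sylow.characteristic_of_normal S hS
  set D := (S : Subgroup M).map M.subtype with hD
  have hDM : D ≤ M := map_subtype_le _
  have hn : normalizer (M : Set G) ≤ normalizer (D : Set G) :=
    Coprime.OmegaDetect.normalizer_le_normalizer_char M _
  have hxD : x ∈ D := by
    have : Subsingleton (Sylow s M) := by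
      have := Sylow.unique_of_normal S hS
      infer_instance
    obtain ⟨S', hS'⟩ := (hxs.comap_subtype (K := M)).exists_le_sylow
    rw [Subsingleton.elim S' S] at hS'
    exact ⟨⟨x, hx⟩, hS' (show (⟨x, hx⟩ : M) ∈ (zpowers x).subgroupOf M from mem_zpowers x), rfl⟩
  have hle : D ⊓ centralizer (R : Set G) ≤ M ⊓ centralizer (R : Set G) := inf_le_inf_right _ hDM
  have hW' : IsCyclic ↥(D ⊓ centralizer (R : Set G)) :=
    isCyclic_of_injective (inclusion hle) (inclusion_injective hle)
  have h1 := commutator_le_centralizer_pgroup (h.mono hDM (h.hUH.trans hn) (h.hEH.trans hn)) hR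
    (S.isPGroup'.map _) (le_bot_iff.mp ((inf_le_inf_right _ hDM).trans hCK.le)) hW'
  exact mem_centralizer_iff.mpr fun t ht => (mem_centralizer_iff.mp (h1 ht) x hxD).symm

end Cfsg.Agent.OddLocal.FrobeniusNilpotent
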