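import Cfsg.Agent.OddLocal.PTypeU2
import Cfsg.Agent.OddLocal.FPFFitting
import Cfsg.Agent.OddLocal.RegularMain
import Cfsg.Agent.S1445
import Cfsg.Agent.S1446
import Cfsg.Agent.Lib.Coprime.Sylow
import Cfsg.Agent.Lib.Coprime.Commutator

/-! A nonnilpotent group with a prime action whose fixed points have prime order (BG 15.2). -/

set_option autoImplicit false
set_option linter.unusedSectionVars false

namespace Cfsg.Agent.OddLocal.PrimeCore

open Cfsg Subgroup
open TauTwo (centralizer_zpowers)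
open scoped Pointwise

variable {H : Type*} [Group H] [Finite H] {N K Q D V W : Subgroup H} {q : ℕ}

/-- The hypotheses. -/
structure Hyp (N K : Subgroup H) (q : ℕ) : Prop where
  solv : Group.IsSolvable H
  odd : Odd (Nat.card H)
  hN : N.Normal
  top : N ⊔ K = ⊤
  cop : (Nat.card N).Coprime (Nat.card K)
  prime : ∀ x ∈ K, x ≠ 1 → N ⊓ centralizer ({x} : Set H) = N ⊓ centralizer (K : Set H)
  hK1 : K ≠ ⊥
  hq : q.Prime
  card_fixed : Nat.card ↥(N ⊓ centralizer (K : Set H)) = q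
  comm : ⁅N, K⁆ = N
  notnil : ¬ Group.IsNilpotent N

theorem inf_eq_bot_of_not_le (hq : q.Prime) {C : Subgroup H} (hC : Nat.card C = q) (h : ¬ C ≤ W) :
    C ⊓ W = ⊥ := by
  rcases hq.eq_one_or_self_of_dvd _ (hC ▸ card_dvd_of_le (inf_le_left : C ⊓ W ≤ C)) with h1 | h1
  · exact card_eq_one.mp h1
  · exact absurd ((eq_of_le_of_card_ge inf_le_left (by rw [hC, h1])).ge.trans inf_le_right) h

variable (c : Hyp N K q)
include c

theorem Hyp.fixed_le_pCore [Fact q.Prime] :
    N ⊓ centralizer (K : Set H) ≤ (pCore q N).map N.subtype := by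
  have := c.hN
  have := c.solv
  set C := N ⊓ centralizer (K : Set H) with hC
  set F := fittingOf N with hF
  have hFN : F ≤ N := map_subtype_le _
  have hCF : C ≤ F := by
    by_contra hle
    have hF0 : fittingOf N ⊓ centralizer (K : Set H) = ⊥ := le_bot_iff.mp (by
      rw [← inf_eq_bot_of_not_le c.hq c.card_fixed hle]
      exact le_inf (le_inf (inf_le_left.trans hFN) inf_le_right) inf_le_left)
    have h1 := S1445.result c.odd N K c.top c.cop c.prime hF0
    rw [c.comm] at h1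
    exact c.notnil (Cores.isNilpotent_to_le h1 (FPFFitting.fittingOf_isNilpotent N))
  intro z hz
  have hzF : z ∈ F := hCF hz
  set Nq := (pCore q F).map F.subtype with hNq
  have : F.Normal := FPFFitting.fittingOf_normal
  have hNn : Nq.Normal := by
    have : (pCore q F).Characteristic := Cores.pCore_characteristic q
    rw [hNq]; infer_instance
  obtain ⟨S, hS⟩ : ∃ S : Sylow q F, (S : Subgroup F).Normal := ⟨default,
    (Group.isNilpotent_of_finite_tfae.out 0 3 rfl rfl).1 (FPFFitting.fittingOf_isNilpotent N) q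
      inferInstance default⟩
  have hzS : (⟨z, hzF⟩ : F) ∈ (S : Subgroup F) := by
    refine KappaDecomp.mem_of_normal_coprime (N := (S : Subgroup F)) (H := ⊤)
      (le_top.trans (normalizer_eq_top_iff.mpr hS).ge) le_top (mem_top _) ?_
    rw [relIndex_top_right]
    have h1 : orderOf (⟨z, hzF⟩ : F) ∣ q := by
      rw [← orderOf_coe, ← c.card_fixed]
      exact orderOf_dvd_natCard _ hz
    exact (c.hq.coprime_iff_not_dvd.mpr S.not_dvd_index).coprime_dvd_left h1
  have hz' : z ∈ Nq := mem_map_of_mem F.subtype (Cores.le_pCore (N := (S : Subgroup F)) S.isPGroup' hzS)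
  have hNqN : Nq ≤ N := (map_subtype_le _).trans hFN
  have h2 : IsPGroup q (Nq.subgroupOf N) := ((Cores.pCore_isPGroup q).map F.subtype).comap_subtype
  exact ⟨⟨z, hNqN hz'⟩, Cores.le_pCore (N := Nq.subgroupOf N) h2 (mem_subgroupOf.mpr hz'), rfl⟩

theorem Hyp.exists_u : ∃ (p : ℕ) (u : H), p.Prime ∧ u ∈ K ∧ orderOf u = p ∧
    N ⊓ centralizer (zpowers u : Set H) = N ⊓ centralizer (K : Set H) := by
  obtain ⟨p, hp, hpd⟩ := Nat.exists_prime_and_dvd (fun e : Nat.card K = 1 => c.hK1 (card_eq_one.mp e))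
  have := Fact.mk hp
  obtain ⟨u, hu⟩ := exists_prime_orderOf_dvd_card' p hpd
  rw [← orderOf_coe] at hu
  exact ⟨p, u, hp, u.2, hu, by
    rw [centralizer_zpowers, c.prime _ u.2 (KappaCentral.ne_one_of_order (p := p) hu)]⟩

/-- `Q = O_q(N)` is a normal Sylow subgroup with nilpotent complements. -/
theorem Hyp.sylow [Fact q.Prime] (hQ : Q = (pCore q N).map N.subtype) :
    Q.Normal ∧ Q ≤ N ∧ IsPGroup q Q ∧ ¬ q ∣ Q.relIndex N ∧
      ∀ D : Subgroup H, D ≤ N → Q ⊓ D = ⊥ → Group.IsNilpotent D := by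
  have := c.hN
  have hQN : Q ≤ N := hQ ▸ map_subtype_le _
  have hQn : Q.Normal := by
    have : (pCore q N).Characteristic := Cores.pCore_characteristic q
    rw [hQ]; infer_instance
  have hQp : IsPGroup q Q := hQ ▸ (Cores.pCore_isPGroup q).map _
  obtain ⟨p, u, hp, huK, huo, huC⟩ := c.exists_u
  have := Fact.mk hp
  set f := QuotientGroup.mk' Q with hf
  have hus : Group.IsSolvable (zpowers u) := inferInstance
  have hco : (Nat.card (zpowers u)).Coprime (Nat.card N) :=
    (c.cop.symm.coprime_dvd_left (card_dvd_of_le (zpowers_le.mpr huK)))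
  have hnil : Group.IsNilpotent (N.map f) := by
    refine Kappa.isNilpotent_of_fpf (p := p) (u := f u) ?_ ?_ ?_
    · have : (N.map f).Normal := Normal.map inferInstance f (QuotientGroup.mk'_surjective Q)
      rw [normalizer_eq_top_iff.mpr this]; exact mem_top _
    · rw [← map_pow, ← huo, pow_orderOf_eq_one, map_one]
    · have h1 := Cfsg.Agent.Coprime.map_inf_centralizer f (K := N) (le_normalizer_of_normal)
        hco (Or.inl hus)
      rw [MonoidHom.map_zpowers, centralizer_zpowers (f u)] at h1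
      rw [← h1, Subgroup.map_eq_bot_iff, QuotientGroup.ker_mk', huC, hQ]
      exact c.fixed_le_pCore
  refine ⟨hQn, hQN, hQp, fun hd => ?_, fun D hDN hDQ => ?_⟩
  · obtain ⟨P⟩ : Nonempty (Sylow q N) := inferInstance
    set P' := (P : Subgroup N).map N.subtype with hP'
    have hQP : Q ≤ P' := by
      rw [hQ]
      refine map_mono ?_
      obtain ⟨P₂, hP₂⟩ := (Cores.pCore_isPGroup (G := N) q).exists_le_sylow
      have hn : (pCore q N).Normal := by
        have : (pCore q N).Characteristic := Cores.pCore_characteristic q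
        infer_instance
      obtain ⟨g, hg⟩ := MulAction.exists_smul_eq N P₂ P
      intro x hx
      rw [← hg, Transfer.Fusion.coe_smul_eq_map]
      exact ⟨g⁻¹ * x * g, hP₂ (by simpa using hn.conj_mem x hx g⁻¹), by simp [mul_assoc]⟩
    have hP'N : P' ≤ N := map_subtype_le _
    have hSn : ((P'.map f).subgroupOf (N.map f)).Normal := by
      have hPp : IsPGroup q ((P'.map f).subgroupOf (N.map f)) :=
        ((P.isPGroup'.map N.subtype).map f).comap_subtype
      have hidx : ¬ q ∣ ((P'.map f).subgroupOf (N.map f)).index := by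
        intro h
        have h1 : (P'.map f).relIndex (N.map f) = P'.relIndex N := by
          rw [relIndex_map_map, QuotientGroup.ker_mk', sup_of_le_left hQP,
            sup_of_le_left (hQP.trans hP'N)]
        have h2 : P'.relIndex N = (P : Subgroup N).index := by
          rw [relIndex, hP', subgroupOf, comap_map_eq_self_of_injective N.subtype_injective]
        exact P.not_dvd_index (h2 ▸ h1 ▸ h)
      have := (Group.isNilpotent_of_finite_tfae.out 0 3 rfl rfl).1 hnil q inferInstance (hPp.toSylow hidx)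
      rwa [IsPGroup.toSylow_coe] at this
    have hn' := (normal_subgroupOf_iff_le_normalizer (map_mono hP'N)).mp hSn
    have hPn : (P : Subgroup N).Normal := by
      have h3 : N ≤ normalizer (P' : Set H) := fun n hn => by
        have h4 : f n ∈ normalizer ((P'.map f : Subgroup (H ⧸ Q)) : Set (H ⧸ Q)) :=
          hn' (mem_map_of_mem f hn)
        have hcm : (P'.map f).comap f = P' := by
          rw [comap_map_eq, QuotientGroup.ker_mk', sup_of_le_left hQP]
        refine mem_normalizer_iff.mpr fun x => ?_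
        rw [← hcm]
        simp only [mem_comap, map_mul, map_inv]
        exact mem_normalizer_iff.mp h4 (f x)
      have h5 := (normal_subgroupOf_iff_le_normalizer hP'N).mpr h3
      rwa [hP', subgroupOf, comap_map_eq_self_of_injective N.subtype_injective] at h5
    have h6 : P' ≤ Q := hQ ▸ map_mono (Cores.le_pCore P.isPGroup')
    have h7 : P' = Q := le_antisymm h6 hQP
    refine P.not_dvd_index ?_
    rw [← h7, relIndex, hP', subgroupOf, comap_map_eq_self_of_injective N.subtype_injective] at hd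
    exact hd
  · set g := f.comp D.subtype
    have hg : Function.Injective g := (injective_iff_map_eq_one g).mpr fun d hd =>
      Subtype.ext (mem_bot.mp (hDQ ▸ mem_inf.mpr ⟨(QuotientGroup.eq_one_iff (d : H)).mp hd, d.2⟩))
    have hr : g.range = D.map f := by rw [MonoidHom.range_comp, range_subtype]
    have := Cores.isNilpotent_to_le (map_mono (f := f) hDN) hnil
    rw [← hr] at this
    exact Group.nilpotent_of_mulEquiv (MonoidHom.ofInjective hg).symm

omit c in
theorem hall_compl [Fact q.Prime] (hQn : Q.Normal) (hQp : IsPGroup q Q) (hQi : ¬ q ∣ Q.relIndex N)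
    (hQN : Q ≤ N) (hDN : D ≤ N) (hQD : Q ⊓ D = ⊥) (hsplit : ∀ x ∈ N, ∃ a ∈ Q, ∃ b ∈ D, x = a * b) :
    IsPiHallOf {r | r ≠ q} D N ∧ Q.relIndex N = Nat.card D := by
  have hN : Q ⊔ D = N := le_antisymm (sup_le hQN hDN) fun x hx => by
    obtain ⟨a, ha, b, hb, rfl⟩ := hsplit x hx
    exact mul_mem_sup ha hb
  have hcard : Nat.card N = Nat.card Q * Nat.card D := by
    conv_lhs => rw [← hN]
    exact Coprime.card_sup_of_disjoint le_normalizer_of_normal (disjoint_iff.mpr hQD)
  have h1 : ∀ X : Subgroup H, X ≤ N → Nat.card X * X.relIndex N = Nat.card N := fun X hX => by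
    rw [← relIndex_bot_left, ← relIndex_bot_left, relIndex_mul_relIndex ⊥ X N bot_le hX]
  have hQr : Q.relIndex N = Nat.card D :=
    Nat.eq_of_mul_eq_mul_left Nat.card_pos ((h1 Q hQN).trans hcard)
  refine ⟨⟨hDN, fun r _ hd e => hQi ?_, fun r hr hrq hd => hrq ?_⟩, hQr⟩
  · rw [hQr, ← e]; exact hd
  · have h2 : D.relIndex N = Nat.card Q :=
      Nat.eq_of_mul_eq_mul_left Nat.card_pos ((h1 D hDN).trans (hcard.trans (mul_comm _ _)))
    exact PType.eq_of_dvd_pow_card hr hQp (h2 ▸ hd)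

/-- Complements of `Q` with a member invariant under `K`. -/
theorem Hyp.exists_compl [Fact q.Prime] (hQn : Q.Normal) (hQp : IsPGroup q Q)
    (hQi : ¬ q ∣ Q.relIndex N) (hQN : Q ≤ N) :
    ∃ D : Subgroup H, D ≤ N ∧ Q ⊓ D = ⊥ ∧ (∀ x ∈ N, ∃ a ∈ Q, ∃ b ∈ D, x = a * b) ∧
      K ≤ normalizer (D : Set H) := by
  have := c.hN
  have := c.solv
  have hNs : Group.IsSolvable N := Coprime.isSolvable_of_le (le_top : N ≤ ⊤) inferInstance
  have hco : (Nat.card (Q.subgroupOf N)).Coprime (Q.subgroupOf N).index := by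
    obtain ⟨k, hk⟩ := hQp.exists_card_eq
    rw [Nat.card_congr (subgroupOfEquivOfLe hQN).toEquiv, hk]
    exact Nat.Coprime.pow_left _ ((Fact.out : q.Prime).coprime_iff_not_dvd.mpr hQi)
  obtain ⟨D₁, hD₁⟩ := exists_right_complement'_of_coprime hco
  set D := D₁.map N.subtype with hD
  have hDN : D ≤ N := map_subtype_le _
  have hQD : Q ⊓ D = ⊥ := eq_bot_iff.mpr fun x hx => by
    obtain ⟨hxQ, d, hd, rfl⟩ := mem_inf.mp hx
    have := hD₁.disjoint.le_bot (mem_inf.mpr ⟨mem_subgroupOf.mpr hxQ, hd⟩)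
    exact mem_bot.mpr (congrArg Subtype.val (mem_bot.mp this))
  have hsplit : ∀ x ∈ N, ∃ a ∈ Q, ∃ b ∈ D, x = a * b := fun x hx => by
    obtain ⟨⟨⟨a, ha⟩, ⟨b, hb⟩⟩, hab⟩ := hD₁.2 ⟨x, hx⟩
    exact ⟨a, mem_subgroupOf.mp ha, b, mem_map_of_mem _ hb, (congrArg Subtype.val hab).symm⟩
  have hall := (hall_compl hQn hQp hQi hQN hDN hQD hsplit).1
  obtain ⟨k, hk, hinv⟩ := Cfsg.Agent.Coprime.exists_conj_invariant (A := K) (K := N)
    le_normalizer_of_normal c.cop.symm (Or.inr hNs) (H := D) (fun a ha => by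
      obtain ⟨m, hm, hle⟩ := PType.exists_conj_le_hall_solvable hNs hall
        (Y := D.map (MulAut.conj a).toMonoidHom) (by
          rintro _ ⟨d, hd, rfl⟩
          exact c.hN.conj_mem d (hDN hd) a) (fun r hr hd => hall.2.1 r hr
            (by rwa [Transfer.Fusion.card_map_conj] at hd))
      exact ⟨m, hm, eq_of_le_of_card_ge hle (by
        rw [Cfsg.Agent.Coprime.card_conj_smul, Cfsg.Agent.Coprime.card_conj_smul])⟩)
  refine ⟨MulAut.conj k • D, ?_, ?_, fun x hx => ?_, hinv⟩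
  · rintro _ ⟨d, hd, rfl⟩
    exact c.hN.conj_mem d (hDN hd) k
  · refine eq_bot_iff.mpr fun x hx => ?_
    obtain ⟨hxQ, d, hd, rfl⟩ := mem_inf.mp hx
    have hdQ : d ∈ Q := by
      have := hQn.conj_mem _ hxQ k⁻¹
      simpa [mul_assoc] using this
    have : d = 1 := mem_bot.mp (hQD ▸ mem_inf.mpr ⟨hdQ, hd⟩)
    subst this
    simp
  · obtain ⟨a, ha, b, hb, e⟩ := hsplit (k⁻¹ * x * k) (mul_mem (mul_mem (inv_mem hk) hx) hk)
    exact ⟨k * a * k⁻¹, hQn.conj_mem a ha k, k * b * k⁻¹, ⟨b, hb, rfl⟩, by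
      calc x = k * (k⁻¹ * x * k) * k⁻¹ := by group
        _ = k * (a * b) * k⁻¹ := by rw [e]
        _ = k * a * k⁻¹ * (k * b * k⁻¹) := by group⟩

/-- The kernel centralises what has no fixed points. -/
theorem Hyp.centralizes (hQN : Q ≤ N) {D : Subgroup H} (hDN : D ≤ N) (hKD : K ≤ normalizer (D : Set H))
    (hDC : D ⊓ centralizer (K : Set H) = ⊥) (hVQ : V ≤ Q) (hco : (Nat.card V).Coprime (Nat.card D))
    (hDV : D ≤ normalizer (V : Set H)) (hKV : K ≤ normalizer (V : Set H))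
    (hV : V ⊓ centralizer (K : Set H) = ⊥) : D ≤ centralizer (V : Set H) := by
  have := c.solv
  obtain ⟨p, u, hp, huK, huo, huC⟩ := c.exists_u
  have := Fact.mk hp
  have key : ∀ X : Subgroup H, X ≤ N → X ⊓ centralizer (K : Set H) = ⊥ →
      ∀ x ∈ X, Commute u x → x = 1 := fun X hX hXC x hx e => mem_bot.mp (hXC ▸ mem_inf.mpr ⟨hx,
    (mem_inf.mp (huC.le (mem_inf.mpr ⟨hX hx, centralizer_zpowers u ▸
      mem_centralizer_singleton_iff.mpr e.symm.eq⟩))).2⟩)
  refine FrobeniusFixGroup.le_centralizer_of_fpf (r := p) (huo ▸ pow_orderOf_eq_one u) (hKD huK)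
    (key D hDN hDC) (Coprime.isSolvable_of_le (le_top : V ≤ ⊤) inferInstance) ?_ hco (hKV huK) hDV
    fun x hx e y _ => by rw [key V (hVQ.trans hQN) hV x hx e]; exact Commute.one_right y
  rw [← huo, ← Nat.card_zpowers]
  exact (c.cop.coprime_dvd_left (card_dvd_of_le (hVQ.trans hQN))).coprime_dvd_right
    (card_dvd_of_le (zpowers_le.mpr huK))

/-- The conclusion. -/
theorem Hyp.main [Fact q.Prime] : ∃ Q : Subgroup H, Q.Normal ∧ Q ≤ N ∧ IsPGroup q Q ∧
    ¬ q ∣ Q.relIndex N ∧ N ⊓ centralizer (K : Set H) ≤ Q ∧ (Nat.card K).Prime ∧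
    (∀ D : Subgroup H, D ≤ N → Q ⊓ D = ⊥ → (∀ x ∈ N, ∃ a ∈ Q, ∃ b ∈ D, x = a * b) →
      ⁅D, D⁆ ≤ centralizer (Q : Set H)) ∧
    ∀ D : Subgroup H, D ≤ N → Q ⊓ D = ⊥ → (∀ x ∈ N, ∃ a ∈ Q, ∃ b ∈ D, x = a * b) →
      Group.IsNilpotent D ∧ (Q ⊓ centralizer (D : Set H)).Normal ∧ Q ⊓ centralizer (D : Set H) < Q ∧
      Nat.card Q = Nat.card ↥(Q ⊓ centralizer (D : Set H)) * q ^ Nat.card K ∧
      (∀ a ∈ Q, ∀ b ∈ Q, a ^ q ∈ Q ⊓ centralizer (D : Set H) ∧
        a * b * a⁻¹ * b⁻¹ ∈ Q ⊓ centralizer (D : Set H)) ∧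
      ∀ W : Subgroup H, Q ⊓ centralizer (D : Set H) < W → W < Q → ¬ W.Normal := by
  have := c.hN
  have := c.solv
  obtain ⟨Q, hQ⟩ : ∃ Q : Subgroup H, Q = (pCore q N).map N.subtype := ⟨_, rfl⟩
  obtain ⟨hQn, hQN, hQp, hQi, hDnil⟩ := c.sylow hQ
  set C := N ⊓ centralizer (K : Set H) with hC
  have hCQ : C ≤ Q := hQ ▸ c.fixed_le_pCore
  obtain ⟨D₀, hD₀N, hQD₀, hsplit₀, hKD₀⟩ := c.exists_compl hQn hQp hQi hQN
  obtain ⟨hall, hQr⟩ := hall_compl hQn hQp hQi hQN hD₀N hQD₀ hsplit₀
  have hcoQ : (Nat.card Q).Coprime (Nat.card D₀) := by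
    obtain ⟨k, hk⟩ := hQp.exists_card_eq
    rw [hk, ← hQr]
    exact Nat.Coprime.pow_left _ (c.hq.coprime_iff_not_dvd.mpr hQi)
  have hDC : D₀ ⊓ centralizer (K : Set H) = ⊥ := le_bot_iff.mp (hQD₀ ▸ le_inf
    ((le_inf (inf_le_left.trans hD₀N) inf_le_right).trans hCQ) inf_le_left)
  have cent : ∀ V : Subgroup H, V ≤ Q → D₀ ≤ normalizer (V : Set H) → K ≤ normalizer (V : Set H) →
      V ⊓ centralizer (K : Set H) = ⊥ → D₀ ≤ centralizer (V : Set H) := fun V hVQ h1 h2 h3 =>
    c.centralizes hQN hD₀N hKD₀ hDC hVQ (hcoQ.coprime_dvd_left (card_dvd_of_le hVQ)) h1 h2 h3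
  have hnc : ¬ D₀ ≤ centralizer (Q : Set H) := fun hle => c.notnil <| by
    have hn1 : (D₀.subgroupOf N).Normal := (normal_subgroupOf_iff_le_normalizer hD₀N).mpr fun x hx => by
      obtain ⟨a, ha, b, hb, rfl⟩ := hsplit₀ x hx
      exact mul_mem (centralizer_le_normalizer _ ((le_centralizer_iff.mp hle) ha)) (le_normalizer hb)
    have hn2 : (Q.subgroupOf N).Normal := inferInstance
    have h1 : Group.IsNilpotent (D₀.subgroupOf N) :=
      Cores.isNilpotent_subgroupOf (hDnil D₀ hD₀N hQD₀) N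
    have h2 : Group.IsNilpotent (Q.subgroupOf N) := Cores.isNilpotent_subgroupOf hQp.isNilpotent N
    refine Cores.fittingSubgroup_eq_top_iff.mp (eq_top_iff.mpr fun x _ => ?_)
    obtain ⟨a, ha, b, hb, e⟩ := hsplit₀ x x.2
    have hx : x = (⟨a, hQN ha⟩ : N) * ⟨b, hD₀N hb⟩ := Subtype.ext e
    rw [hx]
    exact mul_mem (Cores.le_fittingSubgroup h2 (mem_subgroupOf.mpr ha))
      (Cores.le_fittingSubgroup h1 (mem_subgroupOf.mpr hb))
  -- modulo a normal subgroup containing the fixed points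
  have quot : ∀ W : Subgroup H, W.Normal → W ≤ Q → C ≤ W → ⁅Q, D₀⁆ ≤ W := fun W hWn hWQ hCW => by
    obtain ⟨p, u, hp, huK, huo, huC⟩ := c.exists_u
    have := Fact.mk hp
    have hus : Group.IsSolvable (zpowers u) := inferInstance
    set f := QuotientGroup.mk' W with hf
    have hco : ∀ X : Subgroup H, X ≤ N → (Nat.card (zpowers u)).Coprime (Nat.card X) := fun X hX =>
      (c.cop.symm.coprime_dvd_left (card_dvd_of_le (zpowers_le.mpr huK))).coprime_dvd_right
        (card_dvd_of_le hX)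
    have key : ∀ X : Subgroup H, X ≤ N → u ∈ normalizer (X : Set H) →
        X.map f ⊓ centralizer ({f u} : Set (H ⧸ W)) = ⊥ := fun X hX hu => by
      have h1 := Cfsg.Agent.Coprime.map_inf_centralizer f (K := X) (zpowers_le.mpr hu) (hco X hX) (Or.inl hus)
      rw [MonoidHom.map_zpowers, centralizer_zpowers (f u)] at h1
      rw [← h1, Subgroup.map_eq_bot_iff, QuotientGroup.ker_mk']
      exact fun x hx => hCW (huC.le ⟨hX hx.1, hx.2⟩)
    have fpf : ∀ X : Subgroup H, X ≤ N → u ∈ normalizer (X : Set H) →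
        ∀ x ∈ X.map f, Commute (f u) x → x = 1 := fun X hX hu x hx e =>
      mem_bot.mp (key X hX hu ▸ mem_inf.mpr ⟨hx, mem_centralizer_singleton_iff.mpr e.symm.eq⟩)
    have huQ : u ∈ normalizer (Q : Set H) := by rw [normalizer_eq_top_iff.mpr hQn]; exact mem_top _
    have : (Q.map f).Normal := Normal.map inferInstance f (QuotientGroup.mk'_surjective W)
    have h := FrobeniusFixGroup.le_centralizer_of_fpf (r := p) (e := f u) (Y := D₀.map f) (V := Q.map f)
      (by rw [← map_pow, ← huo, pow_orderOf_eq_one, map_one])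
      (le_normalizer_map f (mem_map_of_mem f (hKD₀ huK)))
      (fpf D₀ hD₀N (hKD₀ huK))
      (Coprime.isSolvable_map f (Coprime.isSolvable_of_le (le_top : Q ≤ ⊤) inferInstance))
      (by
        refine Nat.Coprime.coprime_dvd_left (card_map_dvd _ _) ?_
        rw [← huo, ← Nat.card_zpowers]
        exact (hco Q hQN).symm)
      ((hcoQ.coprime_dvd_left (card_map_dvd _ _)).coprime_dvd_right (card_map_dvd _ _))
      (by rw [normalizer_eq_top_iff.mpr inferInstance]; exact mem_top _) le_normalizer_of_normal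
      fun x hx e y _ => by rw [fpf Q hQN huQ x hx e]; exact Commute.one_right y
    refine commutator_le.mpr fun a ha b hb => ?_
    rw [← QuotientGroup.ker_mk' W, MonoidHom.mem_ker, map_commutatorElement,
      commutatorElement_eq_one_iff_mul_comm]
    exact mem_centralizer_iff.mp (h (mem_map_of_mem f hb)) _ (mem_map_of_mem f ha)
  -- the Frattini subgroup of `Q`
  set Φ := (frattini Q).map Q.subtype with hΦ
  have hΦn : Φ.Normal := by rw [hΦ]; infer_instance
  have hΦQ : Φ ≤ Q := map_subtype_le _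
  set Q₀ := Q ⊓ centralizer (D₀ : Set H) with hQ₀
  have hCΦ : ¬ C ≤ Φ := fun hle => hnc (Cfsg.Agent.Coprime.le_centralizer_of_frattini
    le_normalizer_of_normal (hcoQ.symm.coprime_dvd_right (card_subgroup_dvd_card (frattini Q)))
    fun a ha k hk => by
      have h1 := quot Φ hΦn hΦQ hle (commutator_mem_commutator hk ha)
      rw [← inv_mem_iff, commutatorElement_def] at h1
      simpa [hΦ, mul_assoc] using h1)
  have hΦ0 : Φ ≤ Q₀ := le_inf hΦQ (le_centralizer_iff.mp (cent Φ hΦQ le_normalizer_of_normal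
    le_normalizer_of_normal (le_bot_iff.mp (by
      rw [← inf_eq_bot_of_not_le c.hq c.card_fixed hCΦ]
      exact le_inf (le_inf (inf_le_left.trans (hΦQ.trans hQN)) inf_le_right) inf_le_left))))
  have hQ₀Q : Q₀ ≤ Q := inf_le_left
  have := hQp.isNilpotent
  have hcomm : ∀ a ∈ Q, ∀ b ∈ Q, a * b * a⁻¹ * b⁻¹ ∈ Q₀ := fun a ha b hb => hΦ0 (by
    have h1 := mem_map_of_mem Q.subtype (Coprime.commutator_le_frattini Q
      (commutator_mem_commutator (mem_top (⟨a, ha⟩ : Q)) (mem_top (⟨b, hb⟩ : Q))))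
    simpa [hΦ, commutatorElement_def] using h1)
  have hpow : ∀ a ∈ Q, a ^ q ∈ Q₀ := fun a ha => hΦ0 (by
    have h1 := mem_map_of_mem Q.subtype (Solvable.Basics.pow_mem_frattini hQp (⟨a, ha⟩ : Q))
    simpa [hΦ] using h1)
  have hQ₀n : Q₀.Normal := by
    refine normalizer_eq_top_iff.mp (top_le_iff.mp (c.top.ge.trans (sup_le ?_ ?_)))
    · intro x hx
      obtain ⟨a, ha, b, hb, rfl⟩ := hsplit₀ x hx
      refine mul_mem (mem_normalizer_iff.mpr fun y => ⟨fun hy => ?_, fun hy => ?_⟩) ?_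
      · simpa [mul_assoc] using mul_mem (hcomm a ha y (hQ₀Q hy)) hy
      · have hyQ : y ∈ Q := by
          have := mul_mem (mul_mem (inv_mem ha) (hQ₀Q hy)) ha
          simpa [mul_assoc] using this
        have := mul_mem (inv_mem (hcomm a ha y hyQ)) hy
        simpa [mul_assoc] using this
      · exact (le_inf le_normalizer_of_normal (le_normalizer.trans
          (CharP.normalizer_le_normalizer_centralizer _))).trans inf_normalizer_le_normalizer_inf hb
    · exact (le_inf le_normalizer_of_normal (hKD₀.trans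
        (CharP.normalizer_le_normalizer_centralizer _))).trans inf_normalizer_le_normalizer_inf
  have hCQ₀ : ¬ C ≤ Q₀ := fun hle => hnc (Cfsg.Agent.Coprime.le_centralizer_of_series
    le_normalizer_of_normal hcoQ.symm (Or.inr (Coprime.isSolvable_of_le (le_top : Q ≤ ⊤) inferInstance))
    (le_centralizer_iff.mp inf_le_right) (quot Q₀ hQ₀n hQ₀Q hle))
  -- the order
  set f := QuotientGroup.mk' Q₀ with hf
  have hmap : ∀ X : Subgroup H, X ⊓ Q₀ = ⊥ → Nat.card (X.map f) = Nat.card X := fun X hX => by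
    rw [← relIndex_ker, QuotientGroup.ker_mk', ← inf_relIndex_right, inf_comm, hX, relIndex_bot_left]
  have hQ0D : D₀ ⊓ Q₀ = ⊥ := le_bot_iff.mp (hQD₀ ▸ le_inf (inf_le_right.trans hQ₀Q) inf_le_left)
  have hQ0K : K ⊓ Q₀ = ⊥ := inf_eq_bot_of_coprime
    (c.cop.symm.coprime_dvd_right (card_dvd_of_le (hQ₀Q.trans hQN)))
  have hQ0C : C ⊓ Q₀ = ⊥ := inf_eq_bot_of_not_le c.hq c.card_fixed hCQ₀
  have hD1 : D₀ ≠ ⊥ := fun e => hnc (e ▸ bot_le)
  have hNK : ∀ {X : Subgroup H}, X ≤ N → (Nat.card K).Coprime (Nat.card X) := fun hX =>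
    c.cop.symm.coprime_dvd_right (card_dvd_of_le hX)
  have hfrob : ∀ x ∈ K, x ≠ 1 → D₀.map f ⊓ centralizer ({f x} : Set (H ⧸ Q₀)) = ⊥ ∧
      Q.map f ⊓ centralizer ({f x} : Set (H ⧸ Q₀)) = C.map f := fun x hx hx1 => by
    have hxs : Group.IsSolvable (zpowers x) := inferInstance
    have key : ∀ X : Subgroup H, X ≤ N → x ∈ normalizer (X : Set H) →
        X.map f ⊓ centralizer ({f x} : Set (H ⧸ Q₀)) = (X ⊓ centralizer (K : Set H)).map f := fun X hX hxn => by
      have h1 := Cfsg.Agent.Coprime.map_inf_centralizer f (K := X) (zpowers_le.mpr hxn)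
        ((hNK hX).coprime_dvd_left (card_dvd_of_le (zpowers_le.mpr hx))) (Or.inl hxs)
      rw [MonoidHom.map_zpowers, centralizer_zpowers (f x)] at h1
      rw [← h1, centralizer_zpowers x]
      congr 1
      refine le_antisymm (fun y hy => ⟨hy.1, ((c.prime x hx hx1).le ⟨hX hy.1, hy.2⟩).2⟩)
        (inf_le_inf_left _ (Subgroup.centralizer_le (Set.singleton_subset_iff.mpr hx)))
    refine ⟨?_, ?_⟩
    · rw [key D₀ hD₀N (hKD₀ hx), hDC, Subgroup.map_bot]
    · rw [key Q hQN (by rw [normalizer_eq_top_iff.mpr hQn]; exact mem_top _)]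
      congr 1
      exact le_antisymm (inf_le_inf_right _ hQN) (le_inf hCQ inf_le_right)
  have hfixK : Q.map f ⊓ centralizer ((K.map f : Subgroup (H ⧸ Q₀)) : Set (H ⧸ Q₀)) = C.map f := by
    rw [← Cfsg.Agent.Coprime.map_inf_centralizer f (K := Q) le_normalizer_of_normal (hNK hQN)
      (Or.inr (Coprime.isSolvable_of_le (le_top : Q ≤ ⊤) inferInstance))]
    congr 1
    exact le_antisymm (inf_le_inf_right _ hQN) (le_inf hCQ inf_le_right)
  have hQfn : (Q.map f).Normal := Normal.map inferInstance f (QuotientGroup.mk'_surjective Q₀)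
  have h1446 := S1446.result (D₀.map f) (K.map f) (Q.map f)
    (fun e => hD1 (card_eq_one.mp (by rw [← hmap D₀ hQ0D, e, card_bot])))
    (fun e => c.hK1 (card_eq_one.mp (by rw [← hmap K hQ0K, e, card_bot])))
    (inf_eq_bot_of_coprime (((hNK hD₀N).symm.coprime_dvd_left (card_map_dvd _ _)).coprime_dvd_right
      (card_map_dvd _ _)))
    ((map_mono hKD₀).trans (le_normalizer_map f))
    (by
      rintro _ ⟨x, hx, rfl⟩ hx1
      exact (hfrob x hx fun e => hx1 (by rw [e, map_one])).1)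
    (by rw [← Subgroup.map_sup]; exact Coprime.isSolvable_map f (Coprime.isSolvable_of_le (le_top : D₀ ⊔ K ≤ ⊤) inferInstance))
    (by rw [← Subgroup.map_sup]; exact c.odd.of_dvd_nat ((card_map_dvd _ _).trans (card_subgroup_dvd_card _)))
    (fun e => hCQ₀ (hCQ.trans (by rwa [Subgroup.map_eq_bot_iff, QuotientGroup.ker_mk'] at e)))
    (Cores.isNilpotent_map _ f hQp.isNilpotent) le_normalizer_of_normal le_normalizer_of_normal
    (by
      rw [← Subgroup.map_sup]
      refine ((Nat.Coprime.coprime_dvd_left (card_map_dvd _ _) ?_)).coprime_dvd_right (card_map_dvd _ _)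
      exact (Nat.Coprime.mul_left hcoQ.symm (hNK hQN)).coprime_dvd_left (RegularMain.card_sup_dvd hKD₀))
    (by
      rw [← Cfsg.Agent.Coprime.map_inf_centralizer f (K := Q) le_normalizer_of_normal hcoQ.symm
        (Or.inr (Coprime.isSolvable_of_le (le_top : Q ≤ ⊤) inferInstance)), Subgroup.map_eq_bot_iff,
        QuotientGroup.ker_mk'])
    (by
      rintro _ ⟨x, hx, rfl⟩ hx1
      rw [(hfrob x hx fun e => hx1 (by rw [e, map_one])).2, hfixK])
  obtain ⟨hKp, hQc, hder⟩ := h1446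
  rw [hmap K hQ0K] at hKp hQc
  rw [hfixK, hmap C hQ0C, c.card_fixed] at hQc
  have hcard : Nat.card Q = Nat.card Q₀ * q ^ Nat.card K := by
    have h1 : Nat.card (Q.map f) = Q₀.relIndex Q := by
      rw [← relIndex_ker, QuotientGroup.ker_mk']
    have h2 := relIndex_mul_relIndex ⊥ Q₀ Q bot_le hQ₀Q
    simp only [relIndex_bot_left] at h2
    rw [← hQc, h1, h2]
  have hcyc : IsCyclic ↥(Q.map f ⊓ centralizer ((K.map f : Subgroup (H ⧸ Q₀)) : Set (H ⧸ Q₀))) :=
    isCyclic_of_prime_card (p := q) (by rw [hfixK, hmap C hQ0C, c.card_fixed])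
  have hD'Q : ⁅D₀, D₀⁆ ≤ centralizer (Q : Set H) := by
    refine Cfsg.Agent.Coprime.le_centralizer_of_series (N := Q₀) le_normalizer_of_normal
      ((hcoQ.coprime_dvd_right (card_dvd_of_le (commutator_le_self D₀))).symm)
      (Or.inr (Coprime.isSolvable_of_le (le_top : Q ≤ ⊤) inferInstance))
      ((commutator_le_self D₀).trans (le_centralizer_iff.mp inf_le_right)) (commutator_le.mpr fun a ha b hb => ?_)
    rw [← QuotientGroup.ker_mk' Q₀, MonoidHom.mem_ker, map_commutatorElement,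
      commutatorElement_eq_one_iff_mul_comm]
    have h1 : f b ∈ ⁅D₀.map f, D₀.map f⁆ := by
      rw [← Subgroup.map_commutator]; exact mem_map_of_mem f hb
    exact mem_centralizer_iff.mp (hder hcyc h1) _ (mem_map_of_mem f ha)
  refine ⟨Q, hQn, hQN, hQp, hQi, hCQ, hKp, fun D hDN hQD hsplit => ?_, fun D hDN hQD hsplit => ?_⟩
  · obtain ⟨hall', hQr'⟩ := hall_compl hQn hQp hQi hQN hDN hQD hsplit
    obtain ⟨m, -, hle⟩ := PType.exists_conj_le_hall_solvable
      (Coprime.isSolvable_of_le (le_top : N ≤ ⊤) inferInstance) hall hDN (fun r hr hd => hall'.2.1 r hr hd)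
    have hle' : ⁅D, D⁆ ≤ ⁅D₀, D₀⁆.map (MulAut.conj m).toMonoidHom := by
      rw [Subgroup.map_commutator]; exact commutator_mono hle hle
    intro d hd
    obtain ⟨d₀, hd₀, rfl⟩ := hle' hd
    refine mem_centralizer_iff.mpr fun y hy => ?_
    have h2 := mem_centralizer_iff.mp (hD'Q hd₀) (m⁻¹ * y * m) (by simpa using hQn.conj_mem y hy m⁻¹)
    show y * (m * d₀ * m⁻¹) = m * d₀ * m⁻¹ * y
    calc y * (m * d₀ * m⁻¹) = m * (m⁻¹ * y * m * d₀) * m⁻¹ := by group
      _ = m * (d₀ * (m⁻¹ * y * m)) * m⁻¹ := by rw [h2]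
      _ = m * d₀ * m⁻¹ * y := by group
  obtain ⟨hall', hQr'⟩ := hall_compl hQn hQp hQi hQN hDN hQD hsplit
  obtain ⟨m, hm, hle⟩ := PType.exists_conj_le_hall_solvable
    (Coprime.isSolvable_of_le (le_top : N ≤ ⊤) inferInstance) hall' hD₀N
    (fun r hr hd => hall.2.1 r hr hd)
  have hD : D₀ = D.map (MulAut.conj m).toMonoidHom := eq_of_le_of_card_ge hle
    (by rw [Transfer.Fusion.card_map_conj, ← hQr', ← hQr])
  have hQ₀D : Q ⊓ centralizer (D : Set H) = Q₀ := by
    ext y
    rw [mem_inf]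
    constructor
    · rintro ⟨hy, hyc⟩
      have hy' : m * y * m⁻¹ ∈ Q₀ := mem_inf.mpr ⟨hQn.conj_mem y hy m, mem_centralizer_iff.mpr (by
        rw [hD]
        rintro _ ⟨d, hd, rfl⟩
        show m * d * m⁻¹ * (m * y * m⁻¹) = m * y * m⁻¹ * (m * d * m⁻¹)
        calc m * d * m⁻¹ * (m * y * m⁻¹) = m * (d * y) * m⁻¹ := by group
          _ = m * (y * d) * m⁻¹ := by rw [mem_centralizer_iff.mp hyc d hd]
          _ = m * y * m⁻¹ * (m * d * m⁻¹) := by group)⟩
      simpa [mul_assoc] using hQ₀n.conj_mem _ hy' m⁻¹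
    · intro hy
      obtain ⟨hy1, hy2⟩ := mem_inf.mp (hQ₀n.conj_mem y hy m)
      refine ⟨hQ₀Q hy, mem_centralizer_iff.mpr fun d hd => ?_⟩
      have h2 := mem_centralizer_iff.mp hy2 (m * d * m⁻¹) (hD ▸ ⟨d, hd, rfl⟩)
      calc d * y = m⁻¹ * (m * d * m⁻¹ * (m * y * m⁻¹)) * m := by group
        _ = m⁻¹ * (m * y * m⁻¹ * (m * d * m⁻¹)) * m := by rw [h2]
        _ = y * d := by group
  rw [hQ₀D]
  refine ⟨hDnil D hDN hQD, hQ₀n, lt_of_le_of_ne hQ₀Q fun e => hCQ₀ (e ▸ hCQ), hcard,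
    fun a ha b hb => ⟨hpow a ha, hcomm a ha b hb⟩, fun W hW₀ hWQ hWn => ?_⟩
  by_cases hCW : C ≤ W
  · refine hWQ.not_ge ((Cfsg.Agent.Coprime.commutator_sup_inf_centralizer le_normalizer_of_normal hcoQ.symm
      (Or.inr (Coprime.isSolvable_of_le (le_top : Q ≤ ⊤) inferInstance))).ge.trans
      (sup_le (quot W hWn hWQ.le hCW) hW₀.le))
  · refine hW₀.not_ge (le_inf hWQ.le (le_centralizer_iff.mp (cent W hWQ.le le_normalizer_of_normal
      le_normalizer_of_normal (le_bot_iff.mp ?_))))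
    rw [← inf_eq_bot_of_not_le c.hq c.card_fixed hCW]
    exact le_inf (le_inf (inf_le_left.trans (hWQ.le.trans hQN)) inf_le_right) inf_le_left

end Cfsg.Agent.OddLocal.PrimeCore
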