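import Cfsg.Agent.OddLocal.AutRankTwo
import Cfsg.Agent.Solvable.Fitting
import Cfsg.Agent.Lib.Cores.Fitting
import Cfsg.Agent.Lib.PLocal.Cores

/-! Solvable groups of odd order and `p`-rank at most two. -/

set_option autoImplicit false
set_option linter.unusedSectionVars false

namespace Cfsg.Agent.OddLocal.RankTwoSolvable

open Cfsg Subgroup

variable {G : Type*} [Group G] [Finite G] {p : ℕ} [hp : Fact p.Prime]

theorem odd_prime_of_dvd (hodd : Odd (Nat.card G)) (hd : p ∣ Nat.card G) : p ≠ 2 := by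
  rintro rfl
  exact Nat.not_even_iff_odd.mpr hodd (even_iff_two_dvd.mpr hd)

/-- The rank bound passes to quotients by normal subgroups of order prime to `p`. -/
theorem pRankLE_quotient {k : ℕ} (h : PRankLE p k G) (N : Subgroup G) [N.Normal]
    (hN : (Nat.card N).Coprime p) : PRankLE p k (G ⧸ N) := by
  intro A hAc hA
  set f := QuotientGroup.mk' N with hf
  set X := A.comap f with hX
  obtain ⟨S⟩ := (inferInstance : Nonempty (Sylow p X))
  set S' := (S : Subgroup X).map X.subtype with hS'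
  have hfS : S'.map f ≤ A := by
    rintro _ ⟨_, ⟨s, -, rfl⟩, rfl⟩
    exact s.2
  have hinj : ∀ s ∈ S', f s = 1 → s = 1 := by
    intro s hs h
    have h1 : s ∈ N := (QuotientGroup.eq_one_iff s).mp h
    obtain ⟨j, hj⟩ := (S.isPGroup'.map X.subtype).exists_card_eq
    exact orderOf_eq_one_iff.mp (Nat.eq_one_of_dvd_coprimes (hN.pow_right j)
      (N.orderOf_dvd_natCard h1) (hj ▸ S'.orderOf_dvd_natCard hs))
  have hcomm : IsMulCommutative S' := by
    refine ⟨⟨fun a b => Subtype.ext ?_⟩⟩
    have h1 : (⟨f a, hfS ⟨a, a.2, rfl⟩⟩ : A) * ⟨f b, hfS ⟨b, b.2, rfl⟩⟩ =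
        ⟨f b, hfS ⟨b, b.2, rfl⟩⟩ * ⟨f a, hfS ⟨a, a.2, rfl⟩⟩ := hAc.is_comm.comm _ _
    have h2 : f ((a : G) * b * ((b : G) * a)⁻¹) = 1 := by
      rw [map_mul, map_inv, mul_inv_eq_one, map_mul, map_mul]
      exact congrArg Subtype.val h1
    exact mul_inv_eq_one.mp (hinj _ (mul_mem (mul_mem a.2 b.2) (inv_mem (mul_mem b.2 a.2))) h2)
  have hexp : ∀ s ∈ S', s ^ p = 1 := fun s hs =>
    hinj _ (pow_mem hs p) (by rw [map_pow]; exact hA _ (hfS ⟨s, hs, rfl⟩))
  refine le_trans (Nat.le_of_dvd Nat.card_pos ?_) (h S' hcomm hexp)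
  have hAp : IsPGroup p A := fun a => ⟨1, Subtype.ext (by rw [pow_one]; exact hA a a.2)⟩
  obtain ⟨n, hn⟩ := hAp.exists_card_eq
  have hXc : Nat.card X = Nat.card N * Nat.card A := by
    have h1 := (N.subgroupOf X).card_mul_index
    have hNX : N ≤ X := fun x hx => by
      rw [hX, mem_comap, show f x = 1 from (QuotientGroup.eq_one_iff x).mpr hx]
      exact one_mem _
    have h2 : (N.subgroupOf X).index = Nat.card A := by
      show N.relIndex X = _
      rw [← map_comap_eq_self_of_surjective (QuotientGroup.mk'_surjective N) A, ← hX,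
        ← relIndex_ker, QuotientGroup.ker_mk']
    rw [← h1, h2, Nat.card_congr (subgroupOfEquivOfLe hNX).toEquiv]
  rw [hn, card_map_of_injective X.subtype_injective]
  exact S.pow_dvd_card_of_pow_dvd_card (hXc ▸ hn ▸ dvd_mul_left _ _)

/-- The structure of a solvable group of odd order and `p`-rank at most two. -/
theorem structure_rankTwo [Group.IsSolvable G] (hodd : Odd (Nat.card G)) (hd : p ∣ Nat.card G)
    (hr : PRankLE p 2 G) :
    commutator G ≤ pPrimePCore p G ∧ (pPrimePCore p G).index.Coprime p ∧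
      ∀ q : ℕ, q.Prime → q ∣ (pPrimeCore p G).index → q ≤ p := by
  have hp2 := odd_prime_of_dvd hodd hd
  set N := pPrimeCore p G with hN
  have hrQ : PRankLE p 2 (G ⧸ N) := pRankLE_quotient hr N (Cores.pPrimeCore_card_coprime p)
  have hoddQ : Odd (Nat.card (G ⧸ N)) := hodd.of_dvd_nat (N.index_dvd_card)
  set R := pCore p (G ⧸ N) with hR
  have hRp : IsPGroup p R := Cores.pCore_isPGroup p
  have hrR : PRankLE p 2 R := fun A hA hA' => by
    rw [← card_subtype R A]
    refine hrQ _ (map_isMulCommutative A R.subtype) ?_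
    rintro _ ⟨y, hy, rfl⟩
    exact congrArg Subtype.val (hA' y hy)
  have hCR : centralizer (R : Set (G ⧸ N)) ≤ R :=
    Solvable.Fitting.centralizer_pCore_le p (Cores.pPrimeCore_quotient_self p)
  set φ : G ⧸ N →* MulAut R := MulAut.conjNormal with hφ
  have hker : ∀ x, φ x = 1 → x ∈ R := fun x hx => hCR (mem_centralizer_iff.mpr fun r hr' => by
    have h := congrArg Subtype.val (DFunLike.congr_fun hx ⟨r, hr'⟩)
    rw [hφ, MulAut.conjNormal_apply] at h
    exact (mul_inv_eq_iff_eq_mul.mp h).symm)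
  obtain ⟨h1, h2⟩ := AutRankTwo.aut_rankTwo hp2 hRp hrR hoddQ φ
  have hder : commutator (G ⧸ N) ≤ R := by
    refine Cores.le_pCore (hN := inferInstance) fun c => ?_
    obtain ⟨k, hk⟩ := h1 c c.2
    rw [← map_pow] at hk
    obtain ⟨l, hl⟩ := hRp ⟨_, hker _ hk⟩
    refine ⟨k + l, Subtype.ext ?_⟩
    have hl' := congrArg Subtype.val hl
    simp only [SubmonoidClass.coe_pow, OneMemClass.coe_one] at hl' ⊢
    rw [pow_add, pow_mul]
    exact hl'
  refine ⟨?_, ?_, ?_⟩
  · intro x hx
    refine hder ?_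
    have h : (commutator G).map (QuotientGroup.mk' N) ≤ commutator (G ⧸ N) := by
      rw [_root_.commutator_def, Subgroup.map_commutator, _root_.commutator_def]
      exact commutator_mono le_top le_top
    exact h ⟨x, hx, rfl⟩
  · have hindex : (pPrimePCore p G).index = R.index :=
      index_comap_of_surjective _ (QuotientGroup.mk'_surjective N)
    rw [hindex]
    refine (hp.out.coprime_iff_not_dvd.mpr fun hdvd => ?_).symm
    obtain ⟨S⟩ := (inferInstance : Nonempty (Sylow p ((G ⧸ N) ⧸ R)))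
    have hSn : (S : Subgroup ((G ⧸ N) ⧸ R)).Normal := by
      refine ⟨fun s hs g => ?_⟩
      obtain ⟨a, rfl⟩ := QuotientGroup.mk'_surjective R s
      obtain ⟨b, rfl⟩ := QuotientGroup.mk'_surjective R g
      have e : QuotientGroup.mk' R b * QuotientGroup.mk' R a * (QuotientGroup.mk' R b)⁻¹ =
          QuotientGroup.mk' R a := by
        rw [← map_inv, ← map_mul, ← map_mul]
        refine mul_inv_eq_one.mp ?_
        rw [← map_inv, ← map_mul]
        exact (QuotientGroup.eq_one_iff _).mpr
          (hder (commutator_mem_commutator (mem_top b) (mem_top a)))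
      rwa [e]
    exact S.ne_bot_of_dvd_card (show p ∣ Nat.card ((G ⧸ N) ⧸ R) from hdvd)
      (le_bot_iff.mp (Cores.pCore_quotient_self (G := G ⧸ N) p ▸ Cores.le_pCore (hN := hSn) S.isPGroup'))
  · intro q hq hdvd
    by_cases hqp : q = p
    · exact hqp.le
    have hq2 : q ≠ 2 := by
      rintro rfl
      exact Nat.not_even_iff_odd.mpr hodd (even_iff_two_dvd.mpr (hdvd.trans N.index_dvd_card))
    have hdr : q ∣ Nat.card φ.range := by
      have hc : Nat.card φ.ker * Nat.card φ.range = Nat.card (G ⧸ N) := by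
        rw [← φ.ker.card_mul_index, index_ker]
      have hd' : q ∣ Nat.card φ.ker * Nat.card φ.range := hc ▸ hdvd
      refine (hq.dvd_mul.mp hd').resolve_left fun hk => ?_
      obtain ⟨n, hn⟩ := hRp.exists_card_eq
      exact hqp ((Nat.prime_dvd_prime_iff_eq hq hp.out).mp
        (hq.dvd_of_dvd_pow (hn ▸ hk.trans (card_dvd_of_le fun x hx => hker x hx))))
    have hpo : p % 2 = 1 := Nat.odd_iff.mp (hp.out.odd_of_ne_two hp2)
    have hqo : q % 2 = 1 := Nat.odd_iff.mp (hq.odd_of_ne_two hq2)
    have hp1 := hp.out.two_le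
    rcases h2 q hq hdr hqp with h | h
    · have := Nat.le_of_dvd (by omega) h; omega
    · have h' := Nat.le_of_dvd (by omega) h
      rcases eq_or_ne q (p + 1) with rfl | hne
      · omega
      · omega

end Cfsg.Agent.OddLocal.RankTwoSolvable
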