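import Cfsg.Agent.OddLocal.SigmaCore
import Cfsg.Agent.S1443
import Cfsg.Agent.Lib.Coprime.Sylow

/-! Centralizers in `M_α` and the primes outside `σ(M)`. -/

set_option autoImplicit false
set_option linter.unusedSectionVars false

namespace Cfsg.Agent.OddLocal.Sigma

open Cfsg Subgroup Cfsg.Agent.OddLocal.Unique Cfsg.Agent.OddLocal.Bender
open Cfsg.Agent.Transfer.Fusion (map_conj_mul mem_map_conj conj_mem_map_conj map_conj_eq_self_iff
  map_conj_le_iff)
open scoped commutatorElement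

variable {G : Type*} [Group G] [Finite G] {M : Subgroup G}

theorem mem_piCoreOf {π : Set ℕ} (h : ∀ q : ℕ, q.Prime → q ∈ π → ¬ q ∣ (piCore π M).index) {x : G}
    (hxM : x ∈ M) (hx : ∀ q : ℕ, q.Prime → q ∣ orderOf x → q ∈ π) : x ∈ piCoreOf π M := by
  refine ⟨⟨x, hxM⟩, (QuotientGroup.eq_one_iff _).mp (orderOf_eq_one_iff.mp
    (Nat.eq_one_iff_not_exists_prime_dvd.mpr fun q hq hd => ?_)), rfl⟩
  refine h q hq (hx q hq (hd.trans ((orderOf_map_dvd (QuotientGroup.mk' _) _).trans ?_)))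
    (hd.trans (orderOf_dvd_natCard _))
  rw [← orderOf_coe]

theorem le_piCoreOf_hall {π : Set ℕ} (h : ∀ q : ℕ, q.Prime → q ∈ π → ¬ q ∣ (piCore π M).index)
    {X : Subgroup G} (hXM : X ≤ M) (hX : ∀ q : ℕ, q.Prime → q ∣ Nat.card X → q ∈ π) :
    X ≤ piCoreOf π M := fun _ hx =>
  mem_piCoreOf h (hXM hx) fun q hq hd => hX q hq (hd.trans (X.orderOf_dvd_natCard hx))

theorem le_alphaCore (hG : IsMinSimpleOddOrder G) (hM : IsCoatom M) {X : Subgroup G} (hXM : X ≤ M)
    (hX : ∀ q : ℕ, q.Prime → q ∣ Nat.card X → q ∈ alpha M) : X ≤ alphaCore M :=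
  le_piCoreOf_hall (cores_hall hG hM).1 hXM hX

theorem le_sigmaCore (hG : IsMinSimpleOddOrder G) (hM : IsCoatom M) {X : Subgroup G} (hXM : X ≤ M)
    (hX : ∀ q : ℕ, q.Prime → q ∣ Nat.card X → q ∈ sigma M) : X ≤ sigmaCore M :=
  le_piCoreOf_hall (cores_hall hG hM).2.1 hXM hX

theorem not_rankLE_one_of_card_sq {p : ℕ} [hp : Fact p.Prime] {A : Subgroup G} (hA : IsElementaryAbelian p A)
    (hc : Nat.card A = p ^ 2) : ¬ RankLE 1 A := fun h =>
  not_pRankLE_of_elementary le_rfl hA hc.ge (h p hp.out)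

theorem dvd_of_not_pRankLE {H : Type*} [Group H] [Finite H] {p k : ℕ} [Fact p.Prime] (h : ¬ PRankLE p k H) :
    p ∣ Nat.card H := by
  by_contra hd
  exact h (pRankLE_of_not_dvd hd)

/-- If `C_{M_α}(X)` is of rank at least two for an `α'`-subgroup `X`, then `C_M(X)` is a uniqueness subgroup. -/
theorem unique_inf_centralizer (hG : IsMinSimpleOddOrder G) (hM : IsCoatom M) {X : Subgroup G} (hXM : X ≤ M)
    (hXα : ∀ p : ℕ, p.Prime → p ∣ Nat.card X → p ∉ alpha M)
    (hr : ¬ RankLE 1 (alphaCore M ⊓ centralizer (X : Set G) : Subgroup G)) :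
    InUniqueMaximal (M ⊓ centralizer (X : Set G)) := by
  have htop : M ⊓ centralizer (X : Set G) ≠ ⊤ := fun e => hM.1 (top_le_iff.mp (e ▸ inf_le_left))
  obtain ⟨p, E, hpp, hE, hEe, hEc⟩ := Transitivity.exists_elementary_of_not_rankLE hr
  have := Fact.mk hpp
  have hEMα : E ≤ alphaCore M := hE.trans inf_le_left
  have hEX : E ≤ centralizer (X : Set G) := hE.trans inf_le_right
  have hEM : E ≤ M := hEMα.trans (alphaCore_le M)
  have hpd : p ∣ Nat.card (alphaCore M) :=
    (dvd_pow_self p two_ne_zero).trans (hEc ▸ card_dvd_of_le hEMα)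
  have hpα : p ∈ alpha M := (alphaCore_hall hG hM).1.2.1 p hpp hpd
  by_cases hC : RankLE 2 (centralizer (E : Set G))
  swap
  · exact Unique.mono (uniqueness hG (fun e => hM.1 (top_le_iff.mp (e ▸ hEM)))
      (not_rankLE_one_of_card_sq hEe hEc) (Or.inr hC)) (le_inf hEM hEX) htop
  have hsol := Transitivity.isSolvable_of_ne_top hG (fun e => hM.1 (top_le_iff.mp (e ▸ alphaCore_le M)) :
    alphaCore M ≠ ⊤)
  have hEp : IsPGroup p E := Components.Hyperplane.isPGroup hEe
  have hXE : X ≤ centralizer (E : Set G) := le_centralizer_iff.mp hEX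
  have hcop : (Nat.card X).Coprime (Nat.card (alphaCore M)) :=
    Nat.coprime_of_dvd fun q hq h1 h2 => hXα q hq h1 ((alphaCore_hall hG hM).1.2.1 q hq h2)
  obtain ⟨P, hEP, hXP⟩ := Coprime.exists_invariant_sylow_ge (hXM.trans (le_normalizer_alphaCore M)) hcop
    (Or.inr hsol) hEMα hEp (hXE.trans (centralizer_le_normalizer _))
  set T := (P : Subgroup (alphaCore M)).map (alphaCore M).subtype with hT
  have hTp : IsPGroup p T := P.isPGroup'.map _
  have hT3 : ¬ RankLE 2 T := by
    intro h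
    obtain ⟨B, hBM, hBe, hBc⟩ := exists_elementary_of_not_pRankLE hpα.2
    have hBα : B ≤ alphaCore M := le_alphaCore hG hM hBM fun q hq hd => by
      rw [hBc] at hd
      exact (Nat.prime_dvd_prime_iff_eq hq hpp).mp (hq.dvd_of_dvd_pow hd) ▸ hpα
    refine not_pRankLE_of_elementary hBα hBe hBc.ge (NarrowSolvable.pRankLE_of_sylow P fun A hA hA' => ?_)
    let e : (P : Subgroup (alphaCore M)) ≃* T := equivMapOfInjective _ _ (alphaCore M).subtype_injective
    have := map_isMulCommutative A e.toMonoidHom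
    rw [Nat.card_congr (A.equivMapOfInjective e.toMonoidHom e.injective).toEquiv]
    refine h p hpp _ inferInstance ?_
    rintro _ ⟨a, ha, rfl⟩
    rw [← map_pow, hA' a ha, map_one]
  have hXT : X ≤ centralizer (T : Set G) := by
    refine S1443.result p (ne_two hG hpd) T E X hTp hEP hEe hXP ?_ ?_
    · exact (hpp.coprime_iff_not_dvd.mpr fun hd => hXα p hpp hd hpα).symm
    · rintro x ⟨-, hxC⟩ hxo
      have hZe : IsElementaryAbelian p (zpowers x) := by
        refine ⟨inferInstance, ?_⟩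
        rintro _ ⟨m, rfl⟩
        show (x ^ m) ^ p = 1
        rw [← zpow_natCast, ← zpow_mul, mul_comm, zpow_mul, zpow_natCast, ← hxo, pow_orderOf_eq_one, one_zpow]
      have hsup := PLocal.ThompsonSubgroup.IsElementaryAbelian.sup hEe hZe fun e he =>
        mem_centralizer_iff.mpr fun y hy =>
          (mem_centralizer_iff.mp ((zpowers_le.mpr hxC) hy) e he).symm
      have hle : E ⊔ zpowers x ≤ centralizer (E : Set G) := sup_le
        (fun a ha => mem_centralizer_iff.mpr fun b hb => Components.Hyperplane.mem_comm hEe hb ha)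
        (zpowers_le.mpr hxC)
      have hxE : x ∈ E := by
        have hcard : Nat.card (E ⊔ zpowers x : Subgroup G) ≤ Nat.card E := by
          rw [hEc, ← Nat.card_congr (subgroupOfEquivOfLe hle).toEquiv]
          refine hC p hpp _ ?_ ?_
          · exact ⟨⟨fun a b => Subtype.ext (Subtype.ext (Components.Hyperplane.mem_comm hsup a.2 b.2))⟩⟩
          · exact fun a ha => Subtype.ext (hsup.2 _ ha)
        rw [eq_of_le_of_card_ge le_sup_left hcard]
        exact mem_sup_right (mem_zpowers x)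
      exact fun y hy => mem_centralizer_singleton_iff.mpr (mem_centralizer_iff.mp (hEX hxE) y hy)
  obtain ⟨F, hF, hFu⟩ := exists_unique_le_of_rank_three hG hT3
  exact Unique.mono hFu (hF.trans (le_inf ((map_subtype_le _).trans (alphaCore_le M))
    (le_centralizer_iff.mp hXT))) htop

theorem normalizer_eq_self (hG : IsMinSimpleOddOrder G) (hM : IsCoatom M) : normalizer (M : Set G) = M :=
  (hM.le_iff.mp le_normalizer).resolve_left (Transitivity.normalizer_ne_top hG (coatom_ne_bot hG hM) hM.1)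

theorem map_subtype_center {H : Subgroup G} {x : G} :
    x ∈ ((center H).map H.subtype) ↔ x ∈ H ∧ x ∈ centralizer (H : Set G) := by
  constructor
  · rintro ⟨z, hz, rfl⟩
    exact ⟨z.2, mem_centralizer_iff.mpr fun h hh => congrArg Subtype.val (mem_center_iff.mp hz ⟨h, hh⟩)⟩
  · rintro ⟨hx, hc⟩
    exact ⟨⟨x, hx⟩, mem_center_iff.mpr fun h => Subtype.ext (mem_centralizer_iff.mp hc h h.2), rfl⟩

theorem centralizer_conj {H : Subgroup G} {g x : G} (hg : g ∈ normalizer (H : Set G))
    (hx : x ∈ centralizer (H : Set G)) : g * x * g⁻¹ ∈ centralizer (H : Set G) :=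
  mem_centralizer_iff.mpr fun h hh => by
    have h1 := mem_centralizer_iff.mp hx (g⁻¹ * h * g) ((mem_normalizer_iff''.mp hg h).mp hh)
    calc h * (g * x * g⁻¹) = g * (g⁻¹ * h * g * x) * g⁻¹ := by group
      _ = g * (x * (g⁻¹ * h * g)) * g⁻¹ := by rw [h1]
      _ = g * x * g⁻¹ * h := by group

theorem exists_central_order (p : ℕ) [Fact p.Prime] {M : Subgroup G} (hpM : p ∣ Nat.card M) (P : Sylow p M) :
    ∃ x : G, x ∈ (P : Subgroup M).map M.subtype ∧
      x ∈ centralizer ((P : Subgroup M).map M.subtype : Set G) ∧ orderOf x = p := by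
  have : Nontrivial (P : Subgroup M) := (nontrivial_iff_ne_bot _).mpr (P.ne_bot_of_dvd_card hpM)
  obtain ⟨z, hz, hzp, hz1⟩ := RankThree.exists_center_order_p P.isPGroup'
  refine ⟨((z : M) : G), ⟨(z : M), z.2, rfl⟩, mem_centralizer_iff.mpr ?_, ?_⟩
  · rintro _ ⟨h, hh, rfl⟩
    exact congrArg (fun a : (P : Subgroup M) => ((a : M) : G)) (mem_center_iff.mp hz ⟨h, hh⟩)
  · rw [orderOf_coe, orderOf_coe]
    exact orderOf_eq_prime hzp hz1

theorem normalizer_sylow_not_le {p : ℕ} [hp : Fact p.Prime] (h : p ∉ sigma M) (hpM : p ∣ Nat.card M)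
    (P : Sylow p M) : ¬ normalizer ((P : Subgroup M).map M.subtype : Set G) ≤ M :=
  fun hN => h ⟨hp.out, hpM, P, hN⟩

end Cfsg.Agent.OddLocal.Sigma
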