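import Cfsg.Agent.OddLocal.PLengthZGroup
import Cfsg.Agent.OddLocal.RankTwoSolvable
import Cfsg.Agent.S1407

/-! In a minimal simple group of odd order every proper subgroup has `p`-length one (BG 10.6). -/

set_option autoImplicit false

namespace Cfsg.Agent.OddLocal.PLengthOne

open Cfsg Subgroup
open scoped commutatorElement Pointwise

variable {p : ℕ} [hpf : Fact p.Prime]

theorem plOne_subgroup {G : Type*} [Group G] [Finite G] (h : PLengthLE p 1 G) (H : Subgroup G) :
    PLengthLE p 1 H := by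
  rw [pLengthLE_one_iff] at h ⊢
  refine h.coprime_dvd_left ((index_dvd_of_le (H := (pPrimePCore p G).subgroupOf H) ?_).trans
    (relIndex_dvd_index_of_normal _ _))
  refine PLocal.Cores.le_pPrimePCore ?_
  obtain ⟨k, hk⟩ := PLocal.Cores.relIndex_pPrimePCore (p := p) (G := G)
  have hd : (pPrimeCore p H).relIndex ((pPrimePCore p G).subgroupOf H) ∣ p ^ k := by
    refine (relIndex_dvd_of_le_left _ (show (pPrimeCore p G).subgroupOf H ≤ pPrimeCore p H from ?_)).trans ?_
    · refine PLocal.Cores.le_pPrimeCore (PLocal.Cores.coprime_card_pPrimeCore.coprime_dvd_left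
        (show Nat.card ((pPrimeCore p G).subgroupOf H) ∣ Nat.card (pPrimeCore p G) from ?_))
      rw [← card_map_of_injective H.subtype_injective]
      exact card_dvd_of_le (by rintro _ ⟨x, hx, rfl⟩; exact hx)
    · rw [← relIndex_map_map_of_injective _ _ H.subtype_injective, subgroupOf_map_subtype,
        subgroupOf_map_subtype, ← hk]
      refine (dvd_of_eq ?_).trans (PLocal.PSolvable.relIndex_dvd_of_le_right
        (inf_le_left : pPrimePCore p G ⊓ H ≤ pPrimePCore p G))
      rw [← inf_relIndex_right, ← inf_relIndex_right (H := pPrimeCore p G)]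
      congr 1
      ext x
      simp only [mem_inf]
      tauto
  obtain ⟨j, -, hj⟩ := (Nat.dvd_prime_pow hpf.out).mp hd
  exact IsPGroup.of_card (n := j) (by rw [← relIndex_ker, QuotientGroup.ker_mk', hj])

theorem plOne_of_normal {G : Type*} [Group G] [Finite G] {N : Subgroup G} [N.Normal]
    (hN : N.index.Coprime p) (h : PLengthLE p 1 N) : PLengthLE p 1 G := by
  rw [pLengthLE_one_iff] at h ⊢
  have : (pPrimeCore p N).Characteristic := PLocal.Cores.pPrimeCore_characteristic
  have hU : (pPrimePCore p N).Characteristic := by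
    refine characteristic_iff_map_eq.mpr fun φ => ?_
    exact PLocal.Cores.map_pPrimePCore_equiv φ
  refine (h.mul_left hN).coprime_dvd_left ?_
  rw [← index_map_subtype]
  refine index_dvd_of_le (PLocal.Cores.le_pPrimePCore ?_)
  obtain ⟨k, hk⟩ := PLocal.Cores.relIndex_pPrimePCore (p := p) (G := N)
  have hd : (pPrimeCore p G).relIndex ((pPrimePCore p N).map N.subtype) ∣ p ^ k := by
    refine (relIndex_dvd_of_le_left _ (PLocal.Cores.map_subtype_pPrimeCore_le N)).trans (dvd_of_eq ?_)
    rw [relIndex_map_map_of_injective _ _ N.subtype_injective, hk]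
  obtain ⟨j, -, hj⟩ := (Nat.dvd_prime_pow hpf.out).mp hd
  exact IsPGroup.of_card (n := j) (by rw [← relIndex_ker, QuotientGroup.ker_mk', hj])

theorem plOne_of_not_dvd {G : Type*} [Group G] [Finite G] (h : ¬ p ∣ Nat.card G) : PLengthLE p 1 G := by
  rw [pLengthLE_one_iff]
  exact (hpf.out.coprime_iff_not_dvd.mpr h).symm.coprime_dvd_left (index_dvd_card _)

/-- A complement acts fixed-point-freely enough on a normal subgroup inside the derived subgroup. -/
theorem commutator_eq_of_le_commutator {G : Type*} [Group G] [Finite G] [Group.IsSolvable G] {K E : Subgroup G}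
    [K.Normal] (hsup : K ⊔ E = ⊤) (hcop : (Nat.card K).Coprime (Nat.card E)) (hK : K ≤ commutator G) :
    ⁅K, E⁆ = K := by
  have hle : ⁅K, E⁆ ≤ K := Coprime.commutator_le_of_le_normalizer le_normalizer_of_normal
  refine le_antisymm hle ?_
  have hn : (⁅K, E⁆ : Subgroup G).Normal := normalizer_eq_top_iff.mp (top_le_iff.mp (hsup ▸
    sup_le (normalizer_commutator_ge_left K E) (normalizer_commutator_ge_right K E)))
  set f := QuotientGroup.mk' ⁅K, E⁆ with hf
  set A := K.map f with hA
  set B := E.map f with hB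
  have hAB : ∀ a ∈ A, ∀ b ∈ B, a * b = b * a := by
    rintro _ ⟨a, ha, rfl⟩ _ ⟨b, hb, rfl⟩
    rw [← commutatorElement_eq_one_iff_mul_comm, ← map_commutatorElement]
    exact (QuotientGroup.eq_one_iff _).mpr (commutator_mem_commutator ha hb)
  have hABtop : A ⊔ B = ⊤ := by
    rw [hA, hB, ← Subgroup.map_sup, hsup, map_top_of_surjective _ (QuotientGroup.mk'_surjective _)]
  have hdisj : A ⊓ B = ⊥ := disjoint_iff.mp (Coprime.disjoint_of_coprime
    ((hcop.coprime_dvd_left (card_map_dvd _ _)).coprime_dvd_right (card_map_dvd _ _)))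
  have hAc : A ≤ ⁅A, A⁆ ⊔ ⁅B, B⁆ := by
    refine (map_mono hK).trans ?_
    rw [commutator_def, map_commutator, map_top_of_surjective _ (QuotientGroup.mk'_surjective _), ← hABtop,
      commutator_le]
    intro g hg g' hg'
    have hAn : B ≤ normalizer (A : Set (G ⧸ ⁅K, E⁆)) :=
      le_trans (fun b hb => mem_centralizer_iff.mpr fun a ha => hAB a ha b hb) (centralizer_le_normalizer _)
    obtain ⟨a, ha, b, hb, rfl⟩ := (Coprime.mem_sup_of_le_normalizer hAn).mp hg
    obtain ⟨a', ha', b', hb', rfl⟩ := (Coprime.mem_sup_of_le_normalizer hAn).mp hg'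
    have e : ⁅a * b, a' * b'⁆ = ⁅a, a'⁆ * ⁅b, b'⁆ := by
      have e1 : Commute b a' := (hAB a' ha' b hb).symm
      have e2 : Commute b' a := (hAB a ha b' hb').symm
      have e3 : Commute b a := (hAB a ha b hb).symm
      have e4 : Commute b' a' := (hAB a' ha' b' hb').symm
      simp only [commutatorElement_def]
      calc a * b * (a' * b') * (a * b)⁻¹ * (a' * b')⁻¹
          = a * (b * a') * b' * (b⁻¹ * a⁻¹) * (b'⁻¹ * a'⁻¹) := by group
        _ = a * (a' * b) * b' * (a⁻¹ * b⁻¹) * (a'⁻¹ * b'⁻¹) := by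
            rw [e1.eq, e3.inv_inv.eq, e4.inv_inv.eq]
        _ = a * a' * (b * b') * a⁻¹ * (b⁻¹ * a'⁻¹) * b'⁻¹ := by group
        _ = a * a' * (a⁻¹ * (b * b')) * (a'⁻¹ * b⁻¹) * b'⁻¹ := by
            rw [e1.inv_inv.eq, ← ((e3.mul_left e2).inv_right.eq)]; group
        _ = a * a' * a⁻¹ * ((b * b') * a'⁻¹) * b⁻¹ * b'⁻¹ := by group
        _ = _ := by rw [(e1.mul_left e4).inv_right.eq]; group
    rw [e]
    exact mul_mem_sup (commutator_mem_commutator ha ha') (commutator_mem_commutator hb hb')
  have hA0 : A = ⊥ := by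
    by_contra hne
    refine (Coprime.commutator_lt_of_isSolvable inferInstance hne).not_ge ?_
    have hAA : ⁅A, A⁆ ≤ A := Coprime.commutator_le_of_le_normalizer le_normalizer
    have hBB : ⁅B, B⁆ ≤ B := Coprime.commutator_le_of_le_normalizer le_normalizer
    intro a ha
    obtain ⟨c, hc, d, hd, rfl⟩ := (Coprime.mem_sup_of_le_normalizer
      (show ⁅B, B⁆ ≤ normalizer ((⁅A, A⁆ : Subgroup (G ⧸ ⁅K, E⁆)) : Set (G ⧸ ⁅K, E⁆)) from
        (hBB.trans fun b hb => mem_centralizer_iff.mpr fun x hx => hAB x (hAA hx) b hb).trans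
          (centralizer_le_normalizer _))).mp (hAc ha)
    have hd1 : d ∈ A ⊓ B := ⟨by simpa using mul_mem (inv_mem (hAA hc)) ha, hBB hd⟩
    rw [hdisj, mem_bot] at hd1
    rw [hd1, mul_one]
    exact hc
  rw [hA, Subgroup.map_eq_bot_iff, hf, QuotientGroup.ker_mk'] at hA0
  exact hA0

variable {G : Type*} [Group G] [Finite G]

theorem pLengthLE_maximal (hG : IsMinSimpleOddOrder G) {M : Subgroup G} (hM : IsCoatom M) :
    PLengthLE p 1 M := by
  classical
  have := Transitivity.isSolvable_of_ne_top hG hM.1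
  have hodd : Odd (Nat.card M) := hG.1.of_dvd_nat (card_subgroup_dvd_card M)
  by_cases hd : p ∣ Nat.card M
  swap
  · exact plOne_of_not_dvd hd
  by_cases hr : PRankLE p 2 M
  · rw [pLengthLE_one_iff]
    exact (RankTwoSolvable.structure_rankTwo hodd hd hr).2.1
  have hpα : p ∈ alpha M := ⟨hpf.out, hr⟩
  set K := piCore (alpha M) M with hK
  obtain ⟨hcore, -, -, -⟩ := Sigma.cores_hall hG hM
  have hKπ : ∀ q : ℕ, q.Prime → q ∣ Nat.card K → q ∈ alpha M := fun q hq hqd =>
    Transitivity.isPi_piCoreOf (alpha M) M q hq (by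
      rwa [piCoreOf, card_map_of_injective M.subtype_injective])
  have hKidx : (Nat.card K).Coprime K.index := Nat.coprime_of_dvd fun q hq h1 h2 =>
    hcore q hq (hKπ q hq h1) h2
  have hMα : alphaCore M ≠ ⊥ := by
    rw [alphaCore, Ne, Subgroup.map_eq_bot_iff_of_injective _ M.subtype_injective]
    intro e
    refine hcore p hpf.out hpα ?_
    rwa [e, index_bot]
  -- a prime outside `σ(M)`
  have hKM : K ≤ commutator M := by
    rw [← map_subtype_le_map_subtype, map_subtype_commutator]
    exact (Sigma.alphaCore_le_sigmaCore hG hM).trans (Sigma.sigmaCore_le_commutator hG hM)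
  obtain ⟨q, hq, hqd, hqσ⟩ : ∃ q, q.Prime ∧ q ∣ (piCore (sigma M) M).index ∧ q ∉ sigma M := by
    have hne : (piCore (sigma M) M).index ≠ 1 := by
      intro e
      have hM1 : commutator M ≠ ⊤ := by
        have : Nontrivial M := (nontrivial_iff_ne_bot M).mpr fun e' => hMα (le_bot_iff.mp
          (e' ▸ map_subtype_le _))
        exact (Group.IsSolvable.commutator_lt_top_of_nontrivial M).ne
      refine hM1 (top_le_iff.mp ?_)
      have h1 : piCore (sigma M) M ≤ commutator M := by
        rw [← map_subtype_le_map_subtype, map_subtype_commutator]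
        exact Sigma.sigmaCore_le_commutator hG hM
      rwa [index_eq_one.mp e] at h1
    obtain ⟨q, hq, hqd⟩ := Nat.exists_prime_and_dvd hne
    exact ⟨q, hq, hqd, fun hs => (Sigma.cores_hall hG hM).2.1 q hq hs hqd⟩
  have := Fact.mk hq
  have hqM : q ∣ Nat.card M := hqd.trans (index_dvd_card _)
  obtain ⟨P⟩ : Nonempty (Sylow q M) := inferInstance
  obtain ⟨x, hx, hxo, hxZ, -⟩ := S1407.result hG M hM hMα q hqM hqσ P
  have hxM : x ∈ M := map_subtype_le _ hx
  set A := zpowers (⟨x, hxM⟩ : M) with hA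
  have hqK : ¬ q ∣ Nat.card K := fun h => hqσ (Sigma.alpha_subset_sigma hG hM (hKπ q hq h))
  have hcA : Nat.card A = q := by rw [hA, Nat.card_zpowers, orderOf_mk, hxo]
  -- a complement containing `x`
  obtain ⟨E₀, hE₀⟩ := exists_right_complement'_of_coprime (N := K) hKidx
  obtain ⟨k, -, hle⟩ := Coprime.exists_le_conj_smul (A := A) (K := K) (M := E₀ ⊓ (K ⊔ A))
    le_normalizer_of_normal (by rw [hcA]; exact hq.coprime_iff_not_dvd.mpr hqK) (Or.inl inferInstance) (by
      refine le_antisymm (sup_le le_sup_left inf_le_right) (sup_le le_sup_left fun a ha => ?_)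
      obtain ⟨u, hu, e, he, hue⟩ := (Coprime.mem_sup_of_le_normalizer
        (le_normalizer_of_normal : E₀ ≤ normalizer (K : Set M))).mp (hE₀.sup_eq_top.ge (mem_top a))
      rw [← hue]
      refine mul_mem_sup hu ⟨he, ?_⟩
      rw [show e = u⁻¹ * a by rw [← hue]; group]
      exact mul_mem_sup (inv_mem hu) ha)
  set E := MulAut.conj k • E₀ with hE
  have hAE : A ≤ E := hle.trans (pointwise_smul_le_pointwise_smul_iff.mpr inf_le_left)
  have hsup : K ⊔ E = ⊤ := by
    have h1 : (K ⊔ E₀).map (MulAut.conj k).toMonoidHom = ⊤ := by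
      rw [hE₀.sup_eq_top, map_top_of_surjective _ (MulAut.conj k).surjective]
    rwa [Subgroup.map_sup, show K.map (MulAut.conj k).toMonoidHom = K from
      mem_normalizer_iff_map_conj_eq.mp (le_normalizer_of_normal (mem_top k)), ← Coprime.conj_smul_eq_map] at h1
  have hcE : (Nat.card K).Coprime (Nat.card E) := by
    rw [hE, Coprime.card_conj_smul, ← hE₀.symm.index_eq_card]
    exact hKidx
  have hpl : PLengthLE p 1 ↥⁅K, E⁆ := by
    refine PLengthZGroup.pLengthLE_commutator p (H := K) (R := E) (R₀ := A)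
      ⟨hodd, inferInstance, le_normalizer_of_normal, hcE, hAE, by rw [hcA]; exact hq, ?_⟩
    have hmem : ∀ y : ↥(K ⊓ centralizer (A : Set M)),
        ((y : M) : G) ∈ alphaCore M ⊓ centralizer ({x} : Set G) := fun y =>
      mem_inf.mpr ⟨mem_map_of_mem _ (mem_inf.mp y.2).1, mem_centralizer_singleton_iff.mpr
        (congrArg Subtype.val (mem_centralizer_iff.mp (mem_inf.mp y.2).2 ⟨x, hxM⟩ (mem_zpowers _)).symm)⟩
    exact IsZGroup.of_injective
      (f := (M.subtype.comp (Subgroup.subtype _)).codRestrict (alphaCore M ⊓ centralizer ({x} : Set G)) hmem)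
      (fun a b e => Subtype.ext (Subtype.ext (congrArg Subtype.val e :)))
  rw [commutator_eq_of_le_commutator hsup hcE hKM] at hpl
  exact plOne_of_normal (hpf.out.coprime_iff_not_dvd.mpr (hcore p hpf.out hpα)).symm hpl

theorem pLengthLE_of_ne_top (hG : IsMinSimpleOddOrder G) {H : Subgroup G} (hH : H ≠ ⊤) : PLengthLE p 1 H := by
  obtain ⟨M, hM, hle⟩ := (eq_top_or_exists_le_coatom H).resolve_left hH
  exact PLengthZGroup.plOne_congr (subgroupOfEquivOfLe hle)
    (plOne_subgroup (pLengthLE_maximal hG hM) (H.subgroupOf M))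

end Cfsg.Agent.OddLocal.PLengthOne
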