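import Cfsg.Agent.OddLocal.NarrowSolvable
import Cfsg.Agent.OddLocal.PLengthOne

/-! The structure of a maximal subgroup at the primes outside `β(M)` (BG 10.8). -/

set_option autoImplicit false
set_option linter.unusedSectionVars false

namespace Cfsg.Agent.OddLocal.NonIdeal

open Cfsg Subgroup
open scoped commutatorElement

variable {G : Type*} [Group G] [Finite G] {p : ℕ} [hp : Fact p.Prime]

theorem structure_maximal [Group.IsSolvable G] (hodd : Odd (Nat.card G)) (hd : p ∣ Nat.card G)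
    (S : Sylow p G) (E : Subgroup (S : Subgroup G)) (hE : IsElementaryAbelian p E) (hE2 : Nat.card E = p ^ 2)
    (hEmax : ∀ B : Subgroup (S : Subgroup G), IsElementaryAbelian p B → E ≤ B → B = E)
    (hr : ¬ PRankLE p 2 (S : Subgroup G)) (hpl : PLengthLE p 1 G) :
    commutator G ≤ pPrimePCore p G ∧ (pPrimePCore p G).index.Coprime p ∧
      ∀ q : ℕ, q.Prime → q ∣ (pPrimeCore p G).index → q ≤ p := by
  have hp2 := RankTwoSolvable.odd_prime_of_dvd hodd hd
  obtain ⟨K, hKp, hKc, hKe⟩ := Narrow.exists_kernel_of_maximal hp2 S.isPGroup' hr E hE hE2 hEmax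
  set N := pPrimeCore p G with hN
  set π := QuotientGroup.mk' N with hπ
  set R := pCore p (G ⧸ N) with hR
  have hRp : IsPGroup p R := Cores.pCore_isPGroup p
  have hmap : (S : Subgroup G).map π = R := by
    have h1 : (pPrimePCore p G).map π = R :=
      map_comap_eq_self_of_surjective (QuotientGroup.mk'_surjective N) R
    rw [← pPrimeCore_sup_sylow hpl S, Subgroup.map_sup, hπ, QuotientGroup.map_mk'_self, bot_sup_eq] at h1
    exact h1
  let f : (S : Subgroup G) →* R :=
    { toFun := fun s => ⟨π s, hmap ▸ ⟨s, s.2, rfl⟩⟩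
      map_one' := Subtype.ext (map_one π)
      map_mul' := fun s t => Subtype.ext (map_mul π _ _) }
  have hfb : Function.Bijective f := by
    refine ⟨(injective_iff_map_eq_one f).mpr fun s hs => ?_, fun r => ?_⟩
    · have h1 : (s : G) ∈ N := (QuotientGroup.eq_one_iff (s : G)).mp (congrArg Subtype.val hs)
      have h2 : (s : G) ∈ (S : Subgroup G) ⊓ N := ⟨s.2, h1⟩
      rw [PLocal.Cores.inf_eq_bot_of_isPGroup_of_coprime S.isPGroup' PLocal.Cores.coprime_card_pPrimeCore,
        mem_bot] at h2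
      exact Subtype.ext h2
    · obtain ⟨s, hs, he⟩ := (hmap.symm ▸ r.2 : (r : G ⧸ N) ∈ (S : Subgroup G).map π)
      exact ⟨⟨s, hs⟩, Subtype.ext he⟩
  have hCR : centralizer (R : Set (G ⧸ N)) ≤ R :=
    Solvable.Fitting.centralizer_pCore_le p (Cores.pPrimeCore_quotient_self p)
  let ψ : G ⧸ N →* MulAut (S : Subgroup G) :=
    (MulAut.congr (MulEquiv.ofBijective f hfb).symm).toMonoidHom.comp MulAut.conjNormal
  have hker : ∀ x, ψ x = 1 → x ∈ R := fun x hx => hCR (mem_centralizer_iff.mpr fun r hr' => by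
    have hx' : MulAut.conjNormal x = (1 : MulAut R) :=
      (MulAut.congr (MulEquiv.ofBijective f hfb).symm).injective (hx.trans (map_one _).symm)
    have h := congrArg Subtype.val (DFunLike.congr_fun hx' ⟨r, hr'⟩)
    rw [MulAut.conjNormal_apply] at h
    exact (mul_inv_eq_iff_eq_mul.mp h).symm)
  set M := K.comap ψ with hM
  have hMp : IsPGroup p M := fun x => by
    obtain ⟨k, hk⟩ := hKp ⟨ψ x, x.2⟩
    have hk' : ψ ((x : G ⧸ N) ^ p ^ k) = 1 := by
      rw [map_pow]; exact congrArg Subtype.val hk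
    obtain ⟨l, hl⟩ := hRp ⟨_, hker _ hk'⟩
    refine ⟨k + l, Subtype.ext ?_⟩
    rw [SubmonoidClass.coe_pow, pow_add, pow_mul]
    exact congrArg Subtype.val hl
  have hder : commutator (G ⧸ N) ≤ R := by
    refine Cores.le_pCore (hN := inferInstance) (hMp.to_le ?_)
    rw [_root_.commutator_def, commutator_le]
    intro a _ b _
    rw [hM, mem_comap, map_commutatorElement]
    exact hKc _ _
  refine ⟨fun x hx => hder ?_, pLengthLE_one_iff.mp hpl, fun q hq hdvd => ?_⟩
  · have h : (commutator G).map π ≤ commutator (G ⧸ N) := by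
      rw [_root_.commutator_def, Subgroup.map_commutator, _root_.commutator_def]
      exact commutator_mono le_top le_top
    exact h ⟨x, hx, rfl⟩
  by_cases hqp : q = p
  · exact hqp.le
  have := Fact.mk hq
  obtain ⟨x, hx⟩ := exists_prime_orderOf_dvd_card' (G := G ⧸ N) q hdvd
  obtain ⟨k, hk⟩ := hMp ⟨x ^ (p - 1), by rw [hM, mem_comap, map_pow]; exact hKe _⟩
  have h1 : q ∣ (p - 1) * p ^ k := by
    rw [← hx]
    refine orderOf_dvd_of_pow_eq_one ?_
    rw [pow_mul]
    exact congrArg Subtype.val hk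
  have h2 := Nat.le_of_dvd (by have := hp.out.two_le; omega)
    ((hq.dvd_mul.mp h1).resolve_right fun h =>
      hqp ((Nat.prime_dvd_prime_iff_eq hq hp.out).mp (hq.dvd_of_dvd_pow h)))
  omega

omit hp in
theorem exists_maximal_elementary [Fact p.Prime] (hN : ¬ IsIdealPrime p G) (hr : ¬ PRankLE p 2 G) (S : Sylow p G) :
    ∃ E : Subgroup (S : Subgroup G), IsElementaryAbelian p E ∧ Nat.card E = p ^ 2 ∧
      ∀ B : Subgroup (S : Subgroup G), IsElementaryAbelian p B → E ≤ B → B = E := by
  obtain ⟨P, A, hAP, hA, hAc, hAmax⟩ : ∃ (P : Sylow p G) (A : Subgroup G), A ≤ (P : Subgroup G) ∧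
      IsElementaryAbelian p A ∧ Nat.card A = p ^ 2 ∧
      ∀ B : Subgroup G, B ≤ (P : Subgroup G) → IsElementaryAbelian p B → ¬ A < B := by
    by_contra hcon
    refine hN ⟨Fact.out, hr, fun P A hAP hA hAc => ?_⟩
    by_contra hno
    exact hcon ⟨P, A, hAP, hA, hAc, fun B h1 h2 h3 => hno ⟨B, h1, h2, h3⟩⟩
  set e : (P : Subgroup G) ≃* (S : Subgroup G) := Sylow.equiv P S
  have hA0 : IsElementaryAbelian p (A.subgroupOf (P : Subgroup G)) :=
    ⟨⟨⟨fun a b => Subtype.ext (Subtype.ext (Components.Hyperplane.mem_comm hA a.2 b.2))⟩⟩,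
      fun a ha => Subtype.ext (hA.2 _ ha)⟩
  refine ⟨(A.subgroupOf (P : Subgroup G)).map e.toMonoidHom, CharP.isElementaryAbelian_map _ hA0, ?_, ?_⟩
  · rw [card_map_of_injective e.injective, Nat.card_congr (subgroupOfEquivOfLe hAP).toEquiv, hAc]
  · intro B hB hle
    refine (le_antisymm hle ?_).symm
    set B' := (B.map e.symm.toMonoidHom).map (P : Subgroup G).subtype
    have hB' : IsElementaryAbelian p B' := CharP.isElementaryAbelian_map _ (CharP.isElementaryAbelian_map _ hB)
    have hAB : A ≤ B' := by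
      intro a ha
      exact ⟨⟨a, hAP ha⟩, ⟨e ⟨a, hAP ha⟩, hle ⟨⟨a, hAP ha⟩, ha, rfl⟩, e.symm_apply_apply _⟩, rfl⟩
    have heq : A = B' := (hAB.eq_or_lt).resolve_right (hAmax B' (map_subtype_le _) hB')
    intro b hb
    have h1 : ((e.symm b : (P : Subgroup G)) : G) ∈ A :=
      heq.ge ⟨e.symm b, ⟨b, hb, rfl⟩, rfl⟩
    exact ⟨e.symm b, h1, e.apply_symm_apply b⟩

/-- The structure at a prime outside `β(M)`. -/
theorem structure_nonbeta (hG : IsMinSimpleOddOrder G) {M : Subgroup G} (hM : IsCoatom M)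
    (hpM : p ∣ Nat.card M) (hβ : p ∉ beta M) :
    commutator M ≤ pPrimePCore p M ∧ (pPrimePCore p M).index.Coprime p ∧
      ∀ q : ℕ, q.Prime → q ∣ (pPrimeCore p M).index → q ≤ p := by
  have := Transitivity.isSolvable_of_ne_top hG hM.1
  have hodd : Odd (Nat.card M) := hG.1.of_dvd_nat (card_subgroup_dvd_card M)
  by_cases hr : PRankLE p 2 M
  · exact RankTwoSolvable.structure_rankTwo hodd hpM hr
  have hα : p ∈ alpha M := ⟨hp.out, hr⟩
  have hN : ¬ IsIdealPrime p G := fun h => hβ ⟨hα, h⟩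
  obtain ⟨S, hSM, -⟩ := Sigma.exists_sylow_normalizer_le (Sigma.alpha_subset_sigma hG hM hα)
  set S' : Sylow p M := S.subtype hSM
  have hrS : ¬ PRankLE p 2 (S' : Subgroup M) := fun h => hr (NarrowSolvable.pRankLE_of_sylow S' h)
  let e : (S : Subgroup G) ≃* (S' : Subgroup M) := (subgroupOfEquivOfLe hSM).symm.trans
    (MulEquiv.subgroupCongr (Sylow.coe_subtype (h := hSM)).symm)
  have hrG : ¬ PRankLE p 2 G := fun h => hr (RankTwoFitting.pRankLE_of_le h)
  obtain ⟨E, hE, hE2, hEmax⟩ := exists_maximal_elementary hN hrG S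
  refine structure_maximal hodd hpM S' (E.map e.toMonoidHom) (CharP.isElementaryAbelian_map _ hE)
    (by rw [card_map_of_injective e.injective, hE2]) (fun B hB hle => ?_) hrS (PLengthOne.pLengthLE_maximal hG hM)
  have h := hEmax (B.map e.symm.toMonoidHom) (CharP.isElementaryAbelian_map _ hB) fun x hx =>
    ⟨e x, hle ⟨x, hx, rfl⟩, e.symm_apply_apply x⟩
  rw [← h, Subgroup.map_map]
  ext x
  simp

/-- Subgroups of `M'` have a normal `p`-complement for `p ∉ β(M)`. -/
theorem exists_index_pow (hG : IsMinSimpleOddOrder G) {M N : Subgroup G} (hM : IsCoatom M)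
    (hpM : p ∣ Nat.card M) (hβ : p ∉ beta M) (hN : N ≤ ⁅M, M⁆) :
    ∃ k : ℕ, (pPrimeCore p N).index = p ^ k := by
  obtain ⟨h1, -, -⟩ := structure_nonbeta hG hM hpM hβ
  have hNM : N ≤ M := hN.trans (Coprime.commutator_le_of_le_normalizer le_normalizer)
  set O := (pPrimeCore p M).map M.subtype with hO
  have hMO : M ≤ normalizer (O : Set G) := le_normalizer.trans (by
    have := PLocal.Cores.pPrimeCore_characteristic (p := p) (G := M)
    exact Coprime.OmegaDetect.normalizer_le_normalizer_char M (pPrimeCore p M))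
  have hNU : N.subgroupOf M ≤ pPrimePCore p M := by
    refine le_trans ?_ h1
    rw [← map_subtype_le_map_subtype, map_subgroupOf_eq_of_le hNM, map_subtype_commutator]
    exact hN
  obtain ⟨k, hk⟩ := PLocal.Cores.relIndex_pPrimePCore (p := p) (G := M)
  have : (O.subgroupOf N).Normal :=
    (normal_subgroupOf_iff_le_normalizer_inf).mpr (le_trans (le_inf (hNM.trans hMO) le_normalizer)
      inf_normalizer_le_normalizer_inf)
  have hle : O.subgroupOf N ≤ pPrimeCore p N := by
    refine PLocal.Cores.le_pPrimeCore (PLocal.Cores.coprime_card_pPrimeCore.coprime_dvd_left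
      (show Nat.card (O.subgroupOf N) ∣ Nat.card (pPrimeCore p M) from ?_))
    rw [← card_map_of_injective N.subtype_injective, subgroupOf_map_subtype,
      ← card_map_of_injective M.subtype_injective (K := pPrimeCore p M)]
    exact card_dvd_of_le inf_le_left
  have hd : (pPrimeCore p N).index ∣ p ^ k := by
    refine (index_dvd_of_le hle).trans ?_
    show O.relIndex N ∣ _
    rw [← relIndex_subgroupOf hNM, show O.subgroupOf M = pPrimeCore p M from
      comap_map_eq_self_of_injective M.subtype_injective _, ← hk]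
    exact PLocal.PSolvable.relIndex_dvd_of_le_right hNU
  obtain ⟨j, -, hj⟩ := (Nat.dvd_prime_pow hp.out).mp hd
  exact ⟨j, hj⟩

omit hp in
/-- A finite group with a normal complement at every prime is nilpotent. -/
theorem isNilpotent_of_index_pow {H : Type*} [Group H] [Finite H]
    (h : ∀ q : ℕ, q.Prime → q ∣ Nat.card H → ∃ k : ℕ, (pPrimeCore q H).index = q ^ k) : Group.IsNilpotent H := by
  classical
  refine (Group.isNilpotent_of_finite_tfae (G := H)).out 0 3 |>.mpr fun q hq P => ?_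
  have := Fact.mk hq.out
  set D := ⨅ r : {r : ℕ // r.Prime ∧ r ∣ Nat.card H ∧ r ≠ q}, pPrimeCore (r : ℕ) H with hD
  have hDn : D.Normal := normal_iInf_normal fun _ => inferInstance
  have hPD : (P : Subgroup H) ≤ D := by
    refine le_iInf fun r => ?_
    have := Fact.mk r.2.1
    obtain ⟨k, hk⟩ := h r r.2.1 r.2.2.1
    rw [← relIndex_eq_one]
    obtain ⟨a, ha⟩ := P.isPGroup'.exists_card_eq
    exact Nat.eq_one_of_dvd_coprimes (((Nat.coprime_primes r.2.1 hq.out).mpr r.2.2.2).pow k a)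
      (hk ▸ relIndex_dvd_index_of_normal _ _) (ha ▸ relIndex_dvd_card _ _)
  have hDp : IsPGroup q D := by
    refine IsPGroup.of_card (n := (Nat.card D).primeFactorsList.length) ?_
    refine Nat.eq_prime_pow_of_unique_prime_dvd Nat.card_pos.ne' fun {r} hr hd => ?_
    by_contra hne
    have hle : D ≤ pPrimeCore r H :=
      iInf_le (fun r : {r : ℕ // r.Prime ∧ r ∣ Nat.card H ∧ r ≠ q} => pPrimeCore (r : ℕ) H)
        ⟨r, hr, hd.trans (card_subgroup_dvd_card D), hne⟩
    exact hr.ne_one (Nat.eq_one_of_dvd_coprimes (PLocal.Cores.coprime_card_pPrimeCore (p := r) (G := H))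
      (hd.trans (card_dvd_of_le hle)) dvd_rfl)
  rw [show (P : Subgroup H) = D from (P.3 hDp hPD).symm]
  exact hDn

/-- `M_β` is a Hall subgroup. -/
theorem betaCore_hall (hG : IsMinSimpleOddOrder G) {M : Subgroup G} (hM : IsCoatom M) :
    IsPiHallOf (beta M) (piCoreOf (beta M) M) M ∧ IsPiHall (beta M) (piCoreOf (beta M) M) := by
  classical
  have hβσ : beta M ⊆ sigma M := fun q hq => Sigma.alpha_subset_sigma hG hM hq.1
  refine Sigma.isPiHall_of_subset hβσ fun r hr hrβ hd => ?_
  have := Fact.mk hr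
  set A := piCore (alpha M) M with hA
  set D := A ⊓ ⨅ s : {s : ℕ // s.Prime ∧ s ∣ Nat.card M ∧ s ∉ beta M}, pPrimeCore (s : ℕ) M with hD
  have hn1 : (⨅ s : {s : ℕ // s.Prime ∧ s ∣ Nat.card M ∧ s ∉ beta M}, pPrimeCore (s : ℕ) M).Normal :=
    normal_iInf_normal fun _ => inferInstance
  have hDle : D ≤ piCore (beta M) M := by
    refine Cores.le_piCore (hN := inferInstance) fun s hs hsd => ?_
    by_contra hsβ
    have hsM : s ∣ Nat.card M := hsd.trans (card_subgroup_dvd_card D)
    have hle : D ≤ pPrimeCore s M := inf_le_right.trans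
      (iInf_le (fun s : {s : ℕ // s.Prime ∧ s ∣ Nat.card M ∧ s ∉ beta M} => pPrimeCore (s : ℕ) M) ⟨s, hs, hsM, hsβ⟩)
    exact hs.ne_one (Nat.eq_one_of_dvd_coprimes (PLocal.Cores.coprime_card_pPrimeCore (p := s) (G := M))
      (hsd.trans (card_dvd_of_le hle)) dvd_rfl)
  obtain ⟨P⟩ := (inferInstance : Nonempty (Sylow r M))
  refine P.not_dvd_index (hd.trans (index_dvd_of_le (le_trans ?_ hDle)))
  obtain ⟨a, ha⟩ := P.isPGroup'.exists_card_eq
  have hPA : (P : Subgroup M) ≤ A := by
    rw [← relIndex_eq_one]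
    have h1 : ¬ r ∣ A.index := (Sigma.cores_hall hG hM).1 r hr hrβ.1
    exact Nat.eq_one_of_dvd_coprimes ((hr.coprime_iff_not_dvd.mpr h1).pow_left a).symm
      (relIndex_dvd_index_of_normal _ _) (ha ▸ relIndex_dvd_card _ _)
  refine le_inf hPA (le_iInf fun s => ?_)
  have := Fact.mk s.2.1
  obtain ⟨h1, -, -⟩ := structure_nonbeta hG hM s.2.2.1 s.2.2.2
  refine PLengthZGroup.le_pPrimeCore_of_le ?_ (hPA.trans (le_trans ?_ h1))
  · rw [ha]
    exact ((Nat.coprime_primes hr s.2.1).mpr fun e => s.2.2.2 (e ▸ hrβ)).pow_left a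
  · rw [← map_subtype_le_map_subtype, map_subtype_commutator]
    exact (Sigma.alphaCore_le_sigmaCore hG hM).trans (Sigma.sigmaCore_le_commutator hG hM)

end Cfsg.Agent.OddLocal.NonIdeal
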