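import Cfsg.Agent.OddLocal.NonabelianUnique
import Cfsg.Agent.OddLocal.SigmaRank
import Cfsg.Agent.Lib.Cores.Fitting
import Cfsg.Agent.Lib.CN.Basic
import Cfsg.Agent.S1414

/-! Subgroups of `σ(M)`-order are conjugate into `M_σ` (BG 12.15, 12.16). -/

set_option autoImplicit false
set_option linter.unusedSectionVars false

namespace Cfsg.Agent.OddLocal.SigmaSub

open Cfsg Subgroup
open scoped commutatorElement Pointwise
open Cfsg.Agent.Transfer.Fusion (map_conj_mul card_map_conj map_conj_eq_self_iff map_conj_inv_cancel)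

variable {G : Type*} [Group G] [Finite G] {q : ℕ} [hq : Fact q.Prime] {M L : Subgroup G}

/-- A subgroup of a cyclic normalised subgroup is normalised. -/
theorem normalizer_le_of_cyclic {S X : Subgroup G} (hS : IsCyclic S) (hXS : X ≤ S) :
    normalizer (S : Set G) ≤ normalizer (X : Set G) := by
  intro g hg
  rw [← map_conj_eq_self_iff]
  have hle : X.map (MulAut.conj g).toMonoidHom ≤ S := by
    rw [← map_conj_eq_self_iff.mpr hg]; exact map_mono hXS
  have h := Basics.subgroup_eq_of_card_eq_of_isCyclic (G := S)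
    (A := (X.map (MulAut.conj g).toMonoidHom).subgroupOf S) (B := X.subgroupOf S) (by
    rw [Nat.card_congr (subgroupOfEquivOfLe hle).toEquiv, Nat.card_congr (subgroupOfEquivOfLe hXS).toEquiv,
      card_map_conj])
  rw [← map_subgroupOf_eq_of_le hle, h, map_subgroupOf_eq_of_le hXS]

/-- A Sylow subgroup of `I` whose normaliser in a larger `q`-group stays in `I` is that group. -/
theorem eq_of_normalizer_inf_le {I T : Subgroup G} (S : Sylow q I) (hT : IsPGroup q T)
    (hST : (S : Subgroup I).map I.subtype ≤ T)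
    (hle : normalizer ((S : Subgroup I).map I.subtype : Set G) ⊓ T ≤ I) :
    (S : Subgroup I).map I.subtype = T := by
  by_contra hne
  set S' := (S : Subgroup I).map I.subtype with hS'
  have hgt := Transitivity.inf_normalizer_gt hT (lt_of_le_of_ne hST hne)
  refine not_le.mpr hgt ?_
  rw [← Nat.card_congr (subgroupOfEquivOfLe hle).toEquiv, hS', card_map_of_injective I.subtype_injective]
  obtain ⟨R, hR⟩ := ((hT.to_le (inf_le_right : normalizer (S' : Set G) ⊓ T ≤ T)).comap_subtype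
    (K := I)).exists_le_sylow
  rw [S.card_eq_multiplicity, ← R.card_eq_multiplicity]
  exact card_le_of_le hR

/-- BG 12.15 -/
theorem star (hG : IsMinSimpleOddOrder G) (hM : IsCoatom M) (hqσ : q ∈ sigma M) {X : Subgroup G}
    (hX : IsPGroup q X) (hX1 : X ≠ ⊥) (hXM : X ≤ M) (hne : L ≠ M)
    (hNX : normalizer (X : Set G) ≤ L) (S : Sylow q ↥(M ⊓ L))
    (hXS : X ≤ (S : Subgroup ↥(M ⊓ L)).map (M ⊓ L).subtype) :
    (∀ g : G, L ≠ M.map (MulAut.conj g).toMonoidHom) ∧
      normalizer ((S : Subgroup ↥(M ⊓ L)).map (M ⊓ L).subtype : Set G) ≤ M ∧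
      ¬ q ∣ ((S : Subgroup ↥(M ⊓ L)).map (M ⊓ L).subtype).relIndex L := by
  set S' := (S : Subgroup ↥(M ⊓ L)).map (M ⊓ L).subtype with hS'
  have hS'p : IsPGroup q S' := S.isPGroup'.map _
  have hS'M : S' ≤ M := (map_subtype_le _).trans inf_le_left
  have hS'L : S' ≤ L := (map_subtype_le _).trans inf_le_right
  have h2 : normalizer (S' : Set G) ≤ M := by
    by_cases hc : IsCyclic S'
    · obtain ⟨T, hST, hTM⟩ := Sigma.exists_sylow_ge hqσ hS'p hS'M
      have heq := eq_of_normalizer_inf_le S T.isPGroup' hST (le_inf (inf_le_right.trans hTM)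
        (inf_le_left.trans ((normalizer_le_of_cyclic hc hXS).trans hNX)))
      rw [← hS'] at heq
      rw [heq]
      exact Sigma.sylow_normalizer_le hqσ T hTM
    · exact SigmaCompl.normalizer_le hG hM hqσ hS'p hS'M hc
  obtain ⟨T₀, hST⟩ := (hS'p.comap_subtype (K := L)).exists_le_sylow
  set T := (T₀ : Subgroup L).map L.subtype with hT
  have hST' : S' ≤ T := fun x hx => ⟨⟨x, hS'L hx⟩, hST hx, rfl⟩
  have hSeq : S' = T := eq_of_normalizer_inf_le S (T₀.isPGroup'.map _) hST'
    (le_inf (inf_le_left.trans h2) (inf_le_right.trans (map_subtype_le _)))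
  have h3 : ¬ q ∣ S'.relIndex L := by
    rw [hSeq, relIndex, hT, subgroupOf, comap_map_eq_self_of_injective L.subtype_injective]
    exact T₀.not_dvd_index
  refine ⟨fun g hg => hne ?_, h2, h3⟩
  -- `L` conjugate to `M`
  obtain ⟨S₀, hS₀M, -⟩ := Sigma.exists_sylow_normalizer_le hqσ
  have hS₀L : (S₀ : Subgroup G).map (MulAut.conj g).toMonoidHom ≤ L := hg ▸ map_mono hS₀M
  have hcard : Nat.card (S₀ : Subgroup G) ≤ Nat.card S' := by
    obtain ⟨R, hR⟩ := ((S₀.isPGroup'.map (MulAut.conj g).toMonoidHom).comap_subtype (K := L)).exists_le_sylow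
    rw [← card_map_conj (g := g) (H := (S₀ : Subgroup G)),
      ← Nat.card_congr (subgroupOfEquivOfLe hS₀L).toEquiv, hSeq, hT,
      card_map_of_injective L.subtype_injective, T₀.card_eq_multiplicity, ← R.card_eq_multiplicity]
    exact card_le_of_le hR
  obtain ⟨U, hSU⟩ := hS'p.exists_le_sylow
  have hUeq : S' = (U : Subgroup G) := eq_of_le_of_card_ge hSU
    (by rw [U.card_eq_multiplicity, ← S₀.card_eq_multiplicity]; exact hcard)
  have hUg : (U : Subgroup G).map (MulAut.conj g⁻¹).toMonoidHom ≤ M := by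
    rw [← hUeq]
    have := map_mono (f := (MulAut.conj g⁻¹).toMonoidHom) (hg ▸ hS'L : S' ≤ M.map (MulAut.conj g).toMonoidHom)
    rwa [map_conj_inv_cancel] at this
  have hUM : (U : Subgroup G) ≤ M := hUeq ▸ hS'M
  obtain ⟨m, hm, c, hc, he⟩ := Sigma.sigma_conj hG hM hqσ U.isPGroup'
    (fun e => hX1 (le_bot_iff.mp (e ▸ (hXS.trans hSU)))) hUM hUg
  have hgM : g⁻¹ ∈ M := by
    rw [he]
    exact mul_mem hm ((centralizer_le_normalizer _).trans (Sigma.sylow_normalizer_le hqσ U hUM) hc)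
  rw [hg, map_conj_eq_self_iff.mpr (le_normalizer (inv_inv g ▸ inv_mem hgM : g ∈ M))]

/-- Sylow subgroups of rank three at a common prime of `σ` force conjugacy. -/
theorem exists_conj_eq (hG : IsMinSimpleOddOrder G) (hM : IsCoatom M) (hL : IsCoatom L) {r : ℕ}
    [hr : Fact r.Prime] (hrM : r ∈ sigma M) (hrL : r ∈ sigma L) (h3 : ¬ PRankLE r 2 G) :
    ∃ g : G, L = M.map (MulAut.conj g).toMonoidHom := by
  obtain ⟨R, hRM, -⟩ := Sigma.exists_sylow_normalizer_le hrM
  obtain ⟨R', hR'L, -⟩ := Sigma.exists_sylow_normalizer_le hrL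
  obtain ⟨g, hg⟩ := MulAction.exists_smul_eq G R R'
  refine ⟨g, NonabelianUnique.alpha_unique hG R' (Unique.isCoatom_map_conj hM g) ?_
    (fun h => h3 (NarrowSolvable.pRankLE_of_sylow R' h)) hL hR'L⟩
  rw [← hg, Sylow.coe_subgroup_smul]
  exact map_mono hRM

/-- A subgroup of order prime to `K` moves into a supplement of `K`. -/
theorem exists_conj_le_of_supplement {π : Set ℕ} {K I Y : Subgroup G} (hs : Group.IsSolvable L)
    (hKL : K ≤ L) (hIL : I ≤ L) (hK : L ≤ normalizer (K : Set G)) (hsup : ∀ x ∈ L, x ∈ K ⊔ I)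
    (hKπ : ∀ r : ℕ, r.Prime → r ∣ Nat.card K → r ∉ π) (hYL : Y ≤ L)
    (hY : ∀ r : ℕ, r.Prime → r ∣ Nat.card Y → r ∈ π) :
    ∃ g ∈ L, Y.map (MulAut.conj g).toMonoidHom ≤ I := by
  set K' := K.subgroupOf L with hK'
  set I' := I.subgroupOf L with hI'
  have hKn : K'.Normal := (normal_subgroupOf_iff_le_normalizer hKL).mpr hK
  have htop : I' ⊔ K' = ⊤ := by
    rw [hI', hK', ← subgroupOf_sup hIL hKL, subgroupOf_eq_top, sup_comm]
    exact hsup
  have hdvd : I'.index ∣ Nat.card K' := by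
    have h1 : K'.relIndex I' = K'.index := by
      rw [← relIndex_sup_right (H := I') (K := K'), htop, relIndex_top_right]
    have h2 := card_mul_index I'
    have h3 := card_mul_index K'
    have h4 : Nat.card (K' ⊓ I' : Subgroup L) * K'.index = Nat.card I' := by
      rw [← h1, ← inf_relIndex_right, ← relIndex_bot_left, ← relIndex_bot_left]
      exact relIndex_mul_relIndex ⊥ (K' ⊓ I') I' bot_le inf_le_right
    refine Dvd.intro (Nat.card (K' ⊓ I' : Subgroup L)) ?_
    refine Nat.eq_of_mul_eq_mul_right (Nat.pos_of_ne_zero (index_ne_zero_of_finite : K'.index ≠ 0)) ?_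
    rw [h3, ← h2, ← h4]; ring
  obtain ⟨H, hH⟩ := Hall.exists_hall π I'
  have hH' : IsPiHall π (H.map I'.subtype) := by
    refine ⟨fun r hr hd => hH.1 r hr (by rwa [card_map_of_injective I'.subtype_injective] at hd),
      fun r hr hrπ hd => ?_⟩
    rw [index_map_subtype] at hd
    rcases hr.dvd_mul.mp hd with h | h
    · exact hH.2 r hr hrπ h
    · exact hKπ r hr ((Nat.card_congr (subgroupOfEquivOfLe hKL).toEquiv) ▸ h.trans hdvd) hrπ
  obtain ⟨g, hg⟩ := Hall.exists_conj_le_hall hH' (U := Y.subgroupOf L)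
    (fun r hr hd => hY r hr (by rwa [Nat.card_congr (subgroupOfEquivOfLe hYL).toEquiv] at hd))
  refine ⟨((g⁻¹ : L) : G), (g⁻¹ : L).2, ?_⟩
  rintro _ ⟨y, hy, rfl⟩
  have h1 := hg (show (⟨y, hYL hy⟩ : L) ∈ Y.subgroupOf L from hy)
  rw [Subgroup.mem_pointwise_smul_iff_inv_smul_mem] at h1
  have h2 := map_subtype_le H h1
  simpa [MulAut.smul_def, mem_subgroupOf, hI'] using h2

/-- Subgroups of `σ(M)`-order are conjugate into `M_σ` (BG 12.16). -/
theorem exists_conj_le_sigmaCore (hG : IsMinSimpleOddOrder G) (hM : IsCoatom M) {Y : Subgroup G}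
    (hY1 : Y ≠ ⊥) (hY : ∀ p : ℕ, p.Prime → p ∣ Nat.card Y → p ∈ sigma M) :
    ∃ g : G, Y.map (MulAut.conj g).toMonoidHom ≤ sigmaCore M := by
  have hYtop : Y ≠ ⊤ := fun e => by
    subst e
    rw [card_top] at hY
    refine hM.1 (top_le_iff.mp (le_trans ?_ (Sigma.sigmaCore_le M)))
    refine (index_eq_one.mp (Nat.eq_one_iff_not_exists_prime_dvd.mpr fun p hp hd => ?_)).ge
    exact (Sigma.sigmaCore_hall hG hM).2.2 p hp (hY p hp (hd.trans (index_dvd_card _))) hd
  have hYs : Group.IsSolvable Y := Transitivity.isSolvable_of_ne_top hG hYtop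
  have : Nontrivial Y := (nontrivial_iff_ne_bot Y).mpr hY1
  obtain ⟨p, hp, hX0⟩ : ∃ p : ℕ, p.Prime ∧ pCore p Y ≠ ⊥ := by
    by_contra hcon
    push Not at hcon
    refine Cores.fittingSubgroup_ne_bot (G := Y) (le_bot_iff.mp ?_)
    rw [Cores.fittingSubgroup_eq_iSup]
    exact iSup_le fun r => (hcon _ (Nat.prime_of_mem_primeFactors r.2)).le
  have := Fact.mk hp
  set X₀ := (pCore p Y).map Y.subtype with hX₀
  have hX₀p : IsPGroup p X₀ := (Cores.pCore_isPGroup p).map _
  have hX₀1 : X₀ ≠ ⊥ := fun e => hX0 ((map_eq_bot_iff_of_injective _ Y.subtype_injective).mp e)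
  have : (pCore p Y).Characteristic := Cores.pCore_characteristic p
  set X₁ := P2Elem.omegaCenter p X₀ with hX₁
  have hYX₁ : Y ≤ normalizer (X₁ : Set G) := (le_normalizer.trans
    (Coprime.OmegaDetect.normalizer_le_normalizer_char Y _)).trans
      (P2Elem.normalizer_le_normalizer_omegaCenter X₀)
  have hX₁1 : X₁ ≠ ⊥ := P2Elem.omegaCenter_ne_bot hX₀p hX₀1
  have hX₁p : IsPGroup p X₁ := hX₀p.to_le (P2Elem.omegaCenter_le _)
  obtain ⟨x, hx, hx1⟩ := (bot_or_exists_ne_one X₁).resolve_left hX₁1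
  have hX₁Y : X₁ ≤ Y := (P2Elem.omegaCenter_le _).trans (map_subtype_le _)
  have hpσ : p ∈ sigma M := hY p hp ((orderOf_eq_prime hx.2.2 hx1) ▸ orderOf_dvd_natCard Y (hX₁Y hx))
  -- move `X₁` into `M`
  obtain ⟨S₀, hS₀M, -⟩ := Sigma.exists_sylow_normalizer_le hpσ
  obtain ⟨U, hXU⟩ := hX₁p.exists_le_sylow
  obtain ⟨g, hg⟩ := MulAction.exists_smul_eq G U S₀
  set c := (MulAut.conj g).toMonoidHom with hc
  set Y' := Y.map c with hY'
  set X := X₁.map c with hX
  have hXM : X ≤ M := le_trans (map_mono hXU) (le_trans (le_of_eq (by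
    rw [hc, ← hg, Sylow.coe_subgroup_smul]; rfl)) hS₀M)
  have hXp : IsPGroup p X := hX₁p.map c
  have hX1 : X ≠ ⊥ := fun e => hX₁1 ((map_eq_bot_iff_of_injective _ (MulAut.conj g).injective).mp e)
  have hXe : ∀ y ∈ X, y ^ p = 1 := by
    rintro _ ⟨y, hy, rfl⟩
    rw [← map_pow, hy.2.2, map_one]
  have hYX : Y' ≤ normalizer (X : Set G) := by
    rw [hY', hX, ← Subgroup.map_equiv_normalizer_eq]
    exact map_mono hYX₁
  have hY'π : ∀ r : ℕ, r.Prime → r ∣ Nat.card Y' → r ∈ sigma M := fun r hr hd =>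
    hY r hr (by rwa [hY', card_map_conj] at hd)
  suffices h : ∃ k : G, Y'.map (MulAut.conj k).toMonoidHom ≤ M by
    obtain ⟨k, hk⟩ := h
    refine ⟨k * g, ?_⟩
    rw [map_conj_mul]
    exact Sigma.le_sigmaCore hG hM hk fun r hr hd => hY'π r hr (by rwa [card_map_conj] at hd)
  obtain ⟨L, hL, hNL⟩ := (eq_top_or_exists_le_coatom (normalizer (X : Set G))).resolve_left
    (Transitivity.normalizer_ne_top hG hX1 fun e => hM.1 (top_le_iff.mp (e ▸ hXM)))
  have hY'L : Y' ≤ L := hYX.trans hNL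
  rcases eq_or_ne L M with rfl | hne
  · exact ⟨1, by rw [Transfer.Fusion.map_conj_one]; exact hY'L⟩
  obtain ⟨S, hXS⟩ := (hXp.comap_subtype (K := M ⊓ L)).exists_le_sylow
  have hXL : X ≤ L := le_normalizer.trans hNL
  set S' := (S : Subgroup ↥(M ⊓ L)).map (M ⊓ L).subtype with hS'
  have hXS' : X ≤ S' := fun y hy => ⟨⟨y, mem_inf.mpr ⟨hXM hy, hXL hy⟩⟩, hXS hy, rfl⟩
  obtain ⟨hnconj, hNS, hSidx⟩ := star hG hM hpσ hXp hX1 hXM hne hNL S hXS'
  have hS'L : S' ≤ L := (map_subtype_le _).trans inf_le_right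
  have hS'p : IsPGroup p S' := S.isPGroup'.map _
  have hLs : Group.IsSolvable L := Transitivity.isSolvable_of_ne_top hG hL.1
  suffices h : ∃ K : Subgroup G, K ≤ L ∧ L ≤ normalizer (K : Set G) ∧ (∀ x ∈ L, x ∈ K ⊔ (M ⊓ L)) ∧
      ∀ r : ℕ, r.Prime → r ∣ Nat.card K → r ∉ sigma M by
    obtain ⟨K, hKL, hK, hsup, hKπ⟩ := h
    obtain ⟨k, -, hk⟩ := exists_conj_le_of_supplement hLs hKL inf_le_right hK hsup hKπ hY'L hY'π
    exact ⟨k, hk.trans inf_le_left⟩
  by_cases hpL : p ∈ sigma L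
  · -- the core `L_α`
    obtain ⟨T, hT⟩ : ∃ T : Sylow p G, (T : Subgroup G) = S' := by
      obtain ⟨T, hST, hTL⟩ := Sigma.exists_sylow_ge hpL hS'p hS'L
      refine ⟨T, (eq_of_le_of_card_ge hST ?_).symm⟩
      by_contra hlt
      obtain ⟨j, hj⟩ := T.isPGroup'.exists_card_eq
      obtain ⟨i, hi⟩ := hS'p.exists_card_eq
      have h1 := relIndex_mul_relIndex S' (T : Subgroup G) L hST hTL
      have h2 : p ∣ S'.relIndex (T : Subgroup G) := by
        have h3 := relIndex_mul_relIndex ⊥ S' (T : Subgroup G) bot_le hST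
        rw [relIndex_bot_left, relIndex_bot_left] at h3
        obtain ⟨l, -, hl⟩ := (Nat.dvd_prime_pow hp).mp (Dvd.intro_left _ (h3.trans hj))
        rcases l.eq_zero_or_pos with rfl | hl0
        · exact absurd (by rw [← h3, hl, pow_zero, mul_one]) hlt
        · exact hl ▸ dvd_pow_self p hl0.ne'
      exact hSidx (h1 ▸ h2.mul_right _)
    refine ⟨alphaCore L, Sigma.alphaCore_le L, Sigma.le_normalizer_alphaCore L, ?_, fun r hr hd hrM => ?_⟩
    · refine NonabelianUnique.le_of_frattini hG hL hpL T (hT ▸ hS'L) le_sup_left ?_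
      exact le_sup_of_le_right (le_inf (hT ▸ hNS) (Sigma.sylow_normalizer_le hpL T (hT ▸ hS'L)))
    · have := Fact.mk hr
      have hrα := Transitivity.isPi_piCoreOf (alpha L) L r hr hd
      obtain ⟨h, he⟩ := exists_conj_eq hG hM hL hrM (Sigma.alpha_subset_sigma hG hL hrα)
        fun h => hrα.2 (RankTwoFitting.pRankLE_of_le h)
      exact hnconj h he
  · -- `p ∈ τ₂(L)`
    have hS'ab := SigmaCompl.pgroup_comm hG hL hpL hS'p hS'L
    have hr2 := SigmaCompl.rank_le hG hL hp hpL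
    have hr1 : ¬ PRankLE p 1 L := by
      intro h1
      have hcyc := Compl.isCyclic_of_rankOne hG h1 hXp hXL
      have hXc : Nat.card X = p := by
        obtain ⟨w, hw⟩ := hcyc.exists_generator
        have h2 : Nat.card X ∣ p := by
          rw [← orderOf_eq_card_of_forall_mem_zpowers hw]
          exact orderOf_dvd_of_pow_eq_one (Subtype.ext (hXe w w.2))
        exact ((Nat.dvd_prime hp).mp h2).resolve_left fun e => hX1 (card_eq_one.mp e)
      exact (S1409.result hG L hL p hpL X hXc hNL).1.2 h1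
    have hτ : p ∈ tau2 L := ⟨hp, hpL, hr2, hr1⟩
    obtain ⟨T₀, hT₀⟩ := HallFusion.subgroupOf_sylow (L := L) hS'L hS'p hSidx
    obtain ⟨B₀, hB₀T, hB₀e, hB₀c⟩ := Unique.exists_elementary_of_not_pRankLE (Z := (T₀ : Subgroup L))
      fun h' => hr1 (NarrowSolvable.pRankLE_of_sylow T₀ h')
    set A := B₀.map L.subtype with hA
    have hAS : A ≤ S' := hT₀ ▸ map_mono hB₀T
    have hAM : A ≤ M := hAS.trans ((map_subtype_le _).trans inf_le_left)
    have hAe : IsElementaryAbelian p A := PLocal.ThompsonSubgroup.IsElementaryAbelian.map hB₀e _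
    have h : TauTwo.Ctx p A L := TauTwo.Ctx.mk' hG hL hτ (map_subtype_le _) hAe
      (by rw [hA, card_map_of_injective L.subtype_injective, hB₀c])
    obtain ⟨E, hE, hAE⟩ := Compl.exists_compl_ge hG hL h.hAM fun r hr hd =>
      (show r = p from (Cores.isPi_iff_isPGroup A).mpr h.hA.isPGroup r hr hd) ▸ hpL
    refine ⟨sigmaCore L, Sigma.sigmaCore_le L, Sigma.le_normalizer_sigmaCore L, fun y hy => ?_,
      fun r hr hd hrM => ?_⟩
    · obtain ⟨e, he, w, hw, rfl⟩ := hE.2.2.2 y hy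
      refine mul_mem (mem_sup_right (mem_inf.mpr ⟨?_, hE.1 he⟩)) (mem_sup_left hw)
      exact SigmaCompl.normalizer_le hG hM hpσ h.hA.isPGroup hAM h.hA.not_isCyclic
        (h.le_normalizer_compl hE hAE he)
    · have := Fact.mk hr
      have hrL := Transitivity.isPi_piCoreOf (sigma L) L r hr hd
      have hrp : r ≠ p := fun e => hpL (e ▸ hrL)
      have hdis := h.sigma_inf hM hne.symm hAM
      by_cases hrα : r ∈ alpha M
      · obtain ⟨k, hk⟩ := exists_conj_eq hG hM hL hrM hrL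
          fun h' => hrα.2 (RankTwoFitting.pRankLE_of_le h')
        exact hnconj k hk
      -- `A` centralises a Sylow `r`-subgroup of `M_σ`
      have hpβ : p ∉ beta M := fun hb => (S1408.result hG L hL p hpL hr2 hr1).1 hb.2
      obtain ⟨H, hH, hHn⟩ := (S1414.result hG M hM).2.2.2.1
      have hAσ := Sigma.sylow_le_sigmaCore hG hM hpσ h.hA.isPGroup hAM
      have hH' : IsPiHall {q | q.Prime ∧ q ∉ beta M} (H.subgroupOf (sigmaCore M)) :=
        ⟨fun s hs hd => hH.2.1 s hs (by
          rwa [Nat.card_congr (subgroupOfEquivOfLe hH.1).toEquiv] at hd), fun s hs hsπ => hH.2.2 s hs hsπ⟩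
      have : Group.IsSolvable (sigmaCore M) :=
        Coprime.isSolvable_of_le (Sigma.sigmaCore_le M) (Transitivity.isSolvable_of_ne_top hG hM.1)
      obtain ⟨g, hg⟩ := Hall.exists_conj_le_hall hH' (U := A.subgroupOf (sigmaCore M)) fun s hs hd => by
        rw [Nat.card_congr (subgroupOfEquivOfLe hAσ).toEquiv] at hd
        exact ⟨hs, (show s = p from (Cores.isPi_iff_isPGroup A).mpr h.hA.isPGroup s hs hd) ▸ hpβ⟩
      obtain ⟨R₁⟩ := (inferInstance : Nonempty (Sylow r H))
      set R₂ : Sylow r G := (R₁.isPGroup'.map H.subtype).toSylow (fun hd => by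
        rw [index_map_subtype] at hd
        rcases hr.dvd_mul.mp hd with hd | hd
        · exact R₁.not_dvd_index hd
        rw [← relIndex_mul_index hH.1] at hd
        exact (hr.dvd_mul.mp hd).elim (hH.2.2 r hr ⟨hr, fun hb => hrα hb.1⟩)
          ((Sigma.sigmaCore_hall hG hM).2.2 r hr hrM)) with hR₂
      set R₀ : Sylow r G := (g : G) • R₂
      have hRσ' : (R₂ : Subgroup G) ≤ sigmaCore M := (map_subtype_le _).trans hH.1
      have hRM : (R₀ : Subgroup G) ≤ M := by
        rw [Sylow.coe_subgroup_smul]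
        rintro _ ⟨y, hy, rfl⟩
        have hgM : (g : G) ∈ M := Sigma.sigmaCore_le M g.2
        exact mul_mem (mul_mem hgM (Sigma.sigmaCore_le M (hRσ' hy))) (inv_mem hgM)
      have hcomm : (R₀ : Subgroup G) ≤ centralizer (A : Set G) := by
        rw [Sylow.coe_subgroup_smul]
        rintro _ ⟨y, hy, rfl⟩
        refine mem_centralizer_iff.mpr fun a ha => ?_
        have h1 := hg (show (⟨a, hAσ ha⟩ : sigmaCore M) ∈ A.subgroupOf (sigmaCore M) from ha)
        rw [Subgroup.mem_pointwise_smul_iff_inv_smul_mem] at h1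
        have h2 : (g : G)⁻¹ * a * (g : G) ∈ H := by
          simpa [MulAut.smul_def, mem_subgroupOf] using h1
        obtain ⟨j, hj⟩ := (R₁.isPGroup'.map H.subtype) ⟨y, hy⟩
        have h3 : ((g : G)⁻¹ * a * (g : G)) * y = y * ((g : G)⁻¹ * a * (g : G)) := by
          refine CN.commute_of_coprime hHn h2 (map_subtype_le _ hy) ?_
          refine Nat.Coprime.coprime_dvd_left (orderOf_dvd_of_pow_eq_one (n := p) ?_)
            (Nat.Coprime.coprime_dvd_right (orderOf_dvd_of_pow_eq_one (congrArg Subtype.val hj))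
              (((Nat.coprime_primes hp hr).mpr hrp.symm).pow_right j))
          have h4 := conj_pow (a := (g : G)⁻¹) (b := a) (i := p)
          rw [inv_inv, h.hA.el.2 a ha] at h4
          rw [h4]; group
        show a * ((g : G) * y * (g : G)⁻¹) = (g : G) * y * (g : G)⁻¹ * a
        calc a * ((g : G) * y * (g : G)⁻¹) = (g : G) * (((g : G)⁻¹ * a * (g : G)) * y) * (g : G)⁻¹ := by group
          _ = (g : G) * (y * ((g : G)⁻¹ * a * (g : G))) * (g : G)⁻¹ := by rw [h3]
          _ = (g : G) * y * (g : G)⁻¹ * a := by group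
      have hRσ := Sigma.sylow_le_sigmaCore hG hL hrL R₀.isPGroup' (hcomm.trans h.hCA)
      refine R₀.ne_bot_of_dvd_card (hd.trans (card_subgroup_dvd_card _)) (le_bot_iff.mp ?_)
      exact hdis ▸ le_inf hRσ hRM

end Cfsg.Agent.OddLocal.SigmaSub
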