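import Cfsg.Agent.OddLocal.SigmaElem
import Cfsg.Agent.OddLocal.SigmaSub

/-! Consequences for `M_σ` and its conjugates (BG 12.17). -/

set_option autoImplicit false
set_option linter.unusedSectionVars false

namespace Cfsg.Agent.OddLocal.SigmaMeet

open Cfsg Subgroup
open scoped commutatorElement
open Cfsg.Agent.Transfer.Fusion (map_conj_mul map_conj_eq_self_iff map_conj_inv_cancel)

variable {G : Type*} [Group G] [Finite G] {M E : Subgroup G}

/-- A solvable direct factor inside the derived group of a product is trivial. -/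
theorem eq_bot_of_le_commutator {Q : Type*} [Group Q] {V A : Subgroup Q} (hs : Group.IsSolvable V)
    (hcomm : ∀ v ∈ V, ∀ a ∈ A, Commute v a) (hd : V ⊓ A = ⊥) (h : V ≤ ⁅V ⊔ A, V ⊔ A⁆) : V = ⊥ := by
  by_contra hne
  refine (Coprime.commutator_lt_of_isSolvable hs hne).not_ge ?_
  have hAN : A ≤ normalizer (V : Set Q) := le_trans
    (fun a ha => mem_centralizer_iff.mpr fun v hv => (hcomm v hv a ha).eq) (centralizer_le_normalizer _)
  have hAN' : ⁅A, A⁆ ≤ normalizer ((⁅V, V⁆ : Subgroup Q) : Set Q) := le_trans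
    (fun a ha => mem_centralizer_iff.mpr fun v hv =>
      (hcomm v (commutator_le_self V hv) a (commutator_le_self A ha)).eq) (centralizer_le_normalizer _)
  have hle : ⁅V ⊔ A, V ⊔ A⁆ ≤ ⁅V, V⁆ ⊔ ⁅A, A⁆ := by
    rw [commutator_le]
    intro x hx y hy
    obtain ⟨v, hv, a, ha, rfl⟩ := (Coprime.mem_sup_of_le_normalizer hAN).mp hx
    obtain ⟨w, hw, b, hb, rfl⟩ := (Coprime.mem_sup_of_le_normalizer hAN).mp hy
    have e : ⁅v * a, w * b⁆ = ⁅v, w⁆ * ⁅a, b⁆ := by
      have h1 : Commute a w := (hcomm w hw a ha).symm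
      have h2 : Commute (a * b * a⁻¹) (v⁻¹) :=
        (hcomm v⁻¹ (inv_mem hv) _ (mul_mem (mul_mem ha hb) (inv_mem ha))).symm
      have h3 : Commute (a * b * a⁻¹ * b⁻¹) (w⁻¹) :=
        (hcomm w⁻¹ (inv_mem hw) _ (mul_mem (mul_mem (mul_mem ha hb) (inv_mem ha)) (inv_mem hb))).symm
      calc ⁅v * a, w * b⁆ = v * (a * w) * b * a⁻¹ * v⁻¹ * b⁻¹ * w⁻¹ := by rw [commutatorElement_def]; group
        _ = v * w * ((a * b * a⁻¹) * v⁻¹) * b⁻¹ * w⁻¹ := by rw [h1.eq]; group
        _ = v * w * v⁻¹ * ((a * b * a⁻¹ * b⁻¹) * w⁻¹) := by rw [h2.eq]; group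
        _ = ⁅v, w⁆ * ⁅a, b⁆ := by rw [h3.eq, commutatorElement_def, commutatorElement_def]; group
    rw [e]
    exact mul_mem (mem_sup_left (commutator_mem_commutator hv hw))
      (mem_sup_right (commutator_mem_commutator ha hb))
  intro v hv
  obtain ⟨w, hw, a, ha, rfl⟩ := (Coprime.mem_sup_of_le_normalizer hAN').mp (hle (h hv))
  have h1 : a = 1 := mem_bot.mp (hd ▸ mem_inf.mpr
    ⟨(mul_mem_cancel_left (commutator_le_self V hw)).mp hv, commutator_le_self A ha⟩)
  rwa [h1, mul_one]

theorem coprime_card (hG : IsMinSimpleOddOrder G) (hM : IsCoatom M) (hE : IsComplIn E (sigmaCore M) M) :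
    (Nat.card E).Coprime (Nat.card (sigmaCore M)) :=
  Nat.coprime_of_dvd fun q hq h1 h2 => Compl.not_dvd_sigmaCore hq (Compl.not_sigma hG hM hE hq h1) h2

theorem commutator_compl_eq (hG : IsMinSimpleOddOrder G) (hM : IsCoatom M)
    (hE : IsComplIn E (sigmaCore M) M) : ⁅sigmaCore M, E⁆ = sigmaCore M := by
  set K := sigmaCore M with hK
  have hKM : K ≤ M := Sigma.sigmaCore_le M
  have hEK : E ≤ normalizer (K : Set G) := hE.1.trans (Sigma.le_normalizer_sigmaCore M)
  have hle : ⁅K, E⁆ ≤ K := Coprime.commutator_le_of_le_normalizer hEK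
  refine le_antisymm hle ?_
  have hMN : M ≤ normalizer ((⁅K, E⁆ : Subgroup G) : Set G) := by
    intro m hm
    obtain ⟨e, he, k, hk, rfl⟩ := hE.2.2.2 m hm
    exact mul_mem (normalizer_commutator_ge_right K E he) (normalizer_commutator_ge_left K E hk)
  have hNn : ((⁅K, E⁆).subgroupOf M).Normal :=
    (normal_subgroupOf_iff_le_normalizer (hle.trans hKM)).mpr hMN
  set f := QuotientGroup.mk' ((⁅K, E⁆).subgroupOf M) with hf
  set V := (K.subgroupOf M).map f with hV
  set A := (E.subgroupOf M).map f with hA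
  have hVs : Group.IsSolvable V := by
    have h1 : Group.IsSolvable (K.subgroupOf M) := by
      have := Transitivity.isSolvable_of_ne_top hG hM.1
      infer_instance
    exact Coprime.isSolvable_map f h1
  have hbot : V = ⊥ := by
    refine eq_bot_of_le_commutator hVs ?_ (disjoint_iff.mp (Coprime.disjoint_of_coprime ?_)) (A := A) ?_
    · rintro _ ⟨v, hv, rfl⟩ _ ⟨a, ha, rfl⟩
      show f v * f a = f a * f v
      rw [← commutatorElement_eq_one_iff_mul_comm, ← map_commutatorElement]
      exact (QuotientGroup.eq_one_iff _).mpr (mem_subgroupOf.mpr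
        (commutator_mem_commutator (mem_subgroupOf.mp hv) (mem_subgroupOf.mp ha)))
    · refine Nat.Coprime.coprime_dvd_left (card_map_dvd _ _) (Nat.Coprime.coprime_dvd_right (card_map_dvd _ _) ?_)
      rw [Nat.card_congr (subgroupOfEquivOfLe hKM).toEquiv, Nat.card_congr (subgroupOfEquivOfLe hE.1).toEquiv]
      exact (coprime_card hG hM hE).symm
    · have htop : V ⊔ A = ⊤ := by
        rw [hV, hA, ← Subgroup.map_sup, ← subgroupOf_sup hKM hE.1]
        refine (congrArg (Subgroup.map f) ?_).trans (map_top_of_surjective f (QuotientGroup.mk'_surjective _))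
        rw [subgroupOf_eq_top]
        intro m hm
        obtain ⟨e, he, k, hk, rfl⟩ := hE.2.2.2 m hm
        exact mul_mem (mem_sup_right he) (mem_sup_left hk)
      rw [htop, hV]
      calc (K.subgroupOf M).map f ≤ (commutator M).map f := map_mono fun x hx => by
            rw [← mem_map_iff_mem M.subtype_injective, map_subtype_commutator]
            exact Sigma.sigmaCore_le_commutator hG hM (mem_subgroupOf.mp hx)
        _ = ⁅⊤, ⊤⁆ := by
            rw [_root_.commutator_def, map_commutator,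
              map_top_of_surjective f (QuotientGroup.mk'_surjective _)]
  intro k hk
  have h1 : f ⟨k, hKM hk⟩ ∈ V := mem_map_of_mem f (mem_subgroupOf.mpr hk)
  rw [hbot, mem_bot] at h1
  exact mem_subgroupOf.mp ((QuotientGroup.eq_one_iff (⟨k, hKM hk⟩ : M)).mp h1)

theorem inf_centralizer_compl_le (hG : IsMinSimpleOddOrder G) (hM : IsCoatom M)
    (hE : IsComplIn E (sigmaCore M) M) :
    sigmaCore M ⊓ centralizer (E : Set G) ≤ ⁅sigmaCore M, sigmaCore M⁆ := by
  set K := sigmaCore M with hK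
  have hKM : K ≤ M := Sigma.sigmaCore_le M
  have hMD : M ≤ normalizer ((⁅K, K⁆ : Subgroup G) : Set G) :=
    Coprime.le_normalizer_commutator_self (Sigma.le_normalizer_sigmaCore M)
  have hNn : ((⁅K, K⁆).subgroupOf M).Normal :=
    (normal_subgroupOf_iff_le_normalizer ((commutator_le_self K).trans hKM)).mpr hMD
  set f := QuotientGroup.mk' ((⁅K, K⁆).subgroupOf M) with hf
  set V := (K.subgroupOf M).map f with hV
  set A := (E.subgroupOf M).map f with hA
  have hVc : IsMulCommutative V := by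
    refine ⟨⟨fun x y => Subtype.ext ?_⟩⟩
    obtain ⟨v, hv, e1⟩ := x.2
    obtain ⟨w, hw, e2⟩ := y.2
    rw [coe_mul, coe_mul, ← e1, ← e2, ← commutatorElement_eq_one_iff_mul_comm, ← map_commutatorElement]
    exact (QuotientGroup.eq_one_iff _).mpr (mem_subgroupOf.mpr
      (commutator_mem_commutator (mem_subgroupOf.mp hv) (mem_subgroupOf.mp hw)))
  have hAV : A ≤ normalizer (V : Set (M ⧸ (⁅K, K⁆).subgroupOf M)) := by
    rw [hA, hV]
    refine (map_mono ?_).trans (le_normalizer_map f)
    rw [← subgroupOf_normalizer_eq hKM]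
    exact comap_mono (hE.1.trans (Sigma.le_normalizer_sigmaCore M))
  have hcop : (Nat.card A).Coprime (Nat.card V) := by
    refine Nat.Coprime.coprime_dvd_left (card_map_dvd _ _) (Nat.Coprime.coprime_dvd_right (card_map_dvd _ _) ?_)
    rw [Nat.card_congr (subgroupOfEquivOfLe hKM).toEquiv, Nat.card_congr (subgroupOfEquivOfLe hE.1).toEquiv]
    exact coprime_card hG hM hE
  have hVA : ⁅V, A⁆ = V := by
    rw [hV, hA, ← map_commutator]
    congr 1
    refine map_injective M.subtype_injective ?_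
    rw [map_commutator, map_subgroupOf_eq_of_le hKM, map_subgroupOf_eq_of_le hE.1]
    exact commutator_compl_eq hG hM hE
  have hfix := Coprime.inf_centralizer_inf_commutator hAV hcop
  rw [hVA, inf_assoc, inf_comm (centralizer (A : Set _)) V, ← inf_assoc, inf_idem] at hfix
  intro k hk
  obtain ⟨hkK, hkC⟩ := mem_inf.mp hk
  have h1 : f ⟨k, hKM hkK⟩ ∈ V ⊓ centralizer (A : Set _) := by
    refine mem_inf.mpr ⟨mem_map_of_mem f (mem_subgroupOf.mpr hkK), mem_centralizer_iff.mpr ?_⟩
    rintro _ ⟨e, he, rfl⟩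
    rw [← map_mul, ← map_mul]
    exact congrArg f (Subtype.ext (mem_centralizer_iff.mp hkC _ (mem_subgroupOf.mp he)))
  rw [hfix, mem_bot] at h1
  exact mem_subgroupOf.mp ((QuotientGroup.eq_one_iff (⟨k, hKM hkK⟩ : M)).mp h1)

/-- A `σ(M)`-element of `M ∩ M^g` with all its conjugating elements in `M` forces `g ∈ M`. -/
theorem mem_of_centralizer_le (hG : IsMinSimpleOddOrder G) (hM : IsCoatom M) {p : ℕ} [Fact p.Prime]
    (hpσ : p ∈ sigma M) {X : Subgroup G} (hX : IsPGroup p X) (hX1 : X ≠ ⊥) (hXM : X ≤ M)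
    (hC : centralizer (X : Set G) ≤ M) {g : G} (hXg : X ≤ M.map (MulAut.conj g).toMonoidHom) : g ∈ M := by
  have h1 := map_mono (f := (MulAut.conj g⁻¹).toMonoidHom) hXg
  rw [map_conj_inv_cancel] at h1
  obtain ⟨m, hm, c, hc, he⟩ := Sigma.sigma_conj hG hM hpσ hX hX1 hXM h1
  have : g⁻¹ ∈ M := he ▸ mul_mem hm (hC hc)
  simpa using inv_mem this

theorem meet (hG : IsMinSimpleOddOrder G) (hM : IsCoatom M) {g : G} (hg : g ∉ M) :
    IsCyclic ↥(sigmaCore M ⊓ M.map (MulAut.conj g).toMonoidHom) ∧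
      (∀ p : ℕ, p.Prime → p ∣ Nat.card ↥(sigmaCore M ⊓ M.map (MulAut.conj g).toMonoidHom) → p ∉ beta M) ∧
      sigmaCore M ⊓ M.map (MulAut.conj g).toMonoidHom ⊓ ⁅sigmaCore M, sigmaCore M⁆ = ⊥ := by
  set D := sigmaCore M ⊓ M.map (MulAut.conj g).toMonoidHom with hD
  have hDM : D ≤ M := inf_le_left.trans (Sigma.sigmaCore_le M)
  have hsub : ∀ (p : ℕ) [Fact p.Prime], ∀ X : Subgroup G, X ≤ D → Nat.card X = p →
      ¬ (p ∈ beta M ∨ X ≤ ⁅sigmaCore M, sigmaCore M⁆) := by
    intro p hp X hXD hX h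
    have hpσ : p ∈ sigma M := Transitivity.isPi_piCoreOf (sigma M) M p hp.out
      (hX ▸ card_dvd_of_le (hXD.trans inf_le_left))
    obtain ⟨⟨hC, -⟩, -⟩ := SigmaElem.main hG hM hpσ (hXD.trans hDM) hX h
    exact hg (mem_of_centralizer_le hG hM hpσ (IsPGroup.of_card (n := 1) (by rw [hX, pow_one]))
      (fun e => hp.out.ne_one (by rw [← hX, e, card_bot])) (hXD.trans hDM) hC (hXD.trans inf_le_right))
  have hord : ∀ {W : Subgroup G} {p : ℕ}, p.Prime → p ∣ Nat.card W → ∃ X : Subgroup G, X ≤ W ∧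
      Nat.card X = p := by
    intro W p hp hd
    have := Fact.mk hp
    obtain ⟨x, hx⟩ := exists_prime_orderOf_dvd_card' p hd
    exact ⟨zpowers (x : G), zpowers_le.mpr x.2, by rw [Nat.card_zpowers, orderOf_coe, hx]⟩
  have hder : D ⊓ ⁅sigmaCore M, sigmaCore M⁆ = ⊥ := by
    refine card_eq_one.mp (Nat.eq_one_iff_not_exists_prime_dvd.mpr fun p hp hd => ?_)
    have := Fact.mk hp
    obtain ⟨X, hX, hXc⟩ := hord hp hd
    exact hsub p X (hX.trans inf_le_left) hXc (Or.inr (hX.trans inf_le_right))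
  refine ⟨?_, fun p hp hd hβ => ?_, hder⟩
  swap
  · have := Fact.mk hp
    obtain ⟨X, hX, hXc⟩ := hord hp hd
    exact hsub p X hX hXc (Or.inl hβ)
  have hDc : IsMulCommutative D := ⟨⟨fun x y => Subtype.ext (commutatorElement_eq_one_iff_mul_comm.mp
    (mem_bot.mp (hder ▸ mem_inf.mpr ⟨commutator_le_self D (commutator_mem_commutator x.2 y.2),
      commutator_mono inf_le_left inf_le_left (commutator_mem_commutator x.2 y.2)⟩)))⟩⟩
  have hZ : IsZGroup D := by
    refine ⟨fun p hp P => ?_⟩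
    have := Fact.mk hp
    by_contra hnc
    set P' := (P : Subgroup D).map D.subtype with hP'
    have hP1 : P' ≠ ⊥ := fun e => hnc (by
      rw [(map_eq_bot_iff_of_injective _ D.subtype_injective).mp e]
      exact isCyclic_of_subsingleton)
    have hpD : p ∣ Nat.card P' := by
      obtain ⟨n, hn⟩ := (P.isPGroup'.map D.subtype).exists_card_eq
      rcases n.eq_zero_or_pos with rfl | hn0
      · exact absurd (card_eq_one.mp (hn.trans (pow_zero p))) hP1
      · exact hn ▸ dvd_pow_self p hn0.ne'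
    have hpσ : p ∈ sigma M := Transitivity.isPi_piCoreOf (sigma M) M p hp
      (hpD.trans (card_dvd_of_le ((map_subtype_le _).trans inf_le_left)))
    have hPnc : ¬ IsCyclic P' := fun hc => hnc (isCyclic_of_surjective _
      ((P : Subgroup D).equivMapOfInjective D.subtype D.subtype_injective).symm.surjective)
    exact hg (mem_of_centralizer_le hG hM hpσ (P.isPGroup'.map _) hP1 ((map_subtype_le _).trans hDM)
      ((centralizer_le_normalizer _).trans (SigmaCompl.normalizer_le hG hM hpσ (P.isPGroup'.map _)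
        ((map_subtype_le _).trans hDM) hPnc)) ((map_subtype_le _).trans inf_le_right))
  have : Group.IsNilpotent D := @CommGroup.isNilpotent _
    { (inferInstance : Group D) with mul_comm := fun a b => hDc.is_comm.comm a b }
  infer_instance

end Cfsg.Agent.OddLocal.SigmaMeet
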