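import Cfsg.Agent.OddLocal.FrobeniusFix
import Cfsg.Agent.Lib.Coprime.OmegaDetect
import Cfsg.Agent.Techniques.Critical
import Cfsg.Agent.S0096

/-! Fixed points of a complement detect the action of a kernel without fixed points. -/

set_option autoImplicit false
set_option linter.unusedSectionVars false

namespace Cfsg.Agent.OddLocal.FrobeniusFixGroup

open Subgroup
open scoped commutatorElement

/-- The abelian case. -/
theorem fixed_of_abelian {A H : Type*} [CommGroup A] [Group H] (ρ : H →* MulAut A) {Y : Subgroup H}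
    [Finite Y] {e : H} {r : ℕ} [hr : Fact r.Prime] (he : e ^ r = 1) (heY : e ∈ normalizer (Y : Set H))
    (hfpf : ∀ y ∈ Y, Commute e y → y = 1) (hfix : ∀ v, ρ e v = v → ∀ y ∈ Y, ρ y v = v)
    (hinj : Function.Injective fun v : A => v ^ Nat.card Y) (v : A) : ∀ y ∈ Y, ρ y v = v := by
  classical
  have := Fintype.ofFinite Y
  set S : A → A := fun x => ∏ i ∈ Finset.range r, ρ (e ^ i) x with hS
  have hSe : ∀ x, ρ e (S x) = S x := by
    intro x
    show ρ e (∏ i ∈ Finset.range r, ρ (e ^ i) x) = ∏ i ∈ Finset.range r, ρ (e ^ i) x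
    rw [map_prod]
    simp only [← MulAut.mul_apply, ← map_mul, ← pow_succ']
    obtain ⟨r', rfl⟩ := Nat.exists_eq_add_of_le' hr.out.pos
    rw [Finset.prod_range_succ, Finset.prod_range_succ' (fun i => ρ (e ^ i) x) r', he, pow_zero]
  set N : A → A := fun x => ∏ y : Y, ρ (y : H) x with hN
  have hNfix : ∀ x, ∀ y ∈ Y, ρ y (N x) = N x := by
    intro x y hy
    show ρ y (∏ z : Y, ρ (z : H) x) = ∏ z : Y, ρ (z : H) x
    rw [map_prod]
    simp only [← MulAut.mul_apply, ← map_mul]
    exact Fintype.prod_equiv (Equiv.mulLeft (⟨y, hy⟩ : Y)) _ _ fun z => rfl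
  -- the `i`-th slice of the sum over the whole group
  set Φ : ℕ → A := fun i => ∏ y : Y, ρ ((y : H) * e ^ i * (y : H)⁻¹) v with hΦ
  have htot : ∀ y ∈ Y, ρ y (∏ i ∈ Finset.range r, Φ i) = ∏ i ∈ Finset.range r, Φ i := by
    have e' : ∏ i ∈ Finset.range r, Φ i = ∏ z : Y, S (ρ (z : H)⁻¹ v) := by
      simp only [hΦ]
      rw [Finset.prod_comm]
      refine Finset.prod_congr rfl fun z _ => ?_
      rw [← hfix _ (hSe (ρ (z : H)⁻¹ v)) z z.2, hS, map_prod]
      simp only [← MulAut.mul_apply, ← map_mul, mul_assoc]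
    intro y hy
    rw [e', map_prod]
    exact Finset.prod_congr rfl fun z _ => hfix _ (hSe _) y hy
  have hi : ∀ i, 0 < i → i < r → ∀ y ∈ Y, ρ y (Φ i) = Φ i := by
    intro i hi0 hir
    have hmem : ∀ z : Y, (z : H) * (e ^ i * (z : H)⁻¹ * (e ^ i)⁻¹) ∈ Y := fun z =>
      mul_mem z.2 ((mem_normalizer_iff.mp (pow_mem heY i) _).mp (inv_mem z.2))
    set f : Y → Y := fun z => ⟨_, hmem z⟩ with hf
    have hfi : Function.Injective f := by
      intro z w hzw
      have h1 : (z : H) * (e ^ i * (z : H)⁻¹ * (e ^ i)⁻¹) = w * (e ^ i * (w : H)⁻¹ * (e ^ i)⁻¹) :=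
        congrArg Subtype.val hzw
      have h2 : Commute (e ^ i) ((w : H)⁻¹ * z) := by
        have h3 : (w : H)⁻¹ * z = e ^ i * ((w : H)⁻¹ * z) * (e ^ i)⁻¹ := by
          calc (w : H)⁻¹ * z = (w : H)⁻¹ * ((z : H) * (e ^ i * (z : H)⁻¹ * (e ^ i)⁻¹))
              * (e ^ i * z * (e ^ i)⁻¹) := by group
            _ = (w : H)⁻¹ * ((w : H) * (e ^ i * (w : H)⁻¹ * (e ^ i)⁻¹))
              * (e ^ i * z * (e ^ i)⁻¹) := by rw [h1]
            _ = e ^ i * ((w : H)⁻¹ * z) * (e ^ i)⁻¹ := by group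
        exact (mul_inv_eq_iff_eq_mul.mp h3.symm)
      obtain ⟨m, hm⟩ := Nat.exists_mul_mod_eq_one_of_coprime
        ((hr.out.coprime_iff_not_dvd.mpr (Nat.not_dvd_of_pos_of_lt hi0 hir)).symm) hr.out.one_lt
      have h4 := h2.pow_left m
      rw [← pow_mul, ← Nat.mod_add_div (i * m) r, hm.2, pow_add, pow_one, pow_mul, he, one_pow,
        mul_one] at h4
      exact Subtype.ext (inv_mul_eq_one.mp (hfpf _ (mul_mem (inv_mem w.2) z.2) h4)).symm
    have e' : Φ i = N (ρ (e ^ i) v) := by
      refine Fintype.prod_bijective f (Finite.injective_iff_bijective.mp hfi) _ _ fun z => ?_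
      rw [← MulAut.mul_apply, ← map_mul]
      congr 2
      show _ = (z : H) * (e ^ i * (z : H)⁻¹ * (e ^ i)⁻¹) * e ^ i
      group
    rw [e']; exact hNfix _
  intro y hy
  have h0 : Φ 0 = v ^ Nat.card Y := by
    simp only [hΦ, pow_zero, mul_one, mul_inv_cancel, map_one, MulAut.one_apply]
    rw [Finset.prod_const, Finset.card_univ, Nat.card_eq_fintype_card]
  refine hinj ?_
  show ρ y v ^ Nat.card Y = v ^ Nat.card Y
  rw [← map_pow, ← h0]
  obtain ⟨r', rfl⟩ := Nat.exists_eq_add_of_le' hr.out.pos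
  have h5 := htot y hy
  rw [Finset.prod_range_succ', map_mul, map_prod] at h5
  rw [Finset.prod_congr rfl (g := fun i => Φ (i + 1)) fun i hi' =>
    hi (i + 1) i.succ_pos (by rw [Finset.mem_range] at hi'; omega) y hy] at h5
  exact mul_left_cancel h5

variable {G : Type*} [Group G] [Finite G]

/-- If `C_V(e)` is centralized by `Y` and `e` has no fixed points on `Y`, then `Y` centralizes `V`. -/
theorem le_centralizer_of_fpf {r : ℕ} [hr : Fact r.Prime] {e : G} {Y : Subgroup G}
    (her : e ^ r = 1) (heY : e ∈ normalizer (Y : Set G)) (hfpf : ∀ y ∈ Y, Commute e y → y = 1)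
    {V : Subgroup G} (hV : Group.IsSolvable V) (hcr : (Nat.card V).Coprime r)
    (hcY : (Nat.card V).Coprime (Nat.card Y)) (heV : e ∈ normalizer (V : Set G))
    (hYV : Y ≤ normalizer (V : Set G))
    (hfix : ∀ x ∈ V, Commute e x → ∀ y ∈ Y, Commute y x) : Y ≤ centralizer (V : Set G) := by
  induction hc : Nat.card V using Nat.strong_induction_on generalizing V with
  | _ n ih => ?_
  by_cases hV0 : V = ⊥
  · intro y _
    simp [hV0, mem_centralizer_iff]
  have hlt := Coprime.commutator_lt_of_isSolvable hV hV0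
  set N := ⁅V, V⁆ with hNdef
  have hNn : ∀ g ∈ normalizer (V : Set G), g ∈ normalizer (N : Set G) := fun g hg =>
    mem_normalizer_iff_map_conj_eq.mpr (by
      rw [hNdef, Subgroup.map_commutator, mem_normalizer_iff_map_conj_eq.mp hg])
  have hcard : Nat.card N < n := hc ▸ lt_of_le_of_ne (card_le_of_le hlt.le) fun e' =>
    hlt.ne (eq_of_le_of_card_ge hlt.le e'.ge)
  have hN : Y ≤ centralizer (N : Set G) := ih _ hcard (Coprime.isSolvable_of_le hlt.le hV)
    (hcr.coprime_dvd_left (card_dvd_of_le hlt.le)) (hcY.coprime_dvd_left (card_dvd_of_le hlt.le))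
    (hNn e heV) (fun y hy => hNn y (hYV hy)) (fun x hx => hfix x (hlt.le hx)) rfl
  -- the action on the abelianization
  set H := normalizer (V : Set G) with hH
  let φ : H →* MulAut V := V.normalizerMonoidHom
  let ρ : H →* MulAut (Abelianization V) :=
    { toFun := fun g => (φ g).abelianizationCongr
      map_one' := by
        ext u
        obtain ⟨y, rfl⟩ := QuotientGroup.mk'_surjective (commutator V) u
        show Abelianization.of (φ 1 y) = Abelianization.of y
        rw [map_one, MulAut.one_apply]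
      map_mul' := fun g h => by
        ext u
        obtain ⟨y, rfl⟩ := QuotientGroup.mk'_surjective (commutator V) u
        show Abelianization.of (φ (g * h) y) = Abelianization.of (φ g (φ h y))
        rw [map_mul, MulAut.mul_apply] }
  have hlift : ∀ u, ρ ⟨e, heV⟩ u = u → ∃ z : V, Abelianization.of z = u ∧ Commute e (z : G) := by
    intro u hu
    obtain ⟨y, rfl⟩ := QuotientGroup.mk'_surjective (commutator V) u
    have h1 : e * (y : G) * e⁻¹ * (y : G)⁻¹ ∈ N := by
      have h0 : φ ⟨e, heV⟩ y * y⁻¹ ∈ commutator V := by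
        rw [← div_eq_mul_inv]
        exact QuotientGroup.eq_iff_div_mem.mp hu
      have := Subgroup.mem_map_of_mem V.subtype h0
      rwa [map_subtype_commutator] at this
    have hfixN : ∀ a ∈ zpowers e, a * (y : G) * a⁻¹ * (y : G)⁻¹ ∈ N := by
      have hb : ∀ j : ℕ, e ^ j * (y : G) * (e ^ j)⁻¹ * (y : G)⁻¹ ∈ N := by
        intro j
        induction j with
        | zero => simp
        | succ j ihj =>
          have h2 := (mem_normalizer_iff.mp (hNn _ (pow_mem heV j)) _).mp h1
          have := N.mul_mem h2 ihj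
          convert this using 1
          rw [pow_succ]; group
      intro a ha
      obtain ⟨j, rfl⟩ := (isOfFinOrder_of_finite e).mem_powers_iff_mem_zpowers.mpr ha
      exact hb j
    obtain ⟨c', hc', hcN⟩ := Coprime.exists_fixed_mod (A := zpowers e) (K := V) (N := N) (k := (y : G))
      (hcr.symm.coprime_dvd_left (by rw [Nat.card_zpowers]; exact orderOf_dvd_of_pow_eq_one her))
      (Or.inr hV) hlt.le (fun g hg => hNn g (le_normalizer hg))
      (zpowers_le.mpr (hNn e heV)) y.2 hfixN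
    refine ⟨⟨c', hc'.1⟩, ?_, (mem_centralizer_iff.mp hc'.2 e (mem_zpowers e))⟩
    refine (QuotientGroup.eq (s := commutator V)).mpr ?_
    have h4 : ((⟨c', hc'.1⟩ : V)⁻¹ * y : V) ∈ (⁅V, V⁆).subgroupOf V := by
      have := N.inv_mem hcN
      rwa [mul_inv_rev, inv_inv] at this
    rwa [← map_subtype_commutator, subgroupOf, comap_map_eq_self_of_injective V.subtype_injective] at h4
  have hab : ∀ u : Abelianization V, ∀ y ∈ Y.subgroupOf H, ρ y u = u := by
    refine fixed_of_abelian ρ (e := ⟨e, heV⟩) (r := r) (Subtype.ext her) ?_ ?_ (fun u hu y hy => ?_) ?_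
    · rw [← subgroupOf_normalizer_eq hYV]; exact heY
    · exact fun y hy hey => Subtype.ext (hfpf _ hy (congrArg Subtype.val hey.eq))
    · obtain ⟨z, hzu, hze⟩ := hlift u hu
      subst hzu
      show Abelianization.of (φ y z) = Abelianization.of z
      exact congrArg Abelianization.of (Subtype.ext
        (mul_inv_eq_iff_eq_mul.mpr (hfix _ z.2 hze _ hy).eq))
    · rw [Nat.card_congr (subgroupOfEquivOfLe hYV).toEquiv]
      exact (powCoprime (n := Nat.card Y) (hcY.coprime_dvd_left (card_quotient_dvd_card _))).injective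
  refine Coprime.le_centralizer_of_series hYV hcY.symm (Or.inr hV) hN ?_
  rw [commutator_comm, commutator_le]
  intro y hy x hx
  have h0 := hab (Abelianization.of ⟨x, hx⟩) ⟨y, hYV hy⟩ hy
  have h1 : φ ⟨y, hYV hy⟩ ⟨x, hx⟩ * (⟨x, hx⟩ : V)⁻¹ ∈ commutator V := by
    rw [← div_eq_mul_inv]
    exact QuotientGroup.eq_iff_div_mem.mp h0
  have := Subgroup.mem_map_of_mem V.subtype h1
  rwa [map_subtype_commutator] at this

/-- A subgroup of exponent `p` detecting the automorphisms of order prime to `p`. -/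
theorem exists_exponent_sub {p : ℕ} [hp : Fact p.Prime] (hp2 : p ≠ 2) {T : Subgroup G} (hT : IsPGroup p T) :
    ∃ C : Subgroup G, C ≤ T ∧ (∀ x ∈ C, x ^ p = 1) ∧
      normalizer (T : Set G) ≤ normalizer (C : Set G) ∧
      ∀ A : Subgroup G, A ≤ normalizer (T : Set G) → (Nat.card A).Coprime p →
        A ≤ centralizer (C : Set G) → A ≤ centralizer (T : Set G) := by
  obtain ⟨H, hH, -, h2, h3⟩ := Techniques.Critical.exists_critical hT
  have hcl : ⁅commutator H, (⊤ : Subgroup H)⁆ = ⊥ := by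
    rw [Subgroup.commutator_eq_bot_iff_le_centralizer]
    intro u hu
    have h4 : (commutator H).map H.subtype ≤ ⁅H, (⊤ : Subgroup T)⁆ := by
      rw [Subgroup.map_subtype_commutator]
      exact Subgroup.commutator_mono le_rfl le_top
    exact fun y _ => Subtype.ext ((h2 (h4 ⟨u, hu, rfl⟩)).2 _ y.2)
  set W := Subgroup.closure {x : H | x ^ p = 1} with hW
  have hWexp : ∀ x ∈ W, x ^ p = 1 := S0096.result hp2 (hT.to_subgroup H) hcl
  set C₀ := W.map H.subtype with hC₀
  have hmem : ∀ {x : T}, x ∈ H → x ^ p = 1 → x ∈ C₀ := fun {x} hx hxp =>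
    ⟨⟨x, hx⟩, Subgroup.subset_closure (Subtype.ext hxp), rfl⟩
  have hexp : ∀ x ∈ C₀, x ^ p = 1 := by
    rintro _ ⟨x, hx, rfl⟩
    exact congrArg Subtype.val (hWexp x hx)
  have hchar : C₀.Characteristic := characteristic_iff_map_le.mpr fun f => by
    rintro _ ⟨x, hx, rfl⟩
    exact hmem (characteristic_iff_map_le.mp hH f ⟨x, map_subtype_le _ hx, rfl⟩)
      (by show f x ^ p = 1; rw [← map_pow, hexp x hx, map_one])
  have hNH : normalizer (T : Set G) ≤ normalizer ((H.map T.subtype : Subgroup G) : Set G) :=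
    Coprime.OmegaDetect.normalizer_le_normalizer_char T H
  refine ⟨C₀.map T.subtype, map_subtype_le _, ?_, Coprime.OmegaDetect.normalizer_le_normalizer_char T C₀,
    fun A hAT hcop hAC => ?_⟩
  · rintro _ ⟨x, hx, rfl⟩
    exact congrArg Subtype.val (hexp x hx)
  have hAH : A ≤ centralizer ((H.map T.subtype : Subgroup G) : Set G) := fun a ha => by
    refine Coprime.OmegaDetect.mem_centralizer_of_fix (p := p)
      (hcop.coprime_dvd_left (A.orderOf_dvd_natCard ha)) ((hT.to_subgroup H).map T.subtype)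
      (hNH (hAT ha)) fun x hx h => ?_
    obtain ⟨y, hy, rfl⟩ := hx
    have hxp : (T.subtype y) ^ p = 1 := h.resolve_right fun h' => hp2 h'.1
    exact (mem_centralizer_iff.mp (hAC ha) _ (mem_map_of_mem _ (hmem hy (Subtype.ext hxp)))).symm
  obtain ⟨k, hk⟩ := hT.exists_card_eq
  refine Coprime.le_centralizer_of_series hAT (hk ▸ hcop.pow_right k)
    (Or.inr (Coprime.isSolvable_of_isPGroup hT)) hAH ?_
  rw [commutator_le]
  intro x hx a ha
  have hax : a * x⁻¹ * a⁻¹ ∈ T := (mem_normalizer_iff.mp (hAT ha) _).mp (inv_mem hx)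
  have hmemT : ⁅x, a⁆ ∈ T := by
    have := mul_mem hx hax
    simpa [commutatorElement_def, mul_assoc] using this
  set t : T := ⟨⁅x, a⁆, hmemT⟩ with ht
  refine ⟨t, h3 (mem_centralizer_iff.mpr fun h hh => Subtype.ext ?_), rfl⟩
  have hxn : x ∈ normalizer ((H.map T.subtype : Subgroup G) : Set G) := hNH (le_normalizer hx)
  have hh' : (h : G) ∈ H.map T.subtype := mem_map_of_mem _ hh
  have h5 : x⁻¹ * h * x ∈ H.map T.subtype := by
    have := (mem_normalizer_iff.mp (inv_mem hxn) _).mp hh'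
    rwa [inv_inv] at this
  have c1 : Commute a (h : G) := (mem_centralizer_iff.mp (hAH ha) _ hh').symm
  have c2 : Commute a (x⁻¹ * h * x) := (mem_centralizer_iff.mp (hAH ha) _ h5).symm
  show (h : G) * ⁅x, a⁆ = ⁅x, a⁆ * h
  calc (h : G) * ⁅x, a⁆ = x * ((x⁻¹ * h * x) * a) * x⁻¹ * a⁻¹ := by rw [commutatorElement_def]; group
    _ = x * (a * (x⁻¹ * h * x)) * x⁻¹ * a⁻¹ := by rw [c2.eq]
    _ = x * a * x⁻¹ * (h * a⁻¹) := by group
    _ = x * a * x⁻¹ * (a⁻¹ * h) := by rw [c1.inv_left.eq]
    _ = ⁅x, a⁆ * h := by rw [commutatorElement_def]; group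

end Cfsg.Agent.OddLocal.FrobeniusFixGroup
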