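import Cfsg.Agent.OddLocal.PrimeActionBasic
import Cfsg.Agent.OddLocal.FrobeniusFixGroup

/-! Prime action on `M_σ` (BG 13.1–13.4). -/

set_option autoImplicit false
set_option linter.unusedSectionVars false

namespace Cfsg.Agent.OddLocal.PrimeAction

open Cfsg Subgroup
open scoped commutatorElement Pointwise
open TauTwo (Ctx Nab centralizer_zpowers centralizer_map_conj commute_of_not_beta mem_zpowers_of_cyclic)
open Cfsg.Agent.Transfer.Fusion (map_conj_mul card_map_conj map_conj_eq_self_iff map_conj_inv_cancel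
  map_conj_le_iff coe_smul_eq_map map_conj_one)

variable {G : Type*} [Group G] [Finite G] {M L : Subgroup G} {p q r : ℕ} [hp : Fact p.Prime]
  [hq : Fact q.Prime] [hr : Fact r.Prime]

theorem dvd_card_of_ne_bot {X : Subgroup G} (hX : IsPGroup q X) (hX1 : X ≠ ⊥) : q ∣ Nat.card X := by
  obtain ⟨n, hn⟩ := hX.exists_card_eq
  rcases n.eq_zero_or_pos with rfl | hn0
  · exact absurd (card_eq_one.mp (hn.trans (pow_zero q))) hX1
  · exact hn ▸ dvd_pow_self q hn0.ne'

theorem isPGroup_of_card {X : Subgroup G} (hX : Nat.card X = p) : IsPGroup p X :=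
  IsPGroup.of_card (n := 1) (by rw [hX, pow_one])

theorem ne_bot_of_card {X : Subgroup G} (hX : Nat.card X = p) : X ≠ ⊥ := fun e => by
  rw [e, card_bot] at hX
  exact hp.out.ne_one hX.symm

theorem exists_zpowers_eq {X : Subgroup G} (hX : Nat.card X = p) :
    ∃ x ∈ X, x ≠ 1 ∧ x ^ p = 1 ∧ zpowers x = X := by
  obtain ⟨x, hx, hx1⟩ := (bot_or_exists_ne_one X).resolve_left (ne_bot_of_card hX)
  have hxp : x ^ p = 1 := orderOf_dvd_iff_pow_eq_one.mp (hX ▸ X.orderOf_dvd_natCard hx)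
  exact ⟨x, hx, hx1, hxp, eq_of_le_of_card_ge (zpowers_le.mpr hx)
    (by rw [hX, Nat.card_zpowers, orderOf_eq_prime hxp hx1])⟩

theorem commutator_eq_bot_iff {X Y : Subgroup G} : ⁅X, Y⁆ = ⊥ ↔ Y ≤ centralizer (X : Set G) :=
  Coprime.commutator_eq_bot_iff_le_centralizer'

theorem coprime_pgroups (h : q ≠ p) {X Y : Subgroup G} (hX : IsPGroup q X) (hY : IsPGroup p Y) :
    (Nat.card X).Coprime (Nat.card Y) := by
  obtain ⟨m, hm⟩ := hX.exists_card_eq
  obtain ⟨n, hn⟩ := hY.exists_card_eq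
  rw [hm, hn]
  exact Nat.coprime_pow_primes m n hq.out hp.out h

/-- A cyclic `p`-subgroup at a prime of `τ₂(L)` centralises the `q`-subgroups of `L` it normalises. -/
theorem centralizes_tau2 (hG : IsMinSimpleOddOrder G) (hM : IsCoatom M) (hL : IsCoatom L)
    (hne : ∀ g : G, L ≠ M.map (MulAut.conj g).toMonoidHom) (hqM : q ∈ sigma M) (hqp : q ≠ p)
    (hτ : p ∈ tau2 L) {X : Subgroup G} (hX : Nat.card X = p) (hCX : centralizer (X : Set G) ≤ L)
    {S : Subgroup G} (hS : IsPGroup p S) (hSc : IsCyclic S) (hXS : X ≤ S) (hSL : S ≤ L) {Q : Subgroup G}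
    (hQ : IsPGroup q Q) (hQL : Q ≤ L) (hSQ : S ≤ normalizer (Q : Set G)) :
    S ≤ centralizer (Q : Set G) := by
  obtain ⟨E, hE, hSE⟩ := Compl.exists_compl_ge hG hL hSL fun s hs hd =>
    (show s = p from (Cores.isPi_iff_isPGroup S).mpr hS s hs hd) ▸ hτ.2.1
  obtain ⟨A, hAE, h⟩ := SigmaCompl.exists_ctx hG hL hE hτ
  rw [← commutator_eq_bot_iff]
  have hQle : ⁅Q, S⁆ ≤ Q := Coprime.commutator_le_of_le_normalizer hSQ
  by_cases hab : ∀ U : Sylow p G, IsMulCommutative (U : Subgroup G)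
  · obtain ⟨U, hAU⟩ := h.hA.isPGroup.exists_le_sylow
    obtain ⟨-, hUE, -⟩ := h.sylow_le_compl hab hE hAE U hAU
    have hEU := h.compl_le_normalizer_sylow hab hE hAE U hAU
    set W := sigmaCore L ⊔ (U : Subgroup G) with hW
    have hUN : (U : Subgroup G) ≤ normalizer (sigmaCore L : Set G) :=
      (hUE.trans hE.1).trans (Sigma.le_normalizer_sigmaCore L)
    have hLW : L ≤ normalizer (W : Set G) := fun m hm => by
      obtain ⟨e, he, k, hk, rfl⟩ := hE.2.2.2 m hm
      refine mul_mem ?_ (le_normalizer (mem_sup_left hk))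
      rw [← map_conj_eq_self_iff, hW, Subgroup.map_sup,
        map_conj_eq_self_iff.mpr (Sigma.le_normalizer_sigmaCore L (hE.1 he)),
        map_conj_eq_self_iff.mpr (hEU he)]
    have hSW : S ≤ W := by
      obtain ⟨k, hk, hle⟩ := Transfer.Fusion.exists_conj_le_of_isPGroup U (hUE.trans hE.1) hS hSL
      intro s hs
      have h1 : k * s * k⁻¹ ∈ W := mem_sup_right (hle ⟨s, hs, rfl⟩)
      exact (mem_normalizer_iff.mp (hLW hk) s).mpr h1
    by_contra hne'
    have hle : ⁅Q, S⁆ ≤ W := (commutator_mono le_rfl hSW).trans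
      (by rw [commutator_comm]; exact Coprime.commutator_le_of_le_normalizer (hQL.trans hLW))
    have hd : q ∣ Nat.card W := (dvd_card_of_ne_bot (hQ.to_le hQle) hne').trans (card_dvd_of_le hle)
    have hd2 := hd.trans (RegularMain.card_sup_dvd hUN)
    rcases hq.out.dvd_mul.mp hd2 with h1 | h1
    · obtain ⟨g, hg⟩ := conj_of_nilpotent hG hM hL hqM
        (Transitivity.isPi_piCoreOf (sigma L) L q hq.out h1) h.sigmaCore_nilpotent
      exact hne g hg
    · exact hqp ((Cores.isPi_iff_isPGroup (U : Subgroup G)).mpr U.isPGroup' q hq.out h1)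
  · have hnab : ∀ U : Sylow p G, ¬ IsMulCommutative (U : Subgroup G) := fun U hU => hab fun V =>
      ⟨⟨fun a b => (V.equiv U).injective (by rw [map_mul, map_mul]; exact hU.is_comm.comm _ _)⟩⟩
    obtain ⟨U, Z, s, hn⟩ := h.exists_nab hnab hE hAE
    obtain ⟨a, ha, ha1, haZ, hA₀, hothers⟩ := h.exists_center_line hn hE hAE
    obtain ⟨x, hx, hx1, hxp, hXx⟩ := exists_zpowers_eq hX
    have hxA : x ∈ A := h.mem_of_pow hE hAE (hSE (hXS hx)) hxp
    have hXa : zpowers a = X := by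
      have hxa : x ∈ zpowers a := by_contra fun hxa => (hothers x hxA hxa).2
        (by rw [← centralizer_zpowers, hXx]; exact hCX)
      rw [← hXx]
      exact (eq_of_le_of_card_ge (zpowers_le.mpr hxa)
        (by rw [h.hA.card_zpowers ha ha1, h.hA.card_zpowers hxA hx1])).symm
    have hXA : X ≤ A := hXa ▸ zpowers_le.mpr ha
    have hLX : L ≤ normalizer (X : Set G) := fun m hm => by
      obtain ⟨e, he, k, hk, rfl⟩ := hE.2.2.2 m hm
      rw [← hXa, ← hA₀]
      refine mul_mem ?_ (centralizer_le_normalizer _ ?_)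
      · exact inf_normalizer_le_normalizer_inf (mem_inf.mpr ⟨h.le_normalizer_compl hE hAE he,
          CharP.normalizer_le_normalizer_centralizer _ (Sigma.le_normalizer_sigmaCore L (hE.1 he))⟩)
      · exact mem_centralizer_iff.mpr fun y hy => (mem_centralizer_iff.mp (mem_inf.mp hy).2 k hk).symm
    have hSX : S = X := by
      obtain ⟨P, hAP, hPU⟩ := hn.PS
      obtain ⟨T₀, hT₀⟩ := (hS.comap_subtype (K := L)).exists_le_sylow
      obtain ⟨l, hl⟩ := MulAction.exists_smul_eq L T₀ P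
      set S' := S.map (MulAut.conj (l : G)).toMonoidHom with hS'
      have hS'P : S' ≤ (P : Subgroup L).map L.subtype := by
        rintro _ ⟨y, hy, rfl⟩
        refine ⟨l * ⟨y, hSL hy⟩ * l⁻¹, ?_, rfl⟩
        rw [← hl, coe_smul_eq_map]
        exact ⟨_, hT₀ hy, rfl⟩
      have hPA : (P : Subgroup L).map L.subtype ≤ centralizer (A : Set G) := by
        have := h.pgroup_comm (P.isPGroup'.map L.subtype) (map_subtype_le _)
        exact fun y hy => mem_centralizer_iff.mpr fun b hb => setLike_mul_comm (hAP hb) hy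
      have haS : a ∈ S' := by
        have h1 : X ≤ S' := by
          rw [← map_conj_eq_self_iff.mpr (hLX l.2)]
          exact map_mono hXS
        exact h1 (hXa ▸ mem_zpowers a)
      have h2 : S' ≤ X := hXa ▸ h.le_line hn (hS'P.trans hPU) (hS'P.trans hPA)
        (isCyclic_of_surjective _ (S.equivMapOfInjective _ (MulAut.conj (l : G)).injective).surjective)
        ha ha1 haS haZ
      refine (eq_of_le_of_card_ge hXS ?_).symm
      rw [← card_map_conj (g := (l : G)) (H := S)]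
      exact card_le_of_le h2
    subst hSX
    refine le_bot_iff.mp ((le_inf hQle ?_).trans
      (IsPGroup.disjoint_of_ne q p hqp Q S hQ hS).le_bot)
    rw [commutator_comm]
    exact Coprime.commutator_le_of_le_normalizer (hQL.trans hLX)

/-- BG 13.2(a). -/
theorem centralizes (hG : IsMinSimpleOddOrder G) (hM : IsCoatom M) (hL : IsCoatom L)
    (hpσ : p ∉ sigma M) (h1 : PRankLE p 1 M) {X : Subgroup G} (hX : Nat.card X = p)
    (hNX : normalizer (X : Set G) ≤ L) {S : Subgroup G} (hS : IsPGroup p S) (hSc : IsCyclic S)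
    (hXS : X ≤ S) (hqM : q ∈ sigma M) {Q : Subgroup G} (hQ : IsPGroup q Q) (hQL : Q ≤ L)
    (hSQ : S ≤ normalizer (Q : Set G)) : S ≤ centralizer (Q : Set G) := by
  have hne := not_conj hG hL hpσ h1 hX hNX
  have hqp : q ≠ p := fun e => hpσ (e ▸ hqM)
  have hCX : centralizer (X : Set G) ≤ L := (centralizer_le_normalizer _).trans hNX
  have hSL : S ≤ L := by
    have : IsMulCommutative S := IsCyclic.isMulCommutative
    exact le_trans (fun y hy => mem_centralizer_iff.mpr fun x hx => setLike_mul_comm (hXS hx) hy) hCX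
  rcases mem_sigma_or_tau2 hG hL hX hNX with hσ | hτ
  swap
  · exact centralizes_tau2 hG hM hL hne hqM hqp hτ hX hCX hS hSc hXS hSL hQ hQL hSQ
  rw [← commutator_eq_bot_iff]
  by_contra hY1
  have hSK : S ≤ sigmaCore L := Sigma.sylow_le_sigmaCore hG hL hσ hS hSL
  have hYQ : ⁅Q, S⁆ ≤ Q := Coprime.commutator_le_of_le_normalizer hSQ
  have hYK : ⁅Q, S⁆ ≤ sigmaCore L := (commutator_mono le_rfl hSK).trans
    (by rw [commutator_comm]
        exact Coprime.commutator_le_of_le_normalizer (hQL.trans (Sigma.le_normalizer_sigmaCore L)))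
  have hYY : ⁅Q, S⁆ ≤ ⁅sigmaCore L, sigmaCore L⁆ := by
    rw [← Coprime.commutator_commutator_eq hSQ (coprime_pgroups hqp hQ hS).symm
      (Or.inl (Coprime.isSolvable_of_isPGroup hS))]
    exact commutator_mono hYK hSK
  exact not_dvd_commutator hG hM hL hne hqM (Transitivity.isPi_piCoreOf (sigma L) L q hq.out
    ((dvd_card_of_ne_bot (hQ.to_le hYQ) hY1).trans (card_dvd_of_le hYK))) (hQ.to_le hYQ) hY1 hYY

/-- The `p`-part at a prime of `β(L)`. -/
theorem frob (hG : IsMinSimpleOddOrder G) (hL : IsCoatom L) (hβ : p ∈ beta L) (hrσ : r ∉ sigma L)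
    (hrτ : r ∉ tau2 L) (hqp : q ≠ p) (hrp : r ≠ p) {P R Y T : Subgroup G} (hP : Nat.card P = p)
    (hR : Nat.card R = r) (hRL : R ≤ L) (hRP : R ≤ centralizer (P : Set G))
    (hY : IsPGroup q Y) (hYP : Y ≤ centralizer (P : Set G)) (hRY : R ≤ normalizer (Y : Set G))
    (hfpf : ∀ y ∈ Y, y ∈ centralizer (R : Set G) → y = 1) (hT : IsPGroup p T) (hPT : P ≤ T)
    (hYT : Y ≤ normalizer (T : Set G)) (hRT : R ≤ normalizer (T : Set G)) :
    Y ≤ centralizer (T : Set G) := by
  obtain ⟨H, hH, hNR⟩ := exists_normalizer_le hG (ne_bot_of_card hR) hRL hL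
  have hCH : centralizer (R : Set G) ≤ H := (centralizer_le_normalizer _).trans hNR
  have hpH : p ∉ sigma H := fun h => by
    obtain ⟨g, hg⟩ := conj_of_rankThree hG hL hH hβ.1.2 (rank_of_sigma h hβ.1.2)
    rcases mem_sigma_or_tau2 hG hH hR hNR with h1 | h1
    · exact hrσ (sigma_of_map (hg ▸ h1))
    · exact hrτ ⟨hr.out, hrσ, SigmaCompl.rank_le hG hL hr.out hrσ, pRank_of_map (hg ▸ h1.2.2.2)⟩
  have hH1 : PRankLE p 1 H := by_contra fun h =>
    (S1408.result hG H hH p hpH (SigmaCompl.rank_le hG hH hp.out hpH) h).1 hβ.2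
  obtain ⟨C, hCT, hCexp, hNC, hdet⟩ := FrobeniusFixGroup.exists_exponent_sub
    (Unique.ne_two hG ((dvd_card_of_ne_bot hT fun e => ne_bot_of_card hP (le_bot_iff.mp (e ▸ hPT))).trans
      (card_dvd_of_le le_rfl))) hT
  refine hdet Y hYT ?_ ?_
  · obtain ⟨n, hn⟩ := hY.exists_card_eq
    rw [hn]
    exact ((Nat.coprime_primes hq.out hp.out).mpr hqp).pow_left n
  obtain ⟨e, he, -, her, hRe⟩ := exists_zpowers_eq hR
  obtain ⟨u, hu, hu1, hup, -⟩ := exists_zpowers_eq hP
  have hCp : IsPGroup p C := hT.to_le hCT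
  refine FrobeniusFixGroup.le_centralizer_of_fpf her (hRY he)
    (fun y hy hey => hfpf y hy (hRe ▸ ?_)) (Coprime.isSolvable_of_isPGroup hCp)
    (hR ▸ coprime_pgroups (p := r) (q := p) hrp.symm hCp (isPGroup_of_card hR))
    (coprime_pgroups (p := q) (q := p) hqp.symm hCp hY) (hNC (hRT he)) (hYT.trans hNC) ?_
  · exact centralizer_zpowers e ▸ mem_centralizer_singleton_iff.mpr hey.symm.eq
  intro x hx hex y hy
  have hxH : x ∈ H := hCH (hRe ▸ centralizer_zpowers e ▸ mem_centralizer_singleton_iff.mpr hex.symm.eq)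
  have huH : u ∈ H := hCH ((le_centralizer_iff.mp hRP) hu)
  have hxu : x ∈ zpowers u := mem_zpowers_of_cyclic
    (Compl.isCyclic_of_rankOne hG hH1 (hT.to_le (inf_le_left : T ⊓ H ≤ T)) inf_le_right)
    (mem_inf.mpr ⟨hPT hu, huH⟩) (mem_inf.mpr ⟨hCT hx, hxH⟩) (orderOf_eq_prime hup hu1) (hCexp x hx)
  exact (mem_centralizer_iff.mp (hYP hy) x ((zpowers_le.mpr hu) hxu)).symm

/-- Two primes of `τ₂(H)`: a line of `M` at one of them forces rank two in `M` at the other. -/
theorem rank_of_two_tau2 (hG : IsMinSimpleOddOrder G) (hM : IsCoatom M) {H A : Subgroup G}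
    (h : Ctx q A H) (hAM : A ≤ M) (hpH : p ∈ tau2 H) (hqp : q ≠ p) : ¬ PRankLE p 1 M := by
  obtain ⟨E, hE, hAE⟩ := Compl.exists_compl_ge h.hG h.hM h.hAM fun s hs hd =>
    (show s = q from (Cores.isPi_iff_isPGroup A).mpr h.hA.isPGroup s hs hd) ▸ h.hσ
  obtain ⟨B, hBE, h'⟩ := SigmaCompl.exists_ctx h.hG h.hM hE hpH
  have hAB : ⁅A, B⁆ = ⊥ := by
    refine le_bot_iff.mp (le_trans (le_inf ?_ ?_)
      (IsPGroup.disjoint_of_ne q p hqp A B h.hA.isPGroup h'.hA.isPGroup).le_bot)
    · exact Coprime.commutator_le_of_le_normalizer (hBE.trans (h.le_normalizer_compl hE hAE))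
    · rw [commutator_comm]
      exact Coprime.commutator_le_of_le_normalizer (hAE.trans (h'.le_normalizer_compl hE hBE))
  exact Unique.not_pRankLE_of_elementary ((commutator_eq_bot_iff.mp hAB).trans
    (S1416.result hG M hM q A ⟨hAM, h.hA.el, h.hA.card⟩).1) h'.hA.el h'.hA.card.ge

/-- The Frattini argument: `T ≤ H'`. -/
theorem le_commutator_of_frattini (hG : IsMinSimpleOddOrder G) {H : Subgroup G} (S : Sylow p G)
    (hSH : (S : Subgroup G) ≤ H)
    (hfr : ∀ v ∈ normalizer ((S : Subgroup G) : Set G), ∃ c ∈ centralizer ((S : Subgroup G) : Set G),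
      c⁻¹ * v ∈ H) : (S : Subgroup G) ≤ ⁅H, H⁆ := by
  set N := normalizer ((S : Subgroup G) : Set G) with hN
  have hn : ((S : Subgroup G).subgroupOf N).Normal :=
    (normal_subgroupOf_iff_le_normalizer le_normalizer).mpr le_rfl
  have hcop : (Nat.card ((S : Subgroup G).subgroupOf N)).Coprime ((S : Subgroup G).subgroupOf N).index := by
    obtain ⟨n, hn⟩ := S.isPGroup'.exists_card_eq
    rw [Nat.card_congr (subgroupOfEquivOfLe (le_normalizer (H := (S : Subgroup G)))).toEquiv, hn]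
    exact (hp.out.coprime_iff_not_dvd.mpr fun hd => S.not_dvd_index
      (hd.trans (relIndex_dvd_index_of_normal_aux S le_normalizer))).pow_left n
  obtain ⟨K, hK⟩ := exists_right_complement'_of_coprime hcop
  have hV : IsComplIn (S : Subgroup G) (K.map N.subtype) N := by
    refine ⟨le_normalizer, map_subtype_le _, ?_, fun m hm => ?_⟩
    · refine eq_bot_iff.mpr fun x hx => ?_
      obtain ⟨hxS, k, hk, rfl⟩ := mem_inf.mp hx
      have := mem_bot.mp (hK.disjoint.le_bot (mem_inf.mpr ⟨mem_subgroupOf.mpr hxS, hk⟩))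
      simp [this]
    · obtain ⟨⟨s, k⟩, e, -⟩ := hK.existsUnique ⟨m, hm⟩
      exact ⟨_, mem_subgroupOf.mp s.2, _, ⟨k, k.2, rfl⟩, (congrArg Subtype.val e).symm⟩
  refine (S1411.result hG p S _ hV).1.le.trans (commutator_le.mpr fun t ht v hv => ?_)
  obtain ⟨c, hc, hh⟩ := hfr v (map_subtype_le _ hv)
  have hcN : c ∈ N := centralizer_le_normalizer _ hc
  have hmem : ⁅t, c⁻¹ * v⁆ ∈ (S : Subgroup G) := by
    have h1 := mul_mem ht ((mem_normalizer_iff.mp (mul_mem (inv_mem hcN) (map_subtype_le _ hv)) _).mp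
      (inv_mem ht))
    simpa [commutatorElement_def, mul_assoc] using h1
  have e1 : ⁅t, v⁆ = ⁅t, c⁻¹ * v⁆ := by
    have h2 : Commute c ⁅t, c⁻¹ * v⁆ := (mem_centralizer_iff.mp hc _ hmem).symm
    have h3 : Commute c t := (mem_centralizer_iff.mp hc _ ht).symm
    have h4 : ⁅t, v⁆ = c * ⁅t, c⁻¹ * v⁆ * c⁻¹ := by
      simp only [commutatorElement_def]
      calc t * v * t⁻¹ * v⁻¹ = (t * c) * (c⁻¹ * v) * t⁻¹ * (c⁻¹ * v)⁻¹ * c⁻¹ := by group
        _ = (c * t) * (c⁻¹ * v) * t⁻¹ * (c⁻¹ * v)⁻¹ * c⁻¹ := by rw [h3.eq]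
        _ = _ := by group
    rw [h4, h2.eq, mul_inv_cancel_right]
  rw [e1]
  exact commutator_mem_commutator (hSH ht) hh
where
  relIndex_dvd_index_of_normal_aux (S : Sylow p G) {N : Subgroup G} (h : (S : Subgroup G) ≤ N) :
      ((S : Subgroup G).subgroupOf N).index ∣ (S : Subgroup G).index :=
    ⟨N.index, (relIndex_mul_index h).symm⟩

/-- BG 13.4 off `σ(L)`. -/
theorem key (hG : IsMinSimpleOddOrder G) (hM : IsCoatom M) (hpM : ¬ p ∣ Nat.card ↥⁅M, M⁆)
    (hpσ : p ∉ sigma M) (h1 : PRankLE p 1 M) {P R Y : Subgroup G} (hPM : P ≤ M) (hP : Nat.card P = p)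
    (hR : Nat.card R = r) (hrσM : r ∉ sigma M) (hRP : R ≤ centralizer (P : Set G)) (hY : IsPGroup q Y)
    (hYK : Y ≤ sigmaCore M) (hYP : Y ≤ centralizer (P : Set G)) (hRY : R ≤ normalizer (Y : Set G))
    (hYR : ⁅Y, R⁆ = Y) (hY1 : Y ≠ ⊥) (hL : IsCoatom L) (hNP : normalizer (P : Set G) ≤ L)
    (hqL : q ∉ sigma L) : False := by
  have hqM : q ∈ sigma M := Transitivity.isPi_piCoreOf (sigma M) M q hq.out
    ((dvd_card_of_ne_bot hY hY1).trans (card_dvd_of_le hYK))
  have hqp : q ≠ p := fun e => hpσ (e ▸ hqM)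
  have hqr : q ≠ r := fun e => hrσM (e ▸ hqM)
  have hne := not_conj hG hL hpσ h1 hP hNP
  have hCP : centralizer (P : Set G) ≤ L := (centralizer_le_normalizer _).trans hNP
  have hPL : P ≤ L := le_normalizer.trans hNP
  have hRL := hRP.trans hCP
  have hYL := hYP.trans hCP
  have hrσ : r ∉ sigma L := fun h => hqL (Transitivity.isPi_piCoreOf (sigma L) L q hq.out
    ((dvd_card_of_ne_bot hY hY1).trans (card_dvd_of_le (by
      rw [← hYR]
      exact (commutator_mono le_rfl (Sigma.sylow_le_sigmaCore hG hL h (isPGroup_of_card hR) hRL)).trans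
        (by rw [commutator_comm]
            exact Coprime.commutator_le_of_le_normalizer (hYL.trans (Sigma.le_normalizer_sigmaCore L)))))))
  have hUcard : ∀ s : ℕ, s.Prime → s ∣ Nat.card (Y ⊔ R : Subgroup G) → s = q ∨ s = r := fun s hs hd => by
    rcases hs.dvd_mul.mp (hd.trans (RegularMain.card_sup_dvd hRY)) with h | h
    · exact Or.inl ((Cores.isPi_iff_isPGroup Y).mpr hY s hs h)
    · exact Or.inr ((Nat.prime_dvd_prime_iff_eq hs hr.out).mp (hR ▸ h))
  obtain ⟨E, hE, hUE⟩ := Compl.exists_compl_ge hG hL (sup_le hYL hRL) fun s hs hd => by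
    rcases hUcard s hs hd with rfl | rfl
    · exact hqL
    · exact hrσ
  have hYE : Y ≤ ⁅E, E⁆ := by
    rw [← hYR]; exact commutator_mono (le_sup_left.trans hUE) (le_sup_right.trans hUE)
  -- an element of order `q`
  obtain ⟨y₀, hy₀⟩ := exists_prime_orderOf_dvd_card' q (dvd_card_of_ne_bot hY hY1)
  set y : G := (y₀ : G) with hydef
  have hy : y ∈ Y := y₀.2
  have hyo : orderOf y = q := by rw [hydef, orderOf_coe, hy₀]
  have hyp : y ^ q = 1 := hyo ▸ pow_orderOf_eq_one y
  have hy1 : y ≠ 1 := fun e => hq.out.ne_one (by rw [← hyo, e, orderOf_one])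
  have hyM : y ∈ M := Sigma.sigmaCore_le M (hYK hy)
  have hYc : Nat.card (zpowers y) = q := by rw [Nat.card_zpowers, hyo]
  obtain ⟨H, hH, hNY⟩ := exists_normalizer_le hG (ne_bot_of_card hYc) (zpowers_le.mpr hyM) hM
  have hCy : centralizer ({y} : Set G) ≤ H :=
    centralizer_zpowers y ▸ (centralizer_le_normalizer _).trans hNY
  have hyH : y ∈ H := hNY (le_normalizer (mem_zpowers y))
  have hPy : P ≤ centralizer ({y} : Set G) :=
    (le_centralizer_iff.mp hYP).trans (Subgroup.centralizer_le (Set.singleton_subset_iff.mpr hy))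
  have hPH : P ≤ H := hPy.trans hCy
  have hA' : q ∈ tau2 H → ∃ A : Subgroup G, A ≤ M ∧ A ≤ centralizer ({y} : Set G) ∧ Ctx q A H := fun hτ => by
    obtain ⟨A, hAM, hAe, hAc, hAy⟩ := exists_elementary (rank_of_sigma hqM hτ.2.2.2) hyM hyp hy1
    exact ⟨A, hAM, hAy, Ctx.mk' hG hH hτ (hAy.trans hCy) hAe hAc⟩
  rcases mem_sigma_or_tau2 hG hL hP hNP with hpL | hτ
  swap
  · -- `p ∈ τ₂(L)`
    obtain ⟨A, hAE, h⟩ := SigmaCompl.exists_ctx hG hL hE hτ
    have hYA : Y ≤ centralizer (A : Set G) := fun z hz => by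
      refine centralizes_elementary hG h.hA.el h.hA.card
        (commutator_mono (h.le_normalizer_compl hE hAE) (h.le_normalizer_compl hE hAE) (hYE hz)) ?_
      obtain ⟨n, hn⟩ := hY.exists_card_eq
      exact Nat.Coprime.coprime_dvd_left (hn ▸ Y.orderOf_dvd_natCard hz)
        (((Nat.coprime_primes hq.out hp.out).mpr hqp).pow_left n)
    have hAy : A ≤ centralizer ({y} : Set G) :=
      (le_centralizer_iff.mp hYA).trans (Subgroup.centralizer_le (Set.singleton_subset_iff.mpr hy))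
    have hAH : A ≤ H := hAy.trans hCy
    have hH2 : ¬ PRankLE p 1 H := Unique.not_pRankLE_of_elementary hAH h.hA.el h.hA.card.ge
    have hne1 : ∀ g : G, H ≠ M.map (MulAut.conj g).toMonoidHom := fun g e => pRank_of_map (e ▸ hH2) h1
    rcases mem_sigma_or_tau2 hG hH hYc hNY with hqH | hqτ
    · by_cases hpH : p ∈ sigma H
      · have hd : p ∣ Nat.card ↥⁅H, H⁆ := h.hA.dvd_card.trans (card_dvd_of_le
          ((Sigma.sylow_le_sigmaCore hG hH hpH h.hA.isPGroup hAH).trans (Sigma.sigmaCore_le_commutator hG hH)))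
        exact (S1408.result hG L hL p hτ.2.1 hτ.2.2.1 hτ.2.2.2).1 (mem_beta hG hM hH hne1 hqM hqH hpM h1 hd).2
      · have h' : Ctx p A H := Ctx.mk' hG hH ⟨hp.out, hpH, SigmaCompl.rank_le hG hH hp.out hpH, hH2⟩ hAH
          h.hA.el h.hA.card
        have : y ∈ sigmaCore H ⊓ centralizer (A : Set G) := mem_inf.mpr
          ⟨Sigma.sylow_le_sigmaCore hG hH hqH (isPGroup_of_card hYc) (zpowers_le.mpr hyH) (mem_zpowers y),
            hYA hy⟩
        rw [h'.inf_centralizer, mem_bot] at this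
        exact hy1 this
    · obtain ⟨A', hA'M, -, h'⟩ := hA' hqτ
      have hHM : H ≠ M := fun e => hne1 1 (by rw [e, map_conj_one])
      have hsig := h'.sigma_inf hM hHM.symm hA'M
      by_cases hpH : p ∈ sigma H
      · exact ne_bot_of_card hP (le_bot_iff.mp (hsig ▸ le_inf
          (Sigma.sylow_le_sigmaCore hG hH hpH (isPGroup_of_card hP) hPH) hPM))
      · exact rank_of_two_tau2 hG hM h' hA'M
          ⟨hp.out, hpH, SigmaCompl.rank_le hG hH hp.out hpH, hH2⟩ hqp h1
  -- `p ∈ σ(L)`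
  have hrp : r ≠ p := fun e => hrσ (e ▸ hpL)
  have hPK : P ≤ sigmaCore L := Sigma.sylow_le_sigmaCore hG hL hpL (isPGroup_of_card hP) hPL
  obtain ⟨u, hu, hu1, -, -⟩ := exists_zpowers_eq hP
  have hfixP : ∀ {a : G}, P ≤ centralizer ({a} : Set G) → sigmaCore L ⊓ centralizer ({a} : Set G) ≠ ⊥ :=
    fun {a} ha e => hu1 (mem_bot.mp (e ▸ mem_inf.mpr ⟨hPK hu, ha hu⟩))
  have hrτ : r ∉ tau2 L := fun hτ => by
    obtain ⟨A, hAE, h⟩ := SigmaCompl.exists_ctx hG hL hE hτ
    obtain ⟨e, he, he1, her, hRe⟩ := exists_zpowers_eq hR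
    have heA : e ∈ A := h.mem_of_pow hE hAE (hUE (mem_sup_right he)) her
    have hCR : centralizer (R : Set G) ≤ L := by
      rw [← hRe, centralizer_zpowers]
      refine h.good_centralizer_le h.good_sigma heA he1 (hfixP ?_)
      rw [← centralizer_zpowers, hRe]
      exact le_centralizer_iff.mp hRP
    refine hY1 ?_
    rw [← hYR, commutator_eq_bot_iff]
    exact centralizes_tau2 hG hM hL hne hqM hqr hτ hR hCR (isPGroup_of_card hR)
      (isCyclic_of_prime_card hR) le_rfl hRL hY hYL hRY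
  have hq1 : PRankLE q 1 L := by_contra fun h2 => by
    obtain ⟨A, hAE, h⟩ := SigmaCompl.exists_ctx hG hL hE ⟨hq.out, hqL, SigmaCompl.rank_le hG hL hq.out hqL, h2⟩
    have hyA : y ∈ A := h.mem_of_pow hE hAE (hUE (mem_sup_left hy)) hyp
    have hCyL := h.good_centralizer_le h.good_sigma hyA hy1 (hfixP hPy)
    obtain ⟨A', hA'M, hA'e, hA'c, hA'y⟩ := exists_elementary (rank_of_sigma hqM h2) hyM hyp hy1
    have h' : Ctx q A' L := Ctx.mk' hG hL h.hτ (hA'y.trans hCyL) hA'e hA'c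
    have hLM : M ≠ L := fun e => hne 1 (by rw [e, map_conj_one])
    exact hu1 (mem_bot.mp (h'.sigma_inf hM hLM hA'M ▸ mem_inf.mpr ⟨hPK hu, hPM hu⟩))
  have hYcyc : IsCyclic Y := Compl.isCyclic_of_rankOne hG hq1 hY hYL
  have : IsMulCommutative Y := IsCyclic.isMulCommutative
  have hfpf : ∀ z ∈ Y, z ∈ centralizer (R : Set G) → z = 1 := fun z hz hzR => by
    have h2 := Coprime.inf_centralizer_inf_commutator hRY
      (coprime_pgroups hqr hY (isPGroup_of_card hR)).symm
    rw [hYR] at h2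
    exact mem_bot.mp (h2 ▸ mem_inf.mpr ⟨mem_inf.mpr ⟨hz, hzR⟩, hz⟩)
  -- an invariant Sylow subgroup of `L_σ` over `P`
  set K := sigmaCore L with hK
  have hUK : Y ⊔ R ≤ normalizer (K : Set G) := (sup_le hYL hRL).trans (Sigma.le_normalizer_sigmaCore L)
  have hcop : (Nat.card (Y ⊔ R : Subgroup G)).Coprime (Nat.card K) := Nat.coprime_of_dvd fun s hs hd1 hd2 => by
    have hσ := Transitivity.isPi_piCoreOf (sigma L) L s hs hd2
    rcases hUcard s hs hd1 with rfl | rfl
    · exact hqL hσ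
    · exact hrσ hσ
  obtain ⟨T₀, hPT, hUT⟩ := Coprime.exists_invariant_sylow_ge hUK hcop
    (Or.inl (Coprime.isSolvable_of_le (sup_le hYL hRL) (Transitivity.isSolvable_of_ne_top hG hL.1)))
    hPK (isPGroup_of_card hP) ((sup_le hYP hRP).trans (centralizer_le_normalizer _))
  set T := (T₀ : Subgroup K).map K.subtype with hT
  have hTK : T ≤ K := map_subtype_le _
  have hTL : T ≤ L := hTK.trans (Sigma.sigmaCore_le L)
  have hTp : IsPGroup p T := T₀.isPGroup'.map _
  have hYT : Y ≤ normalizer (T : Set G) := le_sup_left.trans hUT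
  have hYC : Y ≤ centralizer (T : Set G) := by
    by_cases hβ : p ∈ beta L
    · exact frob hG hL hβ hrσ hrτ hqp hrp hP hR hRL hRP hY hYP hRY hfpf hTp hPT hYT
        (le_sup_right.trans hUT)
    · exact le_centralizer_iff.mp (le_centralizer_of_not_beta hG hL hqp hβ hTp hY
        (hTK.trans (Sigma.sigmaCore_le_commutator hG hL))
        (hYE.trans (commutator_mono hE.1 hE.1)) hYT)
  have hidx : ¬ p ∣ T.index := by
    rw [hT, index_map_subtype]
    exact fun hd => (hp.out.dvd_mul.mp hd).elim T₀.not_dvd_index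
      ((Sigma.sigmaCore_hall hG hL).2.2 p hp.out hpL)
  set S : Sylow p G := hTp.toSylow hidx with hS
  have hSH : (S : Subgroup G) ≤ H := le_trans (fun t ht => mem_centralizer_singleton_iff.mpr
    (mem_centralizer_iff.mp (hYC hy) t ht)) hCy
  have hCT : centralizer (T : Set G) ≤ L := (Subgroup.centralizer_le hPT).trans hCP
  obtain ⟨Q₀, hyQ⟩ := ((isPGroup_of_card (p := q) hYc).comap_subtype
    (K := centralizer (T : Set G))).exists_le_sylow
  set Qs := (Q₀ : Subgroup (centralizer (T : Set G))).map (centralizer (T : Set G)).subtype with hQs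
  have hyQs : zpowers y ≤ Qs := fun z hz =>
    ⟨⟨z, (zpowers_le.mpr (hYC hy)) hz⟩, hyQ hz, rfl⟩
  have hNQ : normalizer (Qs : Set G) ≤ H := (SigmaSub.normalizer_le_of_cyclic
    (Compl.isCyclic_of_rankOne hG hq1 (Q₀.isPGroup'.map _) ((map_subtype_le _).trans hCT)) hyQs).trans hNY
  have hTH' : (S : Subgroup G) ≤ ⁅H, H⁆ := le_commutator_of_frattini hG S hSH fun v hv => by
    set Q' := Qs.map (MulAut.conj v).toMonoidHom with hQ'
    have hvC : v ∈ normalizer ((centralizer (T : Set G) : Subgroup G) : Set G) :=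
      CharP.normalizer_le_normalizer_centralizer T hv
    have hQ'C : Q' ≤ centralizer (T : Set G) := (map_mono (map_subtype_le _)).trans
      (map_conj_eq_self_iff.mpr hvC).le
    have hQ'p : IsPGroup q (Q'.subgroupOf (centralizer (T : Set G))) :=
      ((Q₀.isPGroup'.map _).map _).comap_subtype
    obtain ⟨Q₁, hQ₁⟩ := hQ'p.exists_le_sylow
    obtain ⟨c, hc⟩ := MulAction.exists_smul_eq (centralizer (T : Set G)) Q₀ Q₁
    refine ⟨(c : G), c.2, hNQ (map_conj_eq_self_iff.mp ?_)⟩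
    have h1 : Q'.subgroupOf (centralizer (T : Set G)) = (Q₁ : Subgroup (centralizer (T : Set G))) := by
      refine eq_of_le_of_card_ge hQ₁ (le_of_eq ?_)
      rw [Nat.card_congr (subgroupOfEquivOfLe hQ'C).toEquiv, hQ', card_map_conj, hQs,
        card_map_of_injective (centralizer (T : Set G)).subtype_injective, Q₀.card_eq_multiplicity,
        Q₁.card_eq_multiplicity]
    have h2 : Q' = Qs.map (MulAut.conj (c : G)).toMonoidHom := by
      rw [← map_subgroupOf_eq_of_le hQ'C, h1, ← hc, coe_smul_eq_map, hQs, Subgroup.map_map,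
        Subgroup.map_map]
      rfl
    rw [map_conj_mul, ← hQ', h2, map_conj_inv_cancel]
  have hdvd : p ∣ Nat.card ↥⁅H, H⁆ :=
    (dvd_card_of_ne_bot hTp fun e => ne_bot_of_card hP (le_bot_iff.mp (e ▸ hPT))).trans (card_dvd_of_le hTH')
  have hne1 : ∀ g : G, H ≠ M.map (MulAut.conj g).toMonoidHom := fun g e => hpM (by
    rw [e, ← Subgroup.map_commutator, card_map_conj] at hdvd; exact hdvd)
  rcases mem_sigma_or_tau2 hG hH hYc hNY with hqH | hqτ
  · have hβ := mem_beta hG hM hH hne1 hqM hqH hpM h1 hdvd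
    obtain ⟨g, hg⟩ := conj_of_rankThree hG hL hH (rank_of_sigma hpL hβ.1.2) hβ.1.2
    exact hqL (sigma_of_map (hg ▸ hqH))
  obtain ⟨A', hA'M, -, h'⟩ := hA' hqτ
  have hsig := h'.sigma_inf hM (fun e => hne1 1 (by rw [← e, map_conj_one])) hA'M
  have hpH : p ∉ sigma H := fun h => ne_bot_of_card hP (le_bot_iff.mp (hsig ▸ le_inf
    (Sigma.sylow_le_sigmaCore hG hH h (isPGroup_of_card hP) hPH) hPM))
  obtain ⟨E₁, hE₁, hA'E⟩ := Compl.exists_compl_ge hG hH h'.hAM fun s hs hd =>
    (show s = q from (Cores.isPi_iff_isPGroup A').mpr h'.hA.isPGroup s hs hd) ▸ h'.hσ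
  obtain ⟨m, hm, hle⟩ := Compl.exists_conj_le hG hH hE₁ hPH fun s hs hd =>
    ((Nat.prime_dvd_prime_iff_eq hs hp.out).mp (hP ▸ hd)) ▸ hpH
  set P' := P.map (MulAut.conj m).toMonoidHom with hP'
  have hP'C : P' ≤ centralizer (A' : Set G) := by
    intro z hz
    have hzc : z ∈ ⁅H, H⁆ := by
      obtain ⟨z₀, hz₀, rfl⟩ := hz
      exact (mem_normalizer_iff.mp (Coprime.le_normalizer_commutator_self le_normalizer
        (Sigma.sigmaCore_le H hm)) _).mp (hTH' (hPT hz₀))
    have hzE : z ∈ ⁅E₁, E₁⁆ := Compl.inf_commutator hE₁ ▸ mem_inf.mpr ⟨hle hz, hzc⟩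
    refine centralizes_elementary hG h'.hA.el h'.hA.card
      (commutator_mono (h'.le_normalizer_compl hE₁ hA'E) (h'.le_normalizer_compl hE₁ hA'E) hzE) ?_
    have hzp : orderOf z ∣ p := hP ▸ card_map_conj (g := m) (H := P) ▸ P'.orderOf_dvd_natCard hz
    exact Nat.Coprime.coprime_dvd_left hzp ((Nat.coprime_primes hp.out hq.out).mpr hqp.symm)
  have hA'L : A' ≤ L.map (MulAut.conj m).toMonoidHom := by
    refine (le_centralizer_iff.mp hP'C).trans ?_
    intro z hz
    refine ⟨m⁻¹ * z * m, hCP (mem_centralizer_iff.mpr fun x hx => ?_), by simp [mul_assoc]⟩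
    have h2 : m * x * m⁻¹ * z = z * (m * x * m⁻¹) :=
      mem_centralizer_iff.mp hz _ (show m * x * m⁻¹ ∈ P' from ⟨x, hx, rfl⟩)
    calc x * (m⁻¹ * z * m) = m⁻¹ * (m * x * m⁻¹ * z) * m := by group
      _ = m⁻¹ * (z * (m * x * m⁻¹)) * m := by rw [h2]
      _ = _ := by group
  exact pRank_of_map (Unique.not_pRankLE_of_elementary hA'L h'.hA.el h'.hA.card.ge) hq1

end Cfsg.Agent.OddLocal.PrimeAction
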