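import Mathlib

/-! Lifting an eigenvector of a coprime action on an abelian `p`-group to an invariant cyclic subgroup
of maximal order. -/

set_option autoImplicit false

namespace Cfsg.Agent.OddLocal.EigenLift

open Subgroup
open scoped IsMulCommutative

variable {G : Type*} [Group G] [Finite G] {p : ℕ} [hp : Fact p.Prime]

theorem exists_eigen {P H U : Subgroup G} [IsMulCommutative P] {j : ℕ}
    (hexp : ∀ x ∈ P, x ^ p ^ (j + 1) = 1) (hHP : H ≤ normalizer (P : Set G))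
    (hHU : H ≤ normalizer (U : Set G)) (hcop : ¬ p ∣ Nat.card H) {x : G} (hx : x ∈ P)
    (hl : x ^ p ^ j ∉ U)
    (heig : ∀ g ∈ H, ∃ n : ℤ, g * x ^ p ^ j * g⁻¹ * ((x ^ p ^ j) ^ n)⁻¹ ∈ U) :
    ∃ y ∈ P, orderOf y = p ^ (j + 1) ∧ H ≤ normalizer (zpowers y : Set G) ∧ y ^ p ^ j ∉ U ∧
      ∃ i : ℤ, y ^ p ^ j * ((x ^ p ^ j) ^ i)⁻¹ ∈ U := by
  classical
  have : Fintype H := Fintype.ofFinite H
  let ψ : H →* MulAut P := P.normalizerMonoidHom.comp (inclusion hHP)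
  have hψ : ∀ (g : H) (z : P), ((ψ g z : P) : G) = g * z * (g : G)⁻¹ := fun g z => rfl
  set U' : Subgroup P := U.subgroupOf P with hU'
  let π : P →* P ⧸ U' := QuotientGroup.mk' U'
  set x' : P := ⟨x, hx⟩ with hx'
  set l : P := x' ^ p ^ j with hl'
  choose n hn using fun g : H => heig g g.2
  have hπ : ∀ g : H, π (ψ g l) = π l ^ n g := fun g => by
    rw [← map_zpow, eq_comm, ← mul_inv_eq_one, ← map_inv, ← map_mul]
    have h1 : (ψ g l * (l ^ n g)⁻¹) ∈ U' := by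
      rw [hU', mem_subgroupOf]
      push_cast
      rw [hψ]
      exact hn g
    have h2 := (QuotientGroup.eq_one_iff _).mpr (inv_mem h1)
    rw [mul_inv_rev, inv_inv] at h2
    exact h2
  have hlne : π l ≠ 1 := fun hh => hl (by
    have := mem_subgroupOf.mp ((QuotientGroup.eq_one_iff l).mp hh)
    simpa [hl', hx'] using this)
  have hlp : π l ^ p = 1 := by
    rw [← map_pow, hl', ← pow_mul, ← pow_succ, show x' ^ p ^ (j + 1) = 1 from Subtype.ext (hexp x hx), map_one]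
  have hord : orderOf (π l) = p := orderOf_eq_prime hlp hlne
  have hUinv : ∀ (g : H) (z : P), z ∈ U' → ψ g z ∈ U' := fun g z hz => by
    rw [hU', mem_subgroupOf, hψ]
    exact (mem_normalizer_iff.mp (hHU g.2) _).mp (mem_subgroupOf.mp hz)
  have hmul : ∀ g h : H, (p : ℤ) ∣ n (g * h) - n g * n h := fun g h => by
    rw [← hord, orderOf_dvd_iff_zpow_eq_one, zpow_sub, mul_inv_eq_one, ← hπ, map_mul, MulAut.mul_apply]
    have h1 : l ^ (-n h) * ψ h l ∈ U' := (QuotientGroup.eq_one_iff _).mp (by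
      show π (l ^ (-n h) * ψ h l) = 1
      rw [map_mul, map_zpow, hπ, ← zpow_add, neg_add_cancel, zpow_zero])
    have h2 : π (ψ g (l ^ (-n h) * ψ h l)) = 1 := (QuotientGroup.eq_one_iff _).mpr (hUinv g _ h1)
    rw [map_mul, map_mul, map_zpow, map_zpow, hπ, ← zpow_mul, mul_neg, zpow_neg, inv_mul_eq_one] at h2
    exact h2.symm
  have hone : (p : ℤ) ∣ n 1 - 1 := by
    rw [← hord, orderOf_dvd_iff_zpow_eq_one, zpow_sub, mul_inv_eq_one, zpow_one, ← hπ, map_one]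
    rfl
  set N : H → ℤ := fun g => n g ^ p ^ j with hN
  have hlift : ∀ a b : ℤ, (p : ℤ) ∣ a - b → ((p ^ (j + 1) : ℕ) : ℤ) ∣ a ^ p ^ j - b ^ p ^ j :=
    fun a b hab => by push_cast; exact dvd_sub_pow_of_dvd_sub hab j
  have hfermat : ∀ a : ℤ, (p : ℤ) ∣ a ^ p ^ j - a := fun a => by
    rw [← ZMod.intCast_eq_intCast_iff_dvd_sub]
    push_cast
    exact (ZMod.pow_card_pow (a : ZMod p)).symm
  have hexpP : ∀ (z : P) (a b : ℤ), ((p ^ (j + 1) : ℕ) : ℤ) ∣ a - b → z ^ a = z ^ b := fun z a b hd => by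
    rw [← mul_inv_eq_one, ← zpow_sub, ← orderOf_dvd_iff_zpow_eq_one]
    exact dvd_trans (Int.natCast_dvd_natCast.mpr
      (orderOf_dvd_of_pow_eq_one (Subtype.ext (hexp z z.2)))) hd
  set y : P := ∏ g : H, ψ g x' ^ N g⁻¹ with hy
  have heigen : ∀ h : H, ψ h y = y ^ N h := by
    intro h
    rw [hy, map_prod, ← Finset.prod_zpow]
    refine Fintype.prod_equiv (Equiv.mulLeft h) _ _ fun g => ?_
    simp only [Equiv.coe_mulLeft]
    rw [map_zpow, ← MulAut.mul_apply, ← map_mul, ← zpow_mul]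
    refine hexpP _ _ _ ?_
    have h1 := hlift (n g⁻¹) (n (h * g)⁻¹ * n h) (by
      have := hmul (h * g)⁻¹ h
      rwa [mul_inv_rev, inv_mul_cancel_right, ← mul_inv_rev] at this)
    simpa [hN, mul_pow] using h1
  have hpowy : π (y ^ p ^ j) = π l ^ (Fintype.card H : ℤ) := by
    rw [hy, ← Finset.prod_pow, map_prod, zpow_natCast, ← Finset.card_univ, ← Finset.prod_const]
    refine Finset.prod_congr rfl fun g _ => ?_
    rw [show (ψ g x' ^ N g⁻¹) ^ p ^ j = (ψ g l) ^ N g⁻¹ by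
      rw [hl', map_pow, ← zpow_natCast (ψ g x'), ← zpow_natCast (ψ g x' ^ _), ← zpow_mul, ← zpow_mul,
        mul_comm]]
    rw [map_zpow, hπ, ← zpow_mul, eq_comm, ← zpow_one (π l), ← zpow_mul, one_mul, ← mul_inv_eq_one,
      ← zpow_sub, ← orderOf_dvd_iff_zpow_eq_one, hord]
    have h1 := hmul g g⁻¹
    rw [mul_inv_cancel] at h1
    have h2 := (hfermat (n g⁻¹)).mul_left (n g)
    rw [mul_sub] at h2
    have h3 := dvd_add (dvd_sub h2 h1) hone
    rw [dvd_sub_comm, show n g * N g⁻¹ - 1 =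
      n g * n g⁻¹ ^ p ^ j - n g * n g⁻¹ - (n 1 - n g * n g⁻¹) + (n 1 - 1) from by
        show n g * n g⁻¹ ^ p ^ j - 1 = _
        ring]
    exact h3
  have hyU : (y : G) ^ p ^ j ∉ U := fun hh => hcop (by
    have h1 : π (y ^ p ^ j) = 1 := (QuotientGroup.eq_one_iff _).mpr (by
      rw [hU', mem_subgroupOf]; push_cast; exact hh)
    rw [hpowy, ← orderOf_dvd_iff_zpow_eq_one, hord, Int.natCast_dvd_natCast,
      ← Nat.card_eq_fintype_card] at h1
    exact h1)
  refine ⟨(y : G), y.2, orderOf_eq_prime_pow (fun hh => hyU (hh ▸ one_mem U)) (hexp _ y.2), ?_, hyU,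
    (Fintype.card H : ℤ), ?_⟩
  swap
  · have h1 : (y ^ p ^ j * (l ^ (Fintype.card H : ℤ))⁻¹) ∈ U' := (QuotientGroup.eq_one_iff _).mp (by
      show π (y ^ p ^ j * (l ^ (Fintype.card H : ℤ))⁻¹) = 1
      rw [map_mul, map_inv, map_zpow, hpowy, mul_inv_cancel])
    have h2 := mem_subgroupOf.mp h1
    simpa [hl', hx'] using h2
  rw [le_normalizer_iff]
  intro g hg z hz
  obtain ⟨i, rfl⟩ := mem_zpowers_iff.mp hz
  refine mem_zpowers_iff.mpr ⟨N ⟨g, hg⟩ * i, ?_⟩
  have h1 : (g * (y : G) * g⁻¹ : G) = (y : G) ^ N ⟨g, hg⟩ := by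
    have := congrArg Subtype.val (heigen ⟨g, hg⟩)
    simpa [hψ] using this
  rw [zpow_mul, ← h1, conj_zpow]

end Cfsg.Agent.OddLocal.EigenLift
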