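import Cfsg.Agent.OddLocal.TauTwoAbelian
import Cfsg.Agent.OddLocal.EigenLift
import Cfsg.Agent.Lib.Hall.Solvable

/-! The regular part of a complement of `M_σ` (BG 12.12). -/

set_option autoImplicit false
set_option linter.unusedSectionVars false

namespace Cfsg.Agent.OddLocal.RegularPart

open Cfsg Subgroup
open scoped commutatorElement Pointwise
open TauTwo (Ctx Nab centralizer_zpowers centralizer_map_conj)
open Cfsg.Agent.Transfer.Fusion (map_conj_eq_self_iff card_map_conj)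

variable {G : Type*} [Group G] [Finite G] {M E : Subgroup G}

/-- The hypothesis: elements of `τ₁ ∪ τ₃` act without fixed points on `M_σ`. -/
def Regular (M E : Subgroup G) : Prop :=
  ∀ e ∈ E, e ≠ 1 → (∀ p : ℕ, p.Prime → p ∣ orderOf e → p ∈ tau1 M ∪ tau3 M) →
    sigmaCore M ⊓ centralizer ({e} : Set G) = ⊥

theorem tau_cases (hG : IsMinSimpleOddOrder G) (hM : IsCoatom M) (hE : IsComplIn E (sigmaCore M) M)
    {q : ℕ} (hq : q.Prime) (hd : q ∣ Nat.card E) :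
    q ∈ tau2 M ∨ (q ∈ tau1 M ∪ tau3 M ∧ PRankLE q 1 M) := by
  have hσ := Compl.not_sigma hG hM hE hq hd
  by_cases h1 : PRankLE q 1 M
  · refine Or.inr ⟨?_, h1⟩
    by_cases h' : q ∣ Nat.card ↥⁅M, M⁆
    · exact Or.inr ⟨hq, hσ, h', h1⟩
    · exact Or.inl ⟨hq, hσ, hd.trans (card_dvd_of_le hE.1), h', h1⟩
  · exact Or.inl ⟨hq, hσ, SigmaCompl.rank_le hG hM hq hσ, h1⟩

theorem not_tau2 {q : ℕ} (h : q ∈ tau1 M ∪ tau3 M) : q ∉ tau2 M := fun h2 => by
  rcases h with h | h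
  · exact h2.2.2.2 h.2.2.2.2
  · exact h2.2.2.2 h.2.2.2

theorem isPGroup_zpowers {q : ℕ} [Fact q.Prime] {x : G} {k : ℕ} (h : x ^ q ^ k = 1) :
    IsPGroup q (zpowers x) := by
  obtain ⟨i, -, hi⟩ := (Nat.dvd_prime_pow Fact.out).mp (orderOf_dvd_of_pow_eq_one h)
  exact IsPGroup.of_card (n := i) (by rw [Nat.card_zpowers, hi])

theorem orderOf_prime_dvd {q r : ℕ} [Fact q.Prime] {x : G} (hx : IsPGroup q (zpowers x)) (hr : r.Prime)
    (hd : r ∣ orderOf x) : r = q := (Cores.isPi_iff_isPGroup (zpowers x)).mpr hx r hr (by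
  rwa [Nat.card_zpowers])

section TauTwo

variable {p : ℕ} [hp : Fact p.Prime] {A : Subgroup G}

/-- A line with fixed points cannot be sent to itself by an element of `N(A)` outside `M`. -/
theorem moved_fpf (h : Ctx p A M) {n a : G} (hn : n ∈ normalizer (A : Set G)) (hnM : n ∉ M) (ha : a ∈ A)
    (ha1 : a ≠ 1) (hfix : sigmaCore M ⊓ centralizer ({a} : Set G) ≠ ⊥) :
    sigmaCore M ⊓ centralizer ({n * a * n⁻¹} : Set G) = ⊥ := by
  by_contra hne
  have hb : n * a * n⁻¹ ∈ A := (mem_normalizer_iff.mp hn a).mp ha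
  have h1 := h.good_centralizer_le h.good_sigma ha ha1 hfix
  have h2 := h.good_unique h.good_sigma hb hne (Unique.isCoatom_map_conj h.hM n)
    (centralizer_map_conj a n ▸ map_mono h1)
  have h4 : n ∈ normalizer (M : Set G) := map_conj_eq_self_iff.mp h2
  rw [Sigma.normalizer_eq_self h.hG h.hM] at h4
  exact hnM h4

theorem conj_zpow_mem {g a : G} (hg : g * a * g⁻¹ ∈ zpowers a) : g ∈ normalizer (zpowers a : Set G) := by
  rw [← map_conj_eq_self_iff, MonoidHom.map_zpowers]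
  refine eq_of_le_of_card_ge (zpowers_le.mpr hg) ?_
  rw [Nat.card_zpowers, Nat.card_zpowers, orderOf_injective _ (MulAut.conj g).injective]

/-- An element normalising three lines of `A` normalises all. -/
theorem normalizes_of_three (hA : Max2 p A) {e a b c : G} (ha : a ∈ A) (hb : b ∈ A) (hc : c ∈ A)
    (hba : b ∉ zpowers a) (ha1 : a ≠ 1) (hca : c ∉ zpowers a) (hcb : c ∉ zpowers b)
    (hea : e * a * e⁻¹ ∈ zpowers a) (heb : e * b * e⁻¹ ∈ zpowers b) (hec : e * c * e⁻¹ ∈ zpowers c)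
    {d : G} (hd : d ∈ A) : e * d * e⁻¹ ∈ zpowers d := by
  have hb1 : b ≠ 1 := fun hh => hba (hh ▸ one_mem _)
  have hac := hA.sup_zpowers (zpowers_le.mpr ha) (hA.card_zpowers ha ha1) hb hba
  have hn : zpowers b ≤ normalizer (zpowers a : Set G) :=
    ((zpowers_le.mpr hb).trans (hA.le_centralizer.trans (Subgroup.centralizer_le (zpowers_le.mpr ha)))).trans
      (centralizer_le_normalizer _)
  have hdec : ∀ {w : G}, w ∈ A → ∃ i k : ℤ, w = a ^ i * b ^ k := fun {w} hw => by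
    rw [← hac] at hw
    obtain ⟨u, hu, v, hv, rfl⟩ := (Coprime.mem_sup_of_le_normalizer hn).mp hw
    obtain ⟨i, rfl⟩ := mem_zpowers_iff.mp hu
    obtain ⟨k, rfl⟩ := mem_zpowers_iff.mp hv
    exact ⟨i, k, rfl⟩
  have hab : Commute a b := Components.Hyperplane.mem_comm hA.el ha hb
  have hoa : orderOf a = p := Components.Hyperplane.orderOf_eq hA.el ha ha1
  have hob : orderOf b = p := Components.Hyperplane.orderOf_eq hA.el hb hb1
  have hindep : ∀ i k i' k' : ℤ, a ^ i * b ^ k = a ^ i' * b ^ k' → a ^ i = a ^ i' ∧ b ^ k = b ^ k' := by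
    intro i k i' k' heq
    have h1 : (a ^ i')⁻¹ * a ^ i = b ^ k' * (b ^ k)⁻¹ := by
      rw [eq_mul_inv_iff_mul_eq, mul_assoc, heq, inv_mul_cancel_left]
    have h2 : b ^ k' * (b ^ k)⁻¹ = 1 := by
      by_contra hne
      refine hba ?_
      have hm : b ^ k' * (b ^ k)⁻¹ ∈ zpowers a :=
        h1 ▸ mul_mem (inv_mem (zpow_mem (mem_zpowers a) _)) (zpow_mem (mem_zpowers a) _)
      have hb' : b ^ k' * (b ^ k)⁻¹ ∈ zpowers b :=
        mul_mem (zpow_mem (mem_zpowers b) _) (inv_mem (zpow_mem (mem_zpowers b) _))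
      have heq' : zpowers (b ^ k' * (b ^ k)⁻¹) = zpowers b := eq_of_le_of_card_ge (zpowers_le.mpr hb')
        (by rw [hA.card_zpowers hb hb1, hA.card_zpowers ((zpowers_le.mpr hb) hb') hne])
      exact zpowers_le.mpr hm (heq'.symm ▸ mem_zpowers b)
    rw [h2, inv_mul_eq_one] at h1
    exact ⟨h1.symm, (mul_inv_eq_one.mp h2).symm⟩
  obtain ⟨r, hr⟩ := mem_zpowers_iff.mp hea
  obtain ⟨t, ht⟩ := mem_zpowers_iff.mp heb
  obtain ⟨w, hw⟩ := mem_zpowers_iff.mp hec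
  obtain ⟨i, k, rfl⟩ := hdec hc
  have hconj : ∀ i k : ℤ, e * (a ^ i * b ^ k) * e⁻¹ = a ^ (r * i) * b ^ (t * k) := fun i k => by
    rw [zpow_mul, hr, zpow_mul, ht, conj_zpow, conj_zpow]; group
  rw [hconj, (hab.zpow_zpow i k).mul_zpow, ← zpow_mul, ← zpow_mul] at hw
  obtain ⟨h1, h2⟩ := hindep _ _ _ _ hw
  have hpi : Prime (p : ℤ) := Nat.prime_iff_prime_int.mp hp.out
  rw [← mul_inv_eq_one, ← zpow_sub, ← orderOf_dvd_iff_zpow_eq_one, hoa,
    show i * w - r * i = i * (w - r) by ring] at h1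
  rw [← mul_inv_eq_one, ← zpow_sub, ← orderOf_dvd_iff_zpow_eq_one, hob,
    show k * w - t * k = k * (w - t) by ring] at h2
  have hi : ¬ (p : ℤ) ∣ i := fun hh => hcb (by
    rw [← hoa, orderOf_dvd_iff_zpow_eq_one] at hh
    rw [hh, one_mul]; exact zpow_mem (mem_zpowers b) _)
  have hk : ¬ (p : ℤ) ∣ k := fun hh => hca (by
    rw [← hob, orderOf_dvd_iff_zpow_eq_one] at hh
    rw [hh, mul_one]; exact zpow_mem (mem_zpowers a) _)
  have h3 := (hpi.dvd_mul.mp h1).resolve_left hi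
  have h4 := (hpi.dvd_mul.mp h2).resolve_left hk
  obtain ⟨u, v, rfl⟩ := hdec hd
  refine mem_zpowers_iff.mpr ⟨w, ?_⟩
  rw [hconj, (hab.zpow_zpow u v).mul_zpow, ← zpow_mul, ← zpow_mul]
  congr 1
  · rw [← mul_inv_eq_one, ← zpow_sub, ← orderOf_dvd_iff_zpow_eq_one, hoa,
      show u * w - r * u = u * (w - r) by ring]
    exact h3.mul_left u
  · rw [← mul_inv_eq_one, ← zpow_sub, ← orderOf_dvd_iff_zpow_eq_one, hob,
      show v * w - t * v = v * (w - t) by ring]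
    exact h4.mul_left v

/-- With abelian Sylow subgroups some line without fixed points is invariant under a `τ₁ ∪ τ₃`-group. -/
theorem exists_fpf_line (h : Ctx p A M) (hab : ∀ S : Sylow p G, IsMulCommutative (S : Subgroup G))
    (hE : IsComplIn E (sigmaCore M) M) (hAE : A ≤ E) (hreg : Regular M E) {H : Subgroup G} (hHE : H ≤ E)
    (hH : ∀ q : ℕ, q.Prime → q ∣ Nat.card H → q ∈ tau1 M ∪ tau3 M) :
    ∃ a ∈ A, a ≠ 1 ∧ sigmaCore M ⊓ centralizer ({a} : Set G) = ⊥ ∧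
      ∀ g ∈ H, g * a * g⁻¹ ∈ zpowers a := by
  by_cases hall : ∀ a ∈ A, H ≤ normalizer (zpowers a : Set G)
  · obtain ⟨a, ha, ha1, hfix⟩ := h.exists_fpf h.good_sigma (k := ⊥)
      fun hh => h.hA.ne_bot (le_bot_iff.mp hh)
    exact ⟨a, ha, fun hh => ha1 (hh ▸ one_mem _), hfix, fun g hg =>
      (mem_normalizer_iff.mp (hall a ha hg) a).mp (mem_zpowers a)⟩
  push Not at hall
  obtain ⟨a₀, ha₀, hna₀⟩ := hall
  obtain ⟨q, hq, e, heH, heq, hemove⟩ : ∃ q : ℕ, q.Prime ∧ ∃ e ∈ H, IsPGroup q (zpowers e) ∧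
      e ∉ normalizer (zpowers a₀ : Set G) := by
    by_contra hcon
    push Not at hcon
    exact hna₀ (CN.le_of_forall_isPGroup fun q hq z hz hzq => hcon q hq z hz hzq)
  have := Fact.mk hq
  have he1 : e ≠ 1 := fun hh => hemove (hh ▸ one_mem _)
  have hqd : q ∣ orderOf e := by
    obtain ⟨i, hi⟩ := heq.exists_card_eq
    rw [Nat.card_zpowers] at hi
    exact hi ▸ dvd_pow_self q fun hh => he1 (orderOf_eq_one_iff.mp (by rw [hi, hh, pow_zero]))
  have hτ := hH q hq (hqd.trans (orderOf_dvd_natCard H heH))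
  have hqσ : q ∉ sigma M := hτ.elim (fun hh => hh.2.1) fun hh => hh.2.1
  have hq1 : PRankLE q 1 M := hτ.elim (fun hh => hh.2.2.2.2) fun hh => hh.2.2.2
  obtain ⟨a, ha, ha1, hae⟩ := h.exists_invariant_line hab hE hAE hqσ hq1 (hHE heH) heq fun x hx hxo =>
    hreg x hx (fun hh => hq.ne_one (by rw [← hxo, hh, orderOf_one])) fun r hr hd => by
      rwa [(Nat.prime_dvd_prime_iff_eq hr hq).mp (hxo ▸ hd)]
  have hEN := h.le_normalizer_compl hE hAE
  -- conjugates of an `e`-invariant line are `e`-invariant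
  have hconj : ∀ {g b : G}, g ∈ normalizer (A : Set G) → b ∈ A → e * b * e⁻¹ ∈ zpowers b →
      e * (g * b * g⁻¹) * e⁻¹ ∈ zpowers (g * b * g⁻¹) := by
    intro g b hg hb hbe
    obtain ⟨i, hi⟩ := mem_zpowers_iff.mp hbe
    refine mem_zpowers_iff.mpr ⟨i, ?_⟩
    rw [conj_zpow, hi]
    have hx : g * (e * b * e⁻¹) * g⁻¹ ∈ A :=
      (mem_normalizer_iff.mp hg _).mp ((mem_normalizer_iff.mp (hEN (hHE heH)) b).mp hb)
    have h2 := mem_centralizer_iff.mp (h.commutator_mem_centralizer hab (hEN (hHE heH)) hg) _ hx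
    calc g * (e * b * e⁻¹) * g⁻¹ = ⁅e, g⁆ * (g * (e * b * e⁻¹) * g⁻¹) * ⁅e, g⁆⁻¹ := by
          rw [← h2, mul_inv_cancel_right]
      _ = e * (g * b * g⁻¹) * e⁻¹ := by rw [commutatorElement_def]; group
  have hinv : ∀ g ∈ H, g * a * g⁻¹ ∈ zpowers a := by
    intro g hg
    by_contra hng
    have hgN := hEN (hHE hg)
    set b := g * a * g⁻¹ with hb
    set c := g * b * g⁻¹ with hc
    have hbA : b ∈ A := (mem_normalizer_iff.mp hgN a).mp ha
    have hcA : c ∈ A := (mem_normalizer_iff.mp hgN b).mp hbA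
    have hbe := hconj hgN ha hae
    have hce := hconj hgN hbA hbe
    have hca : c ∉ zpowers a := fun hh => by
      have h2 : (g ^ 2) * a * (g ^ 2)⁻¹ ∈ zpowers a := by
        convert hh using 1
        rw [hc, hb, pow_two]; group
      obtain ⟨k, hk⟩ := Sigma.odd_card h.hG (zpowers g)
      rw [Nat.card_zpowers] at hk
      have h3 : g = (g ^ 2) ^ (k + 1) := by
        rw [← pow_mul, show 2 * (k + 1) = orderOf g + 1 by omega, pow_succ, pow_orderOf_eq_one, one_mul]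
      refine hng ((mem_normalizer_iff.mp ?_ a).mp (mem_zpowers a))
      rw [h3]
      exact pow_mem (conj_zpow_mem h2) _
    have hcb : c ∉ zpowers b := fun hh => hng (by
      have h2 := conj_zpow_mem hh
      have h3 := (mem_normalizer_iff.mp (inv_mem h2) b).mp (mem_zpowers b)
      rw [inv_inv, show g⁻¹ * b * g = a by rw [hb]; group] at h3
      have hb1 : b ≠ 1 := fun hh1 => ha1 (conj_eq_one_iff.mp (hb ▸ hh1))
      have h4 : zpowers a = zpowers b := eq_of_le_of_card_ge (zpowers_le.mpr h3)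
        (by rw [h.hA.card_zpowers ha ha1, h.hA.card_zpowers hbA hb1])
      rw [h4]; exact mem_zpowers b)
    refine hemove (conj_zpow_mem (normalizes_of_three h.hA ha hbA hcA hng ha1 hca hcb hae ?_ ?_ ha₀))
    · exact hbe
    · exact hce
  obtain ⟨n, hn, hnM⟩ := TauTwo.exists_not_mem h.hG h.hM h.hτ h.hA h.hAM
  by_cases hfix : sigmaCore M ⊓ centralizer ({a} : Set G) = ⊥
  · exact ⟨a, ha, ha1, hfix, hinv⟩
  refine ⟨n * a * n⁻¹, (mem_normalizer_iff.mp hn a).mp ha, fun hh => ha1 (conj_eq_one_iff.mp hh),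
    moved_fpf h hn hnM ha ha1 hfix, fun g hg => ?_⟩
  obtain ⟨i, hi⟩ := mem_zpowers_iff.mp (hinv g hg)
  refine mem_zpowers_iff.mpr ⟨i, ?_⟩
  rw [conj_zpow, hi]
  have hx : n * (g * a * g⁻¹) * n⁻¹ ∈ A :=
    (mem_normalizer_iff.mp hn _).mp ((mem_normalizer_iff.mp (hEN (hHE hg)) a).mp ha)
  have h2 := mem_centralizer_iff.mp (h.commutator_mem_centralizer hab (hEN (hHE hg)) hn) _ hx
  calc n * (g * a * g⁻¹) * n⁻¹ = ⁅g, n⁆ * (n * (g * a * g⁻¹) * n⁻¹) * ⁅g, n⁆⁻¹ := by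
        rw [← h2, mul_inv_cancel_right]
    _ = g * (n * a * n⁻¹) * g⁻¹ := by rw [commutatorElement_def]; group

/-- A cyclic subgroup of maximal order without fixed points, invariant under a `p'`-group. -/
structure Piece (p : ℕ) (M P H Y : Subgroup G) : Prop where
  le : Y ≤ P
  gen : ∃ y, zpowers y = Y ∧ ∀ x ∈ P, orderOf x ∣ orderOf y
  fpf : ∀ z ∈ Y, z ≠ 1 → sigmaCore M ⊓ centralizer ({z} : Set G) = ⊥
  inv : H ≤ normalizer (Y : Set G)

theorem exists_exponent {P : Subgroup G} (hP : IsPGroup p P) (hP1 : P ≠ ⊥) :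
    ∃ j : ℕ, (∀ x ∈ P, x ^ p ^ (j + 1) = 1) ∧ ∃ x ∈ P, x ^ p ^ j ≠ 1 := by
  classical
  obtain ⟨n, hn⟩ := hP.exists_card_eq
  have hex : ∃ i, ∀ x ∈ P, x ^ p ^ i = 1 := ⟨n, fun x hx => hn ▸
    congrArg Subtype.val (pow_card_eq_one' (x := (⟨x, hx⟩ : P)))⟩
  obtain ⟨j, hj⟩ : ∃ j, Nat.find hex = j + 1 := Nat.exists_eq_add_one.mpr (Nat.pos_of_ne_zero fun h0 => by
    obtain ⟨x, hx, hx1⟩ := (bot_or_exists_ne_one P).resolve_left hP1
    exact hx1 (by simpa [h0] using Nat.find_spec hex x hx))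
  refine ⟨j, hj ▸ Nat.find_spec hex, ?_⟩
  by_contra hcon
  push Not at hcon
  have := Nat.find_min' hex hcon
  omega

/-- A cyclic group generated by `y` has no fixed points once its subgroup of order `p` has none. -/
theorem piece_of (h : Ctx p A M) {P H : Subgroup G} {j : ℕ} (hexp : ∀ x ∈ P, x ^ p ^ (j + 1) = 1) {y : G}
    (hy : y ∈ P) (hyo : orderOf y = p ^ (j + 1)) (hyH : H ≤ normalizer (zpowers y : Set G))
    (hfix : sigmaCore M ⊓ centralizer ({y ^ p ^ j} : Set G) = ⊥) :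
    Piece p M P H (zpowers y) := by
  refine ⟨zpowers_le.mpr hy, ⟨y, rfl, fun x hx => hyo ▸ orderOf_dvd_of_pow_eq_one (hexp x hx)⟩,
    fun z hz hz1 => ?_, hyH⟩
  obtain ⟨i, hi, hzi⟩ := (Nat.dvd_prime_pow hp.out).mp (hyo ▸ Nat.card_zpowers y ▸ orderOf_dvd_natCard _ hz)
  have hi0 : i ≠ 0 := fun hh => hz1 (orderOf_eq_one_iff.mp (by rw [hzi, hh, pow_zero]))
  have hw : orderOf (z ^ p ^ (i - 1)) = p := by
    rw [orderOf_pow' _ (pow_ne_zero _ hp.out.ne_zero), hzi, Nat.gcd_eq_right (pow_dvd_pow p (Nat.sub_le i 1)),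
      Nat.pow_div (Nat.sub_le i 1) hp.out.pos, Nat.sub_sub_self (Nat.one_le_iff_ne_zero.mpr hi0), pow_one]
  have hyj : orderOf (y ^ p ^ j) = p := by
    rw [orderOf_pow' _ (pow_ne_zero _ hp.out.ne_zero), hyo, Nat.gcd_eq_right (pow_dvd_pow p (Nat.le_succ j)),
      Nat.pow_div (Nat.le_succ j) hp.out.pos, Nat.succ_eq_add_one, Nat.add_sub_cancel_left, pow_one]
  have hcyc : IsCyclic (zpowers y) := inferInstance
  have hmem : y ^ p ^ j ∈ zpowers (z ^ p ^ (i - 1)) := TauTwo.mem_zpowers_of_cyclic hcyc (pow_mem hz _)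
    (pow_mem (mem_zpowers y) _) hw (orderOf_dvd_iff_pow_eq_one.mp hyj.dvd)
  obtain ⟨k, hk⟩ := mem_zpowers_iff.mp hmem
  rw [← le_bot_iff, ← hfix]
  refine inf_le_inf_left _ fun w hw' => mem_centralizer_singleton_iff.mpr ?_
  rw [← hk]
  exact (((show Commute w z from mem_centralizer_singleton_iff.mp hw').pow_right _).zpow_right k).eq

theorem pow_mem_A (h : Ctx p A M) (hE : IsComplIn E (sigmaCore M) M) (hAE : A ≤ E) {P : Subgroup G}
    (hPE : P ≤ E) {j : ℕ} (hexp : ∀ x ∈ P, x ^ p ^ (j + 1) = 1) {x : G} (hx : x ∈ P) : x ^ p ^ j ∈ A :=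
  h.mem_of_pow hE hAE (pow_mem (hPE hx) _) (by rw [← pow_mul, ← pow_succ]; exact hexp x hx)

theorem exists_piece_abelian (h : Ctx p A M) (hab : ∀ S : Sylow p G, IsMulCommutative (S : Subgroup G))
    (hE : IsComplIn E (sigmaCore M) M) (hAE : A ≤ E) (hreg : Regular M E) {H : Subgroup G} (hHE : H ≤ E)
    (hH : ∀ q : ℕ, q.Prime → q ∣ Nat.card H → q ∈ tau1 M ∪ tau3 M) (S : Sylow p G)
    (hAS : A ≤ (S : Subgroup G)) : ∃ Y, Piece p M (S : Subgroup G) H Y := by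
  obtain ⟨hSC, hSE, -⟩ := h.sylow_le_compl hab hE hAE S hAS
  obtain ⟨j, hexp, x₀, hx₀, hx₀1⟩ := exists_exponent S.isPGroup'
    fun hh => h.hA.ne_bot (le_bot_iff.mp (hh ▸ hAS))
  have := hab S
  have hHS : H ≤ normalizer ((S : Subgroup G) : Set G) :=
    hHE.trans (h.compl_le_normalizer_sylow hab hE hAE S hAS)
  have hcop : ¬ p ∣ Nat.card H := fun hd => not_tau2 (hH p hp.out hd) h.hτ
  suffices hx : ∃ x ∈ (S : Subgroup G), x ^ p ^ j ≠ 1 ∧
      sigmaCore M ⊓ centralizer ({x ^ p ^ j} : Set G) = ⊥ ∧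
      ∀ g ∈ H, g * x ^ p ^ j * g⁻¹ ∈ zpowers (x ^ p ^ j) by
    obtain ⟨x, hx, hx1, hfix, hinv⟩ := hx
    obtain ⟨y, hy, hyo, hyH, hy1, i, hi⟩ := EigenLift.exists_eigen (U := ⊥) hexp hHS
      (fun g _ => by rw [normalizer_eq_top_iff.mpr inferInstance]; exact mem_top g) hcop hx
      (fun hh => hx1 (mem_bot.mp hh)) fun g hg => by
        obtain ⟨i, hi⟩ := mem_zpowers_iff.mp (hinv g hg)
        exact ⟨i, by rw [hi, mul_inv_cancel]; exact one_mem _⟩
    rw [mem_bot, mul_inv_eq_one] at hi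
    refine ⟨_, piece_of h hexp hy hyo hyH ?_⟩
    have hmem : y ^ p ^ j ∈ zpowers (x ^ p ^ j) := hi ▸ zpow_mem (mem_zpowers _) i
    have hne : y ^ p ^ j ≠ 1 := fun hh => hy1 (mem_bot.mpr hh)
    have hxA := pow_mem_A h hE hAE hSE hexp hx
    have heq : zpowers (y ^ p ^ j) = zpowers (x ^ p ^ j) := eq_of_le_of_card_ge (zpowers_le.mpr hmem)
      (by rw [h.hA.card_zpowers hxA hx1, h.hA.card_zpowers (pow_mem_A h hE hAE hSE hexp hy) hne])
    rw [← centralizer_zpowers, heq, centralizer_zpowers]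
    exact hfix
  set l := x₀ ^ p ^ j with hl
  have hlA : l ∈ A := pow_mem_A h hE hAE hSE hexp hx₀
  by_cases hD : ∀ x ∈ (S : Subgroup G), x ^ p ^ j ∈ zpowers l
  · refine ⟨x₀, hx₀, hx₀1, ?_, fun g hg => ?_⟩
    · by_contra hfix
      obtain ⟨n, hn, hnM⟩ := TauTwo.exists_not_mem h.hG h.hM h.hτ h.hA h.hAM
      have hnC : n * x₀ * n⁻¹ ∈ centralizer (A : Set G) :=
        (mem_normalizer_iff.mp (CharP.normalizer_le_normalizer_centralizer _ hn) x₀).mp (hSC hx₀)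
      have hnE : n * x₀ * n⁻¹ ∈ E := h.inf_normalizer hE hAE ▸
        mem_inf.mpr ⟨h.hCA hnC, centralizer_le_normalizer _ hnC⟩
      have hnS : n * x₀ * n⁻¹ ∈ (S : Subgroup G) := by
        have hp' : IsPGroup p (zpowers (n * x₀ * n⁻¹)) := isPGroup_zpowers (k := j + 1)
          (by rw [conj_pow, hexp x₀ hx₀]; group)
        have hle : (S : Subgroup G) ⊔ zpowers (n * x₀ * n⁻¹) = S := S.is_maximal'
          (IsPGroup.to_sup_of_normal_left' S.isPGroup' hp'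
            ((zpowers_le.mpr hnE).trans (h.compl_le_normalizer_sylow hab hE hAE S hAS))) le_sup_left
        exact hle ▸ mem_sup_right (mem_zpowers _)
      have hm : n * l * n⁻¹ ∈ zpowers l := by
        have := hD _ hnS
        rwa [conj_pow] at this
      refine hfix ?_
      have h2 := moved_fpf h hn hnM hlA hx₀1 hfix
      rwa [← centralizer_zpowers (n * l * n⁻¹), eq_of_le_of_card_ge (zpowers_le.mpr hm) (by
        rw [h.hA.card_zpowers hlA hx₀1, h.hA.card_zpowers ((zpowers_le.mpr hlA) hm)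
          fun hh => hx₀1 (conj_eq_one_iff.mp hh)]), centralizer_zpowers] at h2
    · have := hD _ ((mem_normalizer_iff.mp (hHS hg) x₀).mp hx₀)
      rwa [conj_pow] at this
  · push Not at hD
    obtain ⟨x₁, hx₁, hx₁l⟩ := hD
    obtain ⟨a, ha, ha1, hfix, hinv⟩ := exists_fpf_line h hab hE hAE hreg hHE hH
    have hl2 : x₁ ^ p ^ j ∈ A := pow_mem_A h hE hAE hSE hexp hx₁
    have ha' := ha
    rw [← h.hA.sup_zpowers (zpowers_le.mpr hlA) (h.hA.card_zpowers hlA hx₀1) hl2 hx₁l] at ha'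
    have hn : zpowers (x₁ ^ p ^ j) ≤ normalizer (zpowers l : Set G) :=
      ((zpowers_le.mpr hl2).trans (h.hA.le_centralizer.trans
        (Subgroup.centralizer_le (zpowers_le.mpr hlA)))).trans (centralizer_le_normalizer _)
    obtain ⟨u, hu, v, hv, rfl⟩ := (Coprime.mem_sup_of_le_normalizer hn).mp ha'
    obtain ⟨i, rfl⟩ := mem_zpowers_iff.mp hu
    obtain ⟨k, rfl⟩ := mem_zpowers_iff.mp hv
    have hpow : (x₀ ^ i * x₁ ^ k) ^ p ^ j = l ^ i * (x₁ ^ p ^ j) ^ k := by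
      rw [(show Commute x₀ x₁ from setLike_mul_comm hx₀ hx₁).zpow_zpow i k |>.mul_pow, hl,
        ← zpow_natCast (x₀ ^ i), ← zpow_mul, mul_comm i, zpow_mul, zpow_natCast,
        ← zpow_natCast (x₁ ^ k), ← zpow_mul, mul_comm k, zpow_mul, zpow_natCast]
    exact ⟨x₀ ^ i * x₁ ^ k, mul_mem (zpow_mem hx₀ i) (zpow_mem hx₁ k), hpow ▸ ha1, hpow ▸ hfix,
      hpow ▸ hinv⟩

theorem exists_piece_nonabelian (h : Ctx p A M) {S : Sylow p G} {Z : Subgroup G} {s : G}
    (hn : Nab p A M S Z s) (hE : IsComplIn E (sigmaCore M) M) (hAE : A ≤ E) {P H : Subgroup G}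
    (hAP : A ≤ P) (hPS : P ≤ (S : Subgroup G)) (hPE : P ≤ E) (hPC : P ≤ centralizer (A : Set G))
    (hHE : H ≤ E) (hHP : H ≤ normalizer (P : Set G)) (hcop : ¬ p ∣ Nat.card H) :
    ∃ Y, Piece p M P H Y := by
  obtain ⟨a, ha, ha1, haZ, hA₀, hothers⟩ := h.exists_center_line hn hE hAE
  obtain ⟨j, hexp, x₀, hx₀, hx₀1⟩ := exists_exponent (S.isPGroup'.to_le hPS)
    fun hh => h.hA.ne_bot (le_bot_iff.mp (hh ▸ hAP))
  have hPab : IsMulCommutative P := by
    have := hn.comm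
    exact ⟨⟨fun x y => Subtype.ext (setLike_mul_comm
      (s := (S : Subgroup G) ⊓ centralizer (A : Set G))
      (mem_inf.mpr ⟨hPS x.2, hPC x.2⟩) (mem_inf.mpr ⟨hPS y.2, hPC y.2⟩))⟩⟩
  have hEN : E ≤ normalizer (zpowers a : Set G) := by
    rw [← hA₀]
    exact (le_inf (h.le_normalizer_compl hE hAE) ((hE.1.trans (Sigma.le_normalizer_sigmaCore M)).trans
      (CharP.normalizer_le_normalizer_centralizer _))).trans inf_normalizer_le_normalizer_inf
  obtain ⟨x, hx, hxU⟩ : ∃ x ∈ P, x ^ p ^ j ∉ zpowers a := by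
    rcases j.eq_zero_or_pos with rfl | hj
    · obtain ⟨b, hb, hba⟩ := SetLike.not_le_iff_exists.mp (h.hA.zpowers_ne ha)
      exact ⟨b, hAP hb, by simpa using hba⟩
    refine ⟨x₀, hx₀, fun hm => hx₀1 ?_⟩
    have heq : zpowers (x₀ ^ p ^ j) = zpowers a := eq_of_le_of_card_ge (zpowers_le.mpr hm)
      (by rw [h.hA.card_zpowers ha ha1, h.hA.card_zpowers (pow_mem_A h hE hAE hPE hexp hx₀) hx₀1])
    have hle := h.le_line hn (Y := zpowers x₀) (zpowers_le.mpr (hPS hx₀)) (zpowers_le.mpr (hPC hx₀))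
      inferInstance ha ha1 (zpowers_le.mpr (pow_mem (mem_zpowers x₀) _) (heq.symm ▸ mem_zpowers a)) haZ
    have hp1 : x₀ ^ p = 1 := h.hA.el.2 _ ((zpowers_le.mpr ha) (hle (mem_zpowers x₀)))
    obtain ⟨i, rfl⟩ : ∃ i, j = i + 1 := ⟨j - 1, by omega⟩
    rw [pow_succ', pow_mul, hp1, one_pow]
  have hlA := pow_mem_A h hE hAE hPE hexp hx
  obtain ⟨y, hy, hyo, hyH, hyU, -⟩ := EigenLift.exists_eigen (U := zpowers a) hexp hHP (hHE.trans hEN)
    hcop hx hxU fun g hg => by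
      have hgl : g * x ^ p ^ j * g⁻¹ ∈ A :=
        (mem_normalizer_iff.mp (h.le_normalizer_compl hE hAE (hHE hg)) _).mp hlA
      have hgl' := hgl
      rw [← h.hA.sup_zpowers (zpowers_le.mpr ha) (h.hA.card_zpowers ha ha1) hlA hxU] at hgl'
      have hnn : zpowers (x ^ p ^ j) ≤ normalizer (zpowers a : Set G) :=
        (zpowers_le.mpr hlA).trans (hAE.trans hEN)
      obtain ⟨u, hu, v, hv, huv⟩ := (Coprime.mem_sup_of_le_normalizer hnn).mp hgl'
      obtain ⟨i, rfl⟩ := mem_zpowers_iff.mp hv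
      exact ⟨i, by rw [← huv, mul_inv_cancel_right]; exact hu⟩
  exact ⟨_, piece_of h hexp hy hyo hyH (hothers _ (pow_mem_A h hE hAE hPE hexp hy) hyU).1⟩

end TauTwo

end Cfsg.Agent.OddLocal.RegularPart
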