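import Cfsg.Agent.Base.RecEqns
import Mathlib
import Cfsg.Prelude.Def_OddOrderLocal

/-! The elementary properties of the Puig series, and self-centralizing abelian normal subgroups. -/

set_option autoImplicit false

namespace Cfsg.Agent.OddLocal.Puig

variable {G : Type*} [Group G]

theorem le_puigStep {X A : Subgroup G} (hA : IsMulCommutative A)
    (hX : X ≤ Subgroup.normalizer (A : Set G)) : A ≤ Cfsg.puigStep X :=
  le_sSup ⟨hA, hX⟩

theorem puigStep_antitone {X Y : Subgroup G} (h : X ≤ Y) : Cfsg.puigStep Y ≤ Cfsg.puigStep X :=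
  sSup_le fun _ hA => le_puigStep hA.1 (h.trans hA.2)

theorem puigSeq_succ (n : ℕ) : Cfsg.puigSeq G (n + 1) = Cfsg.puigStep (Cfsg.puigSeq G n) := rfl

theorem puigSeq_zero : Cfsg.puigSeq G 0 = ⊥ := rfl

theorem puigSeq_one : Cfsg.puigSeq G 1 = ⊤ := by
  rw [puigSeq_succ, puigSeq_zero]
  refine top_le_iff.mp fun g _ => ?_
  exact le_puigStep inferInstance bot_le (Subgroup.mem_zpowers g)

theorem even_mono : Monotone fun n => Cfsg.puigSeq G (2 * n) := by
  refine monotone_nat_of_le_succ fun n => ?_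
  induction n with
  | zero => exact bot_le
  | succ n ih => exact puigStep_antitone (puigStep_antitone ih)

theorem odd_antitone : Antitone fun n => Cfsg.puigSeq G (2 * n + 1) := by
  refine antitone_nat_of_succ_le fun n => ?_
  exact puigStep_antitone (even_mono (Nat.le_succ n))

theorem even_le_odd_self (n : ℕ) : Cfsg.puigSeq G (2 * n) ≤ Cfsg.puigSeq G (2 * n + 1) := by
  induction n with
  | zero => exact bot_le
  | succ n ih => exact puigStep_antitone (puigStep_antitone ih)

theorem even_le_odd (n m : ℕ) : Cfsg.puigSeq G (2 * n) ≤ Cfsg.puigSeq G (2 * m + 1) :=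
  (even_mono (le_max_left n m)).trans
    ((even_le_odd_self (max n m)).trans (odd_antitone (le_max_right n m)))

theorem stable [Finite G] : ∃ k : ℕ, ∀ n : ℕ, k ≤ n →
    Cfsg.puigSeq G (2 * n) = Cfsg.puigLower G ∧ Cfsg.puigSeq G (2 * n + 1) = Cfsg.puigSubgroup G := by
  obtain ⟨k, hk⟩ := (wellFoundedGT_iff_monotone_chain_condition.mp
    (inferInstance : WellFoundedGT (Subgroup G))) ⟨fun n => Cfsg.puigSeq G (2 * n), even_mono⟩
  refine ⟨k, fun n hn => ?_⟩
  have e : ∀ m, k ≤ m → Cfsg.puigSeq G (2 * m) = Cfsg.puigSeq G (2 * k) :=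
    fun m hm => (hk m hm).symm
  have elow : Cfsg.puigLower G = Cfsg.puigSeq G (2 * k) := by
    refine le_antisymm (iSup_le fun m => ?_) (le_iSup (fun m => Cfsg.puigSeq G (2 * m)) k)
    rcases le_total k m with h | h
    · rw [e m h]
    · exact even_mono h
  refine ⟨(e n hn).trans elow.symm, ?_⟩
  have e' : ∀ m, k ≤ m → Cfsg.puigSeq G (2 * m + 1) = Cfsg.puigSeq G (2 * k + 1) :=
    fun m hm => by rw [puigSeq_succ, puigSeq_succ, e m hm]
  have eup : Cfsg.puigSubgroup G = Cfsg.puigSeq G (2 * k + 1) := by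
    refine le_antisymm (iInf_le (fun m => Cfsg.puigSeq G (2 * m + 1)) k) (le_iInf fun m => ?_)
    rcases le_total k m with h | h
    · rw [e' m h]
    · exact odd_antitone h
  exact (e' n hn).trans eup.symm

/-- In a finite nilpotent group some abelian normal subgroup is its own centralizer. -/
theorem exists_selfCentralizing [Finite G] (hn : Group.IsNilpotent G) :
    ∃ A : Subgroup G, A.Normal ∧ IsMulCommutative A ∧ Subgroup.centralizer (A : Set G) = A := by
  haveI := hn
  obtain ⟨A, ⟨hAn, hAc⟩, hmax⟩ := Set.Finite.exists_maximal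
    (Set.toFinite {A : Subgroup G | A.Normal ∧ IsMulCommutative A})
    ⟨⊥, inferInstance, inferInstance⟩
  refine ⟨A, hAn, hAc, le_antisymm ?_ (Subgroup.le_centralizer A)⟩
  by_contra hne
  obtain ⟨c, hcC, hcA⟩ := SetLike.not_le_iff_exists.mp hne
  classical
  have hex : ∃ n, ∃ x, x ∈ Subgroup.centralizer (A : Set G) ∧ x ∈ Subgroup.upperCentralSeries G n ∧
      x ∉ A :=
    ⟨Group.nilpotencyClass G, c, hcC,
      Subgroup.upperCentralSeries_nilpotencyClass (G := G) ▸ Subgroup.mem_top c, hcA⟩
  obtain ⟨x, hxC, hxZ, hxA⟩ := Nat.find_spec hex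
  obtain ⟨n, hn'⟩ : ∃ n, Nat.find hex = n + 1 := by
    refine ⟨Nat.find hex - 1, (Nat.succ_pred_eq_of_pos (Nat.pos_of_ne_zero fun h0 => ?_)).symm⟩
    rw [h0, Subgroup.upperCentralSeries_zero, Subgroup.mem_bot] at hxZ
    exact hxA (hxZ ▸ A.one_mem)
  have hCn : (Subgroup.centralizer (A : Set G)).Normal := inferInstance
  have hcomm : ∀ g : G, x * g * x⁻¹ * g⁻¹ ∈ A := by
    intro g
    by_contra hg
    refine Nat.find_min hex (m := n) (by omega) ⟨_, ?_, ?_, hg⟩
    · have e : x * g * x⁻¹ * g⁻¹ = x * (g * x⁻¹ * g⁻¹) := by group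
      rw [e]
      exact mul_mem hxC (hCn.conj_mem _ (inv_mem hxC) g)
    · rw [hn', Subgroup.mem_upperCentralSeries_succ_iff] at hxZ
      exact hxZ g
  -- the join of A and the powers of x is abelian and normal
  set B := Subgroup.closure ((A : Set G) ∪ {x}) with hB
  have hBc : IsMulCommutative B := by
    refine Subgroup.isMulCommutative_closure ?_
    intro a ha b hb
    rw [Set.mem_union, Set.mem_singleton_iff] at ha hb
    rcases ha with ha | rfl <;> rcases hb with hb | rfl
    · exact Subgroup.mul_comm_of_mem_isMulCommutative A ha hb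
    · exact Subgroup.mem_centralizer_iff.mp hxC a ha
    · exact (Subgroup.mem_centralizer_iff.mp hxC b hb).symm
    · rfl
  have hBn : B.Normal := by
    refine ⟨fun b hb g => ?_⟩
    induction hb using Subgroup.closure_induction with
    | mem b hb =>
      rw [Set.mem_union, Set.mem_singleton_iff] at hb
      rcases hb with hb | rfl
      · exact Subgroup.subset_closure (Or.inl (hAn.conj_mem b hb g))
      · have e : g * b * g⁻¹ = (b * g * b⁻¹ * g⁻¹)⁻¹ * b := by group
        rw [e]
        exact mul_mem (Subgroup.subset_closure (Or.inl (inv_mem (hcomm g))))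
          (Subgroup.subset_closure (Or.inr rfl))
    | one => simp
    | mul a b _ _ ha hb =>
      have e : g * (a * b) * g⁻¹ = g * a * g⁻¹ * (g * b * g⁻¹) := by group
      rw [e]; exact mul_mem ha hb
    | inv a _ ha =>
      have e : g * a⁻¹ * g⁻¹ = (g * a * g⁻¹)⁻¹ := by group
      rw [e]; exact inv_mem ha
  have hle : A ≤ B := fun a ha => Subgroup.subset_closure (Or.inl ha)
  exact hxA (hmax (show B.Normal ∧ IsMulCommutative B from ⟨hBn, hBc⟩) hle
    (Subgroup.subset_closure (Or.inr rfl)))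

theorem le_puigSeq_of_normal {A : Subgroup G} [hAn : A.Normal] (hA : IsMulCommutative A) {i : ℕ}
    (hi : 0 < i) : A ≤ Cfsg.puigSeq G i := by
  obtain ⟨j, rfl⟩ := Nat.exists_eq_succ_of_ne_zero hi.ne'
  exact le_puigStep hA (by rw [Subgroup.normalizer_eq_top]; exact le_top)

end Cfsg.Agent.OddLocal.Puig
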