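import Cfsg.Agent.Lib.PGroups.Alperin
import Cfsg.Agent.Lib.PGroups.AbelianNormal
import Cfsg.Agent.Lib.PGroups.Normal
import Cfsg.Agent.Lib.Coprime.PGroup
import Cfsg.Agent.Lib.PLocal.ThompsonSubgroup
import Cfsg.Prelude.Def_OddOrderLocal

/-! `p`-groups of odd order and rank at least three. -/

set_option autoImplicit false
set_option linter.unusedSectionVars false

namespace Cfsg.Agent.OddLocal.RankThree

open Cfsg Subgroup

variable {R : Type*} [Group R] [Finite R] {p : ℕ} [hp : Fact p.Prime]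

/-- Some normal elementary abelian subgroup containing a given one has order at least `p³`. -/
theorem exists_normal_elementary (hp2 : p ≠ 2) (hR : IsPGroup p R) (hr : ¬ PRankLE p 2 R)
    (E : Subgroup R) [E.Normal] (hE : IsElementaryAbelian p E) :
    ∃ A : Subgroup R, E ≤ A ∧ A.Normal ∧ IsElementaryAbelian p A ∧ p ^ 3 ≤ Nat.card A := by
  obtain ⟨A, hEA, hA⟩ := (Set.toFinite {A : Subgroup R | A.Normal ∧ IsElementaryAbelian p A}).exists_le_maximal
    (show E ∈ _ from ⟨inferInstance, hE⟩)
  obtain ⟨hAn, hAe⟩ := hA.1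
  refine ⟨A, hEA, hAn, hAe, ?_⟩
  have hmax : ∀ B : Subgroup R, B.Normal → IsMulCommutative B → (∀ b ∈ B, b ^ p ^ 1 = 1) → A ≤ B → B = A :=
    fun B hB hB' hexp hAB => le_antisymm
      (hA.2 ⟨hB, hB', fun b hb => by simpa using hexp b hb⟩ hAB) hAB
  have := hAe.1
  have key : ∀ x ∈ centralizer (A : Set R), x ^ p = 1 → x ∈ A := fun x hx hxp =>
    PGroups.Alperin.mem_of_pow_eq_one hR (n := 1) (by rwa [pow_one]) A
      (fun a ha => by rw [pow_one]; exact hAe.2 a ha) hmax hx (by rwa [pow_one])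
  obtain ⟨a, ha⟩ := (hR.to_subgroup A).exists_card_eq
  by_contra hlt
  rw [ha, Nat.pow_le_pow_iff_right hp.out.one_lt] at hlt
  obtain ⟨B, hBc, hBe, hB3⟩ : ∃ B : Subgroup R, IsMulCommutative B ∧ (∀ b ∈ B, b ^ p = 1) ∧
      p ^ 2 < Nat.card B := by
    unfold PRankLE at hr
    push Not at hr
    exact hr
  have hidx := PGroups.AbelianNormal.index_centralizer_le hR A ha
  have hidx1 : (centralizer (A : Set R)).index ≤ p := hidx.trans (by
    rcases Nat.lt_or_ge a 2 with h | h
    · rw [Nat.choose_eq_zero_of_lt h, pow_zero]; exact hp.out.one_le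
    · rw [show a = 2 by omega]; simp)
  have hBC : B ⊓ centralizer (A : Set R) ≤ A := fun x hx => key x hx.2 (hBe x hx.1)
  have h1 : p ^ 2 ≤ Nat.card (B ⊓ centralizer (A : Set R) : Subgroup R) := by
    have h2 := relIndex_mul_relIndex ⊥ (B ⊓ centralizer (A : Set R)) B bot_le inf_le_left
    rw [relIndex_bot_left, relIndex_bot_left, inf_relIndex_left] at h2
    have h3 : (centralizer (A : Set R)).relIndex B ≤ p :=
      (Nat.le_of_dvd (Nat.pos_of_ne_zero index_ne_zero_of_finite)
        (relIndex_dvd_index_of_normal _ B)).trans hidx1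
    have hBp := IsPGroup.to_subgroup hR B
    obtain ⟨b, hb⟩ := hBp.exists_card_eq
    obtain ⟨c, hc⟩ := (hR.to_subgroup (B ⊓ centralizer (A : Set R))).exists_card_eq
    rw [hb] at hB3 h2
    rw [hc]
    refine Nat.pow_le_pow_right hp.out.pos ?_
    by_contra hcon
    have h4 : p ^ b ≤ p ^ (c + 1) := by
      rw [← h2, hc, pow_succ]
      exact Nat.mul_le_mul_left _ h3
    have h5 := (Nat.pow_le_pow_iff_right hp.out.one_lt).mp h4
    have h6 := (Nat.pow_lt_pow_iff_right hp.out.one_lt).mp hB3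
    omega
  have hAB : A = B ⊓ centralizer (A : Set R) := by
    refine (eq_of_le_of_card_ge hBC ?_).symm
    rw [ha]
    exact le_trans (Nat.pow_le_pow_right hp.out.pos (by omega)) h1
  have hBle : B ≤ A := fun x hx => key x (mem_centralizer_iff.mpr fun y hy => by
    have hyB : y ∈ B := (hAB ▸ hy : y ∈ B ⊓ centralizer (A : Set R)).1
    exact setLike_mul_comm (s := B) hyB hx) (hBe x hx)
  have h7 := hB3.trans_le ((card_le_of_le hBle).trans ha.le)
  have := (Nat.pow_lt_pow_iff_right hp.out.one_lt).mp h7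
  omega

/-- A self-centralising normal abelian subgroup of rank at least three containing `E`. -/
theorem exists_scn_three (hp2 : p ≠ 2) (hR : IsPGroup p R) (hr : ¬ PRankLE p 2 R)
    (E : Subgroup R) [E.Normal] (hE : IsElementaryAbelian p E) :
    ∃ A : Subgroup R, E ≤ A ∧ A.Normal ∧ centralizer (A : Set R) = A ∧ ¬ PRankLE p 2 A := by
  obtain ⟨A₀, hEA, hn, hA₀, h3⟩ := exists_normal_elementary hp2 hR hr E hE
  obtain ⟨A, hle, hA⟩ := (Set.toFinite {A : Subgroup R | A.Normal ∧ IsMulCommutative A}).exists_le_maximal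
    (show A₀ ∈ _ from ⟨hn, hA₀.1⟩)
  obtain ⟨hAn, hAc⟩ := hA.1
  refine ⟨A, hEA.trans hle, hAn, PGroups.AbelianNormal.centralizer_eq_self hR A
    (fun B hB hB' hAB => le_antisymm (hA.2 ⟨hB, hB'⟩ hAB) hAB), fun h => ?_⟩
  have := hA₀.1
  have h1 := h (A₀.subgroupOf A) inferInstance (fun a ha => Subtype.ext (hA₀.2 a ha))
  rw [Nat.card_congr (subgroupOfEquivOfLe hle).toEquiv] at h1
  have := (Nat.pow_le_pow_iff_right hp.out.one_lt).mp (h3.trans h1)
  omega

/-- The elements of order dividing `p` of the centre. -/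
theorem exists_center_order_p (hR : IsPGroup p R) [Nontrivial R] :
    ∃ z ∈ center R, z ^ p = 1 ∧ z ≠ 1 := by
  have := hR.center_nontrivial
  obtain ⟨j, hj0, hj⟩ := (hR.to_subgroup (center R)).nontrivial_iff_card.mp inferInstance
  obtain ⟨z, hz⟩ := exists_prime_orderOf_dvd_card' (G := center R) p (hj ▸ dvd_pow_self p hj0.ne')
  rw [← orderOf_coe] at hz
  exact ⟨z, z.2, hz ▸ pow_orderOf_eq_one (z : R), fun h => hp.out.ne_one (by rw [← hz, h, orderOf_one])⟩

theorem omega_center (E : Subgroup R) (hEmax : ∀ B : Subgroup R, IsElementaryAbelian p B → E ≤ B → B = E)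
    (hE : IsElementaryAbelian p E) {x : R} (hx : x ∈ centralizer (E : Set R)) (hxp : x ^ p = 1) :
    x ∈ E := by
  have h := hEmax _ (PLocal.ThompsonSubgroup.IsElementaryAbelian.sup hE
    (PLocal.ThompsonSubgroup.isElementaryAbelian_zpowers hxp) (zpowers_le.mpr hx |> le_centralizer_iff.mp))
    le_sup_left
  exact h ▸ mem_sup_right (mem_zpowers x)

/-- `[N, R]` is central for a normal subgroup `N` of order `p²`. -/
theorem commutator_le_center (hR : IsPGroup p R) (N : Subgroup R) [N.Normal] (hN : Nat.card N = p ^ 2) :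
    ⁅N, (⊤ : Subgroup R)⁆ ≤ center R := by
  set K := ⁅N, (⊤ : Subgroup R)⁆ with hK
  rcases eq_or_ne K ⊥ with h | h
  · rw [h]; exact bot_le
  have : Group.IsNilpotent (⊤ : Subgroup R) := (hR.to_subgroup ⊤).isNilpotent
  have hN1 : N ≠ ⊥ := fun e => by
    rw [e, card_bot] at hN
    exact absurd hN (Nat.one_lt_pow two_ne_zero hp.out.one_lt).ne
  have hlt : K < N := Cfsg.Agent.Coprime.commutator_lt_of_isNilpotent le_top hN1 (by
    rw [normalizer_eq_top_iff.mpr inferInstance])
  obtain ⟨i, hi, hic⟩ := (Nat.dvd_prime_pow hp.out).mp (hN ▸ card_dvd_of_le hlt.le)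
  have hi1 : i ≤ 1 := by
    by_contra hi1
    exact hlt.ne (eq_of_le_of_card_ge hlt.le (by rw [hN, hic, show i = 2 by omega]))
  have := hR.isNilpotent
  have hint : K ⊓ center R ≠ ⊥ := Cfsg.Agent.Cores.inf_center_ne_bot h
  obtain ⟨j, hj, hjc⟩ := (Nat.dvd_prime_pow hp.out).mp (hic ▸ card_dvd_of_le (inf_le_left : K ⊓ center R ≤ K))
  have hj0 : j ≠ 0 := fun e => hint (eq_bot_of_card_eq _ (by rw [hjc, e, pow_zero]))
  exact inf_eq_left.mp (eq_of_le_of_card_ge inf_le_left (by rw [hic, hjc, show j = i by omega]))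

/-- The structure around a maximal elementary abelian subgroup of order `p²`. -/
theorem maximal_rank_two (hp2 : p ≠ 2) (hR : IsPGroup p R) (hr : ¬ PRankLE p 2 R) (E : Subgroup R)
    (hE : IsElementaryAbelian p E) (hE2 : Nat.card E = p ^ 2)
    (hEmax : ∀ B : Subgroup R, IsElementaryAbelian p B → E ≤ B → B = E) :
    ¬ E ≤ centralizer ((closure {x : R | x ∈ Subgroup.upperCentralSeries R 2 ∧ x ^ p = 1} : Subgroup R) : Set R) ∧
    Nat.card ↥(closure {x : R | x ∈ center R ∧ x ^ p = 1}) = p ∧
    (IsElementaryAbelian p (closure {x : R | x ∈ Subgroup.upperCentralSeries R 2 ∧ x ^ p = 1}) ∧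
      Nat.card ↥(closure {x : R | x ∈ Subgroup.upperCentralSeries R 2 ∧ x ^ p = 1}) = p ^ 2) ∧
    (centralizer ((closure {x : R | x ∈ Subgroup.upperCentralSeries R 2 ∧ x ^ p = 1} : Subgroup R) : Set R)).Characteristic ∧
    (centralizer ((closure {x : R | x ∈ Subgroup.upperCentralSeries R 2 ∧ x ^ p = 1} : Subgroup R) : Set R)).index = p := by
  set W := closure {x : R | x ∈ Subgroup.upperCentralSeries R 2 ∧ x ^ p = 1} with hWdef
  set Z := closure {x : R | x ∈ center R ∧ x ^ p = 1} with hZdef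
  have hEnn : ¬ E.Normal := by
    intro hn
    obtain ⟨A, hEA, -, hAe, hA3⟩ := exists_normal_elementary hp2 hR hr E hE
    rw [hEmax A hAe hEA, hE2, Nat.pow_le_pow_iff_right hp.out.one_lt] at hA3
    omega
  have hin : ∀ x ∈ center R, x ^ p = 1 → x ∈ E := fun x hx hxp =>
    omega_center E hEmax hE (center_le_centralizer _ hx) hxp
  have hZE : Z ≤ E := (closure_le _).mpr fun x hx => hin x hx.1 hx.2
  have hZc : Z ≤ center R := (closure_le _).mpr fun x hx => hx.1
  have hRnt : Nontrivial R := by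
    by_contra h
    rw [not_nontrivial_iff_subsingleton] at h
    have : Nat.card E = 1 := Nat.card_eq_one_iff_unique.mpr ⟨inferInstance, inferInstance⟩
    rw [hE2] at this
    exact absurd this (Nat.one_lt_pow two_ne_zero hp.out.one_lt).ne'
  obtain ⟨z, hzc, hzp, hz1⟩ := exists_center_order_p hR
  have hzZ : z ∈ Z := subset_closure ⟨hzc, hzp⟩
  have hZcard : Nat.card Z = p := by
    obtain ⟨i, hi, hic⟩ := (Nat.dvd_prime_pow hp.out).mp (hE2 ▸ card_dvd_of_le hZE)
    interval_cases i
    · exact absurd (mem_bot.mp (eq_bot_of_card_eq Z (by simpa using hic) ▸ hzZ)) hz1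
    · simpa using hic
    · exfalso
      have hZEeq : Z = E := eq_of_le_of_card_ge hZE (le_of_eq (hE2.trans hic.symm))
      refine hEnn ⟨fun x hx g => ?_⟩
      rwa [mem_center_iff.mp (hZc (hZEeq ▸ hx)) g, mul_inv_cancel_right]
  -- commutators of `W`
  have hcomm : ∀ x ∈ Subgroup.upperCentralSeries R 2, ∀ g : R, x * g * x⁻¹ * g⁻¹ ∈ center R := fun x hx g => by
    rw [← Subgroup.upperCentralSeries_one]
    exact Subgroup.mem_upperCentralSeries_succ_iff.mp hx g
  have hWc : W ≤ Subgroup.upperCentralSeries R 2 := (closure_le _).mpr fun x hx => hx.1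
  have hWexp : ∀ x ∈ W, x ^ p = 1 := by
    intro x hx
    induction hx using closure_induction with
    | mem x hx => exact hx.2
    | one => exact one_pow p
    | inv x _ h => rw [inv_pow, h, inv_one]
    | mul x y hx hy h1 h2 =>
      obtain ⟨c, hc, hxy⟩ : ∃ c ∈ center R, x * y = c * (y * x) :=
        ⟨_, hcomm x (hWc hx) y, by group⟩
      have hcx : ∀ n : ℕ, x ^ n * y = c ^ n * (y * x ^ n) := by
        intro n
        induction n with
        | zero => simp
        | succ n ih =>
          have hcc : Commute c (x ^ n) := (mem_center_iff.mp hc _).symm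
          calc x ^ (n + 1) * y = x ^ n * (x * y) := by rw [pow_succ, mul_assoc]
            _ = x ^ n * c * (y * x) := by rw [hxy, mul_assoc]
            _ = c * (x ^ n * y) * x := by rw [← hcc.eq]; group
            _ = c * (c ^ n * (y * x ^ n)) * x := by rw [ih]
            _ = c ^ (n + 1) * (y * x ^ (n + 1)) := by rw [pow_succ' c, pow_succ x]; group
      have hcp : c ^ p = 1 := by
        have := hcx p
        rw [h1, one_mul, mul_one] at this
        simpa using this
      have hpow : ∀ n : ℕ, (y * x) ^ n = c ^ (n.choose 2) * (y ^ n * x ^ n) := by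
        intro n
        induction n with
        | zero => simp
        | succ n ih =>
          have hcc : ∀ m : ℕ, ∀ g : R, Commute (c ^ m) g := fun m g =>
            (Commute.pow_left ((mem_center_iff.mp hc g).symm : Commute c g) m)
          calc (y * x) ^ (n + 1) = c ^ n.choose 2 * (y ^ n * x ^ n) * (y * x) := by rw [pow_succ, ih]
            _ = c ^ n.choose 2 * y ^ n * (x ^ n * y) * x := by group
            _ = c ^ n.choose 2 * (y ^ n * c ^ n) * y * x ^ n * x := by rw [hcx n]; group
            _ = c ^ n.choose 2 * (c ^ n * y ^ n) * y * x ^ n * x := by rw [(hcc n (y ^ n)).eq]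
            _ = c ^ (n + 1).choose 2 * (y ^ (n + 1) * x ^ (n + 1)) := by
              rw [Nat.choose_succ_succ' n 1, Nat.choose_one_right, add_comm n, pow_add, pow_succ y,
                pow_succ x]
              group
      have hd : p ∣ p.choose 2 := hp.out.dvd_choose_self (by norm_num)
        (lt_of_le_of_ne hp.out.two_le (Ne.symm hp2))
      have hyx : (y * x) ^ p = 1 := by
        obtain ⟨t, ht⟩ := hd
        rw [hpow, h1, h2, ht, pow_mul, hcp, one_pow, one_mul, one_mul]
      have hcy : Commute c (y * x) := (mem_center_iff.mp hc _).symm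
      rw [hxy, hcy.mul_pow, hcp, hyx, one_mul]
  have hWnormal : W.Normal := by
    refine ⟨fun x hx g => ?_⟩
    exact subset_closure ⟨(inferInstance : (Subgroup.upperCentralSeries R 2).Normal).conj_mem x (hWc hx) g,
      by rw [conj_pow, hWexp x hx, mul_one, mul_inv_cancel]⟩
  have hZW : Z ≤ W := (closure_le _).mpr fun x hx => subset_closure
    ⟨Subgroup.upperCentralSeries_mono R (by norm_num : 1 ≤ 2) (by rw [Subgroup.upperCentralSeries_one]; exact hx.1), hx.2⟩
  have hcommZ : ∀ x ∈ W, ∀ g : R, x * g * x⁻¹ * g⁻¹ ∈ Z := by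
    intro x hx g
    have hc : x * g * x⁻¹ * g⁻¹ ∈ center R := hcomm x (hWc hx) g
    refine subset_closure ⟨hc, ?_⟩
    have h2 : x * g * x⁻¹ * g⁻¹ ∈ W := by
      have e : x * g * x⁻¹ * g⁻¹ = x * (g * x⁻¹ * g⁻¹) := by group
      rw [e]
      exact mul_mem hx (hWnormal.conj_mem _ (inv_mem hx) g)
    exact hWexp _ h2
  have hEW : ¬ E ≤ W := fun h => hEnn ⟨fun x hx g => by
    have e : g * x * g⁻¹ = x * (x⁻¹ * g * x * g⁻¹) := by group
    rw [e]
    refine mul_mem hx (hZE ?_)
    simpa using hcommZ x⁻¹ (inv_mem (h hx)) g⟩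
  have hWE : W ⊓ centralizer (E : Set R) ≤ Z := by
    intro x hx
    have hxE := omega_center E hEmax hE hx.2 (hWexp x hx.1)
    have hle : Z ≤ W ⊓ E := le_inf hZW hZE
    obtain ⟨i, hi, hic⟩ := (Nat.dvd_prime_pow hp.out).mp (hE2 ▸ card_dvd_of_le (inf_le_right : W ⊓ E ≤ E))
    have : Nat.card (W ⊓ E : Subgroup R) ≤ p := by
      rcases Nat.lt_or_ge i 2 with h | h
      · rw [hic]
        exact (Nat.pow_le_pow_right hp.out.pos (by omega : i ≤ 1)).trans (pow_one p).le
      · exact absurd ((eq_of_le_of_card_ge (inf_le_right : W ⊓ E ≤ E)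
          (by rw [hE2, hic, show i = 2 by omega])) ▸ inf_le_left) hEW
    rw [eq_of_le_of_card_ge hle (this.trans hZcard.ge)]
    exact ⟨hx.1, hxE⟩
  obtain ⟨e, he, heZ⟩ : ∃ e ∈ E, e ∉ Z := SetLike.not_le_iff_exists.mp fun h => by
    have := card_le_of_le h
    rw [hE2, hZcard] at this
    nlinarith [hp.out.two_le]
  have hEeq : zpowers e ⊔ Z = E := by
    refine eq_of_le_of_card_ge (sup_le (zpowers_le.mpr he) hZE) ?_
    obtain ⟨i, hi, hic⟩ := (Nat.dvd_prime_pow hp.out).mp
      (hE2 ▸ card_dvd_of_le (sup_le (zpowers_le.mpr he) hZE))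
    rcases Nat.lt_or_ge i 2 with h | h
    · exfalso
      refine heZ ?_
      rw [eq_of_le_of_card_ge (le_sup_right : Z ≤ zpowers e ⊔ Z) (by
        rw [hic, hZcard]
        exact (Nat.pow_le_pow_right hp.out.pos (by omega : i ≤ 1)).trans (pow_one p).le)]
      exact mem_sup_left (mem_zpowers e)
    · rw [hE2, hic]
      exact Nat.pow_le_pow_right hp.out.pos h
  -- the commutator map with `e`
  let θ : W →* center R :=
    { toFun := fun x => ⟨(x : R) * e * (x : R)⁻¹ * e⁻¹, hcomm x (hWc x.2) e⟩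
      map_one' := Subtype.ext (by simp)
      map_mul' := fun x y => Subtype.ext (by
        show (x * y : R) * e * ((x : R) * y)⁻¹ * e⁻¹ = (x * e * (x : R)⁻¹ * e⁻¹) * (y * e * (y : R)⁻¹ * e⁻¹)
        have h := mem_center_iff.mp (hcomm y (hWc y.2) e)
        calc (x * y : R) * e * ((x : R) * y)⁻¹ * e⁻¹
            = x * ((y * e * (y : R)⁻¹ * e⁻¹) * (e * (x : R)⁻¹ * e⁻¹)) := by group
          _ = x * ((e * (x : R)⁻¹ * e⁻¹) * (y * e * (y : R)⁻¹ * e⁻¹)) := by rw [← h]
          _ = _ := by group) }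
  have hθker : θ.ker.map W.subtype ≤ Z := by
    rintro _ ⟨x, hx, rfl⟩
    refine hWE ⟨x.2, ?_⟩
    rw [SetLike.mem_coe] at hx
    have h1 : (x : R) * e = e * x := by
      have := congrArg Subtype.val (show θ x = 1 from hx)
      exact mul_inv_eq_iff_eq_mul.mp (mul_inv_eq_one.mp this)
    have h2 : E ≤ centralizer ({(x : R)} : Set R) := by
      rw [← hEeq]
      refine sup_le (zpowers_le.mpr (mem_centralizer_singleton_iff.mpr h1.symm)) fun y hy => ?_
      exact mem_centralizer_singleton_iff.mpr (mem_center_iff.mp (hZc hy) x).symm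
    exact mem_centralizer_iff.mpr fun y hy => mem_centralizer_singleton_iff.mp (h2 hy)
  have hθrange : θ.range.map (center R).subtype ≤ Z := by
    rintro _ ⟨_, ⟨x, rfl⟩, rfl⟩
    exact hcommZ x x.2 e
  have hWle : Nat.card W ≤ p ^ 2 := by
    rw [← θ.ker.card_mul_index, index_ker, ← card_map_of_injective W.subtype_injective,
      ← card_map_of_injective (K := θ.range) (center R).subtype_injective, pow_two]
    exact Nat.mul_le_mul ((card_le_of_le hθker).trans hZcard.le) ((card_le_of_le hθrange).trans hZcard.le)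
  -- `W` has order at least `p²`
  have hWge : p ^ 2 ≤ Nat.card W := by
    obtain ⟨A, -, hAn, hAe, hA3⟩ := exists_normal_elementary hp2 hR hr ⊥
      PLocal.ThompsonSubgroup.isElementaryAbelian_bot
    obtain ⟨N, hNn, hNA, hNc⟩ := PGroups.Normal.exists_normal_le_card hR A 2
      (le_trans (Nat.pow_le_pow_right hp.out.pos (by norm_num)) hA3)
    rw [← hNc]
    refine card_le_of_le fun x hx => subset_closure ⟨?_, hAe.2 x (hNA hx)⟩
    refine Subgroup.mem_upperCentralSeries_succ_iff.mpr fun g => ?_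
    rw [Subgroup.upperCentralSeries_one]
    exact commutator_le_center hR N hNc (commutator_mem_commutator hx (mem_top g))
  have hWcard : Nat.card W = p ^ 2 := le_antisymm hWle hWge
  have hWchar : W.Characteristic := by
    refine characteristic_iff_map_le.mpr fun f => ?_
    rw [hWdef, MonoidHom.map_closure]
    refine (closure_le _).mpr ?_
    rintro _ ⟨x, hx, rfl⟩
    refine subset_closure ⟨?_, by show f x ^ p = 1; rw [← map_pow, hx.2, map_one]⟩
    exact characteristic_iff_map_le.mp inferInstance f ⟨x, hx.1, rfl⟩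
  refine ⟨?_, hZcard, ⟨⟨?_, hWexp⟩, hWcard⟩, inferInstance, ?_⟩
  · intro hle
    have h1 : W ≤ Z := fun x hx => hWE ⟨hx, le_centralizer_iff.mp hle hx⟩
    have h2 := card_le_of_le h1
    rw [hWcard, hZcard] at h2
    nlinarith [hp.out.two_le]
  · exact IsPGroup.isMulCommutative_of_card_eq_prime_sq hWcard
  · have h := PGroups.AbelianNormal.index_centralizer_le hR W hWcard
    simp only [Nat.choose_self, pow_one] at h
    obtain ⟨i, -, hic⟩ := (Nat.dvd_prime_pow hp.out).mp
      ((hR.exists_card_eq.choose_spec) ▸ (centralizer (W : Set R)).index_dvd_card)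
    rcases Nat.lt_or_ge i 1 with h0 | h0
    · exfalso
      have h1 : centralizer (W : Set R) = ⊤ := index_eq_one.mp (by rw [hic, show i = 0 by omega, pow_zero])
      have h1' : W ≤ Z := fun x hx => hWE ⟨hx, mem_centralizer_iff.mpr fun y _ =>
        (mem_centralizer_iff.mp (h1 ▸ mem_top y) x hx).symm⟩
      have h2 := card_le_of_le h1'
      rw [hWcard, hZcard] at h2
      nlinarith [hp.out.two_le]
    · refine le_antisymm h ?_
      rw [hic]
      exact Nat.le_self_pow (by omega) p

end Cfsg.Agent.OddLocal.RankThree
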