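import Cfsg.Agent.OddLocal.NonabelianUnique
import Cfsg.Agent.OddLocal.RankThree
import Cfsg.Agent.Lib.PLocal.CyclicExtension
import Cfsg.Agent.S1414

/-! Centralisers of elements of order `p` at primes of `σ(M)` (BG 12.14). -/

set_option autoImplicit false
set_option linter.unusedSectionVars false

namespace Cfsg.Agent.OddLocal.SigmaElem

open Cfsg Subgroup
open scoped commutatorElement

variable {G : Type*} [Group G] [Finite G] {p : ℕ} [hp : Fact p.Prime] {M : Subgroup G}

/-- In a group of exponent `p` and rank at least three, a derived element centralises a rank three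
elementary abelian subgroup. -/
theorem exists_rank_three_of_commutator {R : Type*} [Group R] [Finite R] (hp2 : p ≠ 2) (hR : IsPGroup p R)
    (hr : ¬ PRankLE p 2 R) {x : R} (hx : x ∈ commutator R) (hxp : x ^ p = 1) :
    ∃ B : Subgroup R, IsElementaryAbelian p B ∧ p ^ 3 ≤ Nat.card B ∧ B ≤ centralizer ({x} : Set R) := by
  have hnc : ¬ IsCyclic (⊤ : Subgroup R) := fun h => hr fun B hB hB' => by
    have : IsCyclic R := isCyclic_of_surjective _ (topEquiv (G := R)).surjective
    obtain ⟨g, hg⟩ := (inferInstance : IsCyclic B).exists_generator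
    rw [← orderOf_eq_card_of_forall_mem_zpowers hg]
    exact (Nat.le_of_dvd hp.out.pos (orderOf_dvd_of_pow_eq_one (Subtype.ext (hB' g g.2)))).trans
      (Nat.le_self_pow two_ne_zero p)
  obtain ⟨E, -, hEn, hEe, hEc⟩ :=
    PLocal.CyclicExtension.exists_normal_elementaryAbelian_sq hp2 hR ⊤ hnc
  have : Group.IsNilpotent R := hR.isNilpotent
  have hfix : x ∈ centralizer (E : Set R) := by
    set K := ⁅E, (⊤ : Subgroup R)⁆ with hK
    have hE1 : E ≠ ⊥ := fun e => by
      rw [e, card_bot] at hEc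
      exact (Nat.one_lt_pow two_ne_zero hp.out.one_lt).ne hEc
    have : Group.IsNilpotent (⊤ : Subgroup R) := Group.nilpotent_of_mulEquiv (Subgroup.topEquiv (G := R)).symm
    have hN : ∀ X : Subgroup R, X.Normal → (⊤ : Subgroup R) ≤ normalizer (X : Set R) := fun X hX => by
      rw [normalizer_eq_top_iff.mpr hX]
    have hlt : K < E := Coprime.commutator_lt_of_isNilpotent le_top hE1 (hN E hEn)
    have hK2 : ⁅K, (⊤ : Subgroup R)⁆ = ⊥ := by
      by_contra hne
      have hK1 : K ≠ ⊥ := fun e => hne (by rw [e, commutator_bot_left])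
      have hlt2 : ⁅K, (⊤ : Subgroup R)⁆ < K :=
        Coprime.commutator_lt_of_isNilpotent le_top hK1 (hN K (commutator_normal E ⊤))
      obtain ⟨i, hi⟩ := (hR.to_subgroup K).exists_card_eq
      obtain ⟨j, hj⟩ := (hR.to_subgroup ⁅K, (⊤ : Subgroup R)⁆).exists_card_eq
      have h1 := Sigma.card_lt_of_lt hlt
      have h2 := Sigma.card_lt_of_lt hlt2
      rw [hi, hEc, Nat.pow_lt_pow_iff_right hp.out.one_lt] at h1
      rw [hj, hi, Nat.pow_lt_pow_iff_right hp.out.one_lt] at h2
      have : j ≠ 0 := fun e => hne (card_eq_one.mp (by rw [hj, e, pow_zero]))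
      omega
    have h3 : ⁅⁅(⊤ : Subgroup R), (⊤ : Subgroup R)⁆, E⁆ = ⊥ := by
      refine commutator_commutator_eq_bot_of_rotate ?_ hK2
      rw [commutator_comm (⊤ : Subgroup R) E]
      exact hK2
    exact (commutator_eq_bot_iff_le_centralizer.mp h3) (_root_.commutator_def R ▸ hx)
  by_cases hxE : x ∈ E
  · obtain ⟨A, hEA, -, hAe, hA3⟩ := RankThree.exists_normal_elementary hp2 hR hr E hEe
    exact ⟨A, hAe, hA3, fun a ha => mem_centralizer_singleton_iff.mpr
      (Components.Hyperplane.mem_comm hAe ha (hEA hxE))⟩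
  · have hsup := PLocal.ThompsonSubgroup.IsElementaryAbelian.sup hEe
      (PLocal.ThompsonSubgroup.isElementaryAbelian_zpowers hxp) (le_centralizer_iff.mp (zpowers_le.mpr hfix))
    refine ⟨E ⊔ zpowers x, hsup, ?_, fun a ha => mem_centralizer_singleton_iff.mpr
      (Components.Hyperplane.mem_comm hsup ha (mem_sup_right (mem_zpowers x)))⟩
    have hlt : Nat.card E < Nat.card (E ⊔ zpowers x : Subgroup R) :=
      Sigma.card_lt_of_lt (lt_of_le_of_ne le_sup_left fun e => hxE (e ▸ mem_sup_right (mem_zpowers x)))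
    obtain ⟨n, hn⟩ := (hR.to_subgroup (E ⊔ zpowers x)).exists_card_eq
    rw [hn, hEc] at hlt
    rw [hn]
    exact Nat.pow_le_pow_right hp.out.pos ((Nat.pow_lt_pow_iff_right hp.out.one_lt).mp hlt)

/-- In a group of order `p³` commutators are central. -/
theorem commutator_le_center_of_card {R : Type*} [Group R] [Finite R] (hc : Nat.card R = p ^ 3) :
    commutator R ≤ center R := by
  have hR : IsPGroup p R := IsPGroup.of_card hc
  rw [commutator_eq_closure, closure_le]
  rintro _ ⟨a, b, rfl⟩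
  obtain ⟨n, hn⟩ := (hR.to_quotient (center R)).exists_card_eq
  have hN : Nontrivial R := Finite.one_lt_card_iff_nontrivial.mp (hc ▸ Nat.one_lt_pow three_ne_zero hp.out.one_lt)
  have hlt : n ≤ 2 := by
    have := hR.center_nontrivial
    have h1 : 1 < Nat.card (center R) := Finite.one_lt_card_iff_nontrivial.mpr inferInstance
    have h2 := card_mul_index (center R)
    rw [index_eq_card, hn, hc] at h2
    by_contra h
    have h3 : p ^ 3 ≤ p ^ n := Nat.pow_le_pow_right hp.out.pos (by omega)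
    nlinarith [Nat.one_le_pow 3 p hp.out.pos]
  have hcomm : ∀ u v : R ⧸ center R, u * v = v * u := by
    interval_cases n
    · have : Subsingleton (R ⧸ center R) := Finite.card_le_one_iff_subsingleton.mp (by simp [hn])
      exact fun u v => Subsingleton.elim _ _
    · have := isCyclic_of_prime_card (α := R ⧸ center R) (p := p) (by simpa using hn)
      exact fun u v => (IsCyclic.isMulCommutative (α := R ⧸ center R)).is_comm.comm u v
    · exact IsPGroup.commutative_of_card_eq_prime_sq hn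
  refine (QuotientGroup.eq_one_iff _).mp ?_
  rw [← QuotientGroup.mk'_apply, map_commutatorElement, commutatorElement_eq_one_iff_mul_comm]
  exact hcomm _ _

/-- A nonabelian Sylow subgroup of rank two centralises its derived subgroup. -/
theorem le_centralizer_commutator (hG : IsMinSimpleOddOrder G) (S : Sylow p G)
    (hr : PRankLE p 2 (S : Subgroup G)) :
    (S : Subgroup G) ≤ centralizer ((⁅(S : Subgroup G), (S : Subgroup G)⁆ : Subgroup G) : Set G) := by
  rw [le_centralizer_iff, commutator_le]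
  rcases S1412.result hG p S hr with hab | ⟨P₁, P₂, hsup, hcomm, -, hcard, -, hP₂, -⟩
  · intro x hx y hy
    rw [show ⁅x, y⁆ = 1 from commutatorElement_eq_one_iff_mul_comm.mpr (setLike_mul_comm hx hy)]
    exact one_mem _
  have hP₂N : P₂ ≤ normalizer (P₁ : Set G) := le_trans
    (fun b hb => mem_centralizer_iff.mpr fun a ha => hcomm a ha b hb) (centralizer_le_normalizer _)
  intro x hx y hy
  rw [← hsup] at hx hy
  obtain ⟨u, hu, v, hv, rfl⟩ := (Coprime.mem_sup_of_le_normalizer hP₂N).mp hx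
  obtain ⟨u', hu', v', hv', rfl⟩ := (Coprime.mem_sup_of_le_normalizer hP₂N).mp hy
  have := hP₂
  have hvv : Commute v v' := setLike_mul_comm hv hv'
  have e : ⁅u * v, u' * v'⁆ = ⁅u, u'⁆ := by
    have h1 : Commute v u' := (hcomm u' hu' v hv).symm
    have h2 : Commute u v' := hcomm u hu v' hv'
    simp only [commutatorElement_def, mul_inv_rev]
    calc u * v * (u' * v') * (v⁻¹ * u⁻¹) * (v'⁻¹ * u'⁻¹)
        = u * (v * u') * (v' * v⁻¹) * u⁻¹ * v'⁻¹ * u'⁻¹ := by group
      _ = u * (u' * v) * (v⁻¹ * v') * u⁻¹ * v'⁻¹ * u'⁻¹ := by rw [h1.eq, hvv.symm.inv_right.eq]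
      _ = u * u' * (v' * u⁻¹) * v'⁻¹ * u'⁻¹ := by group
      _ = u * u' * (u⁻¹ * v') * v'⁻¹ * u'⁻¹ := by rw [h2.symm.inv_right.eq]
      _ = u * u' * u⁻¹ * u'⁻¹ := by group
  rw [e]
  have hcen : (⁅(⟨u, hu⟩ : P₁), ⟨u', hu'⟩⁆ : P₁) ∈ center P₁ :=
    commutator_le_center_of_card hcard (commutator_mem_commutator (mem_top _) (mem_top _))
  refine mem_centralizer_iff.mpr fun z hz => ?_
  rw [SetLike.mem_coe, ← hsup] at hz
  obtain ⟨a, ha, b, hb, rfl⟩ := (Coprime.mem_sup_of_le_normalizer hP₂N).mp hz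
  have h1 : Commute a ⁅u, u'⁆ := congrArg Subtype.val (mem_center_iff.mp hcen ⟨a, ha⟩)
  have h2 : Commute b ⁅u, u'⁆ := (hcomm _ (mul_mem (mul_mem (mul_mem hu hu') (inv_mem hu)) (inv_mem hu'))
    b hb).symm
  exact (h1.mul_left h2).eq

/-- The derived elements of `M_σ` in a Sylow subgroup lie in the derived group of that subgroup. -/
theorem mem_commutator_sylow (hG : IsMinSimpleOddOrder G) (hM : IsCoatom M) (hpσ : p ∈ sigma M)
    (hpβ : p ∉ beta M) (S : Sylow p G) (hSM : (S : Subgroup G) ≤ M) {x : G} (hxS : x ∈ (S : Subgroup G))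
    (hx : x ∈ ⁅sigmaCore M, sigmaCore M⁆) : x ∈ ⁅(S : Subgroup G), (S : Subgroup G)⁆ := by
  obtain ⟨P, N, hN, hNP⟩ := ((S1414.result hG M hM).2.2.2.2 p hp.out hpσ.2.1 hpβ).2.1
  set Q : Sylow p (sigmaCore M) := S.subtype (Sigma.sylow_le_sigmaCore hG hM hpσ S.isPGroup' hSM) with hQ
  set f := QuotientGroup.mk' N with hf
  have hfs : Function.Surjective f := QuotientGroup.mk'_surjective _
  have hq : IsPGroup p (↥(sigmaCore M) ⧸ N) := by
    obtain ⟨k, hk⟩ := P.isPGroup'.exists_card_eq
    exact IsPGroup.of_card (n := k) (by rw [← index_eq_card, hNP.symm.index_eq_card, hk])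
  have htop : (Q : Subgroup (sigmaCore M)).map f = ⊤ := by
    rw [← Sylow.coe_mapSurjective hfs]
    exact ((Q.mapSurjective hfs).is_maximal' (hq.to_subgroup ⊤) le_top).symm
  obtain ⟨x', hx', rfl⟩ : x ∈ (commutator (sigmaCore M)).map (sigmaCore M).subtype := by
    rwa [map_subtype_commutator]
  have h1 : f x' ∈ (⁅(Q : Subgroup (sigmaCore M)), (Q : Subgroup (sigmaCore M))⁆).map f := by
    rw [map_commutator, htop, ← map_top_of_surjective f hfs, ← map_commutator, ← _root_.commutator_def]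
    exact mem_map_of_mem f hx'
  obtain ⟨w, hw, hwe⟩ := h1
  have hwQ : w ∈ (Q : Subgroup (sigmaCore M)) := commutator_le_self _ hw
  have h2 : w⁻¹ * x' ∈ N := QuotientGroup.eq.mp hwe
  have h3 : w⁻¹ * x' = 1 := by
    have h4 : w⁻¹ * x' ∈ (Q : Subgroup (sigmaCore M)) := mul_mem (inv_mem hwQ) hxS
    obtain ⟨j, hj⟩ := Q.isPGroup' ⟨_, h4⟩
    refine orderOf_eq_one_iff.mp (Nat.eq_one_of_dvd_coprimes ?_ (N.orderOf_dvd_natCard h2)
      (orderOf_dvd_of_pow_eq_one (congrArg Subtype.val hj)))
    refine Nat.Coprime.pow_right j ?_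
    rw [← hNP.index_eq_card]
    exact (hp.out.coprime_iff_not_dvd.mpr P.not_dvd_index).symm
  rw [inv_mul_eq_one.mp h3] at hw
  have h5 := mem_map_of_mem (sigmaCore M).subtype hw
  rw [map_commutator, hQ, Sylow.coe_subtype,
    map_subgroupOf_eq_of_le (Sigma.sylow_le_sigmaCore hG hM hpσ S.isPGroup' hSM)] at h5
  exact h5

/-- BG 12.14 -/
theorem main (hG : IsMinSimpleOddOrder G) (hM : IsCoatom M) (hpσ : p ∈ sigma M) {X : Subgroup G}
    (hXM : X ≤ M) (hX : Nat.card X = p) (h : p ∈ beta M ∨ X ≤ ⁅sigmaCore M, sigmaCore M⁆) :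
    (centralizer (X : Set G) ≤ M ∧ ∀ L : Subgroup G, IsCoatom L → centralizer (X : Set G) ≤ L → L = M) ∧
      ∀ S : Sylow p G, (S : Subgroup G) ≤ M → InUniqueMaximal (S : Subgroup G) := by
  have hp2 : p ≠ 2 := Unique.ne_two hG hpσ.2.1
  obtain ⟨S, hXS, hSM⟩ := Sigma.exists_sylow_ge hpσ (IsPGroup.of_card (n := 1) (by rw [hX, pow_one])) hXM
  obtain ⟨x, hx, hx1⟩ := (bot_or_exists_ne_one X).resolve_left fun e => by
    rw [e, card_bot] at hX
    exact hp.out.ne_one hX.symm
  have hxp : x ^ p = 1 := orderOf_dvd_iff_pow_eq_one.mp (hX ▸ X.orderOf_dvd_natCard hx)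
  have hXx : zpowers x = X := eq_of_le_of_card_ge (zpowers_le.mpr hx)
    (by rw [hX, Nat.card_zpowers, orderOf_eq_prime hxp hx1])
  -- a witness inside `C(X) ∩ M` pinning down `M`
  suffices hw : (∃ W : Subgroup G, W ≤ M ∧ W ≤ centralizer ({x} : Set G) ∧ InUniqueMaximal W) ∧
      ∀ S : Sylow p G, (S : Subgroup G) ≤ M → InUniqueMaximal (S : Subgroup G) by
    obtain ⟨⟨W, hWM, hWC, hW⟩, hS⟩ := hw
    rw [← hXx, TauTwo.centralizer_zpowers]
    have huniq : ∀ L : Subgroup G, IsCoatom L → centralizer ({x} : Set G) ≤ L → L = M :=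
      fun L hL hCL => hW.unique ⟨hL, hWC.trans hCL⟩ ⟨hM, hWM⟩
    obtain ⟨L, hL, hCL⟩ := (eq_top_or_exists_le_coatom (centralizer ({x} : Set G))).resolve_left
      (Max2.centralizer_ne_top hG hx1)
    exact ⟨⟨huniq L hL hCL ▸ hCL, huniq⟩, hS⟩
  by_cases hr : PRankLE p 2 (S : Subgroup G)
  · have hpr := NarrowSolvable.pRankLE_of_sylow S hr
    have hpβ : p ∉ beta M := fun hb => hb.2.2.1 hpr
    have hxS' := mem_commutator_sylow hG hM hpσ hpβ S hSM (hXS hx) (h.resolve_left hpβ hx)
    have hna : ¬ IsMulCommutative (S : Subgroup G) := fun hab => hx1 (by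
      rw [commutator_eq_bot_iff_le_centralizer.mpr (le_centralizer_iff_isMulCommutative.mpr hab),
        mem_bot] at hxS'
      exact hxS')
    refine ⟨⟨S, hSM, fun y hy => mem_centralizer_singleton_iff.mpr ?_,
      NonabelianUnique.inUniqueMaximal hG S.isPGroup' hna⟩, fun T hT => ?_⟩
    · exact (mem_centralizer_iff.mp (le_centralizer_commutator hG S hr hy) x hxS').symm
    · refine NonabelianUnique.inUniqueMaximal hG T.isPGroup' fun hab => hna ⟨⟨fun a b => ?_⟩⟩
      exact (S.equiv T).injective (by rw [map_mul, map_mul]; exact hab.is_comm.comm _ _)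
  · have hS3 : ∀ T : Sylow p G, ¬ PRankLE p 2 (T : Subgroup G) := fun T hT =>
      hr (RankTwoFitting.pRankLE_of_le (NarrowSolvable.pRankLE_of_sylow T hT))
    obtain ⟨W, hWS, hWe, hW3, hWC⟩ : ∃ W : Subgroup G, W ≤ (S : Subgroup G) ∧ IsElementaryAbelian p W ∧
        p ^ 3 ≤ Nat.card W ∧ W ≤ centralizer ({x} : Set G) := by
      by_cases hxc : x ∈ centralizer ((S : Subgroup G) : Set G)
      · obtain ⟨B, hBS, hBe, hBc⟩ := Unique.exists_elementary_of_not_pRankLE hr
        exact ⟨B, hBS, hBe, hBc.ge, fun b hb => mem_centralizer_singleton_iff.mpr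
          (mem_centralizer_iff.mp hxc b (hBS hb))⟩
      by_cases hpβ : p ∈ beta M
      · have hS1 : (S : Subgroup G) ≠ ⊥ := fun e => hx1 (mem_bot.mp (e ▸ hXS hx))
        obtain ⟨z, hz, hz1⟩ := (bot_or_exists_ne_one _).resolve_left
          (P2Elem.omegaCenter_ne_bot (q := p) S.isPGroup' hS1)
        have hxz : x ∉ zpowers z := fun hm => hxc ((zpowers_le.mpr hz.2.1) hm)
        have hA := PLocal.ThompsonSubgroup.IsElementaryAbelian.sup
          (PLocal.ThompsonSubgroup.isElementaryAbelian_zpowers hz.2.2)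
          (PLocal.ThompsonSubgroup.isElementaryAbelian_zpowers hxp)
          (zpowers_le.mpr (mem_centralizer_iff.mpr fun y hy => by
            obtain ⟨i, rfl⟩ := mem_zpowers_iff.mp hy
            exact ((show Commute x z from mem_centralizer_iff.mp hz.2.1 x (hXS hx)).zpow_left i).eq))
        have hAS : zpowers z ⊔ zpowers x ≤ (S : Subgroup G) :=
          sup_le (zpowers_le.mpr hz.1) (zpowers_le.mpr (hXS hx))
        have hgt : p ^ 2 ≤ Nat.card (zpowers z ⊔ zpowers x : Subgroup G) := by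
          have hlt := Sigma.card_lt_of_lt (lt_of_le_of_ne (le_sup_left : zpowers z ≤ _ ⊔ zpowers x)
            fun e => hxz (e ▸ mem_sup_right (mem_zpowers x)))
          obtain ⟨n, hn⟩ := (Components.Hyperplane.isPGroup hA).exists_card_eq
          rw [Nat.card_zpowers, orderOf_eq_prime hz.2.2 hz1, hn] at hlt
          rw [hn]
          exact Nat.pow_le_pow_right hp.out.pos
            ((Nat.pow_lt_pow_iff_right hp.out.one_lt).mp ((pow_one p).symm ▸ hlt))
        have hcomm : ∀ W : Subgroup G, IsElementaryAbelian p W → x ∈ W → W ≤ centralizer ({x} : Set G) :=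
          fun W hW hxW b hb => mem_centralizer_singleton_iff.mpr (Components.Hyperplane.mem_comm hW hb hxW)
        rcases hgt.lt_or_eq with hbig | heq
        · refine ⟨_, hAS, hA, ?_, hcomm _ hA (mem_sup_right (mem_zpowers x))⟩
          obtain ⟨n, hn⟩ := (Components.Hyperplane.isPGroup hA).exists_card_eq
          rw [hn] at hbig ⊢
          exact Nat.pow_le_pow_right hp.out.pos ((Nat.pow_lt_pow_iff_right hp.out.one_lt).mp hbig)
        · obtain ⟨B, hBS, hBe, hlt⟩ := hpβ.2.2.2 S _ hAS hA heq.symm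
          refine ⟨B, hBS, hBe, ?_, hcomm B hBe (hlt.le (mem_sup_right (mem_zpowers x)))⟩
          have h1 := Sigma.card_lt_of_lt hlt
          obtain ⟨n, hn⟩ := (Components.Hyperplane.isPGroup hBe).exists_card_eq
          rw [← heq, hn, Nat.pow_lt_pow_iff_right hp.out.one_lt] at h1
          rw [hn]
          exact Nat.pow_le_pow_right hp.out.pos h1
      · have hxS' := mem_commutator_sylow hG hM hpσ hpβ S hSM (hXS hx) (h.resolve_left hpβ hx)
        rw [← map_subtype_commutator] at hxS'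
        obtain ⟨y, hy, rfl⟩ := hxS'
        obtain ⟨B, hBe, hB3, hBC⟩ := exists_rank_three_of_commutator hp2 S.isPGroup' hr hy
          (Subtype.ext hxp)
        refine ⟨B.map (S : Subgroup G).subtype, map_subtype_le _,
          PLocal.ThompsonSubgroup.IsElementaryAbelian.map hBe _,
          (card_map_of_injective (S : Subgroup G).subtype_injective).ge.trans' hB3, ?_⟩
        rintro _ ⟨b, hb, rfl⟩
        exact mem_centralizer_singleton_iff.mpr
          (congrArg Subtype.val (mem_centralizer_singleton_iff.mp (hBC hb)))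
    refine ⟨⟨W, hWS.trans hSM, hWC, Unique.unique_of_abelian_rank_three hG
      (Components.Hyperplane.isPGroup hWe) hWe.1
      (Unique.not_pRankLE_of_elementary le_rfl hWe hW3)⟩, fun T hT => ⟨M, ⟨hM, hT⟩, fun L hL => ?_⟩⟩
    exact NonabelianUnique.alpha_unique hG T hM hT (hS3 T) hL.1 hL.2

end Cfsg.Agent.OddLocal.SigmaElem
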