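import Cfsg.Agent.Base.RecEqns
import Cfsg.Prelude.Def_Local
import Cfsg.Agent.Lib.PLocal.Cores

/-! Groups of `p`-length at most one. -/

namespace Cfsg.Agent.OddLocal

open Cfsg Subgroup

variable {G : Type*} [Group G] {p : ℕ}

theorem upperPSeries_one [Finite G] : (upperPSeries p G 1).1 = pPrimeCore p G := by
  have h1 : (upperPSeries p G 1).1 =
      (pPrimeCore p (G ⧸ (⊥ : Subgroup G))).comap (QuotientGroup.mk' ⊥) := by
    simp [upperPSeries]
    rfl
  rw [h1, ← PLocal.Cores.map_pPrimeCore_of_ker_coprime (QuotientGroup.mk'_surjective _)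
    (by rw [QuotientGroup.ker_mk', card_bot]; exact Nat.coprime_one_left p), comap_map_eq,
    QuotientGroup.ker_mk', sup_bot_eq]

theorem comap_mk'_pCore_congr {U : Subgroup G} [U.Normal] (h : U = pPrimeCore p G) :
    (pCore p (G ⧸ U)).comap (QuotientGroup.mk' U) = pPrimePCore p G := by
  subst h
  rfl

theorem upperPSeries_two [Finite G] : (upperPSeries p G 2).1 = pPrimePCore p G := by
  have h1 : (upperPSeries p G 2).1 =
      (pCore p (G ⧸ (upperPSeries p G 1).1)).comap (QuotientGroup.mk' _) := by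
    rw [upperPSeries.eq_2]
    simp
  rw [h1, comap_mk'_pCore_congr upperPSeries_one]

theorem pLengthLE_one_iff [Finite G] :
    PLengthLE p 1 G ↔ (pPrimePCore p G).index.Coprime p := by
  have h1 : (upperPSeries p G 3).1 =
      (pPrimeCore p (G ⧸ (upperPSeries p G 2).1)).comap (QuotientGroup.mk' _) := by
    rw [upperPSeries.eq_2]
    simp [show Even 2 by decide]
  have h2 : PLengthLE p 1 G ↔ pPrimeCore p (G ⧸ (upperPSeries p G 2).1) = ⊤ := by
    show (upperPSeries p G 3).1 = ⊤ ↔ _
    rw [h1]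
    constructor
    · intro h
      rw [← map_comap_eq_self_of_surjective (QuotientGroup.mk'_surjective _)
        (pPrimeCore p (G ⧸ (upperPSeries p G 2).1)), h,
        Subgroup.map_top_of_surjective _ (QuotientGroup.mk'_surjective _)]
    · intro h
      rw [h, comap_top]
  have hidx : (pPrimePCore p G).index = Nat.card (G ⧸ (upperPSeries p G 2).1) := by
    rw [← upperPSeries_two]; rfl
  rw [h2, hidx]
  constructor
  · intro h
    have := PLocal.Cores.coprime_card_pPrimeCore (p := p) (G := G ⧸ (upperPSeries p G 2).1)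
    rwa [h, card_top] at this
  · intro h
    refine top_le_iff.mp (PLocal.Cores.le_pPrimeCore ?_)
    rwa [card_top]

theorem sylow_le_pPrimePCore [Finite G] [Fact p.Prime] (h : PLengthLE p 1 G) (S : Sylow p G) :
    (S : Subgroup G) ≤ pPrimePCore p G := by
  rw [← relIndex_eq_one]
  obtain ⟨k, hk⟩ := S.isPGroup'.exists_card_eq
  have h1 : (pPrimePCore p G).relIndex S ∣ p ^ k := hk ▸ relIndex_dvd_card _ _
  have h2 : (pPrimePCore p G).relIndex S ∣ (pPrimePCore p G).index :=
    relIndex_dvd_index_of_normal _ _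
  have h3 := (pLengthLE_one_iff.mp h).pow_right k
  exact Nat.Coprime.eq_one_of_dvd (h3.coprime_dvd_left h2 |>.coprime_dvd_right dvd_rfl) h1

/-- In a group of `p`-length one, `O_{p',p}(G) = O_{p'}(G) S` for every Sylow `p`-subgroup `S`. -/
theorem pPrimeCore_sup_sylow [Finite G] [hp : Fact p.Prime] (h : PLengthLE p 1 G) (S : Sylow p G) :
    pPrimeCore p G ⊔ (S : Subgroup G) = pPrimePCore p G := by
  refine eq_of_le_of_card_ge (sup_le PLocal.Cores.pPrimeCore_le_pPrimePCore (sylow_le_pPrimePCore h S)) ?_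
  set K := pPrimeCore p G with hK
  obtain ⟨k, hk⟩ := PLocal.Cores.relIndex_pPrimePCore (G := G) (p := p)
  have hU : Nat.card (pPrimePCore p G) = Nat.card K * p ^ k := by
    rw [← hk, ← relIndex_bot_left, ← relIndex_bot_left,
      relIndex_mul_relIndex _ _ _ bot_le PLocal.Cores.pPrimeCore_le_pPrimePCore]
  have hpk : p ^ k ∣ Nat.card (S : Subgroup G) := by
    rw [S.card_eq_multiplicity]
    refine pow_dvd_pow p ((hp.out.pow_dvd_iff_le_factorization Nat.card_pos.ne').mp ?_)
    exact (Dvd.intro_left _ hU.symm).trans (card_subgroup_dvd_card _)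
  have hdisj : K ⊓ (S : Subgroup G) = ⊥ := by
    rw [inf_comm]
    exact PLocal.Cores.inf_eq_bot_of_isPGroup_of_coprime S.isPGroup' PLocal.Cores.coprime_card_pPrimeCore
  have hcard : Nat.card K * Nat.card (S : Subgroup G) = Nat.card (K ⊔ S : Subgroup G) := by
    rw [sup_comm, ← relIndex_bot_left (H := (S ⊔ K : Subgroup G)),
      ← relIndex_mul_relIndex ⊥ K (S ⊔ K) bot_le le_sup_right, relIndex_bot_left,
      relIndex_sup_right, ← inf_relIndex_right, hdisj, relIndex_bot_left]
  rw [hU, ← hcard]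
  exact Nat.mul_le_mul_left _ (Nat.le_of_dvd Nat.card_pos hpk)

theorem pPrimeCore_sup_sylow_normal [Finite G] [Fact p.Prime] (h : PLengthLE p 1 G)
    (S : Sylow p G) : (pPrimeCore p G ⊔ (S : Subgroup G)).Normal := by
  rw [pPrimeCore_sup_sylow h S]; infer_instance

/-- Frattini: in a group of `p`-length one, `G = O_{p'}(G) N(S)`. -/
theorem pPrimeCore_sup_normalizer [Finite G] [Fact p.Prime] (h : PLengthLE p 1 G)
    (S : Sylow p G) : pPrimeCore p G ⊔ normalizer ((S : Subgroup G) : Set G) = ⊤ := by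
  have := pPrimeCore_sup_sylow_normal h S
  have hle := sylow_le_pPrimePCore h S
  rw [eq_top_iff, ← Sylow.normalizer_sup_eq_top (S.subtype (le_sup_right :
    (S : Subgroup G) ≤ pPrimeCore p G ⊔ S))]
  refine sup_le ?_ (sup_le le_sup_left (le_sup_of_le_right le_normalizer))
  rw [Sylow.coe_subtype, map_subgroupOf_eq_of_le le_sup_right]
  exact le_sup_right

end Cfsg.Agent.OddLocal
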