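import Cfsg.Agent.OddLocal.PLengthOne
import Cfsg.Agent.S1461

/-! Sylow subgroups lie in the derived group of their normalizers (BG 10.7). -/

set_option autoImplicit false

namespace Cfsg.Agent.OddLocal.SylowNormalizer

open Cfsg Subgroup
open scoped commutatorElement

variable {G : Type*} [Group G] [Finite G] {p : ℕ} [Fact p.Prime]

theorem sylow_ne_top (hG : IsMinSimpleOddOrder G) (P : Sylow p G) : (P : Subgroup G) ≠ ⊤ := by
  intro e
  have hp : IsPGroup p G := by
    have h := P.isPGroup'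
    rw [e] at h
    exact h.of_equiv topEquiv
  have := Coprime.isSolvable_of_isPGroup hp
  have : IsSimpleGroup G := hG.2.1
  exact hG.2.2.1 ⟨⟨IsSimpleGroup.comm_iff_isSolvable.mpr inferInstance⟩⟩

theorem exists_maximal (hG : IsMinSimpleOddOrder G) (P : Sylow p G) (hP : (P : Subgroup G) ≠ ⊥) :
    ∃ M : Subgroup G, IsCoatom M ∧ normalizer ((P : Subgroup G) : Set G) ≤ M ∧ p ∈ sigma M := by
  obtain ⟨M, hM, hle⟩ := (eq_top_or_exists_le_coatom (normalizer ((P : Subgroup G) : Set G))).resolve_left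
    (Transitivity.normalizer_ne_top hG hP (sylow_ne_top hG P))
  have hPM : (P : Subgroup G) ≤ M := le_normalizer.trans hle
  refine ⟨M, hM, hle, Fact.out, ?_, P.subtype hPM, ?_⟩
  · obtain ⟨k, hk⟩ := P.isPGroup'.exists_card_eq
    have hk0 : k ≠ 0 := fun e => hP (card_eq_one.mp (by rw [hk, e, pow_zero]))
    exact (dvd_pow_self p hk0).trans (hk ▸ card_dvd_of_le hPM)
  · rwa [Sylow.coe_subtype, map_subgroupOf_eq_of_le hPM]

theorem le_commutator_normalizer (hG : IsMinSimpleOddOrder G) (P : Sylow p G) :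
    (P : Subgroup G) ≤ ⁅normalizer ((P : Subgroup G) : Set G), normalizer ((P : Subgroup G) : Set G)⁆ := by
  rcases eq_or_ne (P : Subgroup G) ⊥ with h | hP
  · rw [h]; exact bot_le
  obtain ⟨M, hM, hle, hσ⟩ := exists_maximal hG P hP
  have hPM : (P : Subgroup G) ≤ M := le_normalizer.trans hle
  have := Transitivity.isSolvable_of_ne_top hG hM.1
  have hS : ((P.subtype hPM : Sylow p M) : Subgroup M).map M.subtype = P := by
    rw [Sylow.coe_subtype, map_subgroupOf_eq_of_le hPM]
  have h1 := (S1461.result p (PLengthOne.pLengthLE_maximal hG hM) (P.subtype hPM)).1 (by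
    rw [← map_subtype_le_map_subtype, hS, map_subtype_commutator]
    exact Sigma.sylow_le_commutator hG hM hσ P hPM)
  have h2 := map_mono (f := M.subtype) h1
  rw [hS, map_commutator] at h2
  refine h2.trans (commutator_mono ?_ ?_) <;>
  · refine (le_normalizer_map _).trans (le_of_eq ?_)
    rw [hS]

theorem le_commutator_complement {P V : Subgroup G} (hPp : IsPGroup p P)
    (hV : IsComplIn P V (normalizer (P : Set G))) (h : P ≤ ⁅normalizer (P : Set G), normalizer (P : Set G)⁆) :
    P = ⁅P, V⁆ := by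
  obtain ⟨-, hVN, hPV, hmul⟩ := hV
  set T := ⁅P, V⁆ with hT
  have hTP : T ≤ P := Coprime.commutator_le_of_le_normalizer hVN
  refine (le_antisymm hTP ?_).symm
  have := hPp.isNilpotent
  refine (Coprime.eq_of_le_of_sup_commutator_eq hTP (le_antisymm
    (sup_le hTP (Coprime.commutator_le_of_le_normalizer le_normalizer)) ?_)).ge
  set L := T ⊔ ⁅P, P⁆ with hL
  have hLP : L ≤ P := sup_le hTP (Coprime.commutator_le_of_le_normalizer le_normalizer)
  have hPL : P ≤ normalizer (L : Set G) := PLengthZGroup.sup_le_normalizer (normalizer_commutator_ge_left P V)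
    (normalizer_commutator_ge_left P P)
  set W := L ⊔ V with hW
  have hVL : V ≤ normalizer (L : Set G) := PLengthZGroup.sup_le_normalizer (normalizer_commutator_ge_right P V)
    (hVN.trans (fun x hx => Coprime.FrobeniusPGroup.mem_normalizer_commutator hx hx))
  have hPW : P ≤ normalizer (W : Set G) := by
    intro b hb
    refine mem_normalizer_fintype fun y hy => ?_
    obtain ⟨l, hl, v, hv, rfl⟩ := (Coprime.mem_sup_of_le_normalizer hVL).mp hy
    rw [show b * (l * v) * b⁻¹ = (b * l * b⁻¹) * (⁅b, v⁆ * v) by rw [commutatorElement_def]; group]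
    exact mul_mem (mem_sup_left ((mem_normalizer_iff.mp (hPL hb) l).mp hl))
      (mul_mem (mem_sup_left (mem_sup_left (commutator_mem_commutator hb hv))) (mem_sup_right hv))
  have hax : ∀ a ∈ P, ∀ x ∈ normalizer (P : Set G), ⁅a, x⁆ ∈ L := by
    intro a ha x hx
    obtain ⟨b, hb, w, hw, rfl⟩ := hmul x hx
    rw [show ⁅a, b * w⁆ = ⁅a, b⁆ * (b * ⁅a, w⁆ * b⁻¹) by simp only [commutatorElement_def]; group]
    exact mul_mem (mem_sup_right (commutator_mem_commutator ha hb))
      ((mem_normalizer_iff.mp (hPL hb) _).mp (mem_sup_left (commutator_mem_commutator ha hw)))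
  have hNW : ⁅normalizer (P : Set G), normalizer (P : Set G)⁆ ≤ W := by
    rw [commutator_le]
    intro y hy x hx
    obtain ⟨a, ha, v, hv, rfl⟩ := hmul y hy
    rw [commutatorElement_mul_left_eq_conj_mul]
    refine mul_mem ((mem_normalizer_iff.mp (hPW ha) _).mp ?_) (mem_sup_left (hax a ha x hx))
    obtain ⟨b, hb, w, hw, rfl⟩ := hmul x hx
    rw [show ⁅v, b * w⁆ = ⁅v, b⁆ * (b * ⁅v, w⁆ * b⁻¹) by simp only [commutatorElement_def]; group]
    refine mul_mem ?_ ((mem_normalizer_iff.mp (hPW hb) _).mp ?_)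
    · rw [← commutatorElement_inv]
      exact inv_mem (mem_sup_left (mem_sup_left (commutator_mem_commutator hb hv)))
    · rw [commutatorElement_def]
      exact mem_sup_right (mul_mem (mul_mem (mul_mem hv hw) (inv_mem hv)) (inv_mem hw))
  intro g hg
  obtain ⟨l, hl, v, hv, rfl⟩ := (Coprime.mem_sup_of_le_normalizer hVL).mp (hNW (h hg))
  have hv1 : v ∈ P ⊓ V := ⟨by simpa using mul_mem (inv_mem (hLP hl)) hg, hv⟩
  rw [hPV, mem_bot] at hv1
  rw [hv1, mul_one]
  exact hl

end Cfsg.Agent.OddLocal.SylowNormalizer
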