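import Cfsg.Agent.OddLocal.SigmaSub
import Cfsg.Agent.OddLocal.SigmaElem
import Cfsg.Agent.OddLocal.SigmaCompl
import Cfsg.Agent.OddLocal.RegularPart
import Cfsg.Agent.OddLocal.RegularMain
import Cfsg.Agent.S1411

/-! Two maximal subgroups sharing primes (preparations for BG 13.1–13.4). -/

set_option autoImplicit false
set_option linter.unusedSectionVars false

namespace Cfsg.Agent.OddLocal.PrimeAction

open Cfsg Subgroup
open scoped commutatorElement Pointwise
open TauTwo (Ctx Nab centralizer_zpowers centralizer_map_conj commute_of_not_beta)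
open Cfsg.Agent.Transfer.Fusion (map_conj_mul card_map_conj map_conj_eq_self_iff map_conj_inv_cancel
  map_conj_le_iff coe_smul_eq_map)

variable {G : Type*} [Group G] [Finite G] {M L : Subgroup G}

theorem normalizer_map (g : G) (X : Subgroup G) :
    normalizer ((X.map (MulAut.conj g).toMonoidHom : Subgroup G) : Set G) =
      (normalizer (X : Set G)).map (MulAut.conj g).toMonoidHom :=
  (map_equiv_normalizer_eq X (MulAut.conj g)).symm

theorem sigma_map {p : ℕ} (hp : p ∈ sigma L) (g : G) : p ∈ sigma (L.map (MulAut.conj g).toMonoidHom) := by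
  have := Fact.mk hp.1
  obtain ⟨S, hSL, hN⟩ := Sigma.exists_sylow_normalizer_le hp
  refine mem_sigma (g • S) (hp.2.1.trans (card_subgroup_dvd_card L)) ?_
  rw [coe_smul_eq_map, normalizer_map]
  exact map_mono hN
where
  mem_sigma {p : ℕ} [hp : Fact p.Prime] {L : Subgroup G} (S : Sylow p G) (hp' : p ∣ Nat.card G)
      (hN : normalizer ((S : Subgroup G) : Set G) ≤ L) : p ∈ sigma L := by
    have hSL : (S : Subgroup G) ≤ L := le_normalizer.trans hN
    refine ⟨hp.out, (S.dvd_card_of_dvd_card hp').trans (card_dvd_of_le hSL), S.subtype hSL, ?_⟩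
    rwa [Sylow.coe_subtype, map_subgroupOf_eq_of_le hSL]

theorem sigma_of_map {p : ℕ} {g : G} (hp : p ∈ sigma (L.map (MulAut.conj g).toMonoidHom)) :
    p ∈ sigma L := by
  have := sigma_map hp g⁻¹
  rwa [map_conj_inv_cancel] at this

theorem pRank_map {p k : ℕ} [Fact p.Prime] (h : ¬ PRankLE p k L) (g : G) :
    ¬ PRankLE p k (L.map (MulAut.conj g).toMonoidHom : Subgroup G) := by
  obtain ⟨B, hBL, hBe, hBc⟩ := Unique.exists_elementary_of_not_pRankLE h
  exact Unique.not_pRankLE_of_elementary (map_mono hBL)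
    (PLocal.ThompsonSubgroup.IsElementaryAbelian.map hBe _) (by rw [card_map_conj, hBc])

theorem pRank_of_map {p k : ℕ} [Fact p.Prime] {g : G}
    (h : ¬ PRankLE p k (L.map (MulAut.conj g).toMonoidHom : Subgroup G)) : ¬ PRankLE p k L := by
  have := pRank_map h g⁻¹
  rwa [map_conj_inv_cancel] at this

/-- The maximal subgroup over the normaliser of a subgroup of order `p` has `p` in `σ` or `τ₂`. -/
theorem mem_sigma_or_tau2 (hG : IsMinSimpleOddOrder G) (hL : IsCoatom L) {p : ℕ} [hp : Fact p.Prime]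
    {X : Subgroup G} (hX : Nat.card X = p) (hN : normalizer (X : Set G) ≤ L) :
    p ∈ sigma L ∨ p ∈ tau2 L := by
  by_cases hσ : p ∈ sigma L
  · exact Or.inl hσ
  · obtain ⟨⟨h2, h1⟩, -⟩ := S1409.result hG L hL p hσ X hX hN
    exact Or.inr ⟨hp.out, hσ, h2, h1⟩

theorem not_conj (hG : IsMinSimpleOddOrder G) (hL : IsCoatom L) {p : ℕ} [hp : Fact p.Prime]
    (hpσ : p ∉ sigma M) (h1 : PRankLE p 1 M) {X : Subgroup G} (hX : Nat.card X = p)
    (hN : normalizer (X : Set G) ≤ L) (g : G) : L ≠ M.map (MulAut.conj g).toMonoidHom := by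
  intro e
  rcases mem_sigma_or_tau2 hG hL hX hN with h | h
  · exact hpσ (sigma_of_map (e ▸ h))
  · exact pRank_of_map (e ▸ h.2.2.2) h1

theorem exists_normalizer_le (hG : IsMinSimpleOddOrder G) {X : Subgroup G} (hX1 : X ≠ ⊥) (hXM : X ≤ M)
    (hM : IsCoatom M) : ∃ L : Subgroup G, IsCoatom L ∧ normalizer (X : Set G) ≤ L :=
  (eq_top_or_exists_le_coatom (normalizer (X : Set G))).resolve_left
    (Transitivity.normalizer_ne_top hG hX1 fun e => hM.1 (top_le_iff.mp (e ▸ hXM)))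

theorem conj_of_rankThree (hG : IsMinSimpleOddOrder G) (hM : IsCoatom M) (hL : IsCoatom L) {r : ℕ}
    [hr : Fact r.Prime] (hM3 : ¬ PRankLE r 2 M) (hL3 : ¬ PRankLE r 2 L) :
    ∃ g : G, L = M.map (MulAut.conj g).toMonoidHom :=
  SigmaSub.exists_conj_eq hG hM hL (Sigma.alpha_subset_sigma hG hM ⟨hr.out, hM3⟩)
    (Sigma.alpha_subset_sigma hG hL ⟨hr.out, hL3⟩) fun h => hM3 (RankTwoFitting.pRankLE_of_le h)

theorem rank_of_sigma {r k : ℕ} [hr : Fact r.Prime] (hrL : r ∈ sigma L) (h3 : ¬ PRankLE r k M) :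
    ¬ PRankLE r k L := by
  obtain ⟨B, hBM, hBe, hBc⟩ := Unique.exists_elementary_of_not_pRankLE h3
  obtain ⟨S₀, hS₀, -⟩ := Sigma.exists_sylow_normalizer_le hrL
  obtain ⟨S, hBS⟩ := (Components.Hyperplane.isPGroup hBe).exists_le_sylow
  obtain ⟨g, hg⟩ := MulAction.exists_smul_eq G S S₀
  refine Unique.not_pRankLE_of_elementary (B := B.map (MulAut.conj g).toMonoidHom) ?_
    (PLocal.ThompsonSubgroup.IsElementaryAbelian.map hBe _) (by rw [card_map_conj, hBc])
  refine (map_mono hBS).trans ?_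
  rw [← coe_smul_eq_map, hg]
  exact hS₀

theorem not_alpha (hG : IsMinSimpleOddOrder G) (hM : IsCoatom M) (hL : IsCoatom L)
    (hne : ∀ g : G, L ≠ M.map (MulAut.conj g).toMonoidHom) {r : ℕ} (hrL : r ∈ sigma L) :
    r ∉ alpha M := fun h => by
  have := Fact.mk hrL.1
  obtain ⟨g, hg⟩ := conj_of_rankThree hG hM hL h.2 (rank_of_sigma hrL h.2)
  exact hne g hg

theorem ne_symm (hne : ∀ g : G, L ≠ M.map (MulAut.conj g).toMonoidHom) (g : G) :
    M ≠ L.map (MulAut.conj g).toMonoidHom := fun e => hne g⁻¹ (by rw [e, map_conj_inv_cancel])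

theorem conj_of_unique {q : ℕ} [Fact q.Prime] (hM : IsCoatom M) (hL : IsCoatom L) (hqM : q ∈ sigma M)
    (hqL : q ∈ sigma L)
    (huniq : ∀ S : Sylow q G, (S : Subgroup G) ≤ L → InUniqueMaximal (S : Subgroup G)) :
    ∃ g : G, L = M.map (MulAut.conj g).toMonoidHom := by
  obtain ⟨S₀, hS₀M, -⟩ := Sigma.exists_sylow_normalizer_le hqM
  obtain ⟨S, hSL, -⟩ := Sigma.exists_sylow_normalizer_le hqL
  obtain ⟨g, hg⟩ := MulAction.exists_smul_eq G S₀ S
  refine ⟨g, (huniq S hSL).unique ⟨hL, hSL⟩ ⟨Unique.isCoatom_map_conj hM g, ?_⟩⟩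
  rw [← hg, coe_smul_eq_map]
  exact map_mono hS₀M

theorem comm_of_two_sigma (hG : IsMinSimpleOddOrder G) (hM : IsCoatom M) (hL : IsCoatom L)
    (hne : ∀ g : G, L ≠ M.map (MulAut.conj g).toMonoidHom) {q : ℕ} [hq : Fact q.Prime]
    (hqM : q ∈ sigma M) (hqL : q ∈ sigma L) {Y : Subgroup G} (hY : IsPGroup q Y) :
    IsMulCommutative Y := by
  by_contra hna
  obtain ⟨S, hYS⟩ := hY.exists_le_sylow
  have hS : ¬ IsMulCommutative (S : Subgroup G) := fun h =>
    hna ⟨⟨fun x y => Subtype.ext (setLike_mul_comm (hYS x.2) (hYS y.2))⟩⟩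
  obtain ⟨g, hg⟩ := conj_of_unique hM hL hqM hqL fun T _ =>
    NonabelianUnique.inUniqueMaximal hG T.isPGroup' fun hab =>
      hS ⟨⟨fun a b => (S.equiv T).injective (by rw [map_mul, map_mul]; exact hab.is_comm.comm _ _)⟩⟩
  exact hne g hg

/-- A prime of both `σ`'s divides no `(M_σ)'`. -/
theorem not_dvd_commutator (hG : IsMinSimpleOddOrder G) (hM : IsCoatom M) (hL : IsCoatom L)
    (hne : ∀ g : G, L ≠ M.map (MulAut.conj g).toMonoidHom) {q : ℕ} [hq : Fact q.Prime]
    (hqM : q ∈ sigma M) (hqL : q ∈ sigma L) {Y : Subgroup G} (hY : IsPGroup q Y) (hY1 : Y ≠ ⊥)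
    (hYC : Y ≤ ⁅sigmaCore L, sigmaCore L⁆) : False := by
  obtain ⟨y, hy, hy1⟩ := (bot_or_exists_ne_one Y).resolve_left hY1
  obtain ⟨n, hn⟩ := hY.exists_card_eq
  have hd : q ∣ Nat.card Y := by
    rcases n.eq_zero_or_pos with rfl | hn0
    · exact absurd (card_eq_one.mp (hn.trans (pow_zero q))) hY1
    · exact hn ▸ dvd_pow_self q hn0.ne'
  obtain ⟨x, hx⟩ := exists_prime_orderOf_dvd_card' q hd
  have hxL : (x : G) ∈ ⁅sigmaCore L, sigmaCore L⁆ := hYC x.2
  obtain ⟨g, hg⟩ := conj_of_unique hM hL hqM hqL (SigmaElem.main hG hL hqL (X := zpowers (x : G))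
    (zpowers_le.mpr (Sigma.sigmaCore_le L (commutator_le_self _ hxL)))
    (by rw [Nat.card_zpowers, orderOf_coe, hx]) (Or.inr (zpowers_le.mpr hxL))).2
  exact hne g hg

/-- A prime of both `σ`'s with nilpotent core forces conjugacy. -/
theorem conj_of_nilpotent (hG : IsMinSimpleOddOrder G) (hM : IsCoatom M) (hL : IsCoatom L) {q : ℕ}
    [hq : Fact q.Prime] (hqM : q ∈ sigma M) (hqL : q ∈ sigma L) (hn : Group.IsNilpotent (sigmaCore L)) :
    ∃ g : G, L = M.map (MulAut.conj g).toMonoidHom := by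
  obtain ⟨S₀, hS₀M, hN₀⟩ := Sigma.exists_sylow_normalizer_le hqM
  obtain ⟨S, hSL, hNS⟩ := Sigma.exists_sylow_normalizer_le hqL
  have hS1 : (S : Subgroup G) ≠ ⊥ :=
    S.ne_bot_of_dvd_card (hqL.2.1.trans (card_subgroup_dvd_card L))
  have hSK := Sigma.sylow_le_sigmaCore hG hL hqL S.isPGroup' hSL
  have hLN : L ≤ normalizer ((S : Subgroup G) : Set G) := by
    have hsn : ((S.subtype hSK : Sylow q (sigmaCore L)) : Subgroup (sigmaCore L)).Normal :=
      ((Group.isNilpotent_of_finite_tfae (G := sigmaCore L)).out 0 3 rfl rfl).mp hn q hq _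
    have : ((S.subtype hSK : Sylow q (sigmaCore L)) : Subgroup (sigmaCore L)).Characteristic :=
      Sylow.characteristic_of_normal _ hsn
    have h1 := Coprime.OmegaDetect.normalizer_le_normalizer_char (sigmaCore L)
      ((S.subtype hSK : Sylow q (sigmaCore L)) : Subgroup (sigmaCore L))
    rw [Sylow.coe_subtype, map_subgroupOf_eq_of_le hSK] at h1
    exact (Sigma.le_normalizer_sigmaCore L).trans h1
  obtain ⟨g, hg⟩ := MulAction.exists_smul_eq G S₀ S
  refine ⟨g, ((hL.le_iff.mp ?_).resolve_left (Unique.isCoatom_map_conj hM g).1).symm⟩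
  calc L = normalizer ((S : Subgroup G) : Set G) := le_antisymm hLN hNS
    _ ≤ _ := by rw [← hg, coe_smul_eq_map, normalizer_map]; exact map_mono hN₀

theorem alphaCore_ne_bot (hG : IsMinSimpleOddOrder G) (hM : IsCoatom M) (hL : IsCoatom L)
    (hne : ∀ g : G, L ≠ M.map (MulAut.conj g).toMonoidHom) {q : ℕ} [hq : Fact q.Prime]
    (hqM : q ∈ sigma M) (hqL : q ∈ sigma L) : alphaCore M ≠ ⊥ := by
  intro e
  have := P2Elem.commutator_nilpotent hG hM e
  obtain ⟨g, hg⟩ := conj_of_nilpotent hG hL hM hqL hqM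
    (Group.nilpotent_of_mulEquiv (subgroupOfEquivOfLe (Sigma.sigmaCore_le_commutator hG hM)))
  exact ne_symm hne g hg

theorem commutator_sup_le {K H : Subgroup G} (hH : H ≤ normalizer (K : Set G)) :
    ⁅K ⊔ H, K ⊔ H⁆ ≤ K ⊔ ⁅H, H⁆ := by
  set N := normalizer (K : Set G) with hN
  have : (K.subgroupOf N).Normal := (normal_subgroupOf_iff_le_normalizer le_normalizer).mpr le_rfl
  set f := QuotientGroup.mk' (K.subgroupOf N) with hf
  rw [commutator_le]
  intro x hx y hy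
  have hxN : x ∈ N := (sup_le le_normalizer hH) hx
  have hyN : y ∈ N := (sup_le le_normalizer hH) hy
  obtain ⟨k, hk, h, hh, rfl⟩ := (Coprime.mem_sup_of_le_normalizer hH).mp hx
  obtain ⟨l, hl, j, hj, rfl⟩ := (Coprime.mem_sup_of_le_normalizer hH).mp hy
  have hkN : k ∈ N := le_normalizer hk
  have hlN : l ∈ N := le_normalizer hl
  have e1 : f ⟨k * h, hxN⟩ = f ⟨h, hH hh⟩ := by
    rw [show (⟨k * h, hxN⟩ : N) = ⟨k, hkN⟩ * ⟨h, hH hh⟩ from rfl, map_mul,
      show f ⟨k, hkN⟩ = 1 from (QuotientGroup.eq_one_iff _).mpr hk, one_mul]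
  have e2 : f ⟨l * j, hyN⟩ = f ⟨j, hH hj⟩ := by
    rw [show (⟨l * j, hyN⟩ : N) = ⟨l, hlN⟩ * ⟨j, hH hj⟩ from rfl, map_mul,
      show f ⟨l, hlN⟩ = 1 from (QuotientGroup.eq_one_iff _).mpr hl, one_mul]
  have e3 : f ⁅(⟨k * h, hxN⟩ : N), ⟨l * j, hyN⟩⁆ = f ⁅(⟨h, hH hh⟩ : N), ⟨j, hH hj⟩⁆ := by
    rw [map_commutatorElement, map_commutatorElement, e1, e2]
  have e4 : ⁅(⟨k * h, hxN⟩ : N), ⟨l * j, hyN⟩⁆ * ⁅(⟨h, hH hh⟩ : N), ⟨j, hH hj⟩⁆⁻¹ ∈ K.subgroupOf N := by
    rw [← QuotientGroup.eq_one_iff, ← QuotientGroup.mk'_apply, ← hf, map_mul, map_inv, e3, mul_inv_cancel]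
  have e5 : ⁅k * h, l * j⁆ * ⁅h, j⁆⁻¹ ∈ K := mem_subgroupOf.mp e4
  have := mul_mem_sup e5 (commutator_mem_commutator hh hj)
  rwa [inv_mul_cancel_right] at this

/-- BG 13.1 (the core): a prime of both `σ`'s, and a prime of `τ₁(M)` dividing `|L'|`. -/
theorem mem_alpha (hG : IsMinSimpleOddOrder G) (hM : IsCoatom M) (hL : IsCoatom L)
    (hne : ∀ g : G, L ≠ M.map (MulAut.conj g).toMonoidHom) {q : ℕ} [hq : Fact q.Prime]
    (hqM : q ∈ sigma M) (hqL : q ∈ sigma L) {p : ℕ} [hp : Fact p.Prime]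
    (hpM : ¬ p ∣ Nat.card ↥⁅M, M⁆) (hpL : p ∣ Nat.card ↥⁅L, L⁆) : p ∈ alpha L := by
  by_contra hα
  obtain ⟨S₀, hS₀M, hN₀⟩ := Sigma.exists_sylow_normalizer_le hqM
  obtain ⟨S, hSL, hNS⟩ := Sigma.exists_sylow_normalizer_le hqL
  obtain ⟨g, hg⟩ := MulAction.exists_smul_eq G S₀ S
  set H := normalizer ((S : Subgroup G) : Set G) with hH
  have hHn : H ≤ normalizer (alphaCore L : Set G) := hNS.trans (Sigma.le_normalizer_alphaCore L)
  have hLle : L ≤ alphaCore L ⊔ H :=
    NonabelianUnique.le_of_frattini hG hL hqL S hSL le_sup_left le_sup_right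
  have h1 : ⁅L, L⁆ ≤ alphaCore L ⊔ ⁅H, H⁆ := (commutator_mono hLle hLle).trans (commutator_sup_le hHn)
  have h2 := hpL.trans ((card_dvd_of_le h1).trans
    (RegularMain.card_sup_dvd ((commutator_le_self H).trans hHn)))
  rcases hp.out.dvd_mul.mp h2 with h3 | h3
  · exact hα (Transitivity.isPi_piCoreOf (alpha L) L p hp.out h3)
  · refine hpM (h3.trans ?_)
    have hle : H ≤ M.map (MulAut.conj g).toMonoidHom := by
      rw [hH, ← hg, coe_smul_eq_map, normalizer_map]; exact map_mono hN₀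
    refine (card_dvd_of_le (commutator_mono hle hle)).trans (dvd_of_eq ?_)
    rw [← Subgroup.map_commutator, card_map_conj]

/-- A `q`-subgroup normalised by a `p`-subgroup of `H'`, `p ∉ β(H)`, centralises it. -/
theorem le_centralizer_of_not_beta (hG : IsMinSimpleOddOrder G) {H : Subgroup G} (hH : IsCoatom H)
    {p q : ℕ} [hp : Fact p.Prime] [hq : Fact q.Prime] (hne : q ≠ p) (hβ : p ∉ beta H) {T Y : Subgroup G}
    (hT : IsPGroup p T) (hY : IsPGroup q Y) (hTH : T ≤ ⁅H, H⁆) (hYH : Y ≤ ⁅H, H⁆)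
    (hYT : Y ≤ normalizer (T : Set G)) : T ≤ centralizer (Y : Set G) := by
  intro t ht
  refine mem_centralizer_iff.mpr fun y hy => ?_
  rcases eq_or_ne T ⊥ with e | hT1
  · rw [e, mem_bot] at ht
    rw [ht, mul_one, one_mul]
  obtain ⟨n, hn⟩ := hT.exists_card_eq
  have hpH : p ∣ Nat.card H := by
    rcases n.eq_zero_or_pos with rfl | hn0
    · exact absurd (card_eq_one.mp (hn.trans (pow_zero p))) hT1
    · exact (hn ▸ dvd_pow_self p hn0.ne').trans (card_dvd_of_le (hTH.trans (commutator_le_self H)))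
  have hmem : ⁅y, t⁆ ∈ T := mul_mem ((mem_normalizer_iff.mp (hYT hy) t).mp ht) (inv_mem ht)
  obtain ⟨m, hm⟩ := hY.exists_card_eq
  refine commute_of_not_beta hG hH hpH hβ (hYH hy) (hTH ht) ?_ (k := n) ?_
  · exact Nat.Coprime.coprime_dvd_left (hm ▸ Y.orderOf_dvd_natCard hy)
      (((Nat.coprime_primes hq.out hp.out).mpr hne).pow_left m)
  · exact hn ▸ orderOf_dvd_iff_pow_eq_one.mp (T.orderOf_dvd_natCard hmem)

/-- BG 13.1(c). -/
theorem mem_beta (hG : IsMinSimpleOddOrder G) (hM : IsCoatom M) (hL : IsCoatom L)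
    (hne : ∀ g : G, L ≠ M.map (MulAut.conj g).toMonoidHom) {q : ℕ} [hq : Fact q.Prime]
    (hqM : q ∈ sigma M) (hqL : q ∈ sigma L) {p : ℕ} [hp : Fact p.Prime]
    (hpM : ¬ p ∣ Nat.card ↥⁅M, M⁆) (h1 : PRankLE p 1 M) (hpL : p ∣ Nat.card ↥⁅L, L⁆) :
    p ∈ beta L := by
  by_contra hβ
  have hα := mem_alpha hG hM hL hne hqM hqL hpM hpL
  have hqα : q ∉ alpha L := not_alpha hG hL hM (ne_symm hne) hqM
  obtain ⟨S₀, hS₀M, hN₀⟩ := Sigma.exists_sylow_normalizer_le hqM
  obtain ⟨S, hSL, hNS⟩ := Sigma.exists_sylow_normalizer_le hqL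
  have hSK : (S : Subgroup G) ≤ normalizer (alphaCore L : Set G) :=
    hSL.trans (Sigma.le_normalizer_alphaCore L)
  obtain ⟨n, hn⟩ := S.isPGroup'.exists_card_eq
  have hcop : (Nat.card (S : Subgroup G)).Coprime (Nat.card (alphaCore L)) := hn ▸
    (hq.out.coprime_iff_not_dvd.mpr fun hd =>
      hqα (Transitivity.isPi_piCoreOf (alpha L) L q hq.out hd)).pow_left n
  obtain ⟨T₀, hT₀⟩ := Coprime.exists_invariant_sylow p hSK hcop
    (Or.inl (Coprime.isSolvable_of_isPGroup S.isPGroup'))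
  set T := (T₀ : Subgroup (alphaCore L)).map (alphaCore L).subtype with hT
  have hTp : IsPGroup p T := T₀.isPGroup'.map _
  have hcomm := Sigma.sigmaCore_le_commutator hG hL
  have hTC : T ≤ centralizer ((S : Subgroup G) : Set G) :=
    le_centralizer_of_not_beta hG hL (fun e => hqα (by subst e; exact hα)) hβ hTp S.isPGroup'
      ((map_subtype_le _).trans ((Sigma.alphaCore_le_sigmaCore hG hL).trans hcomm))
      ((Sigma.sylow_le_sigmaCore hG hL hqL S.isPGroup' hSL).trans hcomm) hT₀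
  obtain ⟨g, hg⟩ := MulAction.exists_smul_eq G S₀ S
  have hTM : T ≤ M.map (MulAut.conj g).toMonoidHom := hTC.trans ((centralizer_le_normalizer _).trans
    (by rw [← hg, coe_smul_eq_map, normalizer_map]; exact map_mono hN₀))
  refine pRank_of_map (g := g) (k := 1) ?_ h1
  obtain ⟨B, hBL, hBe, hBc⟩ := Unique.exists_elementary_of_not_pRankLE hα.2
  have hBα : B ≤ alphaCore L := Sigma.le_alphaCore hG hL hBL fun r hr hd => by
    rwa [(Cores.isPi_iff_isPGroup B).mpr (Components.Hyperplane.isPGroup hBe) r hr hd]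
  obtain ⟨T₁, hBT⟩ := ((Components.Hyperplane.isPGroup hBe).comap_subtype
    (K := alphaCore L)).exists_le_sylow
  obtain ⟨a, ha⟩ := MulAction.exists_smul_eq (alphaCore L) T₁ T₀
  refine Unique.not_pRankLE_of_elementary (B := B.map (MulAut.conj (a : G)).toMonoidHom) ?_
    (PLocal.ThompsonSubgroup.IsElementaryAbelian.map hBe _)
    (by rw [card_map_conj, hBc]; exact Nat.pow_le_pow_right hp.out.pos (by norm_num))
  refine le_trans ?_ hTM
  rintro _ ⟨b, hb, rfl⟩
  have h2 : a * ⟨b, hBα hb⟩ * a⁻¹ ∈ (T₀ : Subgroup (alphaCore L)) := by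
    rw [← ha, coe_smul_eq_map]
    exact ⟨_, hBT hb, rfl⟩
  exact ⟨_, h2, rfl⟩

/-- Commutators in the normaliser of an elementary abelian group of order `p²` act as `p`-elements. -/
theorem centralizes_elementary (hG : IsMinSimpleOddOrder G) {p : ℕ} [hp : Fact p.Prime] {A : Subgroup G}
    (hA : IsElementaryAbelian p A) (hAc : Nat.card A = p ^ 2) {c : G}
    (hc : c ∈ ⁅normalizer (A : Set G), normalizer (A : Set G)⁆) (hco : (orderOf c).Coprime p) :
    c ∈ centralizer (A : Set G) := by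
  let _ : CommGroup A := { (inferInstance : Group A) with
    mul_comm := fun a b => Subtype.ext (Components.Hyperplane.mem_comm hA a.2 b.2) }
  set N := normalizer (A : Set G) with hN
  let φ : N →* MulAut A := A.normalizerMonoidHom
  rw [← map_subtype_commutator] at hc
  obtain ⟨c', hc', rfl⟩ := hc
  obtain ⟨k, hk⟩ := (AutRankTwo.elementary_aut
    (Unique.ne_two hG ((hAc ▸ dvd_pow_self p two_ne_zero : p ∣ Nat.card A)))
    (fun v : A => Subtype.ext (hA.2 _ v.2)) hAc.dvd (Sigma.odd_card hG N) φ).1 c' hc'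
  have hc1 : φ c' = 1 := orderOf_eq_one_iff.mp (Nat.eq_one_of_dvd_coprimes (hco.pow_right k)
    ((orderOf_map_dvd φ c').trans (dvd_of_eq (orderOf_coe c').symm)) (orderOf_dvd_of_pow_eq_one hk))
  refine mem_centralizer_iff.mpr fun a ha => ?_
  exact (mul_inv_eq_iff_eq_mul.mp (show (c' : G) * a * (c' : G)⁻¹ = a from
    congrArg Subtype.val (DFunLike.congr_fun hc1 (⟨a, ha⟩ : A)))).symm

/-- An elementary group of order `p²` in `M` around an element of order `p`. -/
theorem exists_elementary {p : ℕ} [hp : Fact p.Prime] (hr : ¬ PRankLE p 1 M) {x : G} (hx : x ∈ M)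
    (hxp : x ^ p = 1) (hx1 : x ≠ 1) :
    ∃ B : Subgroup G, B ≤ M ∧ IsElementaryAbelian p B ∧ Nat.card B = p ^ 2 ∧
      B ≤ centralizer ({x} : Set G) := by
  obtain ⟨C, hCM, hCe, hCc⟩ := Unique.exists_elementary_of_not_pRankLE hr
  obtain ⟨S₁, hCS⟩ := ((Components.Hyperplane.isPGroup hCe).comap_subtype (K := M)).exists_le_sylow
  obtain ⟨S, hxS⟩ := (RegularPart.isPGroup_zpowers (k := 1)
    (x := (⟨x, hx⟩ : M)) (q := p) (Subtype.ext (by rw [pow_one]; exact hxp))).exists_le_sylow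
  obtain ⟨a, ha⟩ := MulAction.exists_smul_eq M S₁ S
  set B := C.map (MulAut.conj (a : G)).toMonoidHom with hB
  have hBe : IsElementaryAbelian p B := PLocal.ThompsonSubgroup.IsElementaryAbelian.map hCe _
  have hBS : B ≤ (S : Subgroup M).map M.subtype := by
    rintro _ ⟨c, hc, rfl⟩
    refine ⟨a * ⟨c, hCM hc⟩ * a⁻¹, ?_, rfl⟩
    rw [← ha, coe_smul_eq_map]
    exact ⟨_, hCS hc, rfl⟩
  have hBc : Nat.card B = p ^ 2 := by rw [hB, card_map_conj, hCc]
  have hBM : B ≤ M := hBS.trans (map_subtype_le _)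
  set P := (S : Subgroup M).map M.subtype with hP
  have hxP : x ∈ P := ⟨⟨x, hx⟩, hxS (mem_zpowers _), rfl⟩
  have hP1 : P ≠ ⊥ := fun e => hx1 (mem_bot.mp (e ▸ hxP))
  obtain ⟨z, hz, hz1⟩ := (bot_or_exists_ne_one _).resolve_left
    (P2Elem.omegaCenter_ne_bot (q := p) (S.isPGroup'.map M.subtype) hP1)
  by_cases hxz : x ∈ zpowers z
  · refine ⟨B, hBM, hBe, hBc, fun b hb => mem_centralizer_singleton_iff.mpr ?_⟩
    obtain ⟨i, rfl⟩ := mem_zpowers_iff.mp hxz
    exact ((show Commute b z from mem_centralizer_iff.mp hz.2.1 b (hBS hb)).zpow_right i).eq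
  have hcz : Commute x z := mem_centralizer_iff.mp hz.2.1 x hxP
  have hA := PLocal.ThompsonSubgroup.IsElementaryAbelian.sup
    (PLocal.ThompsonSubgroup.isElementaryAbelian_zpowers hz.2.2)
    (PLocal.ThompsonSubgroup.isElementaryAbelian_zpowers hxp)
    (zpowers_le.mpr (mem_centralizer_iff.mpr fun y hy => by
      obtain ⟨i, rfl⟩ := mem_zpowers_iff.mp hy
      exact (hcz.zpow_left i).eq))
  refine ⟨zpowers z ⊔ zpowers x, sup_le (zpowers_le.mpr ((map_subtype_le _) hz.1)) (zpowers_le.mpr hx),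
    hA, ?_, ?_⟩
  · have hn : zpowers x ≤ normalizer (zpowers z : Set G) := le_trans
      (zpowers_le.mpr (mem_centralizer_iff.mpr fun y hy => by
        obtain ⟨i, rfl⟩ := mem_zpowers_iff.mp hy
        exact (hcz.symm.zpow_left i).eq)) (centralizer_le_normalizer _)
    have hd : zpowers z ⊓ zpowers x = ⊥ := by
      refine eq_bot_iff.mpr fun y hy => ?_
      obtain ⟨hyz, hyx⟩ := mem_inf.mp hy
      by_contra hy1
      have e1 : zpowers y = zpowers x := eq_of_le_of_card_ge (zpowers_le.mpr hyx) (by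
        rw [Nat.card_zpowers, Nat.card_zpowers, orderOf_eq_prime hxp hx1,
          orderOf_eq_prime (by obtain ⟨i, rfl⟩ := mem_zpowers_iff.mp hyx
                               rw [← zpow_natCast, ← zpow_mul, mul_comm, zpow_mul, zpow_natCast, hxp,
                                 one_zpow]) (fun e => hy1 (mem_bot.mpr e))])
      exact hxz ((zpowers_le.mpr hyz) (e1 ▸ mem_zpowers x))
    rw [Coprime.card_sup_of_disjoint hn (disjoint_iff.mpr hd), Nat.card_zpowers, Nat.card_zpowers,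
      orderOf_eq_prime hz.2.2 hz1, orderOf_eq_prime hxp hx1, sq]
  · exact fun b hb => mem_centralizer_singleton_iff.mpr
      (Components.Hyperplane.mem_comm hA hb (mem_sup_right (mem_zpowers x)))

end Cfsg.Agent.OddLocal.PrimeAction
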