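import Cfsg.Agent.OddLocal.SigmaCompl
import Cfsg.Agent.OddLocal.PrimeActionBasic
import Cfsg.Agent.S0033
import Cfsg.Agent.OddLocal.FPFFitting
import Cfsg.Agent.OddLocal.PrimeAction

/-! Primes of `M` outside `σ(M)`: `κ(M)` and the Fitting subgroup (BG 14.1, 15.?). -/

set_option autoImplicit false
set_option linter.unusedSectionVars false

namespace Cfsg.Agent.OddLocal.Kappa

open Cfsg Subgroup
open scoped Pointwise
open TauTwo (Ctx centralizer_zpowers mem_zpowers_of_cyclic)
open Cfsg.Agent.Transfer.Fusion (coe_smul_eq_map map_conj_eq_self_iff)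

variable {G : Type*} [Group G] [Finite G] {M : Subgroup G} {p : ℕ} [hp : Fact p.Prime]

/-- Thompson: an element of prime order without fixed points makes a normalised group nilpotent. -/
theorem isNilpotent_of_fpf {K : Subgroup G} {u : G} (hu : u ∈ normalizer (K : Set G)) (hup : u ^ p = 1)
    (hfix : K ⊓ centralizer ({u} : Set G) = ⊥) : Group.IsNilpotent K := by
  rcases eq_or_ne K ⊥ with rfl | hK
  · infer_instance
  set φ : MulAut K := K.normalizerMonoidHom ⟨u, hu⟩ with hφ
  have hfpf : ∀ x : K, φ x = x → x = 1 := fun x hx => by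
    have h1 : u * (x : G) * u⁻¹ = x := congrArg Subtype.val hx
    refine Subtype.ext (mem_bot.mp (hfix ▸ mem_inf.mpr ⟨x.2, mem_centralizer_singleton_iff.mpr ?_⟩))
    exact (mul_inv_eq_iff_eq_mul.mp h1).symm
  refine S0033.result φ (fun x hx => hfpf x hx) p hp.out (orderOf_eq_prime ?_ fun e => hK ?_)
  · rw [hφ, ← map_pow]
    exact (congrArg _ (Subtype.ext hup)).trans (map_one _)
  · refine eq_bot_iff.mpr fun x hx => ?_
    exact mem_bot.mpr (congrArg Subtype.val (hfpf ⟨x, hx⟩ (by rw [e]; rfl)))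

/-- Outside `σ ∪ κ`: `Ω₁` of a Sylow subgroup is small and acts without fixed points. -/
theorem not_kappa (hG : IsMinSimpleOddOrder G) (hM : IsCoatom M) (hpM : p ∣ Nat.card M)
    (hσ : p ∉ sigma M) (hκ : p ∉ kappa M) (S : Sylow p M) :
    Nat.card ↥(closure {x : G | x ∈ (S : Subgroup M).map M.subtype ∧ x ^ p = 1}) ≤ p ^ 2 ∧
      sigmaCore M ⊓ centralizer ((closure {x : G | x ∈ (S : Subgroup M).map M.subtype ∧ x ^ p = 1} :
        Subgroup G) : Set G) = ⊥ ∧ Group.IsNilpotent (sigmaCore M) := by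
  set S' := (S : Subgroup M).map M.subtype with hS'
  have hS'M : S' ≤ M := map_subtype_le _
  by_cases h1 : PRankLE p 1 M
  · have hc : IsCyclic S' := Compl.isCyclic_of_rankOne hG h1 (S.isPGroup'.map _) hS'M
    obtain ⟨x₀, hx₀⟩ := exists_prime_orderOf_dvd_card' p
      (show p ∣ Nat.card S' by
        rw [hS', card_map_of_injective M.subtype_injective]; exact S.dvd_card_of_dvd_card hpM)
    set u : G := (x₀ : G) with hu
    have huo : orderOf u = p := by rw [hu, orderOf_coe, hx₀]
    have hup : u ^ p = 1 := huo ▸ pow_orderOf_eq_one u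
    have hu1 : u ≠ 1 := fun e => hp.out.ne_one (by rw [← huo, e, orderOf_one])
    have hΩ : closure {x : G | x ∈ S' ∧ x ^ p = 1} = zpowers u :=
      le_antisymm ((closure_le _).mpr fun x hx => mem_zpowers_of_cyclic hc x₀.2 hx.1 huo hx.2)
        (zpowers_le.mpr (subset_closure ⟨x₀.2, hup⟩))
    rw [hΩ, centralizer_zpowers]
    have hfix : sigmaCore M ⊓ centralizer ({u} : Set G) = ⊥ := by
      by_contra hne
      obtain ⟨y, hy, hy1⟩ := (bot_or_exists_ne_one _).resolve_left hne
      refine hκ ⟨hp.out, hpM, hσ, fun P => ⟨?_, ?_⟩⟩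
      · have := Compl.isCyclic_of_rankOne hG h1 (P.isPGroup'.map M.subtype) (map_subtype_le _)
        exact isCyclic_of_surjective _
          ((P : Subgroup M).equivMapOfInjective M.subtype M.subtype_injective).symm.surjective
      · obtain ⟨a, ha⟩ := MulAction.exists_smul_eq M S P
        obtain ⟨s, hs, hse⟩ := x₀.2
        refine ⟨a * s * a⁻¹, ?_, fun e => hu1 ?_, (a : G) * y * (a : G)⁻¹,
          (mem_normalizer_iff.mp (Sigma.le_normalizer_sigmaCore M a.2) y).mp (mem_inf.mp hy).1,
          fun e => hy1 (conj_eq_one_iff.mp e), ?_⟩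
        · rw [← ha, coe_smul_eq_map]
          exact ⟨s, hs, rfl⟩
        · rw [conj_eq_one_iff.mp e] at hse
          rw [hu, ← hse]; rfl
        · have h2 : u * y = y * u := (mem_centralizer_singleton_iff.mp (mem_inf.mp hy).2).symm
          have hsu : ((s : M) : G) = u := hse
          simp only [coe_mul, coe_inv, hsu]
          calc (a : G) * u * (a : G)⁻¹ * (a * y * (a : G)⁻¹) = a * (u * y) * (a : G)⁻¹ := by group
            _ = a * (y * u) * (a : G)⁻¹ := by rw [h2]
            _ = _ := by group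
    refine ⟨?_, hfix, isNilpotent_of_fpf (Sigma.le_normalizer_sigmaCore M (hS'M x₀.2)) hup hfix⟩
    rw [Nat.card_zpowers, huo]
    exact Nat.le_self_pow two_ne_zero p
  · have hτ : p ∈ tau2 M := ⟨hp.out, hσ, SigmaCompl.rank_le hG hM hp.out hσ, h1⟩
    obtain ⟨B₀, hB₀S, hB₀e, hB₀c⟩ := Unique.exists_elementary_of_not_pRankLE (Z := (S : Subgroup M))
      fun h => h1 (NarrowSolvable.pRankLE_of_sylow S h)
    set B := B₀.map M.subtype with hB
    have hBS : B ≤ S' := map_mono hB₀S
    have h : Ctx p B M := Ctx.mk' hG hM hτ (hBS.trans hS'M)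
      (PLocal.ThompsonSubgroup.IsElementaryAbelian.map hB₀e _)
      (by rw [hB, card_map_of_injective M.subtype_injective, hB₀c])
    have hiff := (TauTwo.sylow_structure hG hM hτ h.hA S hBS).2.1
    have hΩ : closure {x : G | x ∈ S' ∧ x ^ p = 1} = B :=
      le_antisymm ((closure_le _).mpr fun x hx => (hiff x hx.1).mp hx.2)
        fun x hx => subset_closure ⟨hBS hx, (hiff x (hBS hx)).mpr hx⟩
    rw [hΩ]
    exact ⟨h.hA.card.le, h.inf_centralizer, h.sigmaCore_nilpotent⟩

/-- `O_r(M)` at a prime outside `σ(M)`. -/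
theorem pCore_cases (hG : IsMinSimpleOddOrder G) (hM : IsCoatom M) (hσ : p ∉ sigma M) {Z : Subgroup G}
    (hZp : IsPGroup p Z) (hZM : Z ≤ M) (hMZ : M ≤ normalizer (Z : Set G)) (hZ1 : Z ≠ ⊥) :
    p ∈ tau2 M ∧ IsCyclic Z := by
  by_cases h1 : PRankLE p 1 M
  · have hc := Compl.isCyclic_of_rankOne hG h1 hZp hZM
    obtain ⟨n, hn⟩ := hZp.exists_card_eq
    rcases n.eq_zero_or_pos with rfl | hn0
    · exact absurd (card_eq_one.mp (hn.trans (pow_zero p))) hZ1
    obtain ⟨x, hx⟩ := exists_prime_orderOf_dvd_card' p (hn ▸ dvd_pow_self p hn0.ne' : p ∣ Nat.card Z)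
    rw [← orderOf_coe] at hx
    have hX : Nat.card (zpowers (x : G)) = p := by rw [Nat.card_zpowers, hx]
    have hMX : M ≤ normalizer (zpowers (x : G) : Set G) :=
      hMZ.trans (SigmaSub.normalizer_le_of_cyclic hc (zpowers_le.mpr x.2))
    have hX1 : zpowers (x : G) ≠ ⊥ := fun e => hp.out.ne_one (by rw [← hX, e, card_bot])
    have hN : normalizer (zpowers (x : G) : Set G) ≤ M :=
      le_of_eq ((hM.le_iff.mp hMX).resolve_left (Transitivity.normalizer_ne_top hG hX1
        fun e => hM.1 (top_le_iff.mp (e ▸ zpowers_le.mpr (hZM x.2)))))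
    rcases PrimeAction.mem_sigma_or_tau2 hG hM hX hN with h | h
    · exact absurd h hσ
    · exact ⟨h, hc⟩
  · obtain ⟨E, hE⟩ := Compl.exists_compl hG hM
    obtain ⟨A, -, h⟩ := SigmaCompl.exists_ctx hG hM hE ⟨hp.out, hσ, SigmaCompl.rank_le hG hM hp.out hσ, h1⟩
    exact h.qcore_cases hσ hZp hZM hMZ hZ1

omit hp in
/-- The Fitting subgroup splits along `σ(M)`. -/
theorem fitting_split (hG : IsMinSimpleOddOrder G) (hM : IsCoatom M) :
    IsCyclic ↥(piCoreOf {q | q.Prime ∧ q ∉ sigma M} (fittingOf M)) ∧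
      (∀ p : ℕ, p.Prime → p ∣ Nat.card ↥(piCoreOf {q | q.Prime ∧ q ∉ sigma M} (fittingOf M)) → p ∈ tau2 M) ∧
      fittingOf M = fittingOf (sigmaCore M) ⊔ piCoreOf {q | q.Prime ∧ q ∉ sigma M} (fittingOf M) := by
  set π : Set ℕ := {q | q.Prime ∧ q ∉ sigma M} with hπ
  set F := fittingOf M with hF
  set X := piCoreOf π F with hX
  have hXF : X ≤ F := map_subtype_le _
  have hFM : F ≤ M := map_subtype_le _
  have hFn : Group.IsNilpotent F := FPFFitting.fittingOf_isNilpotent M
  have hXn : Group.IsNilpotent X := Group.nilpotent_of_mulEquiv (subgroupOfEquivOfLe hXF)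
  have hXπ := Transitivity.isPi_piCoreOf π F
  have hMn : ∀ q : ℕ, M ≤ normalizer (((pCore q M).map M.subtype : Subgroup G) : Set G) := fun q => by
    have : (pCore q M).Characteristic := Cores.pCore_characteristic _
    exact le_normalizer.trans (Coprime.OmegaDetect.normalizer_le_normalizer_char M _)
  have hcore : ∀ {q : ℕ} [Fact q.Prime] {T : Subgroup G}, IsPGroup q T → T ≤ F →
      T ≤ (pCore q M).map M.subtype := fun {q} _ {T} hT hTF x hx => by
    have h1 : T.subgroupOf M ≤ pCore q M := Sigma.le_pCore_of_le_fitting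
      (fun y hy => by
        obtain ⟨z, hz, hzy⟩ := hTF (mem_subgroupOf.mp hy)
        rwa [← Subtype.ext hzy]) hT.comap_subtype
    exact ⟨⟨x, hFM (hTF hx)⟩, h1 (mem_subgroupOf.mpr hx), rfl⟩
  refine ⟨?_, fun q hq hd => ?_, le_antisymm ?_ (sup_le ?_ hXF)⟩
  · have hZ : IsZGroup X := by
      refine ⟨fun q hq P => ?_⟩
      have := Fact.mk hq
      set P' := (P : Subgroup X).map X.subtype with hP'
      have hc : IsCyclic P' := by
        rcases eq_or_ne P' ⊥ with e | hne
        · rw [e]; exact isCyclic_of_subsingleton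
        · have hqσ : q ∉ sigma M := (hXπ q hq ((PrimeAction.dvd_card_of_ne_bot (P.isPGroup'.map X.subtype) hne).trans
            (card_dvd_of_le (map_subtype_le _)))).2
          have hle := hcore (P.isPGroup'.map X.subtype) ((map_subtype_le _).trans hXF)
          have := (pCore_cases hG hM hqσ ((Cores.pCore_isPGroup _).map _) (map_subtype_le _) (hMn q)
            fun e => hne (le_bot_iff.mp (e ▸ hle))).2
          exact isCyclic_of_injective (inclusion hle) (inclusion_injective hle)
      exact isCyclic_of_surjective _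
        ((P : Subgroup X).equivMapOfInjective X.subtype X.subtype_injective).symm.surjective
    infer_instance
  · have := Fact.mk hq
    obtain ⟨x, hx⟩ := exists_prime_orderOf_dvd_card' q hd
    have hT : IsPGroup q (zpowers (x : G)) := RegularPart.isPGroup_zpowers (k := 1)
      (by rw [pow_one, ← orderOf_dvd_iff_pow_eq_one, orderOf_coe, hx])
    have hle := hcore hT (zpowers_le.mpr (hXF x.2))
    exact (pCore_cases hG hM (hXπ q hq hd).2 ((Cores.pCore_isPGroup _).map _) (map_subtype_le _) (hMn q)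
      fun e => hq.ne_one (by
        rw [← hx, ← orderOf_coe, orderOf_eq_one_iff]
        exact mem_bot.mp (e ▸ hle (mem_zpowers _)))).1
  · rw [hF, fittingOf, Cores.fittingSubgroup_eq_iSup, Subgroup.map_iSup]
    refine iSup_le fun ⟨q, hq'⟩ => ?_
    have hq := Nat.prime_of_mem_primeFactors hq'
    have := Fact.mk hq
    show (pCore q M).map M.subtype ≤ _
    set Z := (pCore q M).map M.subtype with hZ
    have hZq : IsPGroup q Z := (Cores.pCore_isPGroup _).map _
    have hZF : Z ≤ F := map_mono (Cores.pCore_le_fittingSubgroup hq)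
    by_cases hqσ : q ∈ sigma M
    · refine le_sup_of_le_left ?_
      have hZK : Z ≤ sigmaCore M := Sigma.sylow_le_sigmaCore hG hM hqσ hZq (map_subtype_le _)
      rw [← map_subgroupOf_eq_of_le hZK]
      exact map_mono (Cores.le_fittingSubgroup (hN := (normal_subgroupOf_iff_le_normalizer hZK).mpr
        ((Sigma.sigmaCore_le M).trans (hMn q))) (hZq.comap_subtype (K := sigmaCore M)).isNilpotent)
    · refine le_sup_of_le_right ?_
      rw [← map_subgroupOf_eq_of_le hZF]
      exact map_mono (Cores.le_piCore (hN := (normal_subgroupOf_iff_le_normalizer hZF).mpr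
        (hFM.trans (hMn q))) fun r hr hd => by
          rw [Nat.card_congr (subgroupOfEquivOfLe hZF).toEquiv] at hd
          rw [(Cores.isPi_iff_isPGroup Z).mpr hZq r hr hd]
          exact ⟨hq, hqσ⟩)
  · set K := sigmaCore M with hK
    have hn : M ≤ normalizer ((fittingOf K : Subgroup G) : Set G) :=
      (Sigma.le_normalizer_sigmaCore M).trans (Coprime.OmegaDetect.normalizer_le_normalizer_char K _)
    have hKM : fittingOf K ≤ M := (map_subtype_le _).trans (Sigma.sigmaCore_le M)
    rw [← map_subgroupOf_eq_of_le hKM]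
    exact map_mono (Cores.le_fittingSubgroup (hN := (normal_subgroupOf_iff_le_normalizer hKM).mpr hn)
      (by have := FPFFitting.fittingOf_isNilpotent K; exact Group.nilpotent_of_mulEquiv (subgroupOfEquivOfLe hKM).symm))

end Cfsg.Agent.OddLocal.Kappa
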