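import Cfsg.Agent.OddLocal.PTypeConseq
import Cfsg.Agent.OddLocal.PrimeCore
import Cfsg.Agent.S1414
import Cfsg.Agent.S1426
import Cfsg.Agent.S1429
import Cfsg.Agent.OddLocal.CNHall

/-! Maximal subgroups with `M_σ` not nilpotent (BG 15.2). -/

set_option autoImplicit false
set_option linter.unusedSectionVars false

namespace Cfsg.Agent.OddLocal.NonNilpotent

open Cfsg Subgroup

variable {G : Type*} [Group G] [Finite G] {M K U : Subgroup G}

theorem isNilpotent_fittingHallOf (M : Subgroup G) : Group.IsNilpotent (fittingHallOf M) := by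
  unfold fittingHallOf
  exact Cores.isNilpotent_map _ M.subtype (CN.fittingHall_isNilpotent (G := M))

theorem not_nilpotent_of_ne (hG : IsMinSimpleOddOrder G) (hM : IsCoatom M)
    (hne : fittingHallOf M ≠ sigmaCore M) : ¬ Group.IsNilpotent (sigmaCore M) :=
  fun h => hne (SigmaParts.sigmaCore_eq_fittingHallOf hG hM h).symm

theorem U_eq_bot (hG : IsMinSimpleOddOrder G) (hM : IsCoatom M) (hKU : IsSigmaDecomposition M K U)
    (hn : ¬ Group.IsNilpotent (sigmaCore M)) : U = ⊥ := by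
  by_contra hU
  obtain ⟨p, hp, hd⟩ := Nat.exists_prime_and_dvd (fun e : Nat.card U = 1 => hU (card_eq_one.mp e))
  have := Fact.mk hp
  have hpM : p ∣ Nat.card M := hd.trans (card_dvd_of_le hKU.compl.1)
  have hσ := KappaDecomp.not_sigma_of_dvd hG hM hKU hp hd
  have hκ := KappaDecomp.not_kappa_of_dvd hKU hp hd
  exact hn (S1429.result hG M hM (fun h => hκ (h p hp hpM hσ)) p hpM (fun h => h.elim hσ hκ) default).2.2

theorem K_ne_bot (hG : IsMinSimpleOddOrder G) (hM : IsCoatom M) (hKU : IsSigmaDecomposition M K U)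
    (hn : ¬ Group.IsNilpotent (sigmaCore M)) : K ≠ ⊥ := fun e => by
  have hE := KappaDecomp.isCompl hKU
  rw [U_eq_bot hG hM hKU hn, e, sup_bot_eq] at hE
  have hMσ : M ≤ sigmaCore M := fun m hm => by
    obtain ⟨a, ha, b, hb, rfl⟩ := hE.2.2.2 m hm
    rwa [mem_bot.mp ha, one_mul]
  exact (Cfsg.Agent.Coprime.commutator_lt_of_isSolvable (Transitivity.isSolvable_of_ne_top hG hM.1)
    (fun e => Sigma.sigmaCore_ne_bot hG hM (le_bot_iff.mp (e ▸ Sigma.sigmaCore_le M)))).not_ge (hMσ.trans (Sigma.sigmaCore_le_commutator hG hM))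

/-- The structure. -/
structure Core (M K Q : Subgroup G) (q : ℕ) : Prop where
  hq : q.Prime
  hKp : (Nat.card K).Prime
  hc : Nat.card ↥(sigmaCore M ⊓ centralizer (K : Set G)) = q
  le : Q ≤ sigmaCore M
  le_F : Q ≤ fittingHallOf M
  normal : M ≤ normalizer (Q : Set G)
  pgroup : IsPGroup q Q
  index : ¬ q ∣ Q.relIndex (sigmaCore M)
  star_le : sigmaCore M ⊓ centralizer (K : Set G) ≤ Q
  beta : q ∈ beta M
  derived : ∀ D : Subgroup G, IsComplIn Q D (sigmaCore M) → ⁅D, D⁆ ≤ centralizer (Q : Set G)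
  compl : ∀ D : Subgroup G, IsComplIn Q D (sigmaCore M) →
    Group.IsNilpotent D ∧ M ≤ normalizer ((Q ⊓ centralizer (D : Set G) : Subgroup G) : Set G) ∧
      Q ⊓ centralizer (D : Set G) < Q ∧
      Nat.card Q = Nat.card ↥(Q ⊓ centralizer (D : Set G)) * q ^ Nat.card K ∧
      (∀ a ∈ Q, ∀ b ∈ Q, a ^ q ∈ Q ⊓ centralizer (D : Set G) ∧
        a * b * a⁻¹ * b⁻¹ ∈ Q ⊓ centralizer (D : Set G)) ∧
      ∀ W : Subgroup G, Q ⊓ centralizer (D : Set G) < W → W < Q → ¬ M ≤ normalizer (W : Set G)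

theorem hyp (hG : IsMinSimpleOddOrder G) (hM : IsCoatom M) (hKU : IsSigmaDecomposition M K U)
    (hn : ¬ Group.IsNilpotent (sigmaCore M)) : ∃ q : ℕ, q.Prime ∧
      Nat.card ↥(sigmaCore M ⊓ centralizer (K : Set G)) = q ∧
      PrimeCore.Hyp ((sigmaCore M).subgroupOf M) (K.subgroupOf M) q := by
  have hU := U_eq_bot hG hM hKU hn
  have hK1 := K_ne_bot hG hM hKU hn
  obtain ⟨S, h⟩ := PType.exists_pair hG hM hKU.hall hK1
  have hd := KappaDecomp.data_of hG hM hKU hK1
  have hq : (Nat.card (PType.star M K)).Prime :=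
    (h.p2.resolve_left fun h1 => (PType.notP1_iff hG hM hKU).mp h1.1 hU).2
  have hE := KappaDecomp.isCompl hKU
  rw [hU, bot_sup_eq] at hE
  have hKM := hKU.hall.1
  have hσM := Sigma.sigmaCore_le M
  have hsc : ∀ X : Subgroup G, X ≤ M →
      ((sigmaCore M).subgroupOf M ⊓ centralizer ((X.subgroupOf M : Subgroup M) : Set M)).map M.subtype =
        sigmaCore M ⊓ centralizer (X : Set G) := fun X hX => by
    ext y
    constructor
    · rintro ⟨z, ⟨hz, hzc⟩, rfl⟩
      exact ⟨hz, mem_centralizer_iff.mpr fun x hx =>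
        congrArg Subtype.val (mem_centralizer_iff.mp hzc ⟨x, hX hx⟩ hx)⟩
    · rintro ⟨hy, hyc⟩
      exact ⟨⟨y, hσM hy⟩, ⟨hy, mem_centralizer_iff.mpr fun x hx =>
        Subtype.ext (mem_centralizer_iff.mp hyc x hx)⟩, rfl⟩
  refine ⟨_, hq, rfl, ?_, Sigma.odd_card hG M, (normal_subgroupOf_iff_le_normalizer hσM).mpr
    (Sigma.le_normalizer_sigmaCore M), ?_, ?_, fun x hx hx1 => ?_, ?_, hq, ?_, ?_, ?_⟩
  · exact Transitivity.isSolvable_of_ne_top hG hM.1
  · rw [← subgroupOf_sup hσM hKM, subgroupOf_eq_top]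
    intro m hm
    obtain ⟨a, ha, b, hb, rfl⟩ := hE.2.2.2 m hm
    exact mul_mem (mem_sup_right ha) (mem_sup_left hb)
  · rw [Nat.card_congr (subgroupOfEquivOfLe hσM).toEquiv, Nat.card_congr (subgroupOfEquivOfLe hKM).toEquiv]
    exact (SigmaMeet.coprime_card hG hM hE).symm
  · refine le_antisymm ?_ (inf_le_inf_left _ (Subgroup.centralizer_le (Set.singleton_subset_iff.mpr hx)))
    rintro z ⟨hz, hzc⟩
    have hzc' : (z : G) ∈ centralizer ({(x : G)} : Set G) := mem_centralizer_singleton_iff.mpr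
      (congrArg Subtype.val (mem_centralizer_singleton_iff.mp hzc) : _)
    have h1 := (hd.fixed x hx fun e => hx1 (Subtype.ext e)).le (mem_inf.mpr ⟨hz, hzc'⟩)
    exact ⟨hz, mem_centralizer_iff.mpr fun k hk => Subtype.ext (mem_centralizer_iff.mp (mem_inf.mp h1).2 k hk)⟩
  · intro e
    refine hK1 ?_
    rw [← map_subgroupOf_eq_of_le hKM, e, Subgroup.map_bot]
  · exact (card_map_of_injective M.subtype_injective).symm.trans (by rw [hsc K hKM]; rfl)
  · refine map_injective M.subtype_injective ?_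
    rw [Subgroup.map_commutator, map_subgroupOf_eq_of_le hσM, map_subgroupOf_eq_of_le hKM]
    exact (S1426.result hG M hM K hE).2.1
  · exact fun h' => hn (Group.nilpotent_of_mulEquiv (subgroupOfEquivOfLe hσM))

theorem exists_core (hG : IsMinSimpleOddOrder G) (hM : IsCoatom M) (hKU : IsSigmaDecomposition M K U)
    (hn : ¬ Group.IsNilpotent (sigmaCore M)) : ∃ (q : ℕ) (Q : Subgroup G), Core M K Q q := by
  obtain ⟨q, hq, hc, c⟩ := hyp hG hM hKU hn
  have := Fact.mk hq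
  obtain ⟨Q₁, hQn, hQN, hQp, hQi, hCQ, hKp, hder, hall⟩ := c.main
  set Q := Q₁.map M.subtype with hQ
  have hσM := Sigma.sigmaCore_le M
  have hQσ : Q ≤ sigmaCore M := (map_mono hQN).trans (map_subgroupOf_eq_of_le hσM).le
  have hQM : M ≤ normalizer (Q : Set G) := by
    have h1 : (Q.subgroupOf M).Normal := by
      rwa [hQ, subgroupOf, comap_map_eq_self_of_injective M.subtype_injective]
    exact (normal_subgroupOf_iff_le_normalizer (map_subtype_le _)).mp h1
  have hQi' : ¬ q ∣ Q.relIndex (sigmaCore M) := by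
    rwa [← relIndex_map_map_of_injective _ _ M.subtype_injective, map_subgroupOf_eq_of_le hσM] at hQi
  have hqσ : q ∈ sigma M := Transitivity.isPi_piCoreOf (sigma M) M q hq
    (hc ▸ card_dvd_of_le inf_le_left)
  have hQp' : IsPGroup q Q := hQp.map _
  have hQF : Q ≤ fittingHallOf M := by
    refine Basics.le_fittingHallOf (map_subtype_le _) hQM hQp'.isNilpotent ?_
    obtain ⟨k, hk⟩ := hQp'.exists_card_eq
    rw [hk]
    refine Nat.Coprime.pow_left _ (hq.coprime_iff_not_dvd.mpr fun hd => ?_)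
    rw [← relIndex_mul_relIndex Q (sigmaCore M) M hQσ hσM] at hd
    exact (hq.dvd_mul.mp hd).elim hQi' ((Sigma.sigmaCore_hall hG hM).1.2.2 q hq hqσ)
  have hKσ : Nat.card (K.subgroupOf M) = Nat.card K :=
    Nat.card_congr (subgroupOfEquivOfLe hKU.hall.1).toEquiv
  have hcompl : ∀ D : Subgroup G, IsComplIn Q D (sigmaCore M) →
      Group.IsNilpotent D ∧ M ≤ normalizer ((Q ⊓ centralizer (D : Set G) : Subgroup G) : Set G) ∧
        Q ⊓ centralizer (D : Set G) < Q ∧
        Nat.card Q = Nat.card ↥(Q ⊓ centralizer (D : Set G)) * q ^ Nat.card K ∧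
        (∀ a ∈ Q, ∀ b ∈ Q, a ^ q ∈ Q ⊓ centralizer (D : Set G) ∧
          a * b * a⁻¹ * b⁻¹ ∈ Q ⊓ centralizer (D : Set G)) ∧
        ∀ W : Subgroup G, Q ⊓ centralizer (D : Set G) < W → W < Q → ¬ M ≤ normalizer (W : Set G) := by
    rintro D ⟨-, hDσ, hdis, hsplit⟩
    have hDM : D ≤ M := hDσ.trans hσM
    have hQ₁ : Q.subgroupOf M = Q₁ := by
      rw [hQ, subgroupOf, comap_map_eq_self_of_injective M.subtype_injective]
    obtain ⟨h1, h2, h3, h4, h5, h6⟩ := hall (D.subgroupOf M) (fun x hx => hDσ hx)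
      (by rw [← hQ₁]; exact eq_bot_iff.mpr fun x hx => mem_bot.mpr (Subtype.ext
        (mem_bot.mp (hdis.le ⟨(mem_inf.mp hx).1, (mem_inf.mp hx).2⟩))))
      (fun x hx => by
        obtain ⟨a, ha, b, hb, e⟩ := hsplit x hx
        exact ⟨⟨a, hσM (hQσ ha)⟩, hQ₁.le ha, ⟨b, hDM hb⟩, hb, Subtype.ext e⟩)
    have hmap : (Q₁ ⊓ centralizer ((D.subgroupOf M : Subgroup M) : Set M)).map M.subtype =
        Q ⊓ centralizer (D : Set G) := by
      ext y
      constructor
      · rintro ⟨z, ⟨hz, hzc⟩, rfl⟩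
        exact ⟨mem_map_of_mem _ hz, mem_centralizer_iff.mpr fun x hx =>
          congrArg Subtype.val (mem_centralizer_iff.mp hzc ⟨x, hDM hx⟩ hx)⟩
      · rintro ⟨⟨z, hz, rfl⟩, hyc⟩
        exact ⟨z, ⟨hz, mem_centralizer_iff.mpr fun x hx =>
          Subtype.ext (mem_centralizer_iff.mp hyc x hx)⟩, rfl⟩
    have hlt : Q ⊓ centralizer (D : Set G) < Q := by
      rw [← hmap]
      exact (map_lt_map_iff_of_injective M.subtype_injective).mpr h3
    refine ⟨Group.nilpotent_of_mulEquiv (subgroupOfEquivOfLe hDM), ?_, hlt, ?_, ?_, fun W hW₀ hWQ hWn => ?_⟩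
    · rw [← hmap]
      have h1' : ((Q₁ ⊓ centralizer ((D.subgroupOf M : Subgroup M) : Set M)).map M.subtype
          |>.subgroupOf M).Normal := by
        rwa [subgroupOf, comap_map_eq_self_of_injective M.subtype_injective]
      exact (normal_subgroupOf_iff_le_normalizer (map_subtype_le _)).mp h1'
    · rw [← hmap, card_map_of_injective M.subtype_injective,
        card_map_of_injective M.subtype_injective, h4, hKσ]
    · rintro _ ⟨a, ha, rfl⟩ _ ⟨b, hb, rfl⟩
      rw [← hmap]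
      exact ⟨⟨_, (h5 a ha b hb).1, by simp⟩, ⟨_, (h5 a ha b hb).2, by simp⟩⟩
    · have hWM : W ≤ M := hWQ.le.trans (map_subtype_le _)
      refine h6 (W.subgroupOf M) ?_ ?_ ((normal_subgroupOf_iff_le_normalizer hWM).mpr hWn)
      · rw [← map_lt_map_iff_of_injective M.subtype_injective, hmap, map_subgroupOf_eq_of_le hWM]
        exact hW₀
      · rw [← map_lt_map_iff_of_injective M.subtype_injective, map_subgroupOf_eq_of_le hWM]
        exact hWQ
  have hderived : ∀ D : Subgroup G, IsComplIn Q D (sigmaCore M) → ⁅D, D⁆ ≤ centralizer (Q : Set G) := by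
    rintro D ⟨-, hDσ, hdis, hsplit⟩
    have hDM : D ≤ M := hDσ.trans hσM
    have hQ₁ : Q.subgroupOf M = Q₁ := by
      rw [hQ, subgroupOf, comap_map_eq_self_of_injective M.subtype_injective]
    have h := hder (D.subgroupOf M) (fun x hx => hDσ hx)
      (by rw [← hQ₁]; exact eq_bot_iff.mpr fun x hx => mem_bot.mpr (Subtype.ext
        (mem_bot.mp (hdis.le ⟨(mem_inf.mp hx).1, (mem_inf.mp hx).2⟩))))
      (fun x hx => by
        obtain ⟨a, ha, b, hb, e⟩ := hsplit x hx
        exact ⟨⟨a, hσM (hQσ ha)⟩, hQ₁.le ha, ⟨b, hDM hb⟩, hb, Subtype.ext e⟩)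
    have h1 : (⁅D.subgroupOf M, D.subgroupOf M⁆).map M.subtype = ⁅D, D⁆ := by
      rw [map_commutator, map_subgroupOf_eq_of_le hDM]
    intro d hd
    rw [← h1] at hd
    obtain ⟨z, hz, rfl⟩ := hd
    refine mem_centralizer_iff.mpr ?_
    rintro _ ⟨y, hy, rfl⟩
    exact congrArg Subtype.val (mem_centralizer_iff.mp (h hz) y hy)
  refine ⟨q, Q, hq, hKσ ▸ hKp, hc, hQσ, hQF, hQM, hQp', hQi', ?_, ?_, hderived, hcompl⟩
  · intro y hy
    refine ⟨⟨y, hσM hy.1⟩, hCQ ⟨hy.1, mem_centralizer_iff.mpr fun x hx =>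
      Subtype.ext (mem_centralizer_iff.mp hy.2 x hx)⟩, rfl⟩
  · by_contra hβ
    refine hn ?_
    obtain ⟨P, N₀, hN₀, hcp⟩ := ((S1414.result hG M hM).2.2.2.2 q hq
      (hqσ.2.1) hβ).2.1
    have hPQ : (P : Subgroup (sigmaCore M)) = Q.subgroupOf (sigmaCore M) := by
      have hn1 : (Q.subgroupOf (sigmaCore M)).Normal :=
        (normal_subgroupOf_iff_le_normalizer hQσ).mpr (hσM.trans hQM)
      obtain ⟨T, hT⟩ : ∃ T : Sylow q (sigmaCore M), (T : Subgroup (sigmaCore M)) = Q.subgroupOf (sigmaCore M) :=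
        ⟨IsPGroup.toSylow (P := Q.subgroupOf (sigmaCore M)) hQp'.comap_subtype hQi',
          IsPGroup.toSylow_coe _ _⟩
      have := Sylow.unique_of_normal T (by rw [hT]; exact hn1)
      rw [Subsingleton.elim P T, hT]
    have hPn : (P : Subgroup (sigmaCore M)).Normal := by
      rw [hPQ]; exact (normal_subgroupOf_iff_le_normalizer hQσ).mpr (hσM.trans hQM)
    set D := N₀.map (sigmaCore M).subtype
    have hD : IsComplIn Q D (sigmaCore M) := by
      refine ⟨hQσ, map_subtype_le _, eq_bot_iff.mpr fun x hx => ?_, fun x hx => ?_⟩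
      · obtain ⟨hxQ, d, hd, rfl⟩ := mem_inf.mp hx
        exact mem_bot.mpr (congrArg Subtype.val (mem_bot.mp
          (hcp.disjoint.le_bot (mem_inf.mpr ⟨hd, hPQ.ge hxQ⟩))))
      · obtain ⟨⟨⟨n, hn'⟩, ⟨a, ha⟩⟩, e⟩ := hcp.2 ⟨x, hx⟩
        have e' : (n : G) * a = x := congrArg Subtype.val e
        exact ⟨a, hPQ.le ha, (a : G)⁻¹ * n * a,
          ⟨a⁻¹ * n * a, by simpa using hN₀.conj_mem n hn' a⁻¹, by simp⟩, by rw [← e']; group⟩
    exact absurd (hcompl D hD).2.2.1 (fun hlt => hlt.not_ge (le_inf le_rfl (fun a ha =>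
      mem_centralizer_iff.mpr (by
        rintro _ ⟨d, hd, rfl⟩
        exact congrArg Subtype.val (Subgroup.commute_of_normal_of_disjoint _ _ hN₀ hPn
          hcp.disjoint d ⟨a, hQσ ha⟩ hd (hPQ.ge ha)).eq))))

end Cfsg.Agent.OddLocal.NonNilpotent
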