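import Cfsg.Agent.OddLocal.Signalizer

/-! The cosets `x R(x)` and their conjugates (BG 14.4, 14.5). -/

set_option autoImplicit false
set_option linter.unusedSectionVars false

namespace Cfsg.Agent.OddLocal.SupportR

open Cfsg Subgroup SigmaParts Signalizer
open TauTwo (centralizer_map_conj)
open Cfsg.Agent.Transfer.Fusion (map_conj_mul card_map_conj map_conj_inv_cancel map_conj_one)

variable {G : Type*} [Group G] [Finite G] {M N : Subgroup G} {x r : G}

theorem supportR_of_le (h : centralizer ({x} : Set G) ≤ M) : supportR M x = ⊥ := by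
  unfold supportR
  rw [dif_neg fun h' => h'.1 h]

theorem cases (hG : IsMinSimpleOddOrder G) (hM : IsCoatom M) (hx : x ∈ sigmaCore M) (hx1 : x ≠ 1) :
    (centralizer ({x} : Set G) ≤ M ∧ supportR M x = ⊥) ∨
      ∃ N : Subgroup G, Sig M N x ∧ supportR M x = sigmaCore N ⊓ centralizer ({x} : Set G) := by
  by_cases h : centralizer ({x} : Set G) ≤ M
  · exact Or.inl ⟨h, supportR_of_le h⟩
  · obtain ⟨N, hN⟩ := exists_sig hG hM hx hx1 h
    exact Or.inr ⟨N, hN, hN.supportR_eq hG hM⟩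

/-- What we use of an element of `R(x)`. -/
theorem mem_cases (hG : IsMinSimpleOddOrder G) (hM : IsCoatom M) (hx : x ∈ sigmaCore M) (hx1 : x ≠ 1)
    (hr : r ∈ supportR M x) : Commute x r ∧ IsPiEl {p | p ∉ sigma M} r ∧
      (r = 1 ∨ ∃ N : Subgroup G, Sig M N x ∧ r ∈ sigmaCore N) := by
  rcases cases hG hM hx hx1 with ⟨-, he⟩ | ⟨N, h, he⟩
  · rw [he, mem_bot] at hr
    subst hr
    exact ⟨Commute.one_right _, isPiEl_one _, Or.inl rfl⟩
  · rw [he] at hr
    obtain ⟨hrN, hrx⟩ := mem_inf.mp hr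
    exact ⟨(show Commute r x from mem_centralizer_singleton_iff.mp hrx).symm, h.piEl_not hG hM hrN,
      Or.inr ⟨N, h, hrN⟩⟩

theorem inf_eq_bot (hG : IsMinSimpleOddOrder G) (hM : IsCoatom M) (hx : x ∈ sigmaCore M) (hx1 : x ≠ 1) :
    supportR M x ⊓ M = ⊥ := by
  rcases cases hG hM hx hx1 with ⟨-, he⟩ | ⟨N, h, he⟩
  · rw [he, bot_inf_eq]
  · rw [he, ← le_bot_iff, ← h.compl_centralizer.2.2.1]
    exact le_inf (le_inf inf_le_right (inf_le_left.trans inf_le_right)) inf_le_left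

theorem exists_centralizer_eq (hG : IsMinSimpleOddOrder G) (hM : IsCoatom M) (hx : x ∈ sigmaCore M)
    {g : G} (hg : x ∈ M.map (MulAut.conj g).toMonoidHom) :
    ∃ c ∈ centralizer ({x} : Set G),
      M.map (MulAut.conj c).toMonoidHom = M.map (MulAut.conj g).toMonoidHom := by
  obtain ⟨m, hm, he⟩ := fusion_core hG hM hx (g := g⁻¹) (by simpa using mem_conj_iff.mp hg)
  refine ⟨g * m, mem_centralizer_singleton_iff.mpr ?_, ?_⟩
  · calc g * m * x = g * (m * x * m⁻¹) * m := by group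
      _ = g * (g⁻¹ * x * g⁻¹⁻¹) * m := by rw [he]
      _ = x * (g * m) := by group
  · rw [map_conj_mul, (mem_iff_conj_eq hG hM).mp hm]

theorem eq_of_le (hG : IsMinSimpleOddOrder G) (hM : IsCoatom M) (hx : x ∈ sigmaCore M)
    (hC : centralizer ({x} : Set G) ≤ M) {g : G} (hg : x ∈ M.map (MulAut.conj g).toMonoidHom) :
    M.map (MulAut.conj g).toMonoidHom = M := by
  obtain ⟨c, hc, he⟩ := exists_centralizer_eq hG hM hx hg
  rw [← he, (mem_iff_conj_eq hG hM).mp (hC hc)]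

/-- `R(x)` is transitive on the conjugates of `M` containing `x`. -/
theorem exists_unique_conj (hG : IsMinSimpleOddOrder G) (hM : IsCoatom M) (hx : x ∈ sigmaCore M)
    (hx1 : x ≠ 1) {g : G} (hg : x ∈ M.map (MulAut.conj g).toMonoidHom) :
    ∃! r : G, r ∈ supportR M x ∧
      M.map (MulAut.conj r).toMonoidHom = M.map (MulAut.conj g).toMonoidHom := by
  have huniq : ∀ r r' : G, r ∈ supportR M x → r' ∈ supportR M x →
      M.map (MulAut.conj r).toMonoidHom = M.map (MulAut.conj r').toMonoidHom → r = r' :=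
    fun r r' hr hr' e => by
      have h1 : r⁻¹ * r' ∈ supportR M x ⊓ M :=
        mem_inf.mpr ⟨mul_mem (inv_mem hr) hr', (conj_eq_conj_iff hG hM).mp e⟩
      rw [inf_eq_bot hG hM hx hx1, mem_bot, inv_mul_eq_one] at h1
      exact h1
  suffices h : ∃ r, r ∈ supportR M x ∧
      M.map (MulAut.conj r).toMonoidHom = M.map (MulAut.conj g).toMonoidHom by
    obtain ⟨r, hr, he⟩ := h
    exact ⟨r, ⟨hr, he⟩, fun r' hr' => huniq r' r hr'.1 hr (hr'.2.trans he.symm)⟩
  rcases cases hG hM hx hx1 with ⟨hC, -⟩ | ⟨N, h, he⟩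
  · exact ⟨1, one_mem _, by rw [map_conj_one, eq_of_le hG hM hx hC hg]⟩
  · obtain ⟨c, hc, hce⟩ := exists_centralizer_eq hG hM hx hg
    obtain ⟨e, hem, t, ht, rfl⟩ := h.split c hc
    refine ⟨e * t * e⁻¹, he ▸ (mem_normalizer_iff.mp (h.normal (mem_inf.mp hem).2) t).mp ht, ?_⟩
    rw [← hce]
    refine (conj_eq_conj_iff hG hM).mpr ?_
    rw [show (e * t * e⁻¹)⁻¹ * (e * t) = e by group]
    exact (mem_inf.mp hem).1

theorem supportR_eq_of_mem (hG : IsMinSimpleOddOrder G) (hM : IsCoatom M) (hx : x ∈ sigmaCore M)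
    (hx1 : x ≠ 1) {g : G} (hg : x ∈ M.map (MulAut.conj g).toMonoidHom) :
    supportR (M.map (MulAut.conj g).toMonoidHom) x = supportR M x := by
  rcases cases hG hM hx hx1 with ⟨hC, -⟩ | ⟨N, h, he⟩
  · rw [eq_of_le hG hM hx hC hg]
  · rw [he, (h.of_conj hG hM hx hx1 hg).supportR_eq hG (Unique.isCoatom_map_conj hM g)]

theorem supportR_conj (hG : IsMinSimpleOddOrder G) (hM : IsCoatom M) (hx : x ∈ sigmaCore M)
    (hx1 : x ≠ 1) (g : G) : supportR (M.map (MulAut.conj g).toMonoidHom) (g * x * g⁻¹) =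
      (supportR M x).map (MulAut.conj g).toMonoidHom := by
  rcases cases hG hM hx hx1 with ⟨hC, he⟩ | ⟨N, h, he⟩
  · rw [he, Subgroup.map_bot, supportR_of_le (by rw [centralizer_map_conj]; exact map_mono hC)]
  · have hM' := Unique.isCoatom_map_conj hM g
    have hC' : ¬ centralizer ({g * x * g⁻¹} : Set G) ≤ M.map (MulAut.conj g).toMonoidHom := fun hle =>
      h.not_le hM (by
        rwa [centralizer_map_conj, map_le_map_iff_of_injective (MulAut.conj g).injective] at hle)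
    obtain ⟨N', h'⟩ := exists_sig hG hM'
      (sigmaCore_map (M := M) g ▸ ⟨x, hx, rfl⟩) (fun e => hx1 (conj_eq_one_iff.mp e)) hC'
    rw [h'.supportR_eq hG hM', he, ← h'.uniq _ (Unique.isCoatom_map_conj h.hN g)
      (by rw [centralizer_map_conj]; exact map_mono h.hC), sigmaCore_map, centralizer_map_conj,
      Subgroup.map_inf _ _ _ (MulAut.conj g).injective]

/-- BG 14.5: distinct base points give disjoint cosets. -/
theorem disjoint (hG : IsMinSimpleOddOrder G) (hM : IsCoatom M) (hN : IsCoatom N) {y s : G}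
    (hx : x ∈ sigmaCore M) (hy : y ∈ sigmaCore N) (hx1 : x ≠ 1) (hy1 : y ≠ 1) (hxy : x ≠ y)
    (hr : r ∈ supportR M x) (hs : s ∈ supportR N y) : x * r ≠ y * s := by
  intro e
  obtain ⟨hxr, hrσ, hr'⟩ := mem_cases hG hM hx hx1 hr
  obtain ⟨hys, hsσ, hs'⟩ := mem_cases hG hN hy hy1 hs
  have hxσ := mem_sigma_core hx
  have hyσ := mem_sigma_core hy
  by_cases hMN : ∃ g : G, N = M.map (MulAut.conj g).toMonoidHom
  · obtain ⟨g, rfl⟩ := hMN
    rw [sigma_eq] at hyσ hsσ
    exact hxy (parts_unique hxr hys hxσ hrσ hyσ hsσ e)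
  have hne := not_exists.mp hMN
  have hyM := piEl_of_sigma_ne hG hM hN hne hyσ
  have hxN := piEl_of_sigma_ne hG hN hM (SigmaParts.ne_symm hne) hxσ
  have hs1 : s ≠ 1 := fun h1 => by
    subst h1
    exact hx1 (parts_unique hxr (Commute.one_left y) hxσ hrσ (isPiEl_one _) hyM
      (by rw [e, mul_one, one_mul]))
  obtain ⟨N₂, h₂, hsN⟩ := hs'.resolve_left hs1
  by_cases hN₂ : ∃ g : G, N₂ = M.map (MulAut.conj g).toMonoidHom
  swap
  · exact hx1 (parts_unique hxr (Commute.one_left _) hxσ hrσ (isPiEl_one _)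
      (hyM.mul (piEl_of_sigma_ne hG hM h₂.hN (not_exists.mp hN₂) (mem_sigma_core hsN)) hys)
      (by rw [e, one_mul]))
  obtain ⟨g, rfl⟩ := hN₂
  have hxs : x = s := by
    have hsM : IsPiEl (sigma M) s := sigma_eq (M := M) g ▸ mem_sigma_core hsN
    exact parts_unique hxr hys.symm hxσ hrσ hsM hyM (e.trans hys.eq)
  subst hxs
  have hry : r = y := mul_left_cancel (e.trans hys.eq)
  subst hry
  obtain ⟨N₁, h₁, hrN⟩ := hr'.resolve_left hy1
  have hxg : x ∈ M.map (MulAut.conj g).toMonoidHom := Sigma.sigmaCore_le _ hsN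
  have h1 := (h₁.of_conj hG hM hx hx1 hxg).compl.2.2.1
  exact hy1 (mem_bot.mp (h1 ▸ mem_inf.mpr ⟨mem_inf.mpr ⟨h₂.hC (mem_centralizer_singleton_iff.mpr rfl),
    Sigma.sigmaCore_le _ hrN⟩, hrN⟩))

theorem mem_tilde {A : Set G} {g : G} : g ∈ tildeOf M A ↔
    ∃ a ∈ A, ∃ r ∈ supportR M a, ∃ y : G, g = y * (a * r) * y⁻¹ := Iff.rfl

/-- A member of `M̃` is `b r` for a base point `b` in a conjugate of `M_σ`. -/
theorem exists_base (hG : IsMinSimpleOddOrder G) (hM : IsCoatom M) {g : G}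
    (h : g ∈ tildeOf M ((sigmaCore M : Set G) \ {1})) :
    ∃ (y b r : G), b ∈ sigmaCore (M.map (MulAut.conj y).toMonoidHom) ∧ b ≠ 1 ∧
      r ∈ supportR (M.map (MulAut.conj y).toMonoidHom) b ∧ g = b * r := by
  obtain ⟨a, ⟨ha, ha1⟩, r, hr, y, rfl⟩ := mem_tilde.mp h
  refine ⟨y, y * a * y⁻¹, y * r * y⁻¹, sigmaCore_map (M := M) y ▸ ⟨a, ha, rfl⟩,
    fun e => ha1 (conj_eq_one_iff.mp e), ?_, by group⟩
  rw [supportR_conj hG hM ha ha1]
  exact ⟨r, hr, rfl⟩

theorem tilde_disjoint (hG : IsMinSimpleOddOrder G) (hM : IsCoatom M) (hN : IsCoatom N)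
    (hne : ∀ g : G, N ≠ M.map (MulAut.conj g).toMonoidHom) :
    tildeOf M ((sigmaCore M : Set G) \ {1}) ∩ tildeOf N ((sigmaCore N : Set G) \ {1}) = ∅ := by
  refine Set.eq_empty_iff_forall_notMem.mpr fun g hg => ?_
  obtain ⟨y, b, r, hb, hb1, hr, rfl⟩ := exists_base hG hM hg.1
  obtain ⟨z, c, s, hc, hc1, hs, e⟩ := exists_base hG hN hg.2
  have hM' := Unique.isCoatom_map_conj hM y
  have hN' := Unique.isCoatom_map_conj hN z
  refine disjoint hG hM' hN' hb hc hb1 hc1 (fun hbc => ?_) hr hs e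
  subst hbc
  obtain ⟨p, hp, hd⟩ := Nat.exists_prime_and_dvd (mt orderOf_eq_one_iff.mp hb1)
  exact not_sigma_of_ne hG hM hN hne (sigma_eq (M := M) y ▸ mem_sigma_core hb p hp hd)
    (sigma_eq (M := N) z ▸ mem_sigma_core hc p hp hd)

/-- BG 14.6: the size of `M̃`. -/
theorem tilde_ncard (hG : IsMinSimpleOddOrder G) (hM : IsCoatom M) :
    Set.ncard (tildeOf M ((sigmaCore M : Set G) \ {1})) =
      (Nat.card (sigmaCore M) - 1) * M.index := by
  classical
  set A : Set G := (sigmaCore M : Set G) \ {1} with hA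
  set B : Set G := {b | ∃ g : G, b ∈ sigmaCore (M.map (MulAut.conj g).toMonoidHom) ∧ b ≠ 1} with hB
  choose c hc hc1 using fun b : B => b.2
  have hkey : ∀ (q : G ⧸ M) (a : A), q.out * (a : G) * q.out⁻¹ ∈ B := fun q a =>
    ⟨q.out, sigmaCore_map (M := M) q.out ▸ ⟨a, a.2.1, rfl⟩, fun e => a.2.2 (conj_eq_one_iff.mp e)⟩
  have hex : ∀ (q : G ⧸ M) (a : A), ∃! r : G,
      r ∈ supportR (M.map (MulAut.conj (c ⟨_, hkey q a⟩)).toMonoidHom) (q.out * (a : G) * q.out⁻¹) ∧
      (M.map (MulAut.conj (c ⟨_, hkey q a⟩)).toMonoidHom).map (MulAut.conj r).toMonoidHom =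
        M.map (MulAut.conj q.out).toMonoidHom := by
    intro q a
    set g := c ⟨_, hkey q a⟩
    have h2 : (M.map (MulAut.conj g).toMonoidHom).map (MulAut.conj (q.out * g⁻¹)).toMonoidHom =
        M.map (MulAut.conj q.out).toMonoidHom := by
      rw [← map_conj_mul, inv_mul_cancel_right]
    obtain ⟨r, hr, hu⟩ := exists_unique_conj hG (Unique.isCoatom_map_conj hM g) (hc _) (hc1 _)
      (g := q.out * g⁻¹) (h2.symm ▸ ⟨a, Sigma.sigmaCore_le M a.2.1, rfl⟩)
    exact ⟨r, ⟨hr.1, hr.2.trans h2⟩, fun r' hr' => hu r' ⟨hr'.1, hr'.2.trans h2.symm⟩⟩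
  choose ρ hρ hρu using hex
  set F : (G ⧸ M) × A → G := fun z => z.1.out * (z.2 : G) * z.1.out⁻¹ * ρ z.1 z.2 with hF
  have hinj : Function.Injective F := by
    rintro ⟨q, a⟩ ⟨q', a'⟩ e
    have hb : q.out * (a : G) * q.out⁻¹ = q'.out * (a' : G) * q'.out⁻¹ := by
      by_contra hne
      exact disjoint hG (Unique.isCoatom_map_conj hM _) (Unique.isCoatom_map_conj hM _)
        (hc ⟨_, hkey q a⟩) (hc ⟨_, hkey q' a'⟩) (hc1 ⟨_, hkey q a⟩) (hc1 ⟨_, hkey q' a'⟩)
        hne (hρ q a).1 (hρ q' a').1 e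
    have hr : ρ q a = ρ q' a' := by
      have e' : q.out * (a : G) * q.out⁻¹ * ρ q a = q'.out * (a' : G) * q'.out⁻¹ * ρ q' a' := e
      rw [hb] at e'
      exact mul_left_cancel e'
    have hcc : c ⟨_, hkey q a⟩ = c ⟨_, hkey q' a'⟩ := congrArg c (Subtype.ext hb)
    have hH := (hρ q a).2
    rw [hr, hcc, (hρ q' a').2, conj_eq_conj_iff hG hM] at hH
    have hq : q = q' := by
      rw [← q.out_eq', ← q'.out_eq', QuotientGroup.eq]
      simpa using inv_mem hH
    subst hq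
    exact Prod.ext rfl (Subtype.ext (mul_left_cancel (mul_right_cancel hb)))
  have himg : Set.range F = tildeOf M A := by
    refine Set.Subset.antisymm ?_ fun g hg => ?_
    · rintro _ ⟨⟨q, a⟩, rfl⟩
      have hb : q.out * (a : G) * q.out⁻¹ ∈ sigmaCore (M.map (MulAut.conj q.out).toMonoidHom) :=
        sigmaCore_map (M := M) q.out ▸ ⟨a, a.2.1, rfl⟩
      have hr := (hρ q a).1
      have he : supportR (M.map (MulAut.conj (c ⟨_, hkey q a⟩)).toMonoidHom) (q.out * (a : G) * q.out⁻¹) =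
          (supportR M (a : G)).map (MulAut.conj q.out).toMonoidHom := by
        rw [← supportR_conj hG hM a.2.1 a.2.2]
        set g := c ⟨_, hkey q a⟩ with hg
        have h3 := supportR_eq_of_mem hG (Unique.isCoatom_map_conj hM q.out) hb
          (fun e => a.2.2 (conj_eq_one_iff.mp e)) (g := g * q.out⁻¹) (by
            rw [← map_conj_mul, inv_mul_cancel_right]
            exact Sigma.sigmaCore_le _ (hc ⟨_, hkey q a⟩))
        rwa [← map_conj_mul, inv_mul_cancel_right] at h3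
      rw [he] at hr
      obtain ⟨r, hr, hre⟩ := hr
      refine mem_tilde.mpr ⟨a, a.2, r, hr, q.out, ?_⟩
      show q.out * (a : G) * q.out⁻¹ * ρ q a = _
      rw [← hre]
      show q.out * (a : G) * q.out⁻¹ * (q.out * r * q.out⁻¹) = _
      group
    · obtain ⟨y, b, s, hb, hb1, hs, rfl⟩ := exists_base hG hM hg
      have hbB : b ∈ B := ⟨y, hb, hb1⟩
      set g := c ⟨b, hbB⟩ with hgdef
      have hs' : s ∈ supportR (M.map (MulAut.conj g).toMonoidHom) b := by
        have h3 := supportR_eq_of_mem hG (Unique.isCoatom_map_conj hM y) hb hb1 (g := g * y⁻¹) (by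
          rw [← map_conj_mul, inv_mul_cancel_right]
          exact Sigma.sigmaCore_le _ (hc ⟨b, hbB⟩))
        rw [← map_conj_mul, inv_mul_cancel_right] at h3
        rwa [h3]
      set q : G ⧸ M := ((s * g : G) : G ⧸ M) with hq
      have hqM : M.map (MulAut.conj q.out).toMonoidHom = M.map (MulAut.conj (s * g)).toMonoidHom := by
        rw [conj_eq_conj_iff hG hM, ← QuotientGroup.eq, QuotientGroup.out_eq']
      have hsb := (mem_cases hG (Unique.isCoatom_map_conj hM g) (hc ⟨b, hbB⟩) hb1 hs').1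
      have hbq : b ∈ sigmaCore (M.map (MulAut.conj q.out).toMonoidHom) := by
        rw [hqM, map_conj_mul, sigmaCore_map]
        exact ⟨b, hc ⟨b, hbB⟩, show s * b * s⁻¹ = b by rw [← hsb.eq, mul_inv_cancel_right]⟩
      rw [sigmaCore_map] at hbq
      obtain ⟨a, ha, hab⟩ := hbq
      have hab' : q.out * a * q.out⁻¹ = b := hab
      have ha1 : a ∉ ({1} : Set G) := fun e => hb1 (by
        rw [← hab', show a = 1 from e]; group)
      refine ⟨(q, ⟨a, ha, ha1⟩), ?_⟩
      have hcg : c ⟨_, hkey q ⟨a, ha, ha1⟩⟩ = g := congrArg c (Subtype.ext hab')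
      have hρs : s = ρ q ⟨a, ha, ha1⟩ := hρu q ⟨a, ha, ha1⟩ s ⟨by
        rw [hcg, hab']; exact hs', by rw [hcg, hqM, ← map_conj_mul]⟩
      show q.out * a * q.out⁻¹ * ρ q ⟨a, ha, ha1⟩ = b * s
      rw [hab', ← hρs]
  rw [← himg, ← Set.image_univ, Set.ncard_image_of_injective _ hinj, Set.ncard_univ, Nat.card_prod,
    ← Subgroup.index, mul_comm]
  congr 1
  rw [Nat.card_coe_set_eq, hA, Set.ncard_sdiff_singleton_of_mem (one_mem _), ← Nat.card_coe_set_eq]
  rfl

end Cfsg.Agent.OddLocal.SupportR
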