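import Mathlib
import Cfsg.Agent.Lib.GL2.Classes

/-! Odd order subgroups of `GL₂(F)`, `F` of odd characteristic `p`, with order divisible by `p`,
have a common eigenvector. -/

set_option autoImplicit false

namespace Cfsg.Agent.OddLocal.GL2

open Matrix Cfsg.Agent.GL2.Classes

variable {F : Type*} [Field F] {p : ℕ} [hp : Fact p.Prime] [CharP F p]

/-- In a group of odd order an element inverting `z` fixes it. -/
theorem sq_eq_one_of_conj_inv {G : Type*} [Group G] [Finite G] (hodd : Odd (Nat.card G)) {n z : G}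
    (h : n * z * n⁻¹ = z⁻¹) : z = 1 := by
  have h2 : Commute (n ^ 2) z := by
    have h' : n * z⁻¹ * n⁻¹ = z := by
      have := congrArg Inv.inv h
      simpa [mul_assoc] using this
    show n ^ 2 * z = z * n ^ 2
    calc n ^ 2 * z = n * (n * z * n⁻¹) * n := by rw [pow_two]; group
      _ = (n * z⁻¹ * n⁻¹) * n * n := by rw [h]; group
      _ = z * n ^ 2 := by rw [h', pow_two, mul_assoc]
  obtain ⟨k, hk⟩ := hodd.of_dvd_nat (orderOf_dvd_natCard n)
  have hn : Commute n z := by
    have e : n = (n ^ 2) ^ (k + 1) := by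
      rw [← pow_mul, show 2 * (k + 1) = orderOf n + 1 by omega, pow_succ, pow_orderOf_eq_one,
        one_mul]
    rw [e]; exact h2.pow_left _
  rw [hn.eq, mul_inv_cancel_right] at h
  have hz : z ^ 2 = 1 := by rw [pow_two]; nth_rewrite 2 [h]; exact mul_inv_cancel z
  have hcop : (orderOf z).Coprime 2 :=
    Nat.coprime_two_right.mpr (hodd.of_dvd_nat (orderOf_dvd_natCard z))
  exact orderOf_eq_one_iff.mp (hcop.eq_one_of_dvd (orderOf_dvd_of_pow_eq_one hz))

/-- Two matrices commuting with the same non-scalar `2 × 2` matrix commute. -/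
theorem commute_of_commute {M A B : Matrix (Fin 2) (Fin 2) F} (hM : ¬ IsScalar M)
    (hA : A * M = M * A) (hB : B * M = M * B) : A * B = B * A := by
  obtain ⟨a, b, rfl⟩ := (commute_iff hM A).mp hA
  obtain ⟨c, d, rfl⟩ := (commute_iff hM B).mp hB
  simp only [add_mul, mul_add, smul_mul, Matrix.mul_smul, Matrix.one_mul, Matrix.mul_one, smul_smul]
  rw [mul_comm c a, mul_comm d a, mul_comm c b, mul_comm d b]
  abel

theorem sub_one_sq_eq_zero {M : Matrix (Fin 2) (Fin 2) F} (h : M ^ p = 0) : M * M = 0 := by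
  have hd : M.det = 0 := by
    have := congrArg Matrix.det h
    rw [det_pow, det_zero] at this
    exact eq_zero_of_pow_eq_zero this
  have e : M * M = M.trace • M := by
    ext i j
    rw [det_fin_two] at hd
    fin_cases i <;> fin_cases j <;>
      simp [Matrix.mul_apply, Fin.sum_univ_two, trace_fin_two] <;>
      first | (ring_nf; done) | linear_combination hd | linear_combination -hd
  have e' : ∀ n : ℕ, M ^ (n + 1) = M.trace ^ n • M := by
    intro n
    induction n with
    | zero => simp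
    | succ n ih => rw [pow_succ, ih, smul_mul, e, smul_smul, pow_succ]
  obtain ⟨n, hn⟩ : ∃ n, p = n + 1 := ⟨p - 1, by have := hp.out.pos; omega⟩
  rw [hn, e', smul_eq_zero] at h
  rcases h with h | h
  · rw [e, eq_zero_of_pow_eq_zero h, zero_smul]
  · simp [h]

/-- If `z` has determinant one and odd order prime to `p` and commutes with its conjugate by `n`, then it
commutes with `n`. -/
theorem conj_comm_eq (hp2 : p ≠ 2) {H : Type*} [Group H] [Finite H] (hodd : Odd (Nat.card H))
    (ρ : H →* Matrix (Fin 2) (Fin 2) F) (hinj : Function.Injective ρ) {n z : H}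
    (hz : (ρ z).det = 1) (hcop : (orderOf z).Coprime p)
    (hcomm : n * z * n⁻¹ * z = z * (n * z * n⁻¹)) : n * z = z * n := by
  rcases eq_or_ne z 1 with rfl | hz1
  · simp
  have hns : ¬ IsScalar (ρ z) := by
    rintro ⟨c, hc⟩
    have h1 : c ^ 2 = 1 := by
      rw [hc, det_smul, det_one, Fintype.card_fin, mul_one] at hz
      exact hz
    have hz2 : z ^ 2 = 1 := hinj (by rw [map_pow, map_one, hc, smul_pow, one_pow, h1, one_smul])
    have hcop2 : (orderOf z).Coprime 2 :=
      Nat.coprime_two_right.mpr (hodd.of_dvd_nat (orderOf_dvd_natCard z))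
    exact hz1 (orderOf_eq_one_iff.mp (hcop2.eq_one_of_dvd (orderOf_dvd_of_pow_eq_one hz2)))
  have hz'det : (ρ (n * z * n⁻¹)).det = 1 := by
    rw [map_mul, map_mul, det_mul, det_mul, hz, mul_one, ← det_mul, ← map_mul, mul_inv_cancel,
      map_one, det_one]
  set z' := n * z * n⁻¹ with hz'def
  have hc : ρ z' * ρ z = ρ z * ρ z' := by rw [← map_mul, ← map_mul, hcomm]
  obtain ⟨a, b, hab⟩ := (commute_iff hns _).mp hc
  have htr : (ρ z').trace = (ρ z).trace := by
    rw [hz'def, map_mul, Matrix.trace_mul_comm, ← map_mul]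
    congr 2; group
  set t := (ρ z).trace with ht
  have h1 : 2 * a + b * t = t := by
    rw [hab, trace_add, trace_smul, trace_smul, trace_one, Fintype.card_fin, ← ht] at htr
    simp only [smul_eq_mul, Nat.cast_ofNat] at htr
    linear_combination htr
  have h2 : a ^ 2 + a * b * t + b ^ 2 = 1 := by
    have := det_comb (ρ z) (a, b)
    simp only [normForm] at this
    rw [← hab, hz, hz'det, ← ht] at this
    linear_combination -this
  have htwo : (2 : F) ≠ 0 := Ring.two_ne_zero (by rwa [ringChar.eq F p])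
  have h3 : (b - 1) * (b + 1) * (t ^ 2 - 4) = 0 := by
    linear_combination -4 * h2 + (2 * a + b * t + t) * h1
  have ht4 : t ^ 2 - 4 ≠ 0 := by
    intro h
    obtain ⟨s, hs, hs2⟩ : ∃ s : F, t = 2 * s ∧ s ^ 2 = 1 :=
      ⟨t / 2, by field_simp, by field_simp; linear_combination h⟩
    have hM : (ρ z - s • 1) ^ p = 0 := by
      have e : (ρ z - s • 1) * (ρ z - s • 1) = 0 := by
        have hd := hz
        rw [det_fin_two] at hd
        rw [hs] at ht
        rw [trace_fin_two] at ht
        ext i j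
        fin_cases i <;> fin_cases j <;> simp [Matrix.mul_apply, Fin.sum_univ_two]
        · linear_combination (ρ z 0 0) * (-ht) + hs2 - hd
        · linear_combination (ρ z 0 1) * (-ht)
        · linear_combination (ρ z 1 0) * (-ht)
        · linear_combination (ρ z 1 1) * (-ht) + hs2 - hd
      rw [show p = 2 + (p - 2) by have := hp.out.two_le; omega, pow_add, pow_two, e,
        Matrix.zero_mul]
    rw [sub_pow_char_of_commute p (Commute.smul_right (Commute.one_right _) _), smul_pow, one_pow,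
      sub_eq_zero] at hM
    have hz2p : z ^ (p * 2) = 1 := hinj (by
      rw [map_pow, map_one, pow_mul, hM, smul_pow, one_pow, ← pow_mul, mul_comm, pow_mul, hs2,
        one_pow, one_smul])
    have hcop2 : (orderOf z).Coprime (p * 2) := Nat.Coprime.mul_right hcop
      (Nat.coprime_two_right.mpr (hodd.of_dvd_nat (orderOf_dvd_natCard z)))
    exact hz1 (orderOf_eq_one_iff.mp (hcop2.eq_one_of_dvd (orderOf_dvd_of_pow_eq_one hz2p)))
  rcases mul_eq_zero.mp ((mul_eq_zero.mp h3).resolve_right ht4) with hb | hb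
  · have hb1 : b = 1 := sub_eq_zero.mp hb
    have ha0 : a = 0 := by
      rw [hb1, one_mul] at h1
      simpa [htwo] using h1
    rw [hb1, ha0, zero_smul, zero_add, one_smul] at hab
    exact mul_inv_eq_iff_eq_mul.mp (hinj hab)
  · have hb1 : b = -1 := by linear_combination hb
    have ha : a = t := by
      rw [hb1] at h1
      exact mul_left_cancel₀ htwo (by linear_combination h1)
    have hzz : z' * z = 1 := hinj (by
      rw [map_mul, map_one, hab, hb1, ha, add_mul, smul_mul, Matrix.one_mul, smul_mul]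
      have hd := hz
      rw [det_fin_two] at hd
      rw [ht, trace_fin_two]
      ext i j
      fin_cases i <;> fin_cases j <;> simp [Matrix.mul_apply, Fin.sum_univ_two] <;>
        first | (ring_nf; done) | linear_combination hd)
    exact absurd (sq_eq_one_of_conj_inv hodd (eq_inv_of_mul_eq_one_left hzz)) hz1

/-- The key fact: in an odd order subgroup of `SL₂` the normaliser of a `r`-subgroup, `r ≠ p`,
centralises it. -/
theorem normalizer_le_centralizer (hp2 : p ≠ 2) {H : Type*} [Group H] [Finite H]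
    (hodd : Odd (Nat.card H)) (ρ : H →* Matrix (Fin 2) (Fin 2) F) (hinj : Function.Injective ρ)
    (hdet : ∀ h, (ρ h).det = 1) {r : ℕ} [Fact r.Prime] (hr : r ≠ p) (R : Subgroup H)
    (hR : IsPGroup r R) : Subgroup.normalizer (R : Set H) ≤ Subgroup.centralizer (R : Set H) := by
  rcases subsingleton_or_nontrivial R with hs | hnt
  · intro n _
    rw [Subgroup.mem_centralizer_iff]
    intro y hy
    have : y = 1 := congrArg Subtype.val (Subsingleton.elim (⟨y, hy⟩ : R) 1)
    simp [this]
  have := hR.center_nontrivial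
  obtain ⟨⟨⟨z, hzR⟩, hzc⟩, hz1⟩ := exists_ne (1 : Subgroup.center R)
  have hz : z ≠ 1 := fun h => hz1 (Subtype.ext (Subtype.ext h))
  have hzcomm : ∀ y ∈ R, y * z = z * y := fun y hy =>
    congrArg Subtype.val (Subgroup.mem_center_iff.mp hzc ⟨y, hy⟩)
  have hns : ¬ IsScalar (ρ z) := by
    rintro ⟨c, hc⟩
    have h1 : c ^ 2 = 1 := by
      have := hdet z
      rw [hc, det_smul, det_one, Fintype.card_fin, mul_one] at this
      exact this
    have hz2 : z ^ 2 = 1 := hinj (by rw [map_pow, map_one, hc, smul_pow, one_pow, h1, one_smul])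
    have hcop : (orderOf z).Coprime 2 :=
      Nat.coprime_two_right.mpr (hodd.of_dvd_nat (orderOf_dvd_natCard z))
    exact hz (orderOf_eq_one_iff.mp (hcop.eq_one_of_dvd (orderOf_dvd_of_pow_eq_one hz2)))
  have habel : ∀ a b : H, a * z = z * a → b * z = z * b → a * b = b * a := fun a b ha hb =>
    hinj (by
      rw [map_mul, map_mul]
      exact commute_of_commute hns (by rw [← map_mul, ha, map_mul]) (by rw [← map_mul, hb, map_mul]))
  intro n hn
  have hz'R : n * z * n⁻¹ ∈ R := (Subgroup.mem_normalizer_iff.mp hn z).mp hzR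
  have hnz : n * z = z * n := by
    obtain ⟨k, hk⟩ := hR ⟨z, hzR⟩
    have hk' : z ^ r ^ k = 1 := congrArg Subtype.val hk
    exact conj_comm_eq hp2 hodd ρ hinj (hdet z) (Nat.Coprime.coprime_dvd_left
      (orderOf_dvd_of_pow_eq_one hk') (((Nat.coprime_primes Fact.out hp.out).mpr hr).pow_left k))
      (hzcomm _ hz'R)
  exact Subgroup.mem_centralizer_iff.mpr fun y hy => habel y n (hzcomm y hy) hnz

/-- In an odd order subgroup of `SL₂` the elements of `p`-power order form a subgroup. -/
theorem mul_mem_pElements (hp2 : p ≠ 2) {H : Type*} [Group H] [Finite H] (hodd : Odd (Nat.card H))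
    (ρ : H →* Matrix (Fin 2) (Fin 2) F) (hinj : Function.Injective ρ)
    (hdet : ∀ h, (ρ h).det = 1) {u v : H} (hu : ∃ k : ℕ, u ^ p ^ k = 1)
    (hv : ∃ k : ℕ, v ^ p ^ k = 1) : ∃ k : ℕ, (u * v) ^ p ^ k = 1 := by
  suffices h : ∀ q, q.Prime → q ∣ orderOf (u * v) → q = p by
    refine ⟨(orderOf (u * v)).primeFactorsList.length, ?_⟩
    rw [← Nat.eq_prime_pow_of_unique_prime_dvd (orderOf_pos (u * v)).ne' (fun {d} hd hdvd => h d hd hdvd)]
    exact pow_orderOf_eq_one _
  intro r hr hdvd
  by_contra hrp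
  have := Fact.mk hr
  obtain ⟨R⟩ : Nonempty (Sylow r H) := inferInstance
  have hN := normalizer_le_centralizer hp2 hodd ρ hinj hdet hrp _ R.isPGroup'
  set f := MonoidHom.transferSylow R hN
  have hkill : ∀ w : H, (∃ k : ℕ, w ^ p ^ k = 1) → f w = 1 := by
    rintro w ⟨k, hk⟩
    obtain ⟨j, hj⟩ := R.isPGroup' (f w)
    have h1 : (f w) ^ p ^ k = 1 := by rw [← map_pow, hk, map_one]
    exact orderOf_eq_one_iff.mp (Nat.eq_one_of_dvd_coprimes
      (((Nat.coprime_primes hr hp.out).mpr hrp).pow j k)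
      (orderOf_dvd_of_pow_eq_one hj) (orderOf_dvd_of_pow_eq_one h1))
  set w := (u * v) ^ (orderOf (u * v) / r) with hw
  have hord : orderOf w = r := orderOf_pow_orderOf_div (orderOf_pos _).ne' hdvd
  have hwk : w ∈ f.ker := by
    rw [MonoidHom.mem_ker, hw, map_pow, map_mul, hkill u hu, hkill v hv, one_mul, one_pow]
  have hwp : IsPGroup r (Subgroup.zpowers w) :=
    IsPGroup.of_card (n := 1) (by rw [Nat.card_zpowers, hord, pow_one])
  have hdisj := MonoidHom.ker_transferSylow_disjoint R hN _ hwp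
  have : w = 1 := (Subgroup.disjoint_def.mp hdisj) hwk (Subgroup.mem_zpowers w)
  rw [this, orderOf_one] at hord
  exact hr.ne_one hord.symm

theorem det_eq_one_of_pow {g : GL (Fin 2) F} {k : ℕ} (h : g ^ p ^ k = 1) :
    (g : Matrix (Fin 2) (Fin 2) F).det = 1 := by
  have h1 : ((g : Matrix (Fin 2) (Fin 2) F).det) ^ p ^ k = 1 := by
    rw [← det_pow, ← Units.val_pow_eq_pow_val, h, Units.val_one, det_one]
  refine sub_eq_zero.mp (eq_zero_of_pow_eq_zero (n := p ^ k) ?_)
  rw [sub_pow_char_pow, one_pow, h1, sub_self]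

/-- An odd order subgroup of `GL₂` whose order is divisible by the characteristic has a common
eigenvector. -/
theorem exists_common_eigenvector (hp2 : p ≠ 2) (H : Subgroup (GL (Fin 2) F)) [Finite H]
    (hodd : Odd (Nat.card H)) (hdvd : p ∣ Nat.card H) :
    ∃ v : Fin 2 → F, v ≠ 0 ∧ ∀ g ∈ H,
      (g : Matrix (Fin 2) (Fin 2) F).mulVec v ∈ Submodule.span F {v} := by
  let K : Subgroup H :=
    { carrier := {h | ((h : GL (Fin 2) F) : Matrix (Fin 2) (Fin 2) F).det = 1}
      one_mem' := by simp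
      mul_mem' := fun {a b} ha hb => by
        simp only [Set.mem_ofPred_eq, Subgroup.coe_mul, Units.val_mul, det_mul] at ha hb ⊢
        rw [ha, hb, one_mul]
      inv_mem' := fun {a} ha => by
        simp only [Set.mem_ofPred_eq, Subgroup.coe_inv] at ha ⊢
        have h := congrArg Matrix.det (Units.inv_mul (a : GL (Fin 2) F))
        rw [det_mul, ha, mul_one, det_one] at h
        exact h }
  have hK : ∀ h : H, (∃ k : ℕ, h ^ p ^ k = 1) → h ∈ K := fun h ⟨k, hk⟩ =>
    det_eq_one_of_pow (by rw [← Subgroup.coe_pow, hk, Subgroup.coe_one])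
  let ρ : K →* Matrix (Fin 2) (Fin 2) F :=
    (Units.coeHom _).comp (H.subtype.comp K.subtype)
  have hinj : Function.Injective ρ :=
    (Units.val_injective).comp ((H.subtype_injective).comp K.subtype_injective)
  have hKodd : Odd (Nat.card K) := hodd.of_dvd_nat K.card_subgroup_dvd_card
  let S₀ : Subgroup H :=
    { carrier := {h | ∃ k : ℕ, h ^ p ^ k = 1}
      one_mem' := ⟨0, one_pow _⟩
      mul_mem' := fun {a b} ha hb => by
        obtain ⟨k, hk⟩ := ha
        obtain ⟨l, hl⟩ := hb
        obtain ⟨m, hm⟩ := mul_mem_pElements hp2 hKodd ρ hinj (fun x => x.2)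
          (u := ⟨a, hK a ⟨k, hk⟩⟩) (v := ⟨b, hK b ⟨l, hl⟩⟩)
          ⟨k, Subtype.ext hk⟩ ⟨l, Subtype.ext hl⟩
        exact ⟨m, congrArg Subtype.val hm⟩
      inv_mem' := fun {a} ⟨k, hk⟩ => ⟨k, by rw [inv_pow, hk, inv_one]⟩ }
  have hSp : IsPGroup p S₀ := fun x => by
    obtain ⟨k, hk⟩ := x.2
    exact ⟨k, Subtype.ext hk⟩
  obtain ⟨x, hx⟩ := exists_prime_orderOf_dvd_card' p hdvd
  have hxS : x ∈ S₀ := ⟨1, by rw [pow_one, ← hx, pow_orderOf_eq_one]⟩
  have : Nontrivial S₀ := ⟨⟨x, hxS⟩, 1, fun h => hp.out.ne_one <| by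
    rw [← hx, show x = 1 from congrArg Subtype.val h, orderOf_one]⟩
  have := hSp.center_nontrivial
  obtain ⟨u, hu⟩ := exists_prime_orderOf_dvd_card' (G := Subgroup.center S₀) p (by
    obtain ⟨n, hn0, hn⟩ := (hSp.to_subgroup _).nontrivial_iff_card.mp ‹Nontrivial (Subgroup.center S₀)›
    exact hn ▸ dvd_pow_self p hn0.ne')
  set U : Matrix (Fin 2) (Fin 2) F :=
    ((((u : S₀) : H) : GL (Fin 2) F) : Matrix (Fin 2) (Fin 2) F) with hU
  have hUp : U ^ p = 1 := by
    have h := congrArg (fun y : Subgroup.center S₀ => ((((y : S₀) : H) : GL (Fin 2) F) :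
      Matrix (Fin 2) (Fin 2) F)) (pow_orderOf_eq_one u)
    simpa [hu, hU] using h
  have hU1 : U ≠ 1 := fun h => hp.out.ne_one <| by
    have hu1 : u = 1 := Subtype.ext (Subtype.ext (Subtype.ext (Units.ext h)))
    rw [← hu, hu1, orderOf_one]
  have hN : (U - 1) ^ p = 0 := by
    rw [sub_pow_char_of_commute p (Commute.one_right U), hUp, one_pow, sub_self]
  have hN2 := sub_one_sq_eq_zero hN
  have hUns : ¬ IsScalar U := by
    rintro ⟨c, hc⟩
    apply hU1
    have h1 : c ^ p = 1 := by
      have h2 := congrFun (congrFun hUp 0) 0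
      rw [hc, smul_pow, one_pow] at h2
      simpa using h2
    have hc1 : c = 1 := sub_eq_zero.mp (eq_zero_of_pow_eq_zero (n := p)
      (by rw [sub_pow_char, h1, one_pow, sub_self]))
    rw [hc, hc1, one_smul]
  obtain ⟨w, hw⟩ : ∃ w, (U - 1) *ᵥ w ≠ 0 := by
    by_contra hcon
    push Not at hcon
    exact hU1 (sub_eq_zero.mp (Matrix.ext_of_mulVec_single fun i => by
      rw [hcon]; simp [funext_iff]))
  set v := (U - 1) *ᵥ w with hv
  have hUv : U *ᵥ v = v := by
    have : (U - 1) *ᵥ v = 0 := by rw [hv, mulVec_mulVec, hN2, zero_mulVec]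
    rw [sub_mulVec, one_mulVec, sub_eq_zero] at this
    exact this
  have hline : ∀ y, U *ᵥ y = y → y ∈ Submodule.span F {v} := by
    intro y hy
    by_contra hy'
    have hli : LinearIndependent F ![v, y] :=
      (LinearIndependent.pair_iff' hw).mpr fun a ha => hy' (ha ▸ Submodule.smul_mem _ a
        (Submodule.mem_span_singleton_self v))
    have htop : Submodule.span F (Set.range ![v, y]) = ⊤ :=
      hli.span_eq_top_of_card_eq_finrank (by simp)
    have hwtop : w ∈ Submodule.span F (Set.range ![v, y]) := htop ▸ Submodule.mem_top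
    obtain ⟨c, hc⟩ := (Submodule.mem_span_range_iff_exists_fun F).mp hwtop
    apply hw
    rw [hv, ← hc, Fin.sum_univ_two]
    simp [mulVec_add, mulVec_smul, sub_mulVec, hUv, hy]
  refine ⟨v, hw, fun g hg => hline _ ?_⟩
  set g' : H := ⟨g, hg⟩ with hg'
  have hconj : g'⁻¹ * ((u : S₀) : H) * g' ∈ S₀ := by
    obtain ⟨k, hk⟩ := (u : S₀).2
    refine ⟨k, ?_⟩
    have := conj_pow (i := p ^ k) (a := g'⁻¹) (b := ((u : S₀) : H))
    rw [inv_inv, hk, mul_one, inv_mul_cancel] at this
    exact this
  set X : Matrix (Fin 2) (Fin 2) F :=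
    (((g'⁻¹ * ((u : S₀) : H) * g' : H) : GL (Fin 2) F) : Matrix (Fin 2) (Fin 2) F) with hX
  have hXU : X * U = U * X := by
    have := congrArg (fun y : S₀ => (((y : H) : GL (Fin 2) F) : Matrix (Fin 2) (Fin 2) F))
      (Subgroup.mem_center_iff.mp u.2 ⟨_, hconj⟩)
    simpa [hX, hU, Matrix.mul_assoc] using this
  obtain ⟨a, b, hab⟩ := (commute_iff hUns X).mp hXU
  have hXv : X *ᵥ v = (a + b) • v := by
    rw [hab, add_mulVec, smul_mulVec, smul_mulVec, one_mulVec, hUv, add_smul]
  have hXp : X ^ p = 1 := by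
    have h : (g'⁻¹ * ((u : S₀) : H) * g') ^ p = 1 := by
      have h2 := conj_pow (i := p) (a := g'⁻¹) (b := ((u : S₀) : H))
      have h3 : ((u : S₀) : H) ^ p = 1 := by
        rw [← hu]; exact congrArg (fun y : Subgroup.center S₀ => ((y : S₀) : H)) (pow_orderOf_eq_one u)
      rw [inv_inv, h3, mul_one, inv_mul_cancel] at h2
      exact h2
    rw [hX, ← Units.val_pow_eq_pow_val, ← Subgroup.coe_pow, h, Subgroup.coe_one, Units.val_one]
  have hpow : ∀ n : ℕ, (X ^ n) *ᵥ v = (a + b) ^ n • v := by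
    intro n
    induction n with
    | zero => simp
    | succ n ih => rw [pow_succ, ← mulVec_mulVec, hXv, mulVec_smul, ih, smul_smul, pow_succ']
  have hab1 : a + b = 1 := by
    refine sub_eq_zero.mp (eq_zero_of_pow_eq_zero (n := p) ?_)
    rw [sub_pow_char, one_pow, sub_eq_zero]
    have := hpow p
    rw [hXp, one_mulVec] at this
    exact (smul_left_injective F hw (by simpa using this)).symm
  rw [hab1, one_smul] at hXv
  calc U *ᵥ ((g : Matrix (Fin 2) (Fin 2) F) *ᵥ v)
      = (g : Matrix (Fin 2) (Fin 2) F) *ᵥ (X *ᵥ v) := by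
        simp only [mulVec_mulVec]
        congr 1
        have : g * ((g'⁻¹ * ((u : S₀) : H) * g' : H) : GL (Fin 2) F)
            = ((u : S₀) : H) * g := by
          simp [hg', Subgroup.coe_mul, mul_assoc]
        have := congrArg (fun y : GL (Fin 2) F => (y : Matrix (Fin 2) (Fin 2) F)) this
        simpa [hX, hU, Matrix.mul_assoc] using this.symm
    _ = _ := by rw [hXv]

end Cfsg.Agent.OddLocal.GL2
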