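import Mathlib
import Cfsg.Agent.OddLocal.GL2

/-! An irreducible odd order linear group over `𝔽_p` generated by two quadratic elements is trivial. -/

set_option autoImplicit false

namespace Cfsg.Agent.OddLocal.Quadratic

open Matrix

variable {p : ℕ} [hp : Fact p.Prime]

theorem trivial_of_irreducible_quadratic (hp2 : p ≠ 2) {H : Type*} [Group H] [Finite H]
    (hodd : Odd (Nat.card H)) {V : Type*} [AddCommGroup V] [Finite V] (hpV : ∀ v : V, p • v = 0)
    (ρ : H →* AddMonoid.End V) {x y : H} (hgen : Subgroup.closure {x, y} = ⊤)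
    (hx : (ρ x - 1) * (ρ x - 1) = 0) (hy : (ρ y - 1) * (ρ y - 1) = 0)
    (hirr : ∀ W : AddSubgroup V, (∀ h, ∀ w ∈ W, ρ h w ∈ W) → W = ⊥ ∨ W = ⊤) :
    ∀ h, ρ h = 1 := by
  rcases subsingleton_or_nontrivial V with hs | hnt
  · intro h; ext v; exact Subsingleton.elim _ _
  set a := ρ x - 1 with ha
  set b := ρ y - 1 with hb
  have hgen' : ∀ h : H, h ∈ Submonoid.closure ({x, y} : Set H) := fun h => by
    rw [← Subgroup.closure_toSubmonoid_of_finite, hgen]; trivial
  have htriv : a = 0 → b = 0 → ∀ h, ρ h = 1 := by
    intro ha0 hb0 h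
    induction hgen' h using Submonoid.closure_induction with
    | mem z hz =>
      rcases hz with rfl | rfl
      · exact sub_eq_zero.mp ha0
      · exact sub_eq_zero.mp hb0
    | one => exact map_one ρ
    | mul u v _ _ iu iv => rw [map_mul, iu, iv, one_mul]
  have hinv : ∀ W : AddSubgroup V, (∀ w ∈ W, a w ∈ W) → (∀ w ∈ W, b w ∈ W) →
      W = ⊥ ∨ W = ⊤ := by
    intro W hWa hWb
    refine hirr W fun h => ?_
    induction hgen' h using Submonoid.closure_induction with
    | mem z hz =>
      intro w hw
      rcases hz with rfl | rfl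
      · have : ρ z w = a w + w := (sub_add_cancel _ _).symm
        rw [this]; exact add_mem (hWa w hw) hw
      · have : ρ z w = b w + w := (sub_add_cancel _ _).symm
        rw [this]; exact add_mem (hWb w hw) hw
    | one => intro w hw; rw [map_one]; exact hw
    | mul u v _ _ iu iv => intro w hw; rw [map_mul]; exact iu _ (iv w hw)
  set C : Subring (AddMonoid.End V) := Subring.centralizer {a, b} with hC
  have hCa : ∀ c : C, (c : AddMonoid.End V) * a = a * c := fun c =>
    (Subring.mem_centralizer_iff.mp c.2 a (Or.inl rfl)).symm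
  have hCb : ∀ c : C, (c : AddMonoid.End V) * b = b * c := fun c =>
    (Subring.mem_centralizer_iff.mp c.2 b (Or.inr rfl)).symm
  have hker : ∀ c : C, ∀ v : V, v ≠ 0 → (c : AddMonoid.End V) v = 0 → c = 0 := by
    intro c v hv hcv
    let W : AddSubgroup V := AddMonoidHom.ker (c : AddMonoid.End V)
    rcases hinv W (fun w hw => by
        show ((c : AddMonoid.End V) * a) w = 0
        rw [hCa]; show a ((c : AddMonoid.End V) w) = 0
        rw [show (c : AddMonoid.End V) w = 0 from hw, map_zero])
      (fun w hw => by
        show ((c : AddMonoid.End V) * b) w = 0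
        rw [hCb]; show b ((c : AddMonoid.End V) w) = 0
        rw [show (c : AddMonoid.End V) w = 0 from hw, map_zero]) with hW | hW
    · exact absurd ((AddSubgroup.mem_bot).mp (hW ▸ (show v ∈ W from hcv))) hv
    · refine Subtype.ext (AddMonoidHom.ext fun w => ?_)
      exact (hW ▸ AddSubgroup.mem_top w : w ∈ W)
  obtain ⟨v0, hv0⟩ := exists_ne (0 : V)
  have : Nontrivial C := ⟨0, 1, fun h => hv0 (by
    have := congrArg (fun c : C => (c : AddMonoid.End V) v0) h
    simpa using this.symm)⟩
  have : NoZeroDivisors C := ⟨fun {c d} hcd => by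
    by_contra hne
    push Not at hne
    obtain ⟨w, hw⟩ : ∃ w, (d : AddMonoid.End V) w ≠ 0 := by
      by_contra hall
      push Not at hall
      exact hne.2 (Subtype.ext (AddMonoidHom.ext hall))
    exact hne.1 (hker c _ hw (congrArg (fun e : C => (e : AddMonoid.End V) w) hcd))⟩
  have : IsDomain C := NoZeroDivisors.to_isDomain C
  have : Finite (AddMonoid.End V) := Finite.of_injective _ DFunLike.coe_injective
  let : Field C := (Finite.isDomain_to_isField C).toField
  have hpC : ((p : ℕ) : C) = 0 := Subtype.ext (AddMonoidHom.ext fun w => by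
    show ((p : C) : AddMonoid.End V) w = 0
    rw [Subring.coe_natCast, AddMonoid.End.natCast_apply]
    exact hpV w)
  have hchar : CharP C p := by
    obtain ⟨q, hq⟩ := CharP.exists C
    have hdvd : q ∣ p := (CharP.cast_eq_zero_iff C q p).mp hpC
    rcases (Nat.dvd_prime hp.out).mp hdvd with rfl | rfl
    · exact (CharP.char_ne_one C 1 rfl).elim
    · exact hq
  let σ : H → Module.End C V := fun h =>
    { toFun := ρ h
      map_add' := map_add _
      map_smul' := fun c w => by
        have hc : Commute (c : AddMonoid.End V) (ρ h) := by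
          induction hgen' h using Submonoid.closure_induction with
          | mem z hz =>
            rcases hz with rfl | rfl
            · have e : ρ z = a + 1 := (sub_add_cancel _ _).symm
              rw [e]; exact (show Commute _ a from hCa c).add_right (Commute.one_right _)
            · have e : ρ z = b + 1 := (sub_add_cancel _ _).symm
              rw [e]; exact (show Commute _ b from hCb c).add_right (Commute.one_right _)
          | one => rw [map_one]; exact Commute.one_right _
          | mul u v _ _ iu iv => rw [map_mul]; exact iu.mul_right iv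
        exact (congrArg (fun e : AddMonoid.End V => e w) hc.eq).symm }
  let σh : H →* Module.End C V :=
    { toFun := σ
      map_one' := by ext w; show ρ 1 w = w; rw [map_one]; rfl
      map_mul' := fun g h => by ext w; show ρ (g * h) w = ρ g (ρ h w); rw [map_mul]; rfl }
  have hlin : ∀ (e : AddMonoid.End V), (∀ c : C, (c : AddMonoid.End V) * e = e * c) →
      ∀ (c : C) (w : V), e (c • w) = c • e w := fun e he c w =>
    (congrArg (fun f : AddMonoid.End V => f w) (he c)).symm
  -- a common null vector of `a`
  obtain ⟨v, hv, hav⟩ : ∃ v, v ≠ 0 ∧ a v = 0 := by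
    by_cases h : a v0 = 0
    · exact ⟨v0, hv0, h⟩
    · exact ⟨a v0, h, congrArg (fun e : AddMonoid.End V => e v0) hx⟩
  set w := b v with hw
  have hbw : b w = 0 := congrArg (fun e : AddMonoid.End V => e v) hy
  have hT : a * b + b * a ∈ C := by
    rw [hC, Subring.mem_centralizer_iff]
    rintro g (rfl | rfl)
    · rw [mul_add, add_mul, ← mul_assoc a a b, hx, zero_mul, zero_add, mul_assoc b a a, hx, mul_zero,
        add_zero, mul_assoc]
    · rw [mul_add, add_mul, ← mul_assoc b b a, hy, zero_mul, add_zero, mul_assoc a b b, hy, mul_zero,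
        zero_add, mul_assoc]
  set t : C := ⟨_, hT⟩ with ht
  have haw : a w = t • v := by
    show a (b v) = a (b v) + b (a v)
    rw [hav, map_zero, add_zero]
  -- the span of `v` and `w` is everything
  have hspan : Submodule.span C {v, w} = ⊤ := by
    have hmem : ∀ z ∈ Submodule.span C {v, w}, a z ∈ Submodule.span C {v, w} ∧
        b z ∈ Submodule.span C {v, w} := by
      intro z hz
      obtain ⟨c, d, rfl⟩ := Submodule.mem_span_pair.mp hz
      rw [map_add, map_add, hlin a hCa, hlin a hCa, hlin b hCb, hlin b hCb, hav, haw, hbw,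
        smul_zero, smul_zero, zero_add, add_zero]
      exact ⟨Submodule.smul_mem _ _ (Submodule.smul_mem _ _ (Submodule.subset_span (Or.inl rfl))),
        Submodule.smul_mem _ _ (Submodule.subset_span (Or.inr rfl))⟩
    rcases hinv (Submodule.span C {v, w}).toAddSubgroup (fun z hz => (hmem z hz).1)
      (fun z hz => (hmem z hz).2) with h | h
    · exact absurd ((AddSubgroup.mem_bot).mp (h ▸ (Submodule.subset_span (Or.inl rfl) :
        v ∈ Submodule.span C {v, w}))) hv
    · exact Submodule.toAddSubgroup_injective h
  have hdecomp : ∀ z : V, ∃ c d : C, c • v + d • w = z := fun z =>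
    Submodule.mem_span_pair.mp (hspan ▸ Submodule.mem_top)
  by_cases hdep : ∃ c : C, c • v = w
  · -- one dimensional
    obtain ⟨c, hc⟩ := hdep
    have hw0 : w = 0 := by
      have h2 : c • c • v = 0 := by rw [hc]; rw [← hbw, ← hc, hlin b hCb, ← hw, hc]
      rw [smul_smul] at h2
      have hc0 : c * c = 0 := hker _ v hv h2
      rw [← hc, mul_self_eq_zero.mp hc0, zero_smul]
    have ha0 : ∀ z, a z = 0 := fun z => by
      obtain ⟨c, d, rfl⟩ := hdecomp z
      rw [hw0, smul_zero, add_zero, hlin a hCa, hav, smul_zero]
    have hb0 : ∀ z, b z = 0 := fun z => by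
      obtain ⟨c, d, rfl⟩ := hdecomp z
      rw [hw0, smul_zero, add_zero, hlin b hCb, ← hw, hw0, smul_zero]
    exact htriv (AddMonoidHom.ext ha0) (AddMonoidHom.ext hb0)
  -- two dimensional
  exfalso
  have hw0 : w ≠ 0 := fun h => hdep ⟨0, by rw [zero_smul, h]⟩
  have hli : LinearIndependent C ![v, w] :=
    (LinearIndependent.pair_iff' hv).mpr fun c hc => hdep ⟨c, hc⟩
  let B : Module.Basis (Fin 2) C V := Module.Basis.mk hli (by
    rw [Matrix.range_cons, Matrix.range_cons, Matrix.range_empty, Set.union_empty,
      Set.singleton_union, hspan])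
  -- the element `x` has order `p`
  have ha0 : a ≠ 0 := by
    intro ha0
    rcases hinv (Submodule.span C {w}).toAddSubgroup
      (fun z hz => by rw [ha0]; exact zero_mem _)
      (fun z hz => by
        obtain ⟨c, rfl⟩ := Submodule.mem_span_singleton.mp hz
        rw [hlin b hCb, hbw, smul_zero]; exact zero_mem _) with h | h
    · exact hw0 ((AddSubgroup.mem_bot).mp (h ▸ (Submodule.mem_span_singleton_self w :
        w ∈ Submodule.span C {w})))
    · obtain ⟨c, hc⟩ := Submodule.mem_span_singleton.mp
        (show v ∈ (Submodule.span C {w}).toAddSubgroup by rw [h]; trivial)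
      rcases eq_or_ne c 0 with rfl | hc0
      · exact hv (by rw [← hc, zero_smul])
      · exact hdep ⟨c⁻¹, by rw [← hc, smul_smul, inv_mul_cancel₀ hc0, one_smul]⟩
  let ψ : H →* Matrix (Fin 2) (Fin 2) C :=
    ((LinearMap.toMatrixAlgEquiv B).toAlgHom.toRingHom.toMonoidHom).comp σh
  let φ : H →* GL (Fin 2) C := ψ.toHomUnits
  have hφ : ∀ h, ((φ h : GL (Fin 2) C) : Matrix (Fin 2) (Fin 2) C) = LinearMap.toMatrix B B (σ h) :=
    fun h => rfl
  have hxp : ρ x ^ p = 1 := by
    have e : ρ x = a + 1 := (sub_add_cancel _ _).symm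
    rw [e, (Commute.one_right a).add_pow]
    rw [Finset.sum_eq_single 0]
    · simp
    · intro i hi hi0
      rcases Nat.lt_or_ge i 2 with h | h
      · have : i = 1 := by omega
        subst this
        rw [Nat.choose_one_right]
        have : ((p : ℕ) : AddMonoid.End V) = 0 := congrArg Subtype.val hpC
        rw [this, mul_zero]
      · rw [show i = 2 + (i - 2) by omega, pow_add, pow_two, hx, zero_mul, zero_mul, zero_mul]
    · simp
  have hψinj : ∀ h, φ h = 1 → ρ h = 1 := by
    intro h hh
    have := congrArg (fun g : GL (Fin 2) C => (g : Matrix (Fin 2) (Fin 2) C)) hh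
    simp only [hφ, Units.val_one] at this
    rw [← LinearMap.toMatrix_one B] at this
    have h2 := (LinearMap.toMatrix B B).injective this
    exact AddMonoidHom.ext fun z => congrArg (fun f : Module.End C V => f z) h2
  have hord : orderOf (φ x) = p := by
    refine orderOf_eq_prime ?_ (fun h => ha0 (sub_eq_zero.mpr (hψinj x h)))
    refine Units.ext ?_
    rw [← map_pow, hφ, Units.val_one, ← LinearMap.toMatrix_one B]
    refine congrArg _ (LinearMap.ext fun z => ?_)
    show ρ (x ^ p) z = z
    rw [map_pow, hxp]; rfl
  have hdvd : p ∣ Nat.card φ.range := by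
    rw [← hord, ← Subgroup.orderOf_mk (φ x) (MonoidHom.mem_range.mpr ⟨x, rfl⟩)]
    exact orderOf_dvd_natCard _
  obtain ⟨e, he, hev⟩ := GL2.exists_common_eigenvector hp2 φ.range
    (hodd.of_dvd_nat (Subgroup.card_range_dvd φ)) hdvd
  set z := B.equivFun.symm e with hz
  have hze : (B.repr z : Fin 2 → C) = e := B.equivFun.apply_symm_apply e
  have hz0 : z ≠ 0 := fun h => he (by rw [← hze, h]; simp)
  rcases hirr (Submodule.span C {z}).toAddSubgroup (fun h u hu => by
      obtain ⟨c, rfl⟩ := Submodule.mem_span_singleton.mp hu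
      obtain ⟨d, hd⟩ := Submodule.mem_span_singleton.mp (hev (φ h) ⟨h, rfl⟩)
      rw [hφ, ← hze, LinearMap.toMatrix_mulVec_repr] at hd
      have hd' : σ h z = d • z := by
        apply B.equivFun.injective
        rw [map_smul]
        exact hd.symm
      have : ρ h (c • z) = c • d • z := by
        show σ h (c • z) = _
        rw [map_smul, hd']
      rw [this]
      exact Submodule.smul_mem _ _ (Submodule.smul_mem _ _ (Submodule.mem_span_singleton_self z)))
    with h | h
  · exact hz0 ((AddSubgroup.mem_bot).mp (h ▸ (Submodule.mem_span_singleton_self z :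
      z ∈ Submodule.span C {z})))
  · obtain ⟨c, hc⟩ := Submodule.mem_span_singleton.mp
      (show v ∈ (Submodule.span C {z}).toAddSubgroup by rw [h]; trivial)
    obtain ⟨d, hd⟩ := Submodule.mem_span_singleton.mp
      (show w ∈ (Submodule.span C {z}).toAddSubgroup by rw [h]; trivial)
    rcases eq_or_ne c 0 with rfl | hc0
    · exact hv (by rw [← hc, zero_smul])
    · exact hdep ⟨d * c⁻¹, by rw [← hc, ← hd, smul_smul, mul_assoc, inv_mul_cancel₀ hc0, mul_one]⟩

end Cfsg.Agent.OddLocal.Quadratic
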