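import Cfsg.Prelude.Def_Local
import Cfsg.Agent.OddLocal.Quadratic
import Cfsg.Agent.Lib.Coprime.Commutator
import Cfsg.Agent.Lib.Involutions.BaerSuzuki
import Cfsg.Agent.Lib.PLocal.Cores
import Cfsg.Agent.Solvable.Fitting

/-! `p`-stability of groups of odd order: quadratic elements lie in `O_p`. -/

set_option autoImplicit false

namespace Cfsg.Agent.OddLocal.Stability

open Cfsg Subgroup
open scoped commutatorElement

variable {G : Type*} [Group G] [Finite G] {p : ℕ} [hp : Fact p.Prime]

/-- If two quadratic elements on a `p`-group `P` generate a group of odd order, its `p'`-elements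
centralise `P`. -/
theorem quadratic_pair_centralizes (hp2 : p ≠ 2) {P : Subgroup G} (hP : IsPGroup p P) {x y : G}
    (hxN : x ∈ normalizer (P : Set G)) (hyN : y ∈ normalizer (P : Set G))
    (hodd : Odd (Nat.card (closure ({x, y} : Set G))))
    (hx : ∀ u ∈ P, Commute ⁅u, x⁆ x) (hy : ∀ u ∈ P, Commute ⁅u, y⁆ y) :
    ∀ h ∈ closure ({x, y} : Set G), (orderOf h).Coprime p → h ∈ centralizer (P : Set G) := by
  induction hn : Nat.card P using Nat.strongRecOn generalizing P with
  | _ n ih =>
    set H := closure ({x, y} : Set G) with hH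
    have hHP : H ≤ normalizer (P : Set G) := by
      rw [hH, closure_le]
      rintro z (rfl | rfl)
      · exact hxN
      · exact hyN
    intro h hh hcop
    rcases eq_or_ne P ⊥ with rfl | hbot
    · rw [mem_centralizer_iff]
      intro z hz
      rw [SetLike.mem_coe, mem_bot] at hz
      simp [hz]
    obtain ⟨K, ⟨hKP, hHK, hPK⟩, hmax⟩ := (Set.toFinite
      {K : Subgroup G | K < P ∧ H ≤ normalizer (K : Set G) ∧ P ≤ normalizer (K : Set G)}).exists_maximal
      ⟨⊥, bot_lt_iff_ne_bot.mpr hbot, le_normalizer_of_normal, le_normalizer_of_normal⟩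
    -- `h` centralises `K` by induction
    have hxH : x ∈ H := subset_closure (Or.inl rfl)
    have hyH : y ∈ H := subset_closure (Or.inr rfl)
    have hhK : h ∈ centralizer (K : Set G) := by
      refine ih (Nat.card K) ?_ (hP.to_le hKP.le) (hHK hxH) (hHK hyH)
        (fun u hu => hx u (hKP.le hu)) (fun u hu => hy u (hKP.le hu)) rfl h hh hcop
      exact hn ▸ Set.Finite.card_lt_card (Set.toFinite _) (SetLike.coe_ssubset_coe.mpr hKP)
    have : (K.subgroupOf P).Normal := (normal_subgroupOf_iff_le_normalizer hKP.le).mpr hPK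
    set K' := K.subgroupOf P with hK'
    let φ0 : H →* MulAut P := (normalizerMonoidHom P).comp (inclusion hHP)
    have hφ0 : ∀ (k : H) (u : P), ((φ0 k u : P) : G) = k * u * (k : G)⁻¹ := fun k u => rfl
    have hmapK : ∀ k : H, K'.map (φ0 k).toMonoidHom = K' := fun k => by
      ext u
      simp only [hK', mem_subgroupOf, Subgroup.mem_map]
      constructor
      · rintro ⟨v, hv, rfl⟩
        exact (mem_normalizer_iff.mp (hHK k.2) _).mp hv
      · intro hu
        refine ⟨(φ0 k).symm u, ?_, (φ0 k).apply_symm_apply u⟩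
        rw [mem_normalizer_iff.mp (hHK k.2) _]
        have := congrArg Subtype.val ((φ0 k).apply_symm_apply u)
        rw [hφ0] at this
        rwa [this]
    let φ : H →* MulAut (P ⧸ K') :=
      { toFun := fun k => QuotientGroup.congr K' K' (φ0 k) (hmapK k)
        map_one' := by
          ext q; induction q using QuotientGroup.induction_on with
          | _ u => show ((φ0 1 u : P) : P ⧸ K') = _; rw [map_one]; rfl
        map_mul' := fun k l => by
          ext q; induction q using QuotientGroup.induction_on with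
          | _ u => show ((φ0 (k * l) u : P) : P ⧸ K') = ((φ0 k (φ0 l u) : P) : P ⧸ K')
                   rw [map_mul]; rfl }
    have hφ : ∀ (k : H) (u : P), φ k (u : P ⧸ K') = ((φ0 k u : P) : P ⧸ K') := fun k u => rfl
    have hQp : IsPGroup p (P ⧸ K') := hP.to_quotient K'
    have hnt : Nontrivial (P ⧸ K') := by
      rw [QuotientGroup.nontrivial_iff, hK', Ne, subgroupOf_eq_top]
      exact hKP.not_ge
    -- no proper nontrivial invariant normal subgroup
    have hmin : ∀ S : Subgroup (P ⧸ K'), S.Normal → (∀ k, ∀ q ∈ S, φ k q ∈ S) → S = ⊥ ∨ S = ⊤ := by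
      intro S hS hinv
      set L := (S.comap (QuotientGroup.mk' K')).map P.subtype with hL
      have hmem : ∀ u : P, (u : G) ∈ L ↔ (u : P ⧸ K') ∈ S := fun u => by
        simp [hL, Subgroup.mem_map, mem_comap]
      have hLP : L ≤ P := map_subtype_le _
      have hKL : K ≤ L := fun u hu => by
        rw [show u = ((⟨u, hKP.le hu⟩ : P) : G) from rfl, hmem,
          (QuotientGroup.eq_one_iff _).mpr (show (⟨u, hKP.le hu⟩ : P) ∈ K' from hu)]
        exact S.one_mem
      have hHL : H ≤ normalizer (L : Set G) := by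
        intro k hk
        apply mem_normalizer_fintype (S := (L : Set G))
        intro u hu
        have hu' : (⟨u, hLP hu⟩ : P) = _ := rfl
        have h2 := (hmem (φ0 ⟨k, hk⟩ ⟨u, hLP hu⟩)).mpr (by
          rw [← hφ]; exact hinv _ _ ((hmem ⟨u, hLP hu⟩).mp hu))
        exact h2
      have hPL : P ≤ normalizer (L : Set G) := by
        intro k hk
        apply mem_normalizer_fintype (S := (L : Set G))
        intro u hu
        have h2 := (hmem (⟨k, hk⟩ * ⟨u, hLP hu⟩ * (⟨k, hk⟩ : P)⁻¹)).mpr (by
          rw [QuotientGroup.mk_mul, QuotientGroup.mk_mul, QuotientGroup.mk_inv]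
          exact hS.conj_mem _ ((hmem ⟨u, hLP hu⟩).mp hu) ((⟨k, hk⟩ : P) : P ⧸ K'))
        exact h2
      rcases eq_or_lt_of_le hLP with hLeq | hlt
      · right
        refine eq_top_iff.mpr fun q _ => ?_
        induction q using QuotientGroup.induction_on with
        | _ u => exact (hmem u).mp (hLeq.symm ▸ u.2)
      · left
        have hLK : L ≤ K := hmax ⟨hlt, hHL, hPL⟩ hKL
        refine eq_bot_iff.mpr fun q hq => ?_
        induction q using QuotientGroup.induction_on with
        | _ u => exact mem_bot.mpr ((QuotientGroup.eq_one_iff _).mpr (hLK ((hmem u).mpr hq)))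
    -- the quotient is elementary abelian
    have := hQp.isNilpotent
    have hcomm : ∀ a b : P ⧸ K', a * b = b * a := by
      intro a b
      rcases hmin (commutator (P ⧸ K')) inferInstance (fun k q hq => by
        have h2 := Subgroup.mem_map_of_mem (φ k).toMonoidHom hq
        rw [_root_.commutator_def, Subgroup.map_commutator] at h2
        rw [_root_.commutator_def]
        rw [Subgroup.map_top_of_surjective (φ k).toMonoidHom (φ k).surjective] at h2
        exact h2) with h0 | h0
      · have : ⁅a, b⁆ ∈ commutator (P ⧸ K') := commutator_mem_commutator (mem_top a) (mem_top b)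
        rw [h0, mem_bot, commutatorElement_eq_one_iff_mul_comm] at this
        exact this
      · exact absurd h0 (Group.IsSolvable.commutator_lt_top_of_nontrivial (P ⧸ K')).ne
    let : CommGroup (P ⧸ K') := { (inferInstance : Group (P ⧸ K')) with mul_comm := hcomm }
    have hexp : ∀ q : P ⧸ K', q ^ p = 1 := by
      intro q
      rcases hmin ((powMonoidHom p : P ⧸ K' →* P ⧸ K').range) ⟨fun n hn g => by
          rwa [mul_comm g n, mul_inv_cancel_right]⟩ (fun k q hq => by
        obtain ⟨r, rfl⟩ := hq
        exact ⟨φ k r, by simp [powMonoidHom_apply]⟩) with h0 | h0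
      · have : q ^ p ∈ (powMonoidHom p : P ⧸ K' →* P ⧸ K').range := ⟨q, rfl⟩
        rwa [h0, mem_bot] at this
      · exfalso
        obtain ⟨z, hz⟩ := exists_prime_orderOf_dvd_card' (G := P ⧸ K') p (by
          obtain ⟨m, hm0, hm⟩ := hQp.nontrivial_iff_card.mp hnt
          exact hm ▸ dvd_pow_self p hm0.ne')
        have hinj := Finite.injective_iff_surjective.mpr (MonoidHom.range_eq_top.mp h0)
        have : z = 1 := hinj (by
          rw [powMonoidHom_apply, powMonoidHom_apply, one_pow, ← hz, pow_orderOf_eq_one])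
        rw [this, orderOf_one] at hz
        exact hp.out.ne_one hz.symm
    let ρ : H →* AddMonoid.End (Additive (P ⧸ K')) :=
      { toFun := fun k => (φ k).toMonoidHom.toAdditive
        map_one' := by ext q; show Additive.ofMul (φ 1 q.toMul) = q; rw [map_one]; rfl
        map_mul' := fun k l => by
          ext q; show Additive.ofMul (φ (k * l) q.toMul) = _; rw [map_mul]; rfl }
    have hquad : ∀ (k : H), (∀ u ∈ P, Commute ⁅u, (k : G)⁆ k) →
        (ρ k - 1) * (ρ k - 1) = 0 := by
      intro k hk
      ext q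
      obtain ⟨u, hu⟩ := QuotientGroup.mk'_surjective K' q.toMul
      have hq : q = Additive.ofMul ((u : P ⧸ K')) := congrArg Additive.ofMul hu.symm
      show (φ k (φ k q.toMul / q.toMul)) / (φ k q.toMul / q.toMul) = 1
      rw [hq, toMul_ofMul, hφ, div_eq_one]
      rw [← QuotientGroup.mk_div, hφ]
      congr 1
      apply Subtype.ext
      rw [hφ0, div_eq_mul_inv, coe_mul, coe_inv, hφ0]
      have e : (k : G) * u * (k : G)⁻¹ * (u : G)⁻¹ = ⁅(u : G), (k : G)⁆⁻¹ := by
        rw [commutatorElement_def]; group
      rw [e, ((hk u u.2).inv_left).symm.eq, mul_inv_cancel_right]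
    have htriv := Quadratic.trivial_of_irreducible_quadratic hp2 hodd
      (V := Additive (P ⧸ K')) (fun v => hexp v.toMul) ρ (x := ⟨x, hxH⟩) (y := ⟨y, hyH⟩)
      (by
        apply map_injective H.subtype_injective
        rw [MonoidHom.map_closure, Set.image_pair, ← MonoidHom.range_eq_map, range_subtype]
        rfl)
      (hquad _ hx) (hquad _ hy)
      (fun W hW => by
        rcases hmin (AddSubgroup.toSubgroup' W) ⟨fun n hn g => by
            rwa [mul_comm g n, mul_inv_cancel_right]⟩ (fun k q hq => hW k _ hq) with h0 | h0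
        · exact Or.inl (eq_bot_iff.mpr fun w hw => by
            have : w.toMul ∈ AddSubgroup.toSubgroup' W := hw
            rw [h0, mem_bot] at this
            exact this)
        · exact Or.inr (eq_top_iff.mpr fun w _ => by
            have : w.toMul ∈ AddSubgroup.toSubgroup' W := h0 ▸ mem_top _
            exact this))
    have hact : ∀ k ∈ H, ∀ u ∈ P, ⁅u, k⁆ ∈ K := by
      intro k hk u hu
      have h2 : ((φ0 ⟨k, hk⟩ ⟨u, hu⟩ : P) : P ⧸ K') = ((⟨u, hu⟩ : P) : P ⧸ K') :=
        congrArg Additive.toMul (congrArg (fun f : AddMonoid.End (Additive (P ⧸ K')) =>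
          f (Additive.ofMul ((⟨u, hu⟩ : P) : P ⧸ K'))) (htriv ⟨k, hk⟩))
      rw [eq_comm, ← div_eq_one, ← QuotientGroup.mk_div, QuotientGroup.eq_one_iff, hK',
        mem_subgroupOf, div_eq_mul_inv, coe_mul, coe_inv, hφ0] at h2
      have e : ⁅u, k⁆ = u * (k * u * k⁻¹)⁻¹ := by rw [commutatorElement_def]; group
      rw [e]; exact h2
    have hcopP : (Nat.card (zpowers h)).Coprime (Nat.card P) := by
      obtain ⟨j, hj⟩ := hP.exists_card_eq
      rw [Nat.card_zpowers, hj]
      exact hcop.pow_right j
    exact (Cfsg.Agent.Coprime.le_centralizer_of_series (zpowers_le.mpr (hHP hh)) hcopP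
      (Or.inr (Cfsg.Agent.Coprime.isSolvable_of_isPGroup hP)) (zpowers_le.mpr hhK)
      (commutator_le.mpr fun u hu k hk => hact k (zpowers_le.mpr hh hk) u hu)) (mem_zpowers h)

/-- In a group of odd order, an element acting quadratically on a normal `p`-subgroup `P` lies in
`O_p` of the group induced on `P`. -/
theorem quadratic_mem_pCore (hp2 : p ≠ 2) (hodd : Odd (Nat.card G)) {P C : Subgroup G} [P.Normal]
    [C.Normal] (hC : centralizer (P : Set G) ≤ C) (hP : IsPGroup p P) {x : G}
    (hx : ∀ u ∈ P, Commute ⁅u, x⁆ x) : QuotientGroup.mk' C x ∈ pCore p (G ⧸ C) := by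
  set f := QuotientGroup.mk' C with hf
  have hN : ∀ z : G, z ∈ normalizer (P : Set G) := fun z => le_normalizer_of_normal (mem_top z)
  have hpair : ∀ y : G, (∀ u ∈ P, Commute ⁅u, y⁆ y) →
      IsPGroup p ((closure ({x, y} : Set G)).map f) := by
    rintro y hy ⟨_, h, hh, rfl⟩
    obtain ⟨k, m, hm, hkm⟩ :=
      Nat.exists_eq_pow_mul_and_not_dvd (orderOf_pos h).ne' p hp.out.ne_one
    refine ⟨k, Subtype.ext ?_⟩
    show f h ^ p ^ k = 1
    rw [← map_pow]
    refine (QuotientGroup.eq_one_iff _).mpr (hC (quadratic_pair_centralizes hp2 hP (hN x) (hN y)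
      (hodd.of_dvd_nat (card_subgroup_dvd_card _)) hx hy _ (pow_mem hh _) ?_))
    rw [orderOf_pow' h (pow_ne_zero _ hp.out.ne_zero), hkm, Nat.gcd_eq_right (dvd_mul_right _ _),
      Nat.mul_div_cancel_left _ (pow_pos hp.out.pos _)]
    exact ((hp.out.coprime_iff_not_dvd).mpr hm).symm
  have hxX : IsPGroup p (zpowers (f x)) := by
    refine (hpair x hx).to_le ?_
    rw [zpowers_le]
    exact ⟨x, subset_closure (Or.inl rfl), rfl⟩
  obtain ⟨N, hN', hNp, hle⟩ := Involutions.BaerSuzuki.baer_suzuki (zpowers (f x)) hxX fun g => by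
    obtain ⟨g, rfl⟩ := QuotientGroup.mk'_surjective C g
    refine (hpair (g * x * g⁻¹) ?_).to_le (sup_le ?_ ?_)
    · intro u hu
      have h1 := (hx (g⁻¹ * u * g) (by simpa using Subgroup.Normal.conj_mem inferInstance u hu g⁻¹)).map
        (MulAut.conj g).toMonoidHom
      simp only [map_commutatorElement, MulEquiv.coe_toMonoidHom, MulAut.conj_apply] at h1
      have e : g * (g⁻¹ * u * g) * g⁻¹ = u := by group
      rwa [e] at h1
    · rw [zpowers_le]
      exact ⟨x, subset_closure (Or.inl rfl), rfl⟩
    · rw [map_le_iff_le_comap, zpowers_le]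
      exact ⟨g * x * g⁻¹, subset_closure (Or.inr rfl), by simp [hf]⟩
  exact PLocal.Cores.le_pCore hNp (hle (mem_zpowers _))

/-- If `O_{p'}(G) = 1`, `G` solvable of odd order, an element acting quadratically on `O_p(G)`
lies in `O_p(G)`. -/
theorem quadratic_mem_pCore_of_pPrimeCore_eq_bot [Group.IsSolvable G] (hp2 : p ≠ 2)
    (hodd : Odd (Nat.card G)) (h0 : pPrimeCore p G = ⊥) {x : G}
    (hx : ∀ u ∈ pCore p G, Commute ⁅u, x⁆ x) : x ∈ pCore p G := by
  set C := centralizer (pCore p G : Set G) with hC
  have h := quadratic_mem_pCore hp2 hodd (C := C) le_rfl PLocal.Cores.isPGroup_pCore hx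
  have hker : IsPGroup p (QuotientGroup.mk' C).ker := by
    rw [QuotientGroup.ker_mk']
    exact PLocal.Cores.isPGroup_pCore.to_le (Solvable.Fitting.centralizer_pCore_le p h0)
  exact PLocal.Cores.comap_pCore_le (QuotientGroup.mk'_surjective C) hker h

end Cfsg.Agent.OddLocal.Stability
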