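import Cfsg.Agent.OddLocal.Transitivity
import Cfsg.Agent.OddLocal.Stability
import Cfsg.Agent.OddLocal.PLength
import Cfsg.Agent.OddLocal.Coprime
import Cfsg.Agent.S1457
import Cfsg.Agent.Lib.Components.Balance
import Cfsg.Agent.Lib.PGroups.Normal
import Cfsg.Agent.Lib.Coprime.PGroup

/-! Sources of the transitivity hypothesis. -/

set_option autoImplicit false
set_option linter.unusedSectionVars false

namespace Cfsg.Agent.OddLocal.TransitivityHyp

open Cfsg Subgroup
open scoped commutatorElement

variable {G : Type*} [Group G] [Finite G] {p : ℕ} [hp : Fact p.Prime]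

/-- A `p'`-subgroup normalised by a self-centralising abelian normal subgroup of a Sylow `p`-subgroup
lies in `O_{p'}`. -/
theorem le_pPrimeCore_of_selfCentralizing [Group.IsSolvable G] (hodd : Odd (Nat.card G))
    (S : Sylow p G) {A Y : Subgroup G} (hA : A ≤ (S : Subgroup G)) (hAc : IsMulCommutative A)
    (hAn : (S : Subgroup G) ≤ normalizer (A : Set G))
    (hself : (S : Subgroup G) ⊓ centralizer (A : Set G) = A)
    (hY : (Nat.card Y).Coprime p) (hAY : A ≤ normalizer (Y : Set G)) : Y ≤ pPrimeCore p G := by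
  set K := pPrimeCore p G with hK
  set f := QuotientGroup.mk' K with hf
  set R := pCore p (G ⧸ K) with hR
  have hfs : Function.Surjective f := QuotientGroup.mk'_surjective K
  have hAR : A.map f ≤ R := by
    refine (map_mono (S1457.result hodd p S A hA hAc hAn)).trans (le_of_eq ?_)
    exact PLocal.Cores.map_pPrimePCore
  have hYc : (Nat.card (Y.map f)).Coprime p := hY.coprime_dvd_left (card_map_dvd Y f)
  have hdisj : R ⊓ Y.map f = ⊥ :=
    PLocal.Cores.inf_eq_bot_of_isPGroup_of_coprime PLocal.Cores.isPGroup_pCore hYc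
  have hAYc : A.map f ≤ centralizer ((Y.map f : Subgroup (G ⧸ K)) : Set (G ⧸ K)) := by
    rw [← commutator_eq_bot_iff_le_centralizer, eq_bot_iff, ← hdisj, ← map_commutator, map_le_iff_le_comap,
      commutator_le]
    intro a ha y hy
    rw [mem_comap]
    have hY' : ⁅a, y⁆ ∈ Y := by
      rw [commutatorElement_def]
      exact mul_mem ((mem_normalizer_iff.mp (hAY ha) y).mp hy) (inv_mem hy)
    have ha' : f a ∈ R := hAR ⟨a, ha, rfl⟩
    refine ⟨?_, ⟨_, hY', rfl⟩⟩
    simp only [commutatorElement_def, map_mul, map_inv, mul_assoc]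
    refine Subgroup.mul_mem _ ha' ?_
    simpa [mul_assoc] using (inferInstance : R.Normal).conj_mem _ (inv_mem ha') (f y)
  have hC : R ⊓ centralizer ((A.map f : Subgroup (G ⧸ K)) : Set (G ⧸ K)) ≤
      centralizer ((Y.map f : Subgroup (G ⧸ K)) : Set (G ⧸ K)) := by
    refine le_trans ?_ hAYc
    rintro r ⟨hr, hc⟩
    obtain ⟨s, hs, rfl⟩ := PLocal.Cores.pCore_le_sylow (S.mapSurjective hfs) hr
    refine ⟨s, ?_, rfl⟩
    rw [← hself]
    refine ⟨hs, mem_centralizer_iff.mpr fun a ha => ?_⟩
    have hd : (S : Subgroup G) ⊓ K = ⊥ :=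
      PLocal.Cores.inf_eq_bot_of_isPGroup_of_coprime S.isPGroup' PLocal.Cores.coprime_card_pPrimeCore
    have h1 : a * s * a⁻¹ * s⁻¹ ∈ (S : Subgroup G) ⊓ K := by
      refine ⟨Subgroup.mul_mem _ (Subgroup.mul_mem _ (Subgroup.mul_mem _ (hA ha) hs) (Subgroup.inv_mem _ (hA ha))) (Subgroup.inv_mem _ hs), ?_⟩
      refine (QuotientGroup.eq_one_iff _).mp ?_
      show f (a * s * a⁻¹ * s⁻¹) = 1
      simp only [map_mul, map_inv]
      rw [mem_centralizer_iff.mp hc (f a) ⟨a, ha, rfl⟩]
      group
    rw [hd, mem_bot, mul_inv_eq_one, mul_inv_eq_iff_eq_mul] at h1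
    exact h1
  have hle : Y.map f ≤ R :=
    (Coprime.le_centralizer_of_pxq ((S.isPGroup'.to_le hA).map f) hYc PLocal.Cores.isPGroup_pCore
      hAYc le_normalizer_of_normal le_normalizer_of_normal hC).trans
      (Solvable.Fitting.centralizer_pCore_le p (Cores.pPrimeCore_quotient_self p))
  have : Y.map f = ⊥ := by rw [← hdisj, inf_eq_right.mpr hle]
  rwa [Subgroup.map_eq_bot_iff, hf, QuotientGroup.ker_mk'] at this

/-- Balance in a solvable subgroup. -/
theorem centralizerPPrimeCore_inf_le (X : Subgroup G) (hX : Group.IsSolvable X) {z : G} (hz : z ∈ X)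
    (hzp : IsPGroup p (zpowers z)) :
    centralizerPPrimeCore p z ⊓ X ≤ (pPrimeCore p X).map X.subtype := by
  set D := centralizerPPrimeCore p z ⊓ X with hD
  have hP : IsPGroup p ((zpowers z).subgroupOf X) :=
    hzp.comap_of_injective X.subtype X.subtype_injective
  have h1 : D.subgroupOf X ≤ pPrimeCore p X := by
    refine Components.Balance.le_pPrimeCore_of_normalized
      Components.Balance.pLayer_eq_bot_of_isSolvable hP ?_ ?_ ?_
    · intro x hx
      rw [mem_centralizer_iff]
      intro y hy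
      obtain ⟨m, hm⟩ := mem_zpowers_iff.mp (mem_subgroupOf.mp hy)
      refine Subtype.ext ?_
      have hcom : Commute z (x : G) := (mem_centralizer_singleton_iff.mp
        (Components.Balance.centralizerPPrimeCore_le_centralizer p z (mem_subgroupOf.mp hx).1)).symm
      rw [Subgroup.coe_mul, Subgroup.coe_mul, ← hm]
      exact hcom.zpow_left m
    · intro x hx
      have hxz : (x : G) ∈ centralizer ({z} : Set G) := by
        rw [mem_centralizer_singleton_iff]
        exact (congrArg Subtype.val
          (mem_centralizer_iff.mp hx ⟨z, hz⟩ (mem_subgroupOf.mpr (mem_zpowers z)))).symm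
      exact le_normalizer_comap X.subtype (inf_normalizer_le_normalizer_inf
        ⟨Components.Balance.le_normalizer_centralizerPPrimeCore p z hxz, le_normalizer x.2⟩)
    · rw [Nat.card_congr (subgroupOfEquivOfLe inf_le_right).toEquiv]
      exact (Components.Balance.centralizerPPrimeCore_coprime p z).coprime_dvd_left
        (card_dvd_of_le inf_le_left)
  exact (map_subgroupOf_eq_of_le (show D ≤ X from inf_le_right)).ge.trans (map_mono h1)

/-- The main case: `A` is a self-centralising normal abelian subgroup of a Sylow subgroup of rank at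
least two. -/
theorem le_core_of_scn (hG : IsMinSimpleOddOrder G) (P : Sylow p G) {A : Subgroup G}
    (hscn : IsSCN (P : Subgroup G) A) (hAc : IsMulCommutative A) (hrank : ¬ PRankLE p 1 A)
    {X Y : Subgroup G} (hX : X ≠ ⊤) (hAX : A ≤ X) (hYX : Y ≤ X) (hY : (Nat.card Y).Coprime p)
    (hAY : A ≤ normalizer (Y : Set G)) : Y ≤ (pPrimeCore p X).map X.subtype := by
  obtain ⟨hAP, hPA, hself⟩ := hscn
  have hodd := hG.1
  have hp2 : p ≠ 2 := by
    rintro rfl
    simp only [PRankLE, not_forall, not_le] at hrank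
    obtain ⟨B, -, hB, hlt⟩ := hrank
    have h2 : 2 ∣ Nat.card B := by
      rcases ((P.isPGroup'.to_le hAP).to_subgroup B).card_eq_or_dvd with h | h
      · simp [h] at hlt
      · exact h
    exact Nat.not_even_iff_odd.mpr hodd (even_iff_two_dvd.mpr
      (h2.trans ((card_subgroup_dvd_card B).trans (card_subgroup_dvd_card A))))
  -- a normal subgroup of order `p²` of exponent `p` inside `A`
  let Ω : Subgroup (P : Subgroup G) :=
    { carrier := {x | (x : G) ∈ A ∧ x ^ p = 1}
      one_mem' := ⟨A.one_mem, one_pow p⟩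
      mul_mem' := fun {a b} ha hb => ⟨A.mul_mem ha.1 hb.1, by
        have hc : Commute a b := Subtype.ext (setLike_mul_comm (s := A) ha.1 hb.1)
        rw [hc.mul_pow, ha.2, hb.2, one_mul]⟩
      inv_mem' := fun {a} ha => ⟨A.inv_mem ha.1, by rw [inv_pow, ha.2, inv_one]⟩ }
  have : Ω.Normal := ⟨fun x hx g => ⟨(mem_normalizer_iff.mp (hPA g.2) _).mp hx.1, by
    rw [conj_pow, hx.2, mul_one, mul_inv_cancel]⟩⟩
  have hΩ : p ^ 2 ≤ Nat.card Ω := by
    have hr := hrank
    simp only [PRankLE, not_forall, not_le] at hr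
    obtain ⟨B₀, -, hB₀, hlt⟩ := hr
    obtain ⟨m, hm⟩ := IsPGroup.iff_card.mp ((P.isPGroup'.to_le hAP).to_subgroup B₀)
    have hm2 : 1 < m := (Nat.pow_lt_pow_iff_right hp.out.one_lt).mp (hm ▸ hlt)
    refine le_trans (hm ▸ Nat.pow_le_pow_right hp.out.pos hm2 : p ^ 2 ≤ Nat.card B₀) ?_
    exact Nat.card_le_card_of_injective (fun b : B₀ => (⟨⟨((b : A) : G), hAP (b : A).2⟩,
      ⟨(b : A).2, Subtype.ext (congrArg Subtype.val (hB₀ b b.2) : ((b : A) : G) ^ p = 1)⟩⟩ : Ω))
      fun b c hbc => Subtype.ext (Subtype.ext (congrArg (fun w : Ω => ((w : (P : Subgroup G)) : G)) hbc))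
  obtain ⟨Bp, hBn, hBΩ, hBc⟩ := PGroups.Normal.exists_normal_le_card P.isPGroup' Ω 2 hΩ
  have := P.isPGroup'.isNilpotent
  have hBne : Bp ≠ ⊥ := fun h => by
    rw [h, card_bot] at hBc
    exact (Nat.one_lt_pow two_ne_zero hp.out.one_lt).ne hBc
  obtain ⟨zp, hzp, hzp1⟩ := (bot_or_exists_ne_one _).resolve_left
    (OddLocal.Coprime.inf_center_ne_bot hBn hBne)
  set z : G := (zp : G) with hz
  set B := Bp.map (P : Subgroup G).subtype with hBdef
  have hBA : B ≤ A := by
    rintro _ ⟨b, hb, rfl⟩
    exact (hBΩ hb).1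
  have hBe : IsElementaryAbelian p B := by
    refine ⟨⟨⟨fun a b => Subtype.ext (setLike_mul_comm (s := A) (hBA a.2) (hBA b.2))⟩⟩, ?_⟩
    rintro _ ⟨b, hb, rfl⟩
    exact congrArg Subtype.val (hBΩ hb).2
  have hBcard : Nat.card B = p ^ 2 := by
    rw [hBdef, card_map_of_injective (P : Subgroup G).subtype_injective, hBc]
  have hzB : z ∈ B := ⟨zp, hzp.1, rfl⟩
  have hz1 : z ≠ 1 := fun h => hzp1 (Subtype.ext h)
  have hzc : ∀ g ∈ (P : Subgroup G), g * z = z * g := fun g hg =>
    congrArg Subtype.val (mem_center_iff.mp hzp.2 ⟨g, hg⟩)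
  have hpz : IsPGroup p (zpowers z) := Components.Hyperplane.zpowers_isPGroup hBe hzB
  have hAcomm : ∀ a ∈ A, ∀ c ∈ A, a * c = c * a := fun a ha c hc => setLike_mul_comm (s := A) ha hc
  -- the key step for each `b`
  have key : ∀ b ∈ B, b ≠ 1 → Y ⊓ centralizer {b} ≤ (pPrimeCore p X).map X.subtype := by
    intro b hb hb1
    set H := centralizer ({b} : Set G) with hH
    have hHtop : H ≠ ⊤ := Transitivity.centralizer_ne_top hG (Set.mem_singleton b) hb1
    have hHs : Group.IsSolvable H := Transitivity.isSolvable_of_ne_top hG hHtop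
    have hAH : A ≤ H := fun a ha => mem_centralizer_singleton_iff.mpr (hAcomm a ha b (hBA hb))
    set W := Y ⊓ H with hW
    have hWc : (Nat.card W).Coprime p := hY.coprime_dvd_left (card_dvd_of_le inf_le_left)
    have hAW : A ≤ normalizer (W : Set G) :=
      le_trans (le_inf hAY (hAH.trans le_normalizer)) inf_normalizer_le_normalizer_inf
    set T := (P : Subgroup G) ⊓ H with hT
    have hzT : z ∈ T := ⟨zp.2, hAH (hBA hzB)⟩
    -- `T` has index at most `p` in `P`
    have hidx : T.relIndex (P : Subgroup G) ≤ p := by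
      have hlt : ⁅Bp, (⊤ : Subgroup (P : Subgroup G))⁆ < Bp := by
        have : Group.IsNilpotent (⊤ : Subgroup (P : Subgroup G)) :=
          Group.nilpotent_of_mulEquiv Subgroup.topEquiv.symm
        exact Coprime.commutator_lt_of_isNilpotent le_top hBne le_normalizer_of_normal
      obtain ⟨j, hj, hjc⟩ := (Nat.dvd_prime_pow hp.out).mp
        (hBc ▸ card_dvd_of_le hlt.le : Nat.card ↥⁅Bp, (⊤ : Subgroup (P : Subgroup G))⁆ ∣ p ^ 2)
      have hj1 : j ≤ 1 := by
        by_contra hcon
        exact hlt.ne (Subgroup.eq_of_le_of_card_ge hlt.le (by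
          rw [hjc, hBc, show j = 2 by omega]))
      obtain ⟨bp, hbp, hbpe⟩ := hb
      refine le_trans ?_ (le_trans (le_of_eq hjc) (le_trans (Nat.pow_le_pow_right hp.out.pos hj1)
        (le_of_eq (pow_one p))))
      rw [relIndex, index]
      have hcomm : ∀ g : (P : Subgroup G), ⁅g, bp⁆ ∈ ⁅Bp, (⊤ : Subgroup (P : Subgroup G))⁆ := by
        intro g
        rw [commutator_comm]
        exact commutator_mem_commutator (mem_top g) hbp
      refine Nat.card_le_card_of_injective (fun q => ⟨⁅q.out, bp⁆, hcomm _⟩) fun q₁ q₂ h12 => ?_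
      have h3 : q₁.out * bp * q₁.out⁻¹ = q₂.out * bp * q₂.out⁻¹ := by
        have := congrArg Subtype.val h12
        simp only [commutatorElement_def] at this
        exact mul_right_cancel this
      rw [← q₁.out_eq, ← q₂.out_eq]
      refine Quotient.sound (QuotientGroup.leftRel_apply.mpr (mem_subgroupOf.mpr
        ⟨(q₁.out⁻¹ * q₂.out).2, mem_centralizer_singleton_iff.mpr ?_⟩))
      rw [← hbpe]
      refine congrArg Subtype.val (?_ : q₁.out⁻¹ * q₂.out * bp = bp * (q₁.out⁻¹ * q₂.out))
      calc q₁.out⁻¹ * q₂.out * bp = q₁.out⁻¹ * (q₂.out * bp * q₂.out⁻¹) * q₂.out := by group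
        _ = q₁.out⁻¹ * (q₁.out * bp * q₁.out⁻¹) * q₂.out := by rw [h3]
        _ = bp * (q₁.out⁻¹ * q₂.out) := by group
    -- a Sylow subgroup of `H` normalising `T`
    set TH := T.subgroupOf H with hTH
    have hTHp : IsPGroup p TH :=
      (P.isPGroup'.to_le inf_le_left).comap_of_injective H.subtype H.subtype_injective
    obtain ⟨S, hTS⟩ := hTHp.exists_le_sylow
    have hSnorm : (S : Subgroup H) ≤ normalizer (TH : Set H) := by
      rcases eq_or_lt_of_le hTS with heq | hlt
      · rw [← heq]; exact le_normalizer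
      have hgt := Transitivity.inf_normalizer_gt S.isPGroup' hlt
      have hle : Nat.card (S : Subgroup H) ≤ p * Nat.card TH := by
        have h1 : Nat.card ((S : Subgroup H).map H.subtype) ≤ Nat.card (P : Subgroup G) := by
          obtain ⟨Q, hQ⟩ := (S.isPGroup'.map H.subtype).exists_le_sylow
          refine (card_le_of_le hQ).trans (le_of_eq ?_)
          rw [Q.card_eq_multiplicity, P.card_eq_multiplicity]
        rw [card_map_of_injective H.subtype_injective] at h1
        refine h1.trans ?_
        rw [Nat.card_congr (subgroupOfEquivOfLe (inf_le_right : T ≤ H)).toEquiv,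
          ← relIndex_bot_left (H := (P : Subgroup G)),
          ← relIndex_mul_relIndex ⊥ T (P : Subgroup G) bot_le inf_le_left, relIndex_bot_left,
          mul_comm p]
        exact Nat.mul_le_mul_left _ hidx
      obtain ⟨i, hi⟩ := hTHp.exists_card_eq
      obtain ⟨j, hj⟩ := (S.isPGroup'.to_le
        (inf_le_right : normalizer (TH : Set H) ⊓ (S : Subgroup H) ≤ S)).exists_card_eq
      have hij : i < j := (Nat.pow_lt_pow_iff_right hp.out.one_lt).mp (hi ▸ hj ▸ hgt)
      have heq := Subgroup.eq_of_le_of_card_ge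
        (inf_le_right : normalizer (TH : Set H) ⊓ (S : Subgroup H) ≤ S) (hle.trans (by
          rw [hi, hj, ← pow_succ']
          exact Nat.pow_le_pow_right hp.out.pos hij))
      exact heq.ge.trans inf_le_left
    -- `z` lies in `O_{p',p}(H)`
    set K := pPrimeCore p H with hK
    set f := QuotientGroup.mk' K with hf
    set zH : H := ⟨z, hzT.2⟩ with hzH
    have hfz : f zH ∈ pCore p (H ⧸ K) := by
      refine Stability.quadratic_mem_pCore_of_pPrimeCore_eq_bot hp2
        (hodd.of_dvd_nat ((card_quotient_dvd_card K).trans (card_subgroup_dvd_card H)))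
        (Cores.pPrimeCore_quotient_self p) fun u hu => ?_
      obtain ⟨s, hs, rfl⟩ := PLocal.Cores.pCore_le_sylow
        (S.mapSurjective (QuotientGroup.mk'_surjective K)) hu
      have h1 : ⁅s, zH⁆ ∈ TH := by
        rw [commutatorElement_def]
        exact Subgroup.mul_mem _ ((mem_normalizer_iff.mp (hSnorm hs) zH).mp hzT)
          (Subgroup.inv_mem _ (show zH ∈ TH from hzT))
      have h2 : Commute ⁅s, zH⁆ zH := Subtype.ext (hzc _ (mem_subgroupOf.mp h1).1)
      have h3 := h2.map f
      rw [map_commutatorElement] at h3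
      exact h3
    have hzW : zpowers z ≤ normalizer (W : Set G) := zpowers_le.mpr (hAW (hBA hzB))
    have hcomW : ⁅W, zpowers z⁆ ≤ centralizerPPrimeCore p b := by
      rw [commutator_le]
      intro w hw y hy
      have hyH : y ∈ H := zpowers_le.mpr hzT.2 hy
      have hmemW : ⁅w, y⁆ ∈ W := by
        rw [commutatorElement_def, mul_assoc, mul_assoc, ← mul_assoc y]
        exact Subgroup.mul_mem _ hw
          ((mem_normalizer_iff.mp (hzW hy) _).mp (Subgroup.inv_mem _ hw))
      refine ⟨⟨⁅w, y⁆, hmemW.2⟩, ?_, rfl⟩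
      refine (QuotientGroup.eq_one_iff _).mp ?_
      show f ⟨⁅w, y⁆, hmemW.2⟩ = 1
      rw [← mem_bot, ← PLocal.Cores.inf_eq_bot_of_isPGroup_of_coprime
        (A := pCore p (H ⧸ K)) (B := (W.subgroupOf H).map f) PLocal.Cores.isPGroup_pCore
        (Nat.Coprime.coprime_dvd_left (card_map_dvd _ f) (by
          rw [Nat.card_congr (subgroupOfEquivOfLe (inf_le_right : W ≤ H)).toEquiv]; exact hWc))]
      refine ⟨?_, ⟨_, hmemW, rfl⟩⟩
      obtain ⟨m, rfl⟩ := mem_zpowers_iff.mp hy
      have e : (⟨⁅w, z ^ m⁆, hmemW.2⟩ : H) = ⟨w, hw.2⟩ * zH ^ m * (⟨w, hw.2⟩ : H)⁻¹ * (zH ^ m)⁻¹ :=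
        Subtype.ext (by simp [hzH, commutatorElement_def])
      rw [e, map_mul, map_mul, map_mul, map_inv, map_inv, map_zpow]
      exact Subgroup.mul_mem _ ((inferInstance : (pCore p (H ⧸ K)).Normal).conj_mem _
        (Subgroup.zpow_mem _ hfz m) _) (Subgroup.inv_mem _ (Subgroup.zpow_mem _ hfz m))
    -- the fixed points of `z`
    have hWz : W ⊓ centralizer (zpowers z : Set G) ≤ centralizerPPrimeCore p z := by
      set C := centralizer ({z} : Set G) with hC
      have hCtop : C ≠ ⊤ := Transitivity.centralizer_ne_top hG (Set.mem_singleton z) hz1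
      have hCs : Group.IsSolvable C := Transitivity.isSolvable_of_ne_top hG hCtop
      have hPC : (P : Subgroup G) ≤ C := fun g hg =>
        mem_centralizer_singleton_iff.mpr (hzc g hg)
      have hAC : A ≤ C := hAP.trans hPC
      set Y₀ := W ⊓ centralizer (zpowers z : Set G) with hY₀
      have hY₀C : Y₀ ≤ C := inf_le_right.trans
        (centralizer_le (Set.singleton_subset_iff.mpr (mem_zpowers z)))
      have hAY₀ : A ≤ normalizer (Y₀ : Set G) := by
        refine le_trans (le_inf hAW ?_) inf_normalizer_le_normalizer_inf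
        intro a ha
        refine le_normalizer (mem_centralizer_iff.mpr fun y hy => ?_)
        obtain ⟨m, rfl⟩ := mem_zpowers_iff.mp hy
        exact ((show Commute a z from hAcomm a ha z (hBA hzB)).zpow_right m).symm
      have h := le_pPrimeCore_of_selfCentralizing (hodd.of_dvd_nat (card_subgroup_dvd_card C))
        (P.subtype hPC) (A := A.subgroupOf C) (Y := Y₀.subgroupOf C) ?_ ?_ ?_ ?_ ?_ ?_
      · rw [← map_subgroupOf_eq_of_le hY₀C]
        exact map_mono h
      · exact fun x hx => hAP hx
      · exact ⟨⟨fun a c => Subtype.ext (Subtype.ext (hAcomm _ a.2 _ c.2))⟩⟩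
      · intro x hx
        rw [mem_normalizer_iff]
        intro y
        simp only [mem_subgroupOf, Subgroup.coe_mul, Subgroup.coe_inv]
        exact mem_normalizer_iff.mp (hPA hx) (y : G)
      · ext x
        constructor
        · rintro ⟨hxP, hxC⟩
          show (x : G) ∈ A
          rw [← hself]
          exact ⟨hxP, mem_centralizer_iff.mpr fun a ha =>
            congrArg Subtype.val (mem_centralizer_iff.mp hxC ⟨a, hAC ha⟩ ha)⟩
        · intro hx
          exact ⟨hAP hx, mem_centralizer_iff.mpr fun y hy => Subtype.ext (hAcomm _ hy _ hx)⟩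
      · rw [Nat.card_congr (subgroupOfEquivOfLe hY₀C).toEquiv]
        exact hWc.coprime_dvd_left (card_dvd_of_le inf_le_left)
      · intro x hx
        rw [mem_normalizer_iff]
        intro y
        simp only [mem_subgroupOf, Subgroup.coe_mul, Subgroup.coe_inv]
        exact mem_normalizer_iff.mp (hAY₀ hx) (y : G)
    have hcop : (Nat.card (zpowers z)).Coprime (Nat.card W) := by
      obtain ⟨k, hk⟩ := hpz.exists_card_eq
      rw [hk]; exact hWc.symm.pow_left k
    have hXs := Transitivity.isSolvable_of_ne_top hG hX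
    have hbp : IsPGroup p (zpowers b) := Components.Hyperplane.zpowers_isPGroup hBe hb
    have hWX : W ≤ X := inf_le_left.trans hYX
    refine le_trans (le_of_eq (Coprime.commutator_sup_inf_centralizer hzW hcop
      (Or.inl inferInstance)).symm) (sup_le ?_ ?_)
    · exact (le_inf hcomW ((Coprime.commutator_le_of_le_normalizer hzW).trans hWX)).trans
        (centralizerPPrimeCore_inf_le X hXs (hAX (hBA hb)) hbp)
    · exact (le_inf hWz (inf_le_left.trans hWX)).trans
        (centralizerPPrimeCore_inf_le X hXs (hAX (hBA hzB)) hpz)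
  have := hBe.1
  have hcop : (Nat.card B).Coprime (Nat.card Y) := by
    rw [hBcard]; exact hY.symm.pow_left 2
  rw [← Coprime.fixedGen_eq (Components.Hyperplane.not_isCyclic hBe hBcard.ge) (hBA.trans hAY) hcop]
  exact iSup₂_le fun b hb => key b hb.1 hb.2

end Cfsg.Agent.OddLocal.TransitivityHyp
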