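import Cfsg.Agent.OddLocal.Compl
import Cfsg.Agent.OddLocal.SigmaRank
import Cfsg.Agent.S1396
import Cfsg.Agent.S1410
import Cfsg.Agent.S1411
import Cfsg.Agent.Lib.Coprime.OmegaDetect

/-! Elementary abelian subgroups of order `p²` that are maximal elementary abelian in `G`. -/

set_option autoImplicit false
set_option linter.unusedSectionVars false

namespace Cfsg.Agent.OddLocal

open Cfsg Subgroup
open scoped commutatorElement

variable {G : Type*} [Group G] [Finite G] {p : ℕ} [hp : Fact p.Prime]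

/-- `A` is elementary abelian of order `p²` and contains every element of order `p` centralising it. -/
structure Max2 (p : ℕ) (A : Subgroup G) : Prop where
  el : IsElementaryAbelian p A
  card : Nat.card A = p ^ 2
  omega : ∀ x ∈ centralizer (A : Set G), x ^ p = 1 → x ∈ A

namespace Max2

variable {A : Subgroup G}

theorem isPGroup (hA : Max2 p A) : IsPGroup p A := Components.Hyperplane.isPGroup hA.el

theorem comm (hA : Max2 p A) : IsMulCommutative A := hA.el.1

theorem le_centralizer (hA : Max2 p A) : A ≤ centralizer (A : Set G) := fun _ ha =>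
  mem_centralizer_iff.mpr fun _ hb => Components.Hyperplane.mem_comm hA.el hb ha

theorem ne_bot (hA : Max2 p A) : A ≠ ⊥ := fun e => by
  have h := hA.card
  rw [e, card_bot] at h
  exact (Nat.one_lt_pow two_ne_zero hp.out.one_lt).ne h

theorem not_isCyclic (hA : Max2 p A) : ¬ IsCyclic A :=
  Components.Hyperplane.not_isCyclic hA.el hA.card.ge

theorem dvd_card (hA : Max2 p A) : p ∣ Nat.card A := hA.card ▸ dvd_pow_self p two_ne_zero

theorem ne_two (hG : IsMinSimpleOddOrder G) (hA : Max2 p A) : p ≠ 2 := Unique.ne_two hG hA.dvd_card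

theorem ne_top (hG : IsMinSimpleOddOrder G) (hA : Max2 p A) : A ≠ ⊤ := fun e =>
  hG.2.2.1 ⟨⟨fun a b => Components.Hyperplane.mem_comm hA.el (e ▸ mem_top a) (e ▸ mem_top b)⟩⟩

theorem centralizer_ne_top (hG : IsMinSimpleOddOrder G) {a : G} (ha : a ≠ 1) :
    centralizer ({a} : Set G) ≠ ⊤ :=
  Transitivity.centralizer_ne_top hG rfl ha

theorem le_centralizer_singleton (hA : Max2 p A) {a : G} (ha : a ∈ A) :
    A ≤ centralizer ({a} : Set G) := fun b hb =>
  mem_centralizer_singleton_iff.mpr (Components.Hyperplane.mem_comm hA.el hb ha)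

theorem transHyp (hG : IsMinSimpleOddOrder G) (hA : Max2 p A) : TransitivityHypothesis A :=
  S1396.result hG p (hA.dvd_card.trans (card_subgroup_dvd_card A)) A hA.isPGroup hA.comm
    (Or.inl ⟨fun x hx => ⟨hA.omega x hx, hA.el.2 x⟩, fun H hH => S1410.result hG p H hH⟩)

theorem coprime_iff (hA : Max2 p A) (K : Subgroup G) :
    (Nat.card A).Coprime (Nat.card K) ↔ ¬ p ∣ Nat.card K := by
  rw [hA.card, Nat.coprime_pow_left_iff two_pos, hp.out.coprime_iff_not_dvd]

theorem coprime_of_isPGroup (hA : Max2 p A) {q : ℕ} [hq : Fact q.Prime] (hqp : q ≠ p) {Q : Subgroup G}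
    (hQ : IsPGroup q Q) : (Nat.card A).Coprime (Nat.card Q) :=
  IsPGroup.coprime_card_of_ne p q hqp.symm A Q hA.isPGroup hQ

theorem not_dvd_card (hA : Max2 p A) {q : ℕ} [hq : Fact q.Prime] (hqp : q ≠ p) : ¬ q ∣ Nat.card A := by
  rw [hA.card]
  exact fun h => hqp ((Nat.prime_dvd_prime_iff_eq hq.out hp.out).mp (hq.out.dvd_of_dvd_pow h))

theorem exists_avoid {k₁ k₂ : Subgroup G} (h₁ : ¬ A ≤ k₁) (h₂ : ¬ A ≤ k₂) :
    ∃ a ∈ A, a ∉ k₁ ∧ a ∉ k₂ := by
  obtain ⟨a, ha, ha₁⟩ := SetLike.not_le_iff_exists.mp h₁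
  obtain ⟨b, hb, hb₂⟩ := SetLike.not_le_iff_exists.mp h₂
  by_cases hb₁ : b ∈ k₁
  · by_cases ha₂ : a ∈ k₂
    · exact ⟨a * b, mul_mem ha hb, fun h => ha₁ ((mul_mem_cancel_right hb₁).mp h),
        fun h => hb₂ ((mul_mem_cancel_left ha₂).mp h)⟩
    · exact ⟨a, ha, ha₁, ha₂⟩
  · exact ⟨b, hb, hb₁, hb₂⟩

theorem card_eq_of_lt (hA : Max2 p A) {X : Subgroup G} (hXA : X ≤ A) (h1 : X ≠ ⊥) (hne : X ≠ A) :
    Nat.card X = p := by
  obtain ⟨i, hi, hc⟩ := (Nat.dvd_prime_pow hp.out).mp (hA.card ▸ card_dvd_of_le hXA)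
  interval_cases i
  · exact absurd (card_eq_one.mp (by simpa using hc)) h1
  · simpa using hc
  · exact absurd (eq_of_le_of_card_ge hXA (by rw [hc, hA.card])) hne

theorem sup_zpowers (hA : Max2 p A) {k : Subgroup G} (hk : k ≤ A) (hkc : Nat.card k = p) {a : G}
    (ha : a ∈ A) (hak : a ∉ k) : k ⊔ zpowers a = A := by
  by_contra hne
  have hle : k ⊔ zpowers a ≤ A := sup_le hk (zpowers_le.mpr ha)
  have h1 : k ≠ ⊥ := fun e => by rw [e, card_bot] at hkc; exact hp.out.ne_one hkc.symm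
  have h2 := hA.card_eq_of_lt hle (fun e => h1 (le_bot_iff.mp (e ▸ le_sup_left))) hne
  have h3 := eq_of_le_of_card_ge (le_sup_left : k ≤ k ⊔ zpowers a) (by rw [h2, hkc])
  exact hak (h3 ▸ mem_sup_right (mem_zpowers a))

theorem card_zpowers (hA : Max2 p A) {a : G} (ha : a ∈ A) (ha1 : a ≠ 1) : Nat.card (zpowers a) = p := by
  rw [Nat.card_zpowers, Components.Hyperplane.orderOf_eq hA.el ha ha1]

theorem zpowers_ne (hA : Max2 p A) {a : G} (ha : a ∈ A) : ¬ A ≤ zpowers a := fun h => by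
  have h1 := Nat.le_of_dvd Nat.card_pos (card_dvd_of_le h)
  rw [hA.card, Nat.card_zpowers] at h1
  have h2 : orderOf a ≤ p := Nat.le_of_dvd hp.out.pos (orderOf_dvd_of_pow_eq_one (hA.el.2 a ha))
  nlinarith [hp.out.one_lt]

theorem card_inf_centralizer (hA : Max2 p A) {T : Subgroup G} {a : G} (ha : a ∈ A) (ha1 : a ≠ 1)
    (haT : T ≤ centralizer ({a} : Set G)) (hT : ¬ A ≤ centralizer (T : Set G)) :
    Nat.card (A ⊓ centralizer (T : Set G) : Subgroup G) = p ∧
      A ⊓ centralizer (T : Set G) = zpowers a := by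
  have h1 : zpowers a ≤ A ⊓ centralizer (T : Set G) :=
    zpowers_le.mpr (mem_inf.mpr ⟨ha, mem_centralizer_iff.mpr fun t ht =>
      mem_centralizer_singleton_iff.mp (haT ht)⟩)
  have h2 := hA.card_eq_of_lt (X := A ⊓ centralizer (T : Set G)) inf_le_left
    (fun e => zpowers_ne_bot.mpr ha1 (le_bot_iff.mp (e ▸ h1))) fun e => hT (e ▸ inf_le_right)
  exact ⟨h2, (eq_of_le_of_card_ge h1 (by rw [h2, hA.card_zpowers ha ha1])).symm⟩

/-- Coprime action of `A`: a nontrivial group is moved by the centraliser of some element. -/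
theorem exists_fixed (hA : Max2 p A) {Q : Subgroup G} (hAQ : A ≤ normalizer (Q : Set G))
    (hcop : (Nat.card A).Coprime (Nat.card Q)) {X : Subgroup G} (hX : ¬ Q ≤ X) :
    ∃ a ∈ A, a ≠ 1 ∧ ¬ Q ⊓ centralizer ({a} : Set G) ≤ X := by
  by_contra hcon
  push Not at hcon
  have := hA.comm
  refine hX ((Coprime.fixedGen_eq hA.not_isCyclic hAQ hcop).symm.le.trans ?_)
  exact iSup₂_le fun a ha => hcon a ha.1 ha.2

theorem le_normalizer_inf_centralizer (hA : Max2 p A) {Q : Subgroup G} (hAQ : A ≤ normalizer (Q : Set G))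
    {a : G} (ha : a ∈ A) : A ≤ normalizer ((Q ⊓ centralizer ({a} : Set G) : Subgroup G) : Set G) :=
  (le_inf hAQ ((hA.le_centralizer_singleton ha).trans le_normalizer)).trans
    inf_normalizer_le_normalizer_inf

theorem commutator_eq_self (hA : Max2 p A) {T : Subgroup G} (hAT : A ≤ normalizer (T : Set G))
    (hcop : (Nat.card A).Coprime (Nat.card T)) (hfix : T ⊓ centralizer (A : Set G) = ⊥) :
    ⁅T, A⁆ = T := by
  have := hA.comm
  have h := Coprime.commutator_sup_inf_centralizer hAT hcop (Or.inl (Coprime.isSolvable_of_isMulCommutative A))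
  rwa [hfix, sup_bot_eq] at h

theorem commutator_commutator_eq (hA : Max2 p A) {T : Subgroup G} (hAT : A ≤ normalizer (T : Set G))
    (hcop : (Nat.card A).Coprime (Nat.card T)) : ⁅⁅T, A⁆, A⁆ = ⁅T, A⁆ := by
  have := hA.comm
  exact Coprime.commutator_commutator_eq hAT hcop (Or.inl (Coprime.isSolvable_of_isMulCommutative A))

/-- If `k ≤ A` centralises `T` then `A` acts on `T` as any complement of `k`. -/
theorem commutator_zpowers_eq (hA : Max2 p A) {T k : Subgroup G} (hAT : A ≤ normalizer (T : Set G))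
    (hcop : (Nat.card A).Coprime (Nat.card T)) (hk : k ≤ A) (hkc : Nat.card k = p)
    (hkT : k ≤ centralizer (T : Set G)) (hTA : ⁅T, A⁆ = T) {a : G} (ha : a ∈ A) (hak : a ∉ k) :
    ⁅T, zpowers a⁆ = T := by
  have haA : zpowers a ≤ A := zpowers_le.mpr ha
  refine le_antisymm (Coprime.commutator_le_of_le_normalizer (haA.trans hAT)) ?_
  have hTn := commutator_le_left (⊥ : Subgroup G) (⊥ : Subgroup G)
  conv_lhs => rw [← hTA]
  refine (Coprime.commutator_le_of_forall_eq_mul (X := ⁅T, zpowers a⁆) fun t ht => ?_).trans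
    (Coprime.commutator_le_of_le_normalizer ?_)
  · obtain ⟨c, hc, x, hx, rfl⟩ := Coprime.exists_eq_centralizer_mul_commutator (haA.trans hAT)
      (hcop.coprime_dvd_left (card_dvd_of_le haA)) (Or.inl inferInstance) ht
    have hcA : c ∈ centralizer (A : Set G) := by
      rw [← zpowers_le, le_centralizer_iff, ← hA.sup_zpowers hk hkc ha hak]
      exact sup_le (hkT.trans (centralizer_le (zpowers_le.mpr hc.1)))
        (le_centralizer_iff.mpr (zpowers_le.mpr hc.2))
    exact ⟨c * x * c⁻¹, (mem_normalizer_iff.mp (normalizer_commutator_ge_left T (zpowers a)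
      hc.1) x).mp hx, c, hcA, by group⟩
  · rw [← hA.sup_zpowers hk hkc ha hak]
    refine sup_le ((le_centralizer_iff.mp ?_).trans (centralizer_le_normalizer _))
      (normalizer_commutator_ge_right T (zpowers a))
    exact (Coprime.commutator_le_of_le_normalizer (haA.trans hAT)).trans (le_centralizer_iff.mp hkT)

end Max2

theorem mem_sigma (hG : IsMinSimpleOddOrder G) {L : Subgroup G} (S : Sylow p G) (hp' : p ∣ Nat.card G)
    (hN : normalizer ((S : Subgroup G) : Set G) ≤ L) : p ∈ sigma L := by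
  have hSL : (S : Subgroup G) ≤ L := le_normalizer.trans hN
  refine ⟨hp.out, (S.dvd_card_of_dvd_card hp').trans (card_dvd_of_le hSL), S.subtype hSL, ?_⟩
  rwa [Sylow.coe_subtype, map_subgroupOf_eq_of_le hSL]

theorem centralize_of_normalize {s z : G} (hs : IsPGroup p (zpowers s)) (hz : orderOf z = p)
    (hn : s ∈ normalizer (zpowers z : Set G)) : Commute s z := by
  obtain ⟨m, hm⟩ := mem_zpowers_iff.mp ((mem_normalizer_iff.mp hn z).mp (mem_zpowers z))
  obtain ⟨n, hn'⟩ := hs.exists_card_eq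
  rw [Nat.card_zpowers] at hn'
  have key : ∀ i : ℕ, s ^ i * z * (s ^ i)⁻¹ = z ^ (m ^ i) := by
    intro i
    induction i with
    | zero => simp
    | succ i ih =>
      rw [pow_succ' s, mul_inv_rev]
      calc s * s ^ i * z * ((s ^ i)⁻¹ * s⁻¹) = s * (s ^ i * z * (s ^ i)⁻¹) * s⁻¹ := by group
        _ = (s * z * s⁻¹) ^ (m ^ i) := by rw [ih, conj_zpow]
        _ = z ^ (m ^ (i + 1)) := by rw [← hm, ← zpow_mul, pow_succ']
  have h1 := key (p ^ n)
  rw [show s ^ p ^ n = 1 by rw [← hn', pow_orderOf_eq_one], one_mul, inv_one, mul_one] at h1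
  have h2 : ((m ^ p ^ n : ℤ) : ZMod p) = ((1 : ℤ) : ZMod p) := by
    rw [ZMod.intCast_eq_intCast_iff']
    have h4 := zpow_eq_zpow_iff_modEq.mp (h1.symm.trans (zpow_one z).symm)
    rw [hz] at h4
    exact h4
  rw [Int.cast_pow, ZMod.pow_card_pow, Int.cast_one] at h2
  have h3 : z ^ m = z := by
    conv_rhs => rw [← zpow_one z]
    rw [zpow_eq_zpow_iff_modEq, hz]
    exact (ZMod.intCast_eq_intCast_iff' m 1 p).mp (by rw [h2, Int.cast_one])
  rw [h3] at hm
  exact mul_inv_eq_iff_eq_mul.mp hm.symm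

namespace Max2

variable {A : Subgroup G}

theorem omega_sylow (hA : Max2 p A) {S : Subgroup G} (hAS : A ≤ S) {x : G}
    (hxC : x ∈ centralizer (S : Set G)) (hxp : x ^ p = 1) : x ∈ A :=
  hA.omega x (centralizer_le hAS hxC) hxp

/-- The two possible positions of `A` in a Sylow subgroup `S`: central, or moved by some element
normalising it, fixing the central line `Z`. -/
theorem sylow_cases (hA : Max2 p A) (S : Sylow p G) (hAS : A ≤ (S : Subgroup G)) :
    (A ≤ centralizer ((S : Subgroup G) : Set G) ∧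
      normalizer ((S : Subgroup G) : Set G) ≤ normalizer (A : Set G)) ∨
    ∃ Z : Subgroup G, Z ≤ A ∧ Nat.card Z = p ∧ Z ≤ centralizer ((S : Subgroup G) : Set G) ∧
      normalizer ((S : Subgroup G) : Set G) ≤ normalizer (Z : Set G) ∧
      ∃ s ∈ (S : Subgroup G), s ∈ normalizer (A : Set G) ∧ s ∉ centralizer (A : Set G) := by
  set S' := (S : Subgroup G)
  set Z : Subgroup G := A ⊓ centralizer (S' : Set G) with hZdef
  have hZN : normalizer (S' : Set G) ≤ normalizer (Z : Set G) := by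
    rw [le_normalizer_iff]
    intro n hn z hz
    have hz' := mem_inf.mp hz
    refine mem_inf.mpr ⟨?_, Sigma.centralizer_conj hn hz'.2⟩
    refine hA.omega_sylow hAS (Sigma.centralizer_conj hn hz'.2) ?_
    rw [conj_pow, hA.el.2 z hz'.1]; group
  by_cases hc : A ≤ centralizer (S' : Set G)
  · refine Or.inl ⟨hc, ?_⟩
    rwa [hZdef, inf_eq_left.mpr hc] at hZN
  right
  have hS0 : S' ≠ ⊥ := fun e => hA.ne_bot (le_bot_iff.mp (e ▸ hAS))
  obtain ⟨z, hz, hz1, hzc⟩ := CN.exists_central hS0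
  have hSn := S.isPGroup'
  obtain ⟨n, hn⟩ := (hSn.to_le (zpowers_le.mpr hz)).exists_card_eq
  rw [Nat.card_zpowers] at hn
  have hn0 : n ≠ 0 := fun e => hz1 (orderOf_eq_one_iff.mp (by rw [hn, e, pow_zero]))
  have hzC : z ∈ centralizer (S' : Set G) := mem_centralizer_iff.mpr fun y hy => hzc y hy
  have hwo : orderOf (z ^ p ^ (n - 1)) = p := by
    rw [orderOf_pow' _ (pow_ne_zero _ hp.out.ne_zero), hn, Nat.gcd_eq_right (pow_dvd_pow p (Nat.sub_le n 1)),
      Nat.pow_div (Nat.sub_le n 1) hp.out.pos, Nat.sub_sub_self (Nat.one_le_iff_ne_zero.mpr hn0), pow_one]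
  have hwC : z ^ p ^ (n - 1) ∈ centralizer (S' : Set G) := pow_mem hzC _
  have hw : z ^ p ^ (n - 1) ∈ Z :=
    mem_inf.mpr ⟨hA.omega_sylow hAS hwC (orderOf_dvd_iff_pow_eq_one.mp hwo.dvd), hwC⟩
  have hZ1 : Z ≠ ⊥ := fun e => by
    rw [e, mem_bot] at hw
    rw [hw, orderOf_one] at hwo
    exact hp.out.ne_one hwo.symm
  have hZc := hA.card_eq_of_lt (X := Z) inf_le_left hZ1 fun e => hc (e ▸ inf_le_right)
  refine ⟨Z, inf_le_left, hZc, inf_le_right, hZN, ?_⟩
  set C := S' ⊓ centralizer (A : Set G) with hC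
  have hAC : A ≤ C := le_inf hAS hA.le_centralizer
  have hlt : C < S' := lt_of_le_of_ne inf_le_left fun e => hc (le_centralizer_iff.mp (e ▸ inf_le_right))
  have hgt := Transitivity.inf_normalizer_gt hSn hlt
  obtain ⟨s, hs, hsC⟩ := SetLike.not_le_iff_exists.mp fun h : normalizer (C : Set G) ⊓ S' ≤ C =>
    absurd (card_dvd_of_le h) fun hd => not_le.mpr hgt (Nat.le_of_dvd Nat.card_pos hd)
  have hsS := (mem_inf.mp hs).2
  refine ⟨s, hsS, ?_, fun h => hsC (mem_inf.mpr ⟨hsS, h⟩)⟩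
  rw [← Transfer.Fusion.map_conj_eq_self_iff]
  refine eq_of_le_of_card_ge ?_ (by rw [Transfer.Fusion.card_map_conj])
  rintro _ ⟨a, ha, rfl⟩
  refine hA.omega _ (mem_inf.mp ((mem_normalizer_iff.mp (mem_inf.mp hs).1 a).mp (hAC ha))).2 ?_
  show (s * a * s⁻¹) ^ p = 1
  rw [conj_pow, hA.el.2 a ha]; group

/-- No line of `A` that is invariant under `N(A)` has normaliser in a maximal subgroup `L` with
`p ∉ σ(L)`. -/
theorem not_normalizer_line (hG : IsMinSimpleOddOrder G) (hA : Max2 p A) {L : Subgroup G}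
    (hσ : p ∉ sigma L) {k : Subgroup G} (hkA : k ≤ A) (hk : Nat.card k = p)
    (hkN : normalizer (k : Set G) ≤ L) (hinv : normalizer (A : Set G) ≤ normalizer (k : Set G)) : False := by
  obtain ⟨S, hS⟩ := hA.isPGroup.exists_le_sylow
  have hpG := hA.dvd_card.trans (card_subgroup_dvd_card A)
  rcases hA.sylow_cases S hS with ⟨-, hN⟩ | ⟨Z, hZA, hZc, hZC, hN, s, hsS, hsN, hsC⟩
  · exact hσ (mem_sigma hG S hpG ((hN.trans hinv).trans hkN))
  by_cases hkZ : k = Z
  · exact hσ (mem_sigma hG S hpG (hN.trans (hkZ ▸ hkN)))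
  obtain ⟨z, hzk, hz1⟩ := (bot_or_exists_ne_one k).resolve_left fun e => by
    rw [e, card_bot] at hk; exact hp.out.ne_one hk.symm
  have hzk' : zpowers z = k := eq_of_le_of_card_ge (zpowers_le.mpr hzk)
    (by rw [hA.card_zpowers (hkA hzk) hz1, hk])
  have hzZ : z ∉ Z := fun h => hkZ (by
    rw [← hzk']
    exact eq_of_le_of_card_ge (zpowers_le.mpr h) (by rw [hA.card_zpowers (hkA hzk) hz1, hZc]))
  refine hsC ?_
  have hsz : Commute s z := centralize_of_normalize (p := p)
    (S.isPGroup'.to_le (zpowers_le.mpr hsS)) (Components.Hyperplane.orderOf_eq hA.el (hkA hzk) hz1)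
    (hzk'.symm ▸ hinv hsN)
  rw [← zpowers_le, le_centralizer_iff, ← hA.sup_zpowers hZA hZc (hkA hzk) hzZ]
  refine sup_le ?_ (zpowers_le.mpr (mem_centralizer_iff.mpr fun y hy => ?_))
  · exact hZC.trans (centralizer_le (zpowers_le.mpr hsS))
  · obtain ⟨i, rfl⟩ := mem_zpowers_iff.mp hy
    exact (hsz.zpow_left i).eq

theorem sigma_or_nonabelian (hG : IsMinSimpleOddOrder G) (hA : Max2 p A) {H : Subgroup G}
    (hH : normalizer (A : Set G) ≤ H) :
    p ∈ sigma H ∨ ∃ P : Subgroup G, P ≤ H ∧ IsPGroup p P ∧ ¬ IsMulCommutative P := by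
  obtain ⟨S, hS⟩ := hA.isPGroup.exists_le_sylow
  rcases hA.sylow_cases S hS with ⟨-, hN⟩ | ⟨Z, -, -, -, -, s, hsS, hsN, hsC⟩
  · exact Or.inl (mem_sigma hG S (hA.dvd_card.trans (card_subgroup_dvd_card A)) (hN.trans hH))
  refine Or.inr ⟨(S : Subgroup G) ⊓ normalizer (A : Set G), inf_le_right.trans hH,
    S.isPGroup'.to_le inf_le_left, fun hc => hsC (mem_centralizer_iff.mpr fun a ha => ?_)⟩
  have := hc
  exact setLike_mul_comm (s := (S : Subgroup G) ⊓ normalizer (A : Set G))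
    (mem_inf.mpr ⟨hS ha, le_normalizer ha⟩) (mem_inf.mpr ⟨hsS, hsN⟩)

theorem normalizer_not_le_centralizer (hG : IsMinSimpleOddOrder G) (hA : Max2 p A) :
    ¬ normalizer (A : Set G) ≤ centralizer (A : Set G) := by
  intro hNC
  obtain ⟨S, hS⟩ := hA.isPGroup.exists_le_sylow
  rcases hA.sylow_cases S hS with ⟨hc, hN⟩ | ⟨Z, -, -, -, -, s, -, hsN, hsC⟩
  swap
  · exact hsC (hNC hsN)
  set N := normalizer ((S : Subgroup G) : Set G) with hNdef
  have hSN : (S : Subgroup G) ≤ N := le_normalizer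
  have : ((S : Subgroup G).subgroupOf N).Normal := normal_in_normalizer
  have hidx : (Nat.card ((S : Subgroup G).subgroupOf N)).Coprime ((S : Subgroup G).subgroupOf N).index :=
    (S.subtype hSN).card_coprime_index
  obtain ⟨V₀, hV₀⟩ := exists_right_complement'_of_coprime hidx
  set V := V₀.map N.subtype with hV
  have hcompl : IsComplIn (S : Subgroup G) V N := by
    refine ⟨hSN, map_subtype_le _, ?_, fun m hm => ?_⟩
    · rw [← map_subgroupOf_eq_of_le hSN, hV, ← map_inf _ _ _ N.subtype_injective, hV₀.disjoint.eq_bot,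
        Subgroup.map_bot]
    · obtain ⟨⟨a, b⟩, e, -⟩ := hV₀.existsUnique ⟨m, hm⟩
      exact ⟨_, a.2, _, ⟨b, b.2, rfl⟩, (congrArg Subtype.val e).symm⟩
  have hVS : V ≤ centralizer ((S : Subgroup G) : Set G) := by
    rintro _ ⟨v, hv, rfl⟩
    refine Coprime.OmegaDetect.mem_centralizer_of_fix (p := p) ?_ S.isPGroup' v.2 fun a ha hap => ?_
    · have h1 : (Nat.card V₀).Coprime p := by
        refine (hp.out.coprime_iff_not_dvd.mpr ?_).symm
        rw [← hV₀.symm.index_eq_card]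
        exact (S.subtype hSN).not_dvd_index
      rw [show orderOf (N.subtype v) = orderOf (⟨v, hv⟩ : V₀) by
        rw [← orderOf_coe (⟨v, hv⟩ : V₀)]; exact orderOf_coe v]
      exact h1.coprime_dvd_left (orderOf_dvd_natCard _)
    · rcases hap with hap | ⟨h2, -⟩
      · have haA : a ∈ A := hA.omega a (mem_centralizer_iff.mpr fun b hb =>
          (mem_centralizer_iff.mp (hc hb) a ha).symm) hap
        exact (mem_centralizer_iff.mp (hNC (hN v.2)) a haA).symm
      · exact absurd h2 (hA.ne_two hG)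
  have h1 := (S1411.result hG p S V hcompl).1
  rw [Coprime.commutator_eq_bot_iff_le_centralizer'.mpr hVS] at h1
  exact hA.ne_bot (le_bot_iff.mp (h1 ▸ hS))

end Max2

end Cfsg.Agent.OddLocal
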