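import Cfsg.Agent.OddLocal.ExtraspecialCount
import Cfsg.Agent.Lib.PGroups.Extraspecial
import Cfsg.Agent.Lib.Coprime.Action

/-! An element of prime order acting on an extraspecial group, trivially on the centre and without
fixed points on the central quotient, has fixed points in a faithful module, up to Fermat primes. -/

set_option autoImplicit false
set_option linter.unusedSectionVars false

namespace Cfsg.Agent.OddLocal.ExtraspecialFixed

open Cfsg Subgroup
open scoped TensorProduct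

variable {G : Type*} [Group G] [Finite G]

theorem fixed_exception_of_rep {p q r : ℕ} (hp : p.Prime) (hq : q.Prime) (hr : r.Prime) (hpq : p ≠ q) (hpr : p ≠ r)
    (hqr : q ≠ r) (X Q : Subgroup G) (hX : Nat.card X = r) (hQ : IsExtraspecial q Q)
    (hXQ : X ≤ normalizer (Q : Set G))
    (hCQ : Q ⊓ centralizer (X : Set G) = (center Q).map Q.subtype)
    {K : Type*} [Field K] [IsAlgClosed K] [CharP K p]
    {U₀ : Type*} [AddCommGroup U₀] [Module K U₀] [FiniteDimensional K U₀]
    (ρ₁ : ↥(X ⊔ Q) →* Module.End K U₀) (hρ₁ : Function.Injective ρ₁)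
    (hsum : ∀ x : ↥(X ⊔ Q), zpowers (x : G) = X → ∑ i ∈ Finset.range r, (ρ₁ x) ^ i = 0) :
    q = 2 ∧ ∃ n : ℕ, r = 2 ^ n + 1 ∧ Nat.card Q = 2 ^ (2 * n + 1) := by
  classical
  have := Fact.mk hp
  have := Fact.mk hq
  have := Fact.mk hr
  obtain ⟨m, hm1, hcard⟩ := PGroups.Extraspecial.exists_card_eq hQ
  have hXc : IsCyclic X := isCyclic_of_prime_card hX
  obtain ⟨x, hx⟩ : ∃ x : X, zpowers x = ⊤ := (isCyclic_iff_exists_zpowers_eq_top).mp hXc
  have hxr : (x : G) ^ r = 1 := by
    rw [← SubmonoidClass.coe_pow, ← hX, pow_card_eq_one', OneMemClass.coe_one]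
  have hxX : zpowers (x : G) = X := by
    rw [← coe_subtype, ← MonoidHom.map_zpowers, hx, ← MonoidHom.range_eq_map, range_subtype]
  have hne : ∀ n : ℕ, n.Prime → n ≠ p → (n : K) ≠ 0 := fun n hn hnp h =>
    hnp ((Nat.prime_dvd_prime_iff_eq hp hn).mp ((CharP.cast_eq_zero_iff K p n).mp h)).symm
  have hroot : ∀ n : ℕ, n.Prime → n ≠ p → ∃ ζ : K, IsPrimitiveRoot ζ n := fun n hn hnp => by
    have : NeZero (n : K) := ⟨hne n hn hnp⟩
    obtain ⟨ζ, hζ⟩ := IsAlgClosed.exists_root (Polynomial.cyclotomic n K)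
      (Polynomial.degree_cyclotomic_pos n K hn.pos).ne'
    exact ⟨ζ, Polynomial.isRoot_cyclotomic_iff.mp hζ⟩
  obtain ⟨ζq, hζq⟩ := hroot q hq (Ne.symm hpq)
  obtain ⟨ζr, hζr⟩ := hroot r hr (Ne.symm hpr)
  -- the centre
  have hZc : Nat.card (center Q) = q := hQ.2
  have : IsCyclic (center Q) := isCyclic_of_prime_card hZc
  obtain ⟨z, hz⟩ : ∃ z : center Q, zpowers z = ⊤ := (isCyclic_iff_exists_zpowers_eq_top).mp inferInstance
  let zH : (X ⊔ Q : Subgroup G) := inclusion le_sup_right (z : Q)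
  have hzq : zH ^ q = 1 := by
    rw [← map_pow, ← SubmonoidClass.coe_pow, ← hZc, pow_card_eq_one', OneMemClass.coe_one, map_one]
  have hz1 : ρ₁ zH ≠ 1 := fun h => by
    have h1 : zH = 1 := hρ₁ (h.trans (map_one ρ₁).symm)
    have h2 : z = 1 := Subtype.ext (inclusion_injective le_sup_right (h1.trans (map_one _).symm))
    rw [h2, zpowers_one_eq_bot] at hz
    have h3 : Nat.card (⊥ : Subgroup (center Q)) = q := by rw [hz, card_top, hZc]
    rw [card_bot] at h3
    exact hq.ne_one h3.symm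
  have hzq' : ρ₁ zH ^ q = 1 := by rw [← map_pow, hzq, map_one]
  have hZQ : ∀ v ∈ (center Q).map Q.subtype, ∀ h ∈ (X ⊔ Q : Subgroup G), h * v = v * h := by
    intro v hv h hh
    have hle : (X ⊔ Q : Subgroup G) ≤ centralizer ({v} : Set G) := by
      refine sup_le (fun y hy => mem_centralizer_singleton_iff.mpr ?_) (fun y hy => mem_centralizer_singleton_iff.mpr ?_)
      · exact mem_centralizer_iff.mp (hCQ.ge hv).2 y hy
      · obtain ⟨w, hw, rfl⟩ := hv
        exact congrArg Subtype.val (mem_center_iff.mp hw ⟨y, hy⟩)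
    exact mem_centralizer_singleton_iff.mp (hle hh)
  have hzcomm : ∀ h : (X ⊔ Q : Subgroup G), h * zH = zH * h := fun h => Subtype.ext (hZQ _ ⟨(z : Q), z.2, rfl⟩ h h.2)
  obtain ⟨j, hj, hj0⟩ : ∃ j, j ∈ Finset.range q ∧ j ≠ 0 ∧ ExtraspecialCount.proj (ρ₁ zH) ζq q j ≠ 0 := by
    by_contra hcon
    refine hz1 ?_
    have hs := ExtraspecialCount.sum_proj hq.pos (hne q hq (Ne.symm hpq)) hζq (g := ρ₁ zH)
    rw [Finset.sum_eq_single 0 (fun k hk hk0 => by_contra fun h => hcon ⟨k, hk, hk0, h⟩)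
      (fun h => absurd (Finset.mem_range.mpr hq.pos) h)] at hs
    have h := ExtraspecialCount.mul_proj hζq.pow_eq_one hzq' 0
    rw [hs, mul_one, pow_zero, one_smul] at h
    exact h
  set e := ExtraspecialCount.proj (ρ₁ zH) ζq q j with he
  let U : Submodule K U₀ := LinearMap.range e
  have hcomm : ∀ h : (X ⊔ Q : Subgroup G), ρ₁ h * e = e * ρ₁ h := fun h => by
    have hc : Commute (ρ₁ h) (ρ₁ zH) := by
      show ρ₁ h * ρ₁ zH = ρ₁ zH * ρ₁ h
      rw [← map_mul, ← map_mul, hzcomm]
    rw [he, ExtraspecialCount.proj, mul_smul_comm, smul_mul_assoc, Finset.mul_sum, Finset.sum_mul]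
    congr 1
    refine Finset.sum_congr rfl fun i _ => ?_
    rw [mul_smul_comm, smul_mul_assoc, (hc.pow_right i).eq]
  have hinv : ∀ h : (X ⊔ Q : Subgroup G), ∀ u ∈ U, ρ₁ h u ∈ U := by
    rintro h _ ⟨u, rfl⟩
    exact ⟨ρ₁ h u, (LinearMap.congr_fun (hcomm h) u).symm⟩
  let ρU : (X ⊔ Q : Subgroup G) →* Module.End K U :=
    { toFun := fun h => (ρ₁ h).restrict (hinv h)
      map_one' := LinearMap.ext fun u => Subtype.ext (by simp)
      map_mul' := fun a b => LinearMap.ext fun u => Subtype.ext (by simp) }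
  have hρU : ∀ (h : (X ⊔ Q : Subgroup G)) (u : U), (ρU h u : U₀) = ρ₁ h (u : U₀) := fun _ _ => rfl
  have hUnt : Nontrivial U := by
    rw [Submodule.nontrivial_iff_ne_bot]
    intro h
    exact hj0.2 (LinearMap.range_eq_bot.mp h)
  have hscal : ∀ n : ℕ, ρU (zH ^ n) = ζq ^ (n * j) • 1 := fun n => LinearMap.ext fun u => Subtype.ext (by
    obtain ⟨_, v, rfl⟩ := u
    rw [hρU, map_pow]
    exact LinearMap.congr_fun (ExtraspecialCount.pow_proj hζq.pow_eq_one hzq' j n) v)
  let ρQ : Q →* Module.End K U := ρU.comp (inclusion le_sup_right)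
  have hzn : ∀ c : center Q, ∃ n : ℕ, inclusion le_sup_right (c : Q) = zH ^ n := fun c => by
    have hc : c ∈ zpowers z := hz.ge (mem_top c)
    obtain ⟨n, rfl⟩ := mem_powers_iff_mem_zpowers.mpr hc
    exact ⟨n, by simp [zH]⟩
  have huniq : ∀ s t : K, s • (1 : Module.End K U) = t • 1 → s = t := fun s t h =>
    by
      obtain ⟨u, hu⟩ := exists_ne (0 : U)
      have h' : (s - t) • u = 0 := by
        rw [sub_smul, sub_eq_zero]
        exact LinearMap.congr_fun h u
      exact sub_eq_zero.mp ((smul_eq_zero.mp h').resolve_right hu)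
  choose nn hnn using hzn
  let ω : center Q →* K :=
    { toFun := fun c => ζq ^ (nn c * j)
      map_one' := huniq _ _ (by
        rw [← hscal, ← hnn, one_smul, OneMemClass.coe_one, map_one, map_one])
      map_mul' := fun c d => huniq _ _ (by
        rw [← hscal, ← hnn, coe_mul, map_mul, map_mul, hnn c, hnn d, hscal, hscal, smul_mul_smul_comm, one_mul]) }
  have hω : ∀ c : center Q, ρQ c = ω c • 1 := fun c => by
    show ρU _ = _
    rw [hnn c, hscal]
    rfl
  have hωinj : Function.Injective ω := by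
    have hker : ∀ c, ω c = 1 → c = 1 := by
      intro c hc
      have h1 : (ζq ^ j) ^ nn c = 1 := by rw [← pow_mul, mul_comm]; exact hc
      have h2 : IsPrimitiveRoot (ζq ^ j) q := hζq.pow_of_coprime j ((hq.coprime_iff_not_dvd.mpr fun h =>
        absurd (Nat.le_of_dvd (Nat.pos_of_ne_zero hj0.1) h) (not_le.mpr (Finset.mem_range.mp hj))).symm)
      obtain ⟨k, hk⟩ := (h2.pow_eq_one_iff_dvd _).mp h1
      have h3 : inclusion le_sup_right (c : Q) = (1 : (X ⊔ Q : Subgroup G)) := by rw [hnn c, hk, pow_mul, hzq, one_pow]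
      exact Subtype.ext (inclusion_injective le_sup_right (h3.trans (map_one _).symm))
    intro c d h
    refine (inv_mul_eq_one.mp (hker (c⁻¹ * d) ?_))
    rw [map_mul, ← h, ← map_mul, inv_mul_cancel, map_one]
  -- the automorphism
  let a : MulAut Q := Q.normalizerMonoidHom ⟨x, hXQ x.2⟩
  have ha : ∀ v : Q, (a v : G) = x * v * (x : G)⁻¹ := fun v => rfl
  have har : a ^ r = 1 := by
    rw [← map_pow, show (⟨(x : G), hXQ x.2⟩ : normalizer (Q : Set G)) ^ r = 1 from Subtype.ext hxr, map_one]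
  have haZ : ∀ c ∈ center Q, a c = c := fun c hc => Subtype.ext (by
    rw [ha]
    exact mul_inv_eq_iff_eq_mul.mpr (hZQ (c : G) ⟨c, hc, rfl⟩ x (mem_sup_left x.2)))
  have hXgen : ∀ y ∈ X, ∃ n : ℕ, (x : G) ^ n = y := fun y hy => by
    obtain ⟨n, hn⟩ := mem_powers_iff_mem_zpowers.mpr (hx.ge (mem_top (⟨y, hy⟩ : X)))
    exact ⟨n, by simpa using congrArg Subtype.val hn⟩
  have hafix : ∀ v : Q, v⁻¹ * a v ∈ center Q → v ∈ center Q := by
    intro v hv
    set N := (center Q).map Q.subtype with hN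
    have hQN : Q ≤ normalizer (N : Set G) := fun y hy => (centralizer_le_normalizer _) (mem_centralizer_iff.mpr
      fun w hw => (hZQ w hw y (mem_sup_right hy)).symm)
    have hXN : X ≤ normalizer (N : Set G) := fun y hy => (centralizer_le_normalizer _) (mem_centralizer_iff.mpr
      fun w hw => (hZQ w hw y (mem_sup_left hy)).symm)
    have hstep : ∀ n : ℕ, v⁻¹ * (a ^ n) v ∈ center Q := by
      intro n
      induction n with
      | zero => simp
      | succ n ih =>
        rw [pow_succ', MulAut.mul_apply]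
        have h : v⁻¹ * a ((a ^ n) v) = (v⁻¹ * a v) * a (v⁻¹ * (a ^ n) v) := by
          rw [map_mul, map_inv]; group
        rw [h, haZ _ ih]
        exact mul_mem hv ih
    have hpow : ∀ (n : ℕ) (w : Q), ((a ^ n) w : G) = (x : G) ^ n * w * ((x : G) ^ n)⁻¹ := by
      intro n w
      induction n with
      | zero => simp
      | succ n ih => rw [pow_succ', MulAut.mul_apply, ha, ih, pow_succ', mul_inv_rev]; simp [mul_assoc]
    have hfix : ∀ y ∈ X, y * v * y⁻¹ * (v : G)⁻¹ ∈ N := by
      intro y hy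
      obtain ⟨n, rfl⟩ := hXgen y hy
      have hm : (v⁻¹ * (a ^ n) v : Q) ∈ center Q := hstep n
      refine ⟨v⁻¹ * (a ^ n) v, hm, ?_⟩
      have hc := congrArg Subtype.val (mem_center_iff.mp hm v)
      simp only [coe_mul, InvMemClass.coe_inv, hpow, coe_subtype] at hc ⊢
      calc (v : G)⁻¹ * ((x : G) ^ n * v * ((x : G) ^ n)⁻¹)
          = (v : G)⁻¹ * ((x : G) ^ n * v * ((x : G) ^ n)⁻¹) * v * (v : G)⁻¹ := by group
        _ = _ := by rw [← hc]; group
    obtain ⟨c, hc, hvc⟩ := Coprime.exists_fixed_mod (A := X) (K := Q) (N := N) (k := (v : G))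
      (by rw [hX, hcard]; exact ((Nat.coprime_primes hr hq).mpr (Ne.symm hqr)).pow_right _)
      (Or.inl (Coprime.isSolvable_of_isMulCommutative (H := X)))
      (map_subtype_le _) hQN hXN v.2 hfix
    rw [hCQ] at hc
    have hvN : (v : G) ∈ N := by simpa using mul_mem hc (inv_mem hvc)
    obtain ⟨w, hw, e'⟩ := hvN
    rwa [← Subtype.ext e']
  have hcomm' : commutator Q ≤ center Q := hQ.1.2.2.le
  have hQK : (Nat.card Q : K) ≠ 0 := by
    rw [hcard, Nat.cast_pow]; exact pow_ne_zero _ (hne q hq (Ne.symm hpq))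
  let xH : (X ⊔ Q : Subgroup G) := inclusion le_sup_left x
  have hxH : xH ^ r = 1 := Subtype.ext (by simpa [xH] using hxr)
  have hga : ∀ v, ρU xH * ρQ v = ρQ (a v) * ρU xH := fun v => by
    show ρU xH * ρU (inclusion le_sup_right v) = ρU (inclusion le_sup_right (a v)) * ρU xH
    rw [← map_mul, ← map_mul]
    refine congrArg ρU (Subtype.ext ?_)
    show (x : G) * v = x * v * (x : G)⁻¹ * x
    group
  have h0 : ∑ i ∈ Finset.range r, (ρU xH) ^ i = 0 := by
    have h₁ : ∑ i ∈ Finset.range r, (ρ₁ xH) ^ i = 0 := hsum xH (by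
      show zpowers ((x : X) : G) = X
      exact hxX)
    refine LinearMap.ext fun u => Subtype.ext ?_
    have h := LinearMap.congr_fun h₁ (u : U₀)
    rw [LinearMap.sum_apply] at h ⊢
    rw [AddSubmonoidClass.coe_finsetSum]
    refine Eq.trans (Finset.sum_congr rfl fun i _ => ?_) h
    rw [← map_pow ρU, hρU, map_pow ρ₁]
  have hgr : ρU xH ^ r = 1 := by rw [← map_pow, hxH, map_one]
  obtain ⟨hle, hdvd⟩ := ExtraspecialCount.count_le ρQ ω hω hωinj hcomm' hQK a haZ hr (hne r hr (Ne.symm hpr)) hζr har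
    hafix hgr hga h0
  -- arithmetic
  have hidx : (center Q).index = (q ^ m) ^ 2 := by
    have h := (center Q).card_mul_index
    rw [hZc, hcard] at h
    refine Nat.eq_of_mul_eq_mul_left hq.pos (h.trans ?_)
    rw [← pow_mul, ← pow_succ', mul_comm m 2]
  rw [hidx] at hle hdvd
  obtain ⟨s, rfl⟩ := Nat.exists_eq_add_of_le hr.one_le
  simp only [Nat.add_sub_cancel_left] at hle hdvd
  set N := q ^ m with hN
  have h2 : 2 ≤ N := le_trans hq.two_le (Nat.le_self_pow (by omega) q)
  have hNs : N ≤ s := by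
    by_contra hlt
    have : s * s < N * N := Nat.mul_self_lt_mul_self (not_le.mp hlt)
    nlinarith
  obtain ⟨t, ht⟩ := Nat.exists_eq_add_of_le (show 1 ≤ N by omega)
  have hd2 : (1 + s) ∣ t * (t + 2) := by
    have h : N ^ 2 + s = (1 + s) + t * (t + 2) := by rw [ht]; ring
    rw [h] at hdvd
    exact (Nat.dvd_add_right (dvd_refl _)).mp hdvd
  have hN1 : 1 + s = N + 1 := by
    rcases hr.dvd_mul.mp hd2 with h | h
    · have := Nat.le_of_dvd (by omega) h
      omega
    · have := Nat.le_of_dvd (by omega) h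
      omega
  have hq2 : q = 2 := by
    by_contra hne2
    have ho : Odd N := (hq.odd_of_ne_two hne2).pow
    have he2 : Even (1 + s) := hN1 ▸ ho.add_one
    have := hr.even_iff.mp he2
    omega
  subst hq2
  exact ⟨rfl, m, hN1, hcard⟩


theorem fixed_exception {p q r : ℕ} (hp : p.Prime) (hq : q.Prime) (hr : r.Prime) (hpq : p ≠ q) (hpr : p ≠ r)
    (hqr : q ≠ r) (X Q V : Subgroup G) (hX : Nat.card X = r) (hQ : IsExtraspecial q Q)
    (hXQ : X ≤ normalizer (Q : Set G))
    (hCQ : Q ⊓ centralizer (X : Set G) = (center Q).map Q.subtype)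
    (hV : IsElementaryAbelian p V) (hXV : X ≤ normalizer (V : Set G)) (hQV : Q ≤ normalizer (V : Set G))
    (hfaith : (X ⊔ Q) ⊓ centralizer (V : Set G) = ⊥) (hCV : V ⊓ centralizer (X : Set G) = ⊥) :
    q = 2 ∧ ∃ n : ℕ, r = 2 ^ n + 1 ∧ Nat.card Q = 2 ^ (2 * n + 1) := by
  classical
  have := Fact.mk hp
  -- the action on the module
  let : CommGroup V := { (inferInstance : Group V) with mul_comm := hV.1.is_comm.comm }
  have hpV : ∀ v : Additive V, p • v = 0 := fun v => by
    apply Additive.toMul.injective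
    rw [toMul_nsmul, toMul_zero]
    exact Subtype.ext (by simpa using hV.2 _ (Additive.toMul v).2)
  have : Module (ZMod p) (Additive V) := AddCommGroup.zmodModule hpV
  have : Module.Finite (ZMod p) (Additive V) := Module.Finite.of_finite
  set H := X ⊔ Q with hH
  let φ : H →* MulAut V := V.normalizerMonoidHom.comp (inclusion (sup_le hXV hQV))
  have hφ : ∀ (h : H) (v : V), (φ h v : G) = h * v * (h : G)⁻¹ := fun h v => rfl
  let f₀ : H → Module.End (ZMod p) (Additive V) := fun h =>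
    (MonoidHom.toAdditive (φ h).toMonoidHom).toZModLinearMap p
  have hf1 : f₀ 1 = 1 := LinearMap.ext fun v => by
    apply Additive.toMul.injective
    show φ 1 (Additive.toMul v) = Additive.toMul v
    rw [map_one, MulAut.one_apply]
  have hf2 : ∀ a b, f₀ (a * b) = f₀ a * f₀ b := fun a b => LinearMap.ext fun v => by
    apply Additive.toMul.injective
    show φ (a * b) (Additive.toMul v) = φ a (φ b (Additive.toMul v))
    rw [map_mul, MulAut.mul_apply]
  let ρ₀ : H →* Module.End (ZMod p) (Additive V) := { toFun := f₀, map_one' := hf1, map_mul' := hf2 }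
  have hρ₀ : Function.Injective ρ₀ := by
    refine (injective_iff_map_eq_one ρ₀).mpr fun h hh => Subtype.ext ?_
    have hc : (h : G) ∈ (X ⊔ Q) ⊓ centralizer (V : Set G) := ⟨h.2, mem_centralizer_iff.mpr fun v hv => by
      have e : (φ h ⟨v, hv⟩ : G) = v :=
        congrArg Subtype.val (congrArg Additive.toMul (LinearMap.congr_fun hh (Additive.ofMul (⟨v, hv⟩ : V))))
      rw [hφ] at e
      exact (mul_inv_eq_iff_eq_mul.mp e).symm⟩
    rw [hfaith, mem_bot] at hc
    exact hc
  have : CharP (AlgebraicClosure (ZMod p)) p := charP_of_injective_algebraMap (algebraMap (ZMod p) (AlgebraicClosure (ZMod p))).injective p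
  let U₀ := (AlgebraicClosure (ZMod p)) ⊗[ZMod p] Additive V
  let β : Module.End (ZMod p) (Additive V) →ₐ[ZMod p] Module.End (AlgebraicClosure (ZMod p)) U₀ := Module.End.baseChangeHom (ZMod p) (AlgebraicClosure (ZMod p)) (Additive V)
  have hβ : Function.Injective β := fun a b h => LinearMap.baseChangeHom_injective (ZMod p) _ (M := Additive V) h
  let ρ₁ : H →* Module.End (AlgebraicClosure (ZMod p)) U₀ := β.toMonoidHom.comp ρ₀
  have hρ₁ : Function.Injective ρ₁ := hβ.comp hρ₀
  refine fixed_exception_of_rep hp hq hr hpq hpr hqr X Q hX hQ hXQ hCQ ρ₁ hρ₁ ?_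
  intro xH hxX
  have hxH : xH ^ r = 1 := Subtype.ext (by
    have ho : orderOf (xH : G) = r := by rw [← Nat.card_zpowers, hxX, hX]
    rw [SubmonoidClass.coe_pow, OneMemClass.coe_one, ← ho, pow_orderOf_eq_one])
  have hXgen : ∀ y ∈ X, ∃ n : ℕ, (xH : G) ^ n = y := fun y hy =>
    mem_powers_iff_mem_zpowers.mpr (hxX.ge hy)
  have h₀ : ∑ i ∈ Finset.range r, (ρ₀ xH) ^ i = 0 := by
    refine LinearMap.ext fun v => ?_
    have hg : ρ₀ xH * (∑ i ∈ Finset.range r, (ρ₀ xH) ^ i) = ∑ i ∈ Finset.range r, (ρ₀ xH) ^ i := by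
      have h := mul_geom_sum (ρ₀ xH) r
      rw [← map_pow, hxH, map_one, sub_self, sub_mul, one_mul, sub_eq_zero] at h
      exact h
    set w := (∑ i ∈ Finset.range r, (ρ₀ xH) ^ i) v with hw
    have hfw : φ xH (Additive.toMul w) = Additive.toMul w := congrArg Additive.toMul (LinearMap.congr_fun hg v)
    have hmem : ((Additive.toMul w : V) : G) ∈ V ⊓ centralizer (X : Set G) := by
      refine ⟨(Additive.toMul w).2, mem_centralizer_iff.mpr fun y hy => ?_⟩
      obtain ⟨n, rfl⟩ := hXgen y hy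
      have h := congrArg Subtype.val hfw
      rw [hφ] at h
      exact (Commute.pow_left (show Commute (xH : G) ((Additive.toMul w : V) : G) from mul_inv_eq_iff_eq_mul.mp h) n).eq
    rw [hCV, mem_bot] at hmem
    rw [LinearMap.zero_apply]
    exact Additive.toMul.injective (Subtype.ext hmem)
  show ∑ i ∈ Finset.range r, (β (ρ₀ xH)) ^ i = 0
  rw [← map_zero β, ← h₀, map_sum]
  simp only [map_pow]

end Cfsg.Agent.OddLocal.ExtraspecialFixed
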