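import Cfsg.Agent.OddLocal.WeightSpaces
import Cfsg.Agent.OddLocal.ExtraspecialFixed
import Cfsg.Agent.OddLocal.Coprime
import Cfsg.Agent.OddLocal.Basics
import Cfsg.Agent.Lib.Coprime.OmegaDetect
import Cfsg.Agent.Solvable.Basics

/-! The core configuration for the `p`-length of a commutator with a complement having an element
of prime order with metacyclic-type fixed points (BG 3.6). -/

set_option autoImplicit false

namespace Cfsg.Agent.OddLocal.ZGroupCore

open Cfsg Subgroup WeightSpaces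
open Cfsg.Agent.Transfer.Fusion (map_conj_mul map_conj_one map_conj_inv_cancel map_conj_eq_self_iff)
open scoped commutatorElement Pointwise

variable {G : Type*} [Group G]

theorem commute_action_of_cyclic {W : Subgroup G} [IsCyclic W] {A B : Subgroup G}
    (hA : A ≤ normalizer (W : Set G)) (hB : B ≤ normalizer (W : Set G)) :
    ⁅A, B⁆ ≤ centralizer (W : Set G) := by
  rw [commutator_le]
  intro a ha b hb
  have hc : W.normalizerMonoidHom ⟨a, hA ha⟩ * W.normalizerMonoidHom ⟨b, hB hb⟩ =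
      W.normalizerMonoidHom ⟨b, hB hb⟩ * W.normalizerMonoidHom ⟨a, hA ha⟩ := by
    obtain ⟨m, hm⟩ := MonoidHom.map_cyclic (W.normalizerMonoidHom ⟨a, hA ha⟩).toMonoidHom
    obtain ⟨n, hn⟩ := MonoidHom.map_cyclic (W.normalizerMonoidHom ⟨b, hB hb⟩).toMonoidHom
    simp only [MulEquiv.coe_toMonoidHom] at hm hn
    refine MulEquiv.ext fun w => ?_
    rw [MulAut.mul_apply, MulAut.mul_apply, hn w, map_zpow, hm w, hn, ← zpow_mul]
  rw [mem_centralizer_iff]
  intro w hw
  have h1 : W.normalizerMonoidHom ⁅(⟨a, hA ha⟩ : normalizer (W : Set G)), ⟨b, hB hb⟩⁆ = 1 := by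
    rw [map_commutatorElement, commutatorElement_eq_one_iff_mul_comm]; exact hc
  have h2 : ⁅a, b⁆ * w * ⁅a, b⁆⁻¹ = w := congrArg Subtype.val (DFunLike.congr_fun h1 (⟨w, hw⟩ : W))
  exact (mul_inv_eq_iff_eq_mul.mp h2).symm

/-- Two groups acting on a section of prime order have commutator acting trivially on it. -/
theorem commutator_le_of_relIndex_prime [Finite G] {K L A B : Subgroup G} {q : ℕ} (hq : q.Prime)
    (hKL : K ≤ L) (hi : K.relIndex L = q) (hLK : L ≤ normalizer (K : Set G))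
    (hA : A ≤ normalizer (K : Set G) ⊓ normalizer (L : Set G))
    (hB : B ≤ normalizer (K : Set G) ⊓ normalizer (L : Set G)) : ⁅L, ⁅A, B⁆⁆ ≤ K := by
  set N := normalizer (K : Set G) with hN
  have hKN : K ≤ N := le_normalizer
  have hc : IsCyclic ((L.subgroupOf N).map (QuotientGroup.mk' (K.subgroupOf N))) := by
    have := Fact.mk hq
    refine isCyclic_of_prime_card (p := q) ?_
    rw [← relIndex_ker, QuotientGroup.ker_mk', relIndex_subgroupOf hLK, hi]
  have hn : ∀ {C : Subgroup G}, C ≤ N ⊓ normalizer (L : Set G) →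
      (C.subgroupOf N).map (QuotientGroup.mk' (K.subgroupOf N)) ≤
        normalizer (((L.subgroupOf N).map (QuotientGroup.mk' (K.subgroupOf N)) : Subgroup _) : Set _) := by
    intro C hC
    refine (map_mono ?_).trans (le_normalizer_map _)
    intro c hc
    rw [mem_normalizer_iff]
    intro l
    exact mem_normalizer_iff.mp (hC hc).2 l
  have h := commute_action_of_cyclic (hn hA) (hn hB)
  rw [← map_commutator, ← Coprime.commutator_eq_bot_iff_le_centralizer', ← map_commutator,
    Subgroup.map_eq_bot_iff, QuotientGroup.ker_mk'] at h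
  have h' := map_mono (f := N.subtype) h
  rw [map_commutator, map_commutator, map_subgroupOf_eq_of_le hLK, map_subgroupOf_eq_of_le hKN,
    map_subgroupOf_eq_of_le (hA.trans inf_le_left), map_subgroupOf_eq_of_le (hB.trans inf_le_left)] at h'
  exact h'

variable [Finite G]

theorem card_le_of_cyclic {W : Subgroup G} [IsCyclic W] {n : ℕ} (hn : 0 < n)
    (h : ∀ w ∈ W, w ^ n = 1) : Nat.card W ≤ n := by
  obtain ⟨g, hg⟩ := IsCyclic.exists_ofOrder_eq_natCard (α := W)
  rw [← hg]
  exact Nat.le_of_dvd hn (orderOf_dvd_of_pow_eq_one (Subtype.ext (by simpa using h g g.2)))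

theorem isCyclic_of_card_le {W : Subgroup G} {p : ℕ} (hp : p.Prime) (hW : IsPGroup p W)
    (h : Nat.card W ≤ p) : IsCyclic W := by
  have := Fact.mk hp
  obtain ⟨k, hk⟩ := hW.exists_card_eq
  rw [hk] at h
  have hk1 : k ≤ 1 := (Nat.pow_le_pow_iff_right hp.one_lt).mp (h.trans (pow_one p).ge)
  interval_cases k
  · rw [card_eq_one.mp (by simpa using hk : Nat.card W = 1)]
    infer_instance
  · exact isCyclic_of_prime_card (by simpa using hk)

theorem eq_of_le_prime {A B : Subgroup G} (hB : (Nat.card B).Prime) (h : A ≤ B) (hA : A ≠ ⊥) : A = B := by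
  rcases (Nat.dvd_prime hB).mp (card_dvd_of_le h) with h1 | h1
  · exact absurd (card_eq_one.mp h1) hA
  · exact eq_of_le_of_card_ge h h1.ge

theorem zpowers_eq_of_prime {A : Subgroup G} (hA : (Nat.card A).Prime) {g : G} (hg : g ∈ A) (h1 : g ≠ 1) :
    zpowers g = A :=
  eq_of_le_prime hA (zpowers_le.mpr hg) (by simpa using h1)

theorem le_of_not_dvd {N X S : Subgroup G} (hXN : X ≤ normalizer (N : Set G)) (hX : (Nat.card X).Prime)
    (hS : S ≤ N ⊔ X) (hd : ¬ Nat.card X ∣ Nat.card S) (hNX : ¬ Nat.card X ∣ Nat.card N) : S ≤ N := by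
  have hSN : S ≤ normalizer (N : Set G) := hS.trans (sup_le le_normalizer hXN)
  have hdisj : Disjoint N X := Coprime.disjoint_of_coprime (hX.coprime_iff_not_dvd.mpr hNX).symm
  have hsup := Coprime.card_sup_of_disjoint hXN hdisj
  have hd1 : Nat.card (N ⊔ S : Subgroup G) ∣ Nat.card N * Nat.card X :=
    hsup ▸ card_dvd_of_le (sup_le le_sup_left hS)
  have hd2 : Nat.card (N ⊔ S : Subgroup G) ∣ Nat.card N * Nat.card S := by
    rw [← relIndex_bot_left (H := (N ⊔ S : Subgroup G)),
      ← relIndex_mul_relIndex ⊥ N (N ⊔ S) bot_le le_sup_left, relIndex_bot_left]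
    refine Nat.mul_dvd_mul_left _ ?_
    have := (normal_subgroupOf_iff_le_normalizer (le_sup_left : N ≤ N ⊔ S)).mpr (sup_le le_normalizer hSN)
    have h : (N.subgroupOf (N ⊔ S)).relIndex (S.subgroupOf (N ⊔ S) ⊔ N.subgroupOf (N ⊔ S)) =
        (N.subgroupOf (N ⊔ S)).relIndex (S.subgroupOf (N ⊔ S)) := relIndex_sup_right _ _
    rw [← subgroupOf_sup le_sup_right le_sup_left, sup_comm S N, relIndex_subgroupOf le_rfl,
      relIndex_subgroupOf le_sup_right] at h
    rw [h]
    exact relIndex_dvd_card _ _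
  have h1 := Nat.dvd_gcd hd1 hd2
  rw [Nat.gcd_mul_left, (hX.coprime_iff_not_dvd.mpr hd).gcd_eq_one, mul_one] at h1
  exact le_sup_right.trans (eq_of_le_of_card_ge le_sup_left (Nat.le_of_dvd Nat.card_pos h1)).ge

theorem exists_conj_le {N X S : Subgroup G} (hXN : X ≤ normalizer (N : Set G)) (hX : (Nat.card X).Prime)
    (hS : S ≤ N ⊔ X) (hd : Nat.card X ∣ Nat.card S) (hNX : ¬ Nat.card X ∣ Nat.card N) :
    ∃ u ∈ N, X ≤ S.map (MulAut.conj u).toMonoidHom := by
  have := Fact.mk hX
  obtain ⟨⟨s, hs⟩, hso⟩ := exists_prime_orderOf_dvd_card' (G := S) _ hd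
  rw [orderOf_mk] at hso
  have hT : zpowers s ≤ normalizer (N : Set G) :=
    (zpowers_le.mpr (hS hs)).trans (sup_le le_normalizer hXN)
  have hcop : (Nat.card N).Coprime (Nat.card X) := (hX.coprime_iff_not_dvd.mpr hNX).symm
  have hcT : Nat.card (zpowers s) = Nat.card X := by rw [Nat.card_zpowers, hso]
  obtain ⟨u, hu, he⟩ := Coprime.exists_conj_eq_of_sup_eq hT hXN
    (eq_of_le_of_card_ge (sup_le le_sup_left (zpowers_le.mpr (hS hs))) (by
      rw [Coprime.card_sup_of_coprime hXN hcop, Coprime.card_sup_of_coprime hT (hcT ▸ hcop), hcT]))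
    (hcT ▸ hcop) hcop (Or.inr (Coprime.isSolvable_of_isMulCommutative _))
  refine ⟨u, hu, ?_⟩
  rw [← he, Coprime.conj_smul_eq_map]
  exact map_mono (zpowers_le.mpr hs)

variable {p q r : ℕ}

/-- A coset of an `X`-invariant subgroup fixed by `X`, when `X` fixes only `1` in `P`. -/
theorem mem_of_fixed_coset {P S X : Subgroup G} (hXS : X ≤ normalizer (S : Set G))
    (hcop : (Nat.card X).Coprime (Nat.card S)) (hsolv : Group.IsSolvable X) (hSP : S ≤ P)
    (hPX : P ⊓ centralizer (X : Set G) = ⊥) {z : G} (hz : z ∈ P)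
    (h : ∀ g ∈ X, z⁻¹ * (g * z * g⁻¹) ∈ S) : z ∈ S := by
  obtain ⟨n, hn, hzn⟩ := Coprime.exists_fixed_in_coset hXS hcop (Or.inl hsolv) h
  have h1 : z * n ∈ P ⊓ centralizer (X : Set G) := ⟨mul_mem hz (hSP hn), hzn⟩
  rw [hPX, mem_bot] at h1
  rw [eq_inv_of_mul_eq_one_left h1]
  exact inv_mem hn

set_option maxHeartbeats 1000000 in
/-- The configuration is impossible. -/
theorem false_of_config (hp : p.Prime) (hq : q.Prime) (hr : r.Prime) (hp2 : p ≠ 2) (hq2 : q ≠ 2)
    (hr2 : r ≠ 2) (hpq : p ≠ q) (hpr : p ≠ r) (hqr : q ≠ r) (V Q P X : Subgroup G)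
    (hV : IsElementaryAbelian p V) (hQ : IsPGroup q Q) (hP : IsPGroup p P) (hX : Nat.card X = r)
    (hQV : Q ≤ normalizer (V : Set G)) (hPV : P ≤ normalizer (V : Set G))
    (hXV : X ≤ normalizer (V : Set G)) (hPQ : P ≤ normalizer (Q : Set G))
    (hXQ : X ≤ normalizer (Q : Set G)) (hXP : X ≤ normalizer (P : Set G))
    (hCQ : V ⊓ centralizer (Q : Set G) = ⊥) (hCV : Q ⊓ centralizer (V : Set G) = ⊥)
    (hcomm : ⁅Q, P⁆ = Q)
    (hchar : ∀ T : Subgroup Q, T.Characteristic → T ≠ ⊤ →
      P ≤ centralizer ((T.map Q.subtype : Subgroup G) : Set G))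
    (hQc : ¬ IsCyclic Q) (hQX : IsCyclic ↥(Q ⊓ centralizer (X : Set G)))
    (hVX : ∀ T : Subgroup G, T ≤ centralizer (X : Set G) → T ≤ V ⊔ P → IsPGroup p T → IsCyclic T) :
    False := by
  classical
  have := Fact.mk hp
  have := Fact.mk hq
  have := Fact.mk hr
  have hXs : Group.IsSolvable X := by
    have : IsCyclic X := isCyclic_of_prime_card (p := r) hX
    exact Coprime.isSolvable_of_isMulCommutative _
  have hXprime : (Nat.card X).Prime := hX ▸ hr
  have hVp : IsPGroup p V := Components.Hyperplane.isPGroup hV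
  have := hV.1
  have hQn := hQ.isNilpotent
  have hQsol : Group.IsSolvable Q := Coprime.isSolvable_of_isPGroup hQ
  have hQ0 : Q ≠ ⊥ := fun e => hQc (e ▸ Bot.isCyclic)
  have hV0 : V ≠ ⊥ := by
    intro e
    refine hQ0 (le_bot_iff.mp (hCV ▸ le_inf le_rfl ?_))
    rw [e]
    intro g _
    simp [mem_centralizer_iff]
  have hrQ : ¬ Nat.card X ∣ Nat.card Q := by
    obtain ⟨a, ha⟩ := hQ.exists_card_eq
    rw [hX, ha]
    exact fun hd => hqr ((Nat.prime_dvd_prime_iff_eq hr hq).mp (hr.dvd_of_dvd_pow hd)).symm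
  have hrP : ¬ Nat.card X ∣ Nat.card P := by
    obtain ⟨b, hb⟩ := hP.exists_card_eq
    rw [hX, hb]
    exact fun hd => hpr ((Nat.prime_dvd_prime_iff_eq hr hp).mp (hr.dvd_of_dvd_pow hd)).symm
  have hcXQ : (Nat.card X).Coprime (Nat.card Q) := hXprime.coprime_iff_not_dvd.mpr hrQ
  have hcXP : (Nat.card X).Coprime (Nat.card P) := hXprime.coprime_iff_not_dvd.mpr hrP
  have hcPQ : (Nat.card P).Coprime (Nat.card Q) := by
    obtain ⟨a, ha⟩ := hQ.exists_card_eq
    obtain ⟨b, hb⟩ := hP.exists_card_eq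
    rw [ha, hb]
    exact ((Nat.coprime_primes hp hq).mpr hpq).pow _ _
  have hcVQ : (Nat.card Q).Coprime (Nat.card V) := by
    obtain ⟨a, ha⟩ := hQ.exists_card_eq
    obtain ⟨b, hb⟩ := hVp.exists_card_eq
    rw [ha, hb]
    exact ((Nat.coprime_primes hq hp).mpr (Ne.symm hpq)).pow _ _
  have hVP : V ⊓ P = ⊥ := by
    refine le_bot_iff.mp fun v hv => ?_
    have h1 : ∀ u ∈ Q, u * v * u⁻¹ * v⁻¹ = 1 := fun u hu => by
      have hd := Coprime.disjoint_of_coprime hcVQ
      refine disjoint_def.mp hd ?_ (mul_mem (Coprime.FrobeniusPGroup.conj_mem_of_mem_normalizer (hQV hu) hv.1)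
        (inv_mem hv.1))
      rw [show u * v * u⁻¹ * v⁻¹ = u * (v * u⁻¹ * v⁻¹) by group]
      exact mul_mem hu (Coprime.FrobeniusPGroup.conj_mem_of_mem_normalizer (hPQ hv.2) (inv_mem hu))
    rw [← hCQ]
    exact ⟨hv.1, mem_centralizer_iff.mpr fun u hu =>
      mul_inv_eq_iff_eq_mul.mp (mul_inv_eq_one.mp (h1 u hu))⟩
  have hC : Nat.card (V ⊓ centralizer (X : Set G) : Subgroup G) ≤ p := by
    have := hVX (V ⊓ centralizer (X : Set G)) inf_le_right (inf_le_left.trans le_sup_left)
      (hVp.to_le inf_le_left)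
    exact card_le_of_cyclic hp.pos fun w hw => hV.2 w hw.1
  have hPX : V ⊓ centralizer (X : Set G) ≠ ⊥ → P ⊓ centralizer (X : Set G) = ⊥ := by
    intro hC0
    by_contra hne
    set A := V ⊓ centralizer (X : Set G) with hA
    set B := P ⊓ centralizer (X : Set G) with hB
    have hBA : B ≤ normalizer (A : Set G) :=
      le_trans (le_inf (inf_le_left.trans hPV) (inf_le_right.trans le_normalizer))
        inf_normalizer_le_normalizer_inf
    have hAp : IsPGroup p A := hVp.to_le inf_le_left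
    have hBp : IsPGroup p B := hP.to_le inf_le_left
    have hcT : IsCyclic ↥(A ⊔ B) := hVX _ (sup_le inf_le_right inf_le_right)
      (sup_le (inf_le_left.trans le_sup_left) (inf_le_left.trans le_sup_right))
      (hAp.to_sup_of_normal_left' hBp hBA)
    obtain ⟨⟨v, hv⟩, hvo⟩ := exists_prime_orderOf_dvd_card' (G := A) p
      (hAp.card_eq_or_dvd.resolve_left (mt card_eq_one.mp hC0))
    obtain ⟨⟨w, hw⟩, hwo⟩ := exists_prime_orderOf_dvd_card' (G := B) p
      (hBp.card_eq_or_dvd.resolve_left (mt card_eq_one.mp hne))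
    rw [orderOf_mk] at hvo hwo
    have heq := OddLocal.Basics.subgroup_eq_of_card_eq_of_isCyclic
      (A := zpowers (⟨v, mem_sup_left hv⟩ : ↥(A ⊔ B))) (B := zpowers ⟨w, mem_sup_right hw⟩)
      (by rw [Nat.card_zpowers, Nat.card_zpowers, orderOf_mk, orderOf_mk, hvo, hwo])
    have heq' := congrArg (Subgroup.map (A ⊔ B).subtype) heq
    simp only [MonoidHom.map_zpowers, coe_subtype] at heq'
    have : w ∈ V ⊓ P := ⟨zpowers_le.mpr hv.1 (heq'.ge (mem_zpowers w)), hw.1⟩
    rw [hVP, mem_bot] at this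
    rw [this, orderOf_one] at hwo
    exact hp.ne_one hwo.symm
  have hPcomm : V ⊓ centralizer (X : Set G) ≠ ⊥ → ⁅P, X⁆ = P := by
    intro hC0
    have := Coprime.commutator_sup_inf_centralizer hXP hcXP (Or.inl hXs)
    rwa [hPX hC0, sup_bot_eq] at this
  -- `P` centralizes the Frattini subgroup
  have hΦ : (frattini Q).map Q.subtype ≤ centralizer (P : Set G) := by
    refine le_centralizer_iff.mp (hchar _ inferInstance fun e => hQ0 ?_)
    have h := frattini_nongenerating (K := (⊥ : Subgroup Q)) (by rw [e, sup_top_eq])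
    have : Subsingleton Q := subsingleton_iff.mp (subsingleton_of_bot_eq_top h)
    exact eq_bot_of_subsingleton Q
  have hpow : ∀ x ∈ Q, x ^ q ∈ centralizer (P : Set G) := fun x hx =>
    hΦ ⟨(⟨x, hx⟩ : Q) ^ q, Solvable.Basics.pow_mem_frattini hQ _, rfl⟩
  have hder : ⁅Q, Q⁆ ≤ centralizer (P : Set G) := by
    rw [← map_subtype_commutator]
    exact (map_mono (Coprime.commutator_le_frattini Q)).trans hΦ
  by_cases hab : IsMulCommutative Q
  · -- abelian case
    have hCQP : Q ⊓ centralizer (P : Set G) = ⊥ := by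
      have h := Coprime.inf_centralizer_inf_commutator hPQ hcPQ
      rwa [hcomm, inf_eq_left.mpr inf_le_left] at h
    have hE : IsElementaryAbelian q Q := ⟨hab, fun x hx => by
      have h : x ^ q ∈ Q ⊓ centralizer (P : Set G) := ⟨pow_mem hx q, hpow x hx⟩
      rwa [hCQP, mem_bot] at h⟩
    have S : Setting p q r V Q X :=
      ⟨hp, hq, hr, hpq, hpr, hqr, hV, hE, hX, hQV, hXV, hXQ, hCQ, hC⟩
    by_cases hC0 : V ⊓ centralizer (X : Set G) = ⊥
    · have h := S.le_centralizer (T := ⁅Q, X⁆) (Coprime.commutator_le_of_le_normalizer hXQ)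
        (fun _ => hV0) (fun M hM => (S.no_fixed_points hC0 hM).2)
      have h1 : ⁅Q, X⁆ = ⊥ :=
        le_bot_iff.mp ((le_inf (Coprime.commutator_le_of_le_normalizer hXQ) h).trans hCV.le)
      rw [Coprime.commutator_eq_bot_iff_le_centralizer'] at h1
      rw [inf_eq_left.mpr (le_centralizer_iff.mp h1)] at hQX
      exact hQc hQX
    have hP0 := hPX hC0
    have hLN : ∀ M, M ≤ Q → Q ≤ normalizer (M : Set G) := fun M hM => le_trans
      (fun g hg => mem_centralizer_iff.mpr fun m hm => Components.Hyperplane.mem_comm hE (hM hm) hg)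
      (centralizer_le_normalizer (M : Set G))
    have hconj : ∀ {M}, Relevant q V Q M → ∀ y ∈ P,
        Relevant q V Q (M.map (MulAut.conj y).toMonoidHom) :=
      fun hM y hy => relevant_conj hM (hPQ hy) (hPV hy)
    have hmoved : ∀ M, Relevant q V Q M → ¬ X ≤ normalizer (M : Set G) := by
      intro M hM hXM
      have hS : P ≤ normalizer (M : Set G) := by
        by_contra hnot
        set S₀ := P ⊓ normalizer (M : Set G) with hS₀
        have hXS : X ≤ normalizer (S₀ : Set G) :=
          le_trans (le_inf hXP (hXM.trans le_normalizer)) inf_normalizer_le_normalizer_inf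
        have hcS : (Nat.card X).Coprime (Nat.card S₀) :=
          hcXP.coprime_dvd_right (card_dvd_of_le inf_le_left)
        have := hP.isNilpotent
        have hlt : S₀.subgroupOf P < ⊤ := by
          rw [lt_top_iff_ne_top, Ne, subgroupOf_eq_top]
          exact fun h => hnot (h.trans inf_le_right)
        obtain ⟨⟨y, hy⟩, hyN, hyS⟩ :=
          SetLike.exists_of_lt (Group.normalizerCondition_of_isNilpotent _ hlt)
        rw [mem_subgroupOf] at hyS
        have hyN' : y ∈ normalizer (S₀ : Set G) := by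
          refine mem_normalizer_fintype fun z hz => ?_
          exact (mem_normalizer_iff.mp hyN ⟨z, hz.1⟩).mp hz
        have hmv : ∀ z ∈ P, z ∉ S₀ →
            ¬ X ≤ normalizer ((M.map (MulAut.conj z).toMonoidHom : Subgroup G) : Set G) := by
          intro z hz hzS hXz
          refine hzS (mem_of_fixed_coset hXS hcS hXs inf_le_left hP0 hz fun g hg => mem_inf.mpr ⟨?_, ?_⟩)
          · exact mul_mem (inv_mem hz) (Coprime.FrobeniusPGroup.conj_mem_of_mem_normalizer (hXP hg) hz)
          · rw [← map_conj_eq_self_iff, map_conj_mul, map_conj_mul, map_conj_mul,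
              map_conj_eq_self_iff.mpr (inv_mem (hXM hg)), map_conj_eq_self_iff.mpr (hXz hg),
              map_conj_inv_cancel]
        obtain ⟨g, hg, he⟩ := S.one_orbit (hconj hM y hy) (Or.inl (hmv y hy hyS)) (hconj hM y⁻¹ (inv_mem hy))
          (Or.inl (hmv y⁻¹ (inv_mem hy) fun h => hyS (by simpa using inv_mem h)))
        have hgy : g * y * g⁻¹ ∈ P := Coprime.FrobeniusPGroup.conj_mem_of_mem_normalizer (hXP hg) hy
        have hu : y * (g * y * g⁻¹) ∈ S₀ := by
          refine mem_inf.mpr ⟨mul_mem hy hgy, ?_⟩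
          rw [← map_conj_eq_self_iff, map_conj_mul, map_conj_mul, map_conj_mul,
            map_conj_eq_self_iff.mpr (inv_mem (hXM hg)), he, ← map_conj_mul, mul_inv_cancel, map_conj_one]
        by_cases hg1 : g = 1
        · subst hg1
          have h2 : y ^ 2 ∈ S₀ := by simpa [sq] using hu
          obtain ⟨m, hm⟩ := exists_pow_eq_self_of_coprime (x := y) (n := 2) (by
            obtain ⟨k, hk⟩ := IsPGroup.iff_orderOf.mp hP ⟨y, hy⟩
            rw [orderOf_mk] at hk
            rw [hk]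
            exact ((Nat.coprime_primes Nat.prime_two hp).mpr (Ne.symm hp2)).pow_right k)
          have hm' : (y ^ 2) ^ m ∈ S₀ := pow_mem h2 m
          exact hyS (by rwa [hm] at hm')
        · have hu' : g * y * g⁻¹ * y ∈ S₀ := by
            have h := Coprime.FrobeniusPGroup.conj_mem_of_mem_normalizer (inv_mem hyN') hu
            rwa [show y⁻¹ * (y * (g * y * g⁻¹)) * y⁻¹⁻¹ = g * y * g⁻¹ * y by group] at h
          have hv : g * (y * (g * y * g⁻¹)) * g⁻¹ ∈ S₀ :=
            Coprime.FrobeniusPGroup.conj_mem_of_mem_normalizer (hXS hg) hu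
          have h2 : y⁻¹ * (g ^ 2 * y * (g ^ 2)⁻¹) ∈ S₀ := by
            rw [show y⁻¹ * (g ^ 2 * y * (g ^ 2)⁻¹) =
              (g * y * g⁻¹ * y)⁻¹ * (g * (y * (g * y * g⁻¹)) * g⁻¹) by rw [sq]; group]
            exact mul_mem (inv_mem hu') hv
          let F : Subgroup G :=
            { carrier := {a | a ∈ X ∧ y⁻¹ * (a * y * a⁻¹) ∈ S₀}
              one_mem' := ⟨one_mem _, by simp⟩
              mul_mem' := fun {a b} ha hb => ⟨mul_mem ha.1 hb.1, by
                rw [show y⁻¹ * (a * b * y * (a * b)⁻¹) =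
                  (y⁻¹ * (a * y * a⁻¹)) * (a * (y⁻¹ * (b * y * b⁻¹)) * a⁻¹) by group]
                exact mul_mem ha.2 (Coprime.FrobeniusPGroup.conj_mem_of_mem_normalizer (hXS ha.1) hb.2)⟩
              inv_mem' := fun {a} ha => ⟨inv_mem ha.1, by
                rw [show y⁻¹ * (a⁻¹ * y * a⁻¹⁻¹) = a⁻¹ * (y⁻¹ * (a * y * a⁻¹))⁻¹ * a⁻¹⁻¹ * 1 by group,
                  mul_one]
                exact Coprime.FrobeniusPGroup.conj_mem_of_mem_normalizer (hXS (inv_mem ha.1))
                  (inv_mem ha.2)⟩ }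
          have hgen : zpowers (g ^ 2) = X := by
            refine zpowers_eq_of_prime hXprime (pow_mem hg 2) fun h => hr2 ?_
            have ho := orderOf_dvd_of_pow_eq_one h
            rw [← Nat.card_zpowers, zpowers_eq_of_prime hXprime hg hg1, hX] at ho
            exact (Nat.prime_dvd_prime_iff_eq hr Nat.prime_two).mp ho
          have hXF : X ≤ F := hgen ▸ zpowers_le.mpr ⟨pow_mem hg 2, h2⟩
          exact hyS (mem_of_fixed_coset hXS hcS hXs inf_le_left hP0 hy fun a ha => (hXF ha).2)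
      have h := commutator_le_of_relIndex_prime hq hM.1 hM.2.1 (hLN M hM.1)
        (le_inf hS hPQ) (le_inf hXM hXQ)
      rw [hPcomm hC0, hcomm] at h
      exact hq.ne_one (hM.2.1.symm.trans (relIndex_eq_one.mpr h))
    by_cases hex : ∃ M, Relevant q V Q M
    swap
    · have h := S.le_centralizer (T := Q) le_rfl (fun _ => hV0) fun M hM => absurd ⟨M, hM⟩ hex
      exact hQ0 (le_bot_iff.mp ((le_inf le_rfl h).trans hCV.le))
    obtain ⟨M, hM⟩ := hex
    -- `P` fixes `M`
    set St := (P ⊔ X) ⊓ normalizer (M : Set G) with hSt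
    have hPXQ : P ⊔ X ≤ normalizer (Q : Set G) := sup_le hPQ hXQ
    have hPXV : P ⊔ X ≤ normalizer (V : Set G) := sup_le hPV hXV
    have hcov : ∀ g ∈ P ⊔ X, ∃ x ∈ X, x⁻¹ * g ∈ St := by
      intro g hg
      have hM' := relevant_conj hM (hPXQ hg) (hPXV hg)
      obtain ⟨x, hx, he⟩ := S.one_orbit hM (Or.inl (hmoved M hM)) hM' (Or.inl (hmoved _ hM'))
      refine ⟨x, hx, mem_inf.mpr ⟨mul_mem (inv_mem (mem_sup_right hx)) hg, ?_⟩⟩
      rw [← map_conj_eq_self_iff, map_conj_mul, ← he, map_conj_inv_cancel]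
    have hcard : Nat.card (P ⊔ X : Subgroup G) ≤ Nat.card X * Nat.card St := by
      rw [← Nat.card_prod]
      refine Nat.card_le_card_of_surjective
        (fun z : X × St => (⟨z.1 * z.2, mul_mem (mem_sup_right z.1.2) z.2.2.1⟩ : ↥(P ⊔ X))) ?_
      rintro ⟨g, hg⟩
      obtain ⟨x, hx, hxg⟩ := hcov g hg
      exact ⟨⟨⟨x, hx⟩, ⟨_, hxg⟩⟩, Subtype.ext (mul_inv_cancel_left x g)⟩
    rw [Coprime.card_sup_of_coprime hXP hcXP.symm, mul_comm] at hcard
    have hcard' : Nat.card P ≤ Nat.card St := Nat.le_of_mul_le_mul_left hcard Nat.card_pos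
    by_cases hdvd : Nat.card X ∣ Nat.card St
    · obtain ⟨u, hu, hle⟩ := exists_conj_le hXP hXprime inf_le_left hdvd hrP
      refine hmoved _ (hconj hM u hu) (hle.trans ?_)
      exact (map_mono inf_le_right).trans (le_normalizer_map _)
    have hPM : P ≤ normalizer (M : Set G) :=
      (eq_of_le_of_card_ge (le_of_not_dvd hXP hXprime inf_le_left hdvd hrP) hcard').ge.trans inf_le_right
    have hWc : Nat.card (weight V M) ≤ p := (S.contrib hM (Or.inl (hmoved M hM))).2 (hmoved M hM)
    have : IsCyclic (weight V M) := isCyclic_of_card_le hp (hVp.to_le inf_le_left) hWc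
    have hQW : Q ≤ normalizer ((weight V M : Subgroup G) : Set G) :=
      le_trans (le_inf hQV ((hLN M hM.1).trans (CharP.normalizer_le_normalizer_centralizer M)))
        inf_normalizer_le_normalizer_inf
    have hPW : P ≤ normalizer ((weight V M : Subgroup G) : Set G) :=
      le_trans (le_inf hPV (hPM.trans (CharP.normalizer_le_normalizer_centralizer M)))
        inf_normalizer_le_normalizer_inf
    have h := commute_action_of_cyclic hQW hPW
    rw [hcomm] at h
    exact hM.2.2 (le_bot_iff.mp ((le_inf inf_le_left (le_centralizer_iff.mp h)).trans hCQ.le))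
  -- nonabelian case
  set Z := Q ⊓ centralizer (Q : Set G) with hZ
  have hZeq : (center Q).map Q.subtype = Z := by
    ext g
    constructor
    · rintro ⟨⟨g, hg⟩, hgc, rfl⟩
      exact ⟨hg, mem_centralizer_iff.mpr fun u hu => congrArg Subtype.val (mem_center_iff.mp hgc ⟨u, hu⟩)⟩
    · rintro ⟨hg, hgc⟩
      exact ⟨⟨g, hg⟩, mem_center_iff.mpr fun u => Subtype.ext (mem_centralizer_iff.mp hgc u u.2), rfl⟩
  have hZP : Z ≤ centralizer (P : Set G) := by
    rw [← hZeq]
    refine le_centralizer_iff.mp (hchar _ inferInstance fun e => hab ⟨⟨fun a b => ?_⟩⟩)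
    exact mem_center_iff.mp (e ▸ mem_top b : b ∈ center Q) a
  have hD : Q ⊓ centralizer (P : Set G) ≤ Z := by
    refine le_inf inf_le_left ?_
    have h1 : ⁅⁅P, Q ⊓ centralizer (P : Set G)⁆, Q⁆ = ⊥ := by
      rw [commutator_comm P, commutator_eq_bot_iff_le_centralizer.mpr inf_le_right, commutator_bot_left]
    have h2 : ⁅⁅Q ⊓ centralizer (P : Set G), Q⁆, P⁆ = ⊥ :=
      commutator_eq_bot_iff_le_centralizer.mpr ((commutator_mono inf_le_left le_rfl).trans hder)
    have h3 := commutator_commutator_eq_bot_of_rotate h1 h2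
    rw [hcomm, commutator_eq_bot_iff_le_centralizer] at h3
    exact le_centralizer_iff.mp h3
  have hderZ : ⁅Q, Q⁆ ≤ Z := (le_inf (Coprime.commutator_le_of_le_normalizer le_normalizer) hder).trans hD
  have hpowZ : ∀ x ∈ Q, x ^ q ∈ Z := fun x hx => hD ⟨pow_mem hx q, hpow x hx⟩
  have hcent : ∀ z ∈ Z, ∀ u ∈ Q, Commute z u := fun z hz u hu => (mem_centralizer_iff.mp hz.2 u hu).symm
  have hcommQ : ∀ u ∈ Q, ∀ v ∈ Q, v * u * v⁻¹ * u⁻¹ ∈ Z := fun u hu v hv => by
    have := hderZ (commutator_mem_commutator hv hu)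
    rwa [commutatorElement_def] at this
  have hqmul : ∀ u ∈ Q, ∀ v ∈ Q, (u * v) ^ q = u ^ q * v ^ q := by
    intro u hu v hv
    set c := v * u * v⁻¹ * u⁻¹ with hc
    have hcu : Commute c u := hcent c (hcommQ u hu v hv) u hu
    have hv' : v * u * v⁻¹ = c * u := by rw [hc]; group
    have hcq : c ^ q = 1 := by
      have h1 : (c * u) ^ q = u ^ q := by
        rw [← hv', conj_pow, ← (hcent _ (hpowZ u hu) v hv).eq, mul_inv_cancel_right]
      rw [hcu.mul_pow] at h1
      simpa using h1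
    obtain ⟨k, hk⟩ := Nat.Prime.dvd_choose_self hq two_ne_zero
      (lt_of_le_of_ne hq.two_le (Ne.symm hq2))
    rw [OddLocal.Coprime.mul_pow_of_central_commutator hv' hcu (hcent c (hcommQ u hu v hv) v hv), hk, pow_mul,
      hcq, one_pow, one_mul]
  have hexp : ∀ x ∈ Q, x ^ q = 1 := by
    let F : Subgroup G :=
      { carrier := {x | x ∈ Q ∧ x ^ q = 1}
        one_mem' := ⟨one_mem _, one_pow q⟩
        mul_mem' := fun {a b} ha hb => ⟨mul_mem ha.1 hb.1, by rw [hqmul a ha.1 b hb.1, ha.2, hb.2, one_mul]⟩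
        inv_mem' := fun {a} ha => ⟨inv_mem ha.1, by rw [inv_pow, ha.2, inv_one]⟩ }
    have hF : Q ≤ F := by
      conv_lhs => rw [← hcomm]
      rw [commutator_le]
      intro a ha g hg
      refine ⟨Coprime.commutator_le_of_le_normalizer hPQ (commutator_mem_commutator ha hg), ?_⟩
      have h1 : g * a⁻¹ * g⁻¹ ∈ Q :=
        Coprime.FrobeniusPGroup.conj_mem_of_mem_normalizer (hPQ hg) (inv_mem ha)
      rw [show ⁅a, g⁆ = a * (g * a⁻¹ * g⁻¹) by rw [commutatorElement_def]; group,
        hqmul a ha _ h1, conj_pow, inv_pow, mem_centralizer_iff.mp (inv_mem (hpow a ha)) g hg,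
        mul_inv_cancel_right, mul_inv_cancel]
    exact fun x hx => (hF hx).2
  have hZel : IsElementaryAbelian q Z := ⟨⟨⟨fun a b => Subtype.ext
    (hcent a a.2 b b.2.1).eq⟩⟩, fun z hz => hexp z hz.1⟩
  have hXZ : X ≤ normalizer (Z : Set G) :=
    le_trans (le_inf hXQ (hXQ.trans (CharP.normalizer_le_normalizer_centralizer Q)))
      inf_normalizer_le_normalizer_inf
  have hQZ : Q ≤ normalizer (Z : Set G) :=
    le_trans (le_inf le_normalizer (le_normalizer.trans (CharP.normalizer_le_normalizer_centralizer Q)))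
      inf_normalizer_le_normalizer_inf
  have hQnt : Nontrivial Q := (nontrivial_iff_ne_bot Q).mpr hQ0
  have hZ0 : Z ≠ ⊥ := by
    rw [← hZeq, Ne, Subgroup.map_eq_bot_iff_of_injective _ Q.subtype_injective]
    have := hQ.center_nontrivial
    exact (nontrivial_iff_ne_bot _).mp this
  have hder0 : ⁅Q, Q⁆ ≠ ⊥ := fun e => hab ⟨⟨fun a b => Subtype.ext <| by
    rw [commutator_eq_bot_iff_le_centralizer] at e
    exact (mem_centralizer_iff.mp (e a.2) b b.2).symm⟩⟩
  -- a module without fixed points of a subgroup of the centre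
  have hsetting : ∀ E : Subgroup G, E ≤ Z → E ≠ ⊥ → X ≤ normalizer (E : Set G) →
      Setting p q r ⁅V, E⁆ E X ∧ ⁅V, E⁆ ≠ ⊥ ∧
        (∀ T : Subgroup G, T ≤ E → T ≤ centralizer ((⁅V, E⁆ : Subgroup G) : Set G) → T = ⊥) := by
    intro E hEZ hE0 hXE
    have hEV : E ≤ normalizer (V : Set G) := hEZ.trans (inf_le_left.trans hQV)
    have hle : ⁅V, E⁆ ≤ V := Coprime.commutator_le_of_le_normalizer hEV
    have hcEV : (Nat.card E).Coprime (Nat.card V) :=
      hcVQ.coprime_dvd_left (card_dvd_of_le (hEZ.trans inf_le_left))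
    have hT : ∀ T : Subgroup G, T ≤ E → T ≤ centralizer ((⁅V, E⁆ : Subgroup G) : Set G) → T = ⊥ := by
      intro T hTE hT
      refine le_bot_iff.mp ((le_inf (hTE.trans (hEZ.trans inf_le_left)) ?_).trans hCV.le)
      rw [le_centralizer_iff, ← Coprime.commutator_sup_inf_centralizer hEV hcEV (Or.inr
        (Coprime.isSolvable_of_isMulCommutative V))]
      exact sup_le (le_centralizer_iff.mp hT) (inf_le_right.trans (centralizer_le hTE))
    refine ⟨⟨hp, hq, hr, hpq, hpr, hqr, Components.Hyperplane.isElementaryAbelian_of_le hV hle,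
      Components.Hyperplane.isElementaryAbelian_of_le hZel hEZ, hX,
      fun e he => Coprime.FrobeniusPGroup.mem_normalizer_commutator (hEV he) (le_normalizer he),
      fun x hx => Coprime.FrobeniusPGroup.mem_normalizer_commutator (hXV hx) (hXE hx), hXE, ?_, ?_⟩, ?_, hT⟩
    · refine le_bot_iff.mp ?_
      rw [← Coprime.inf_centralizer_inf_commutator hEV hcEV]
      exact le_inf (le_inf (inf_le_left.trans hle) inf_le_right) inf_le_left
    · exact (card_le_of_le (inf_le_inf_right _ hle)).trans hC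
    · intro e
      refine hE0 (hT E le_rfl ?_)
      rw [e]
      intro g _
      simp [mem_centralizer_iff]
  by_cases hC0 : V ⊓ centralizer (X : Set G) = ⊥
  · obtain ⟨S, hV'0, hT⟩ := hsetting Z le_rfl hZ0 hXZ
    have hC0' : ⁅V, Z⁆ ⊓ centralizer (X : Set G) = ⊥ := le_bot_iff.mp (hC0 ▸ inf_le_inf_right _
      (Coprime.commutator_le_of_le_normalizer (inf_le_left.trans hQV)))
    have hle := Coprime.commutator_le_of_le_normalizer hXZ
    have h1 := hT _ hle (S.le_centralizer hle (fun _ => hV'0) fun M hM => (S.no_fixed_points hC0' hM).2)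
    rw [Coprime.commutator_eq_bot_iff_le_centralizer'] at h1
    have hZX : Z ≤ Q ⊓ centralizer (X : Set G) := le_inf inf_le_left (le_centralizer_iff.mp h1)
    have hcQX : Nat.card (Q ⊓ centralizer (X : Set G) : Subgroup G) ≤ q :=
      card_le_of_cyclic hq.pos fun w hw => hexp w hw.1
    have hqle : q ≤ Nat.card Z := by
      obtain ⟨z, hz, hz1⟩ := (bot_or_exists_ne_one _).resolve_left hZ0
      rw [← orderOf_eq_prime (hexp z hz.1) hz1]
      exact Nat.le_of_dvd Nat.card_pos (Z.orderOf_dvd_natCard hz)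
    have hQXZ : Z = Q ⊓ centralizer (X : Set G) := eq_of_le_of_card_ge hZX (hcQX.trans hqle)
    have hcZ : Nat.card (center Q) = q := by
      rw [← card_map_of_injective Q.subtype_injective (K := center Q), hZeq]
      exact le_antisymm ((card_le_of_le hZX).trans hcQX) hqle
    have hes : IsExtraspecial q Q := by
      refine ⟨⟨hQ, ?_, ?_⟩, hcZ⟩
      · refine eq_of_le_prime (hcZ.symm ▸ hq) ?_ fun e => hder0 ?_
        · rw [← map_subtype_le_map_subtype, hZeq]
          exact (le_inf (map_subtype_le _) hΦ).trans hD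
        · rw [← map_subtype_commutator, eq_bot_iff]
          exact (map_mono (Coprime.commutator_le_frattini Q)).trans (by rw [e, Subgroup.map_bot])
      · refine eq_of_le_prime (hcZ.symm ▸ hq) ?_ fun e => hder0 ?_
        · rw [← map_subtype_le_map_subtype, hZeq, map_subtype_commutator]
          exact hderZ
        · rw [← map_subtype_commutator, e, Subgroup.map_bot]
    refine hq2 (ExtraspecialFixed.fixed_exception hp hq hr hpq hpr hqr X Q V hX hes hXQ (hZeq ▸ hQXZ.symm) hV hXV hQV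
      ?_ hC0).1
    by_contra hne
    set K := (X ⊔ Q) ⊓ centralizer (V : Set G) with hK
    by_cases hd : Nat.card X ∣ Nat.card K
    · obtain ⟨u, hu, hle'⟩ := exists_conj_le hXQ hXprime (inf_le_left.trans (sup_comm X Q).le) hd hrQ
      have hXC : X ≤ centralizer (V : Set G) := by
        refine hle'.trans ((map_mono inf_le_right).trans (le_of_eq ?_))
        exact map_conj_eq_self_iff.mpr (CharP.normalizer_le_normalizer_centralizer V (hQV hu))
      exact hV0 (le_bot_iff.mp (hC0 ▸ le_inf le_rfl (le_centralizer_iff.mp hXC)))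
    · refine hne (le_bot_iff.mp (hCV ▸ le_inf ?_ inf_le_right))
      exact le_of_not_dvd hXQ hXprime (inf_le_left.trans (sup_comm X Q).le) hd hrQ
  -- an element fixed by `X` outside the centre
  have hP0 := hPX hC0
  obtain ⟨x, hxX, hx1⟩ := (bot_or_exists_ne_one X).resolve_left (fun e => by
    rw [e, card_bot] at hX; exact hr.ne_one hX.symm)
  have hgenX : zpowers x = X := zpowers_eq_of_prime hXprime hxX hx1
  obtain ⟨c, hc, hcZ⟩ : ∃ c ∈ Q ⊓ centralizer (X : Set G), c ∉ Z := by
    by_contra hno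
    push Not at hno
    have hPXQ : P ⊔ X ≤ normalizer (Q : Set G) := sup_le hPQ hXQ
    let φ : ↥(P ⊔ X) →* MulAut Q := Q.normalizerMonoidHom.comp (inclusion hPXQ)
    have hφc : ∀ g, (center Q).map (φ g : Q ≃* Q).toMonoidHom = center Q := fun g =>
      characteristic_iff_map_eq.mp inferInstance _
    let ψ : ↥(P ⊔ X) →* MulAut (Q ⧸ center Q) :=
      { toFun := fun g => QuotientGroup.congr (center Q) (center Q) (φ g) (hφc g)
        map_one' := MulEquiv.ext fun w => by
          induction w using QuotientGroup.induction_on with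
          | H u => simp
        map_mul' := fun g h => MulEquiv.ext fun w => by
          induction w using QuotientGroup.induction_on with
          | H u =>
            show QuotientGroup.mk (φ (g * h) u) = QuotientGroup.mk (φ g (φ h u))
            rw [map_mul, MulAut.mul_apply] }
    have hψ : ∀ g u, ψ g (QuotientGroup.mk u) = QuotientGroup.mk (φ g u) := fun g u => rfl
    let : CommGroup (Q ⧸ center Q) := { (inferInstance : Group (Q ⧸ center Q)) with
      mul_comm := fun a b => by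
        induction a using QuotientGroup.induction_on with
        | H u =>
          induction b using QuotientGroup.induction_on with
          | H v =>
            rw [← QuotientGroup.mk_mul, ← QuotientGroup.mk_mul, QuotientGroup.eq]
            obtain ⟨w, hw, hwe⟩ := hZeq.ge (hderZ (commutator_mem_commutator (inv_mem v.2) (inv_mem u.2)))
            have e : (u * v)⁻¹ * (v * u) = w := Subtype.ext (by
              rw [show ((w : Q) : G) = _ from hwe]
              simp only [coe_mul, coe_inv, commutatorElement_def]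
              group)
            rw [e]
            exact hw }
    have hlift : ∀ (A : Subgroup G), A ≤ P ⊔ X → (Nat.card A).Coprime (Nat.card Q) →
        Q ⊓ centralizer (A : Set G) ≤ Z → ∀ u : Q,
        (∀ (a : G) (ha : a ∈ P ⊔ X), a ∈ A → ψ ⟨a, ha⟩ (QuotientGroup.mk u) = QuotientGroup.mk u) →
        (QuotientGroup.mk u : Q ⧸ center Q) = 1 := by
      intro A hA hcop hle u hfix
      obtain ⟨w, hw, hwu⟩ := Coprime.exists_fixed_mod (A := A) (K := Q) (N := Z) hcop (Or.inr hQsol)
        inf_le_left hQZ (hA.trans ((sup_le hPQ hXQ).trans (le_trans (le_inf le_rfl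
          (CharP.normalizer_le_normalizer_centralizer Q)) inf_normalizer_le_normalizer_inf))) u.2
        (fun a ha => by
          have h := hfix a (hA ha) ha
          rw [hψ, eq_comm, QuotientGroup.eq] at h
          have h' : (u : G)⁻¹ * (a * u * a⁻¹) ∈ Z := hZeq.le ⟨_, h, rfl⟩
          have e : a * (u : G) * a⁻¹ * (u : G)⁻¹ = (u : G)⁻¹ * (a * u * a⁻¹) := by
            calc a * (u : G) * a⁻¹ * (u : G)⁻¹ = (u : G) * ((u : G)⁻¹ * (a * u * a⁻¹)) * (u : G)⁻¹ := by group
              _ = _ := by rw [← (hcent _ h' u u.2).eq, mul_inv_cancel_right]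
          rw [e]
          exact h')
      rw [QuotientGroup.eq_one_iff]
      obtain ⟨v, hv, hve⟩ := hZeq.ge (show (u : G) ∈ Z by
        have h := mul_mem (hle hw) (inv_mem hwu)
        simpa using h)
      rwa [← Subtype.ext hve]
    have hbr : (⟨x, mem_sup_right hxX⟩ : ↥(P ⊔ X)) ^ r = 1 := Subtype.ext (by
      show x ^ r = 1
      rw [← hX, ← hgenX, Nat.card_zpowers, pow_orderOf_eq_one])
    have hall : ∀ w : Q ⧸ center Q, w ∈ (⊥ : Subgroup (Q ⧸ center Q)) := fun w => by
      refine Coprime.FrobeniusPGroup.mem_of_norms (p := r) ψ (P.subgroupOf (P ⊔ X))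
        ⟨x, mem_sup_right hxX⟩ hbr (fun g hg => ?_) (fun g hg h => ?_) ?_ ⊥
        (fun _ _ v hv => by rw [mem_bot] at hv ⊢; rw [hv, map_one]) (fun v => ?_) (fun v hv => ?_) w
      · exact mem_subgroupOf.mpr (Coprime.FrobeniusPGroup.conj_mem_of_mem_normalizer (hXP hxX) hg)
      · have h' : (g : G) ∈ P ⊓ centralizer (X : Set G) := ⟨hg, by
          refine mem_centralizer_iff.mpr fun a ha => ?_
          obtain ⟨n, rfl⟩ := mem_zpowers_iff.mp (hgenX.ge ha)
          exact (Commute.zpow_left (show Commute x (g : G) from congrArg Subtype.val h) n).eq⟩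
        rw [hP0, mem_bot] at h'
        exact Subtype.ext h'
      · rw [Nat.card_congr (subgroupOfEquivOfLe le_sup_left).toEquiv]
        exact hcPQ.coprime_dvd_right (card_quotient_dvd_card _)
      · rw [mem_bot]
        obtain ⟨u, hu⟩ := QuotientGroup.mk_surjective
          (∏ i ∈ Finset.range r, ψ ((⟨x, mem_sup_right hxX⟩ : ↥(P ⊔ X)) ^ i) v)
        rw [← hu]
        refine hlift X le_sup_right hcXQ (fun z hz => hno z hz) u fun a ha haX => ?_
        obtain ⟨n, rfl⟩ : ∃ n : ℕ, x ^ n = a := mem_powers_iff_mem_zpowers.mpr (hgenX.ge haX)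
        have h1 : ψ ⟨x, mem_sup_right hxX⟩ (QuotientGroup.mk u) = QuotientGroup.mk u := by
          rw [hu, map_prod]
          have hshift : ∀ i : ℕ, ψ ⟨x, mem_sup_right hxX⟩ (ψ ((⟨x, mem_sup_right hxX⟩ : ↥(P ⊔ X)) ^ i) v) =
              ψ ((⟨x, mem_sup_right hxX⟩ : ↥(P ⊔ X)) ^ (i + 1)) v := fun i => by
            rw [pow_succ', map_mul, MulAut.mul_apply]
          simp only [hshift]
          have h2 := Finset.prod_range_succ' (fun i => ψ ((⟨x, mem_sup_right hxX⟩ : ↥(P ⊔ X)) ^ i) v) r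
          rw [Finset.prod_range_succ, hbr, pow_zero] at h2
          exact (mul_right_cancel h2).symm
        show ψ ((⟨x, mem_sup_right hxX⟩ : ↥(P ⊔ X)) ^ n) _ = _
        induction n with
        | zero => rw [pow_zero, map_one, MulAut.one_apply]
        | succ n ih =>
          rw [pow_succ, map_mul, MulAut.mul_apply, h1]
          exact ih (pow_mem (mem_sup_right hxX) n) (pow_mem hxX n)
      · obtain ⟨u, rfl⟩ := QuotientGroup.mk_surjective v
        exact hlift P le_sup_left hcPQ hD u fun a ha haP => hv ⟨a, ha⟩ haP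
    refine hab ⟨⟨fun a b => ?_⟩⟩
    exact mem_center_iff.mp ((QuotientGroup.eq_one_iff b).mp (mem_bot.mp (hall _))) a
  have hc1 : c ≠ 1 := fun e => hcZ (e ▸ one_mem Z)
  have hco : orderOf c = q := orderOf_eq_prime (hexp c hc.1) hc1
  have hcyc : zpowers c = Q ⊓ centralizer (X : Set G) := eq_of_le_of_card_ge (zpowers_le.mpr hc) (by
    rw [Nat.card_zpowers, hco]
    exact card_le_of_cyclic hq.pos fun w hw => hexp w hw.1)
  have hczp : (Nat.card (zpowers c)).Prime := by rw [Nat.card_zpowers, hco]; exact hq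
  have hcZ' : ∀ z ∈ zpowers c, z ∈ Z → z = 1 := by
    intro z hz hzZ
    by_contra hz1
    exact hcZ (zpowers_le.mpr hzZ ((zpowers_eq_of_prime hczp hz hz1).ge (mem_zpowers c)))
  set E := ⁅Q, Q⁆ with hE
  have hEQ : E ≤ Q := hderZ.trans inf_le_left
  have hXE : X ≤ normalizer (E : Set G) := OddLocal.Coprime.le_normalizer_commutator_self hXQ
  obtain ⟨S, hV'0, hT⟩ := hsetting E hderZ hder0 hXE
  have hEX : ∀ e ∈ E, e ∈ centralizer (X : Set G) → e = 1 := fun e he hec =>
    hcZ' e (hcyc.ge ⟨hEQ he, hec⟩) (hderZ he)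
  have hEcomm : ⁅E, X⁆ = E := by
    have h := Coprime.commutator_sup_inf_centralizer hXE (hcXQ.coprime_dvd_right (card_dvd_of_le hEQ))
      (Or.inl hXs)
    rwa [(Subgroup.eq_bot_iff_forall _).mpr fun e he => hEX e (mem_inf.mp he).1 (mem_inf.mp he).2, sup_bot_eq] at h
  have hQV' : Q ≤ normalizer ((⁅V, E⁆ : Subgroup G) : Set G) := fun u hu =>
    Coprime.FrobeniusPGroup.mem_normalizer_commutator (hQV hu)
      (OddLocal.Coprime.le_normalizer_commutator_self le_normalizer hu)
  have hVV' : ⁅V, E⁆ ≤ V := Coprime.commutator_le_of_le_normalizer (hEQ.trans hQV)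
  have hfixed : ∀ M, Relevant q ⁅V, E⁆ E M →
      X ≤ normalizer (M : Set G) ∧ Contributes ⁅V, E⁆ E X M := by
    intro M hM
    have hct : Contributes ⁅V, E⁆ E X M := Or.inr fun h => by
      rw [hEcomm] at h
      exact hq.ne_one (hM.2.1.symm.trans (relIndex_eq_one.mpr h))
    refine ⟨?_, hct⟩
    by_contra hXM
    have hWc := (S.contrib hM hct).2 hXM
    have hWcyc : IsCyclic (weight ⁅V, E⁆ M) :=
      isCyclic_of_card_le hp (hVp.to_le (inf_le_left.trans hVV')) hWc
    have hQW : Q ≤ normalizer ((weight ⁅V, E⁆ M : Subgroup G) : Set G) := by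
      refine le_trans (le_inf hQV' (le_trans ?_ (CharP.normalizer_le_normalizer_centralizer M)))
        inf_normalizer_le_normalizer_inf
      refine le_trans ?_ (centralizer_le_normalizer (M : Set G))
      exact fun u hu => mem_centralizer_iff.mpr fun m hm => (hcent m (hderZ (hM.1 hm)) u hu).eq
    exact hM.2.2 (le_bot_iff.mp ((le_inf inf_le_left
      (le_centralizer_iff.mp (@commute_action_of_cyclic G _ (weight ⁅V, E⁆ M) hWcyc Q Q hQW hQW))).trans S.hCE.le))
  by_cases hex : ∃ M, Relevant q ⁅V, E⁆ E M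
  swap
  · exact hder0 (hT E le_rfl (S.le_centralizer le_rfl (fun _ => hV'0) fun M hM => absurd ⟨M, hM⟩ hex))
  obtain ⟨M₀, hM₀⟩ := hex
  have huniq : ∀ M, Relevant q ⁅V, E⁆ E M → M₀ ≤ M := by
    intro M hM
    obtain ⟨y, hy, he⟩ := S.one_orbit hM₀ (hfixed _ hM₀).2 hM (hfixed _ hM).2
    rw [← he, map_conj_eq_self_iff.mpr ((hfixed _ hM₀).1 hy)]
  have hM₀0 : M₀ = ⊥ := hT M₀ hM₀.1 (S.le_centralizer hM₀.1 (fun _ => hV'0) huniq)
  have hEq : Nat.card E = q := by
    have h := hM₀.2.1
    rwa [hM₀0, relIndex_bot_left] at h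
  have hEprime : (Nat.card E).Prime := hEq ▸ hq
  -- the elementary abelian group of order `q²`
  set E₂ := E ⊔ zpowers c with hE₂
  have hE₂Q : E₂ ≤ Q := sup_le hEQ (zpowers_le.mpr hc.1)
  have hcE : zpowers c ≤ normalizer (E : Set G) :=
    (zpowers_le.mpr hc.1).trans (OddLocal.Coprime.le_normalizer_commutator_self le_normalizer)
  have hE₂el : IsElementaryAbelian q E₂ := by
    refine ⟨⟨⟨fun a b => Subtype.ext ?_⟩⟩, fun a ha => hexp a (hE₂Q ha)⟩
    have hle : E₂ ≤ centralizer (E₂ : Set G) := by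
      refine sup_le (hderZ.trans (inf_le_right.trans (centralizer_le hE₂Q))) ?_
      rw [zpowers_le, mem_centralizer_iff]
      intro g hg
      obtain ⟨e, he, z, hz, rfl⟩ := (Coprime.mem_sup_of_le_normalizer hcE).mp hg
      obtain ⟨n, rfl⟩ := mem_zpowers_iff.mp hz
      exact (Commute.mul_left (hcent e (hderZ he) c hc.1) ((Commute.refl c).zpow_left n)).eq
    exact (mem_centralizer_iff.mp (hle a.2) b b.2).symm
  have hdisj : Disjoint E (zpowers c) :=
    disjoint_def.mpr fun {a} (he : a ∈ E) hz => hcZ' a hz (hderZ he)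
  have hE₂card : Nat.card E₂ = q * q := by
    rw [hE₂, Coprime.card_sup_of_disjoint hcE hdisj, hEq, Nat.card_zpowers, hco]
  have hXE₂ : X ≤ normalizer (E₂ : Set G) := by
    intro g hg
    rw [mem_normalizer_iff_map_conj_eq, hE₂, Subgroup.map_sup, MonoidHom.map_zpowers,
      mem_normalizer_iff_map_conj_eq.mp (hXE hg)]
    simp [mem_centralizer_iff.mp hc.2 g hg]
  have S₂ : Setting p q r ⁅V, E⁆ E₂ X :=
    ⟨hp, hq, hr, hpq, hpr, hqr, S.hV, hE₂el, hX, hE₂Q.trans hQV', S.hXV, hXE₂,
      le_bot_iff.mp ((inf_le_inf_left _ (centralizer_le (SetLike.coe_subset_coe.mpr (show E ≤ E₂ from le_sup_left)))).trans S.hCE.le), S.hC⟩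
  by_cases hex2 : ∃ D, Relevant q ⁅V, E⁆ E₂ D
  swap
  · exact hder0 (hT E le_rfl (le_sup_left.trans
      (S₂.le_centralizer le_rfl (fun _ => hV'0) fun M hM => absurd ⟨M, hM⟩ hex2)))
  obtain ⟨D, hD'⟩ := hex2
  have hDcard : Nat.card D = q := by
    have h := relIndex_mul_relIndex ⊥ D E₂ bot_le hD'.1
    rw [relIndex_bot_left, relIndex_bot_left, hD'.2.1, hE₂card] at h
    exact Nat.eq_of_mul_eq_mul_right hq.pos h
  obtain ⟨d, hd, hd1⟩ := (bot_or_exists_ne_one D).resolve_left (fun e => by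
    rw [e, card_bot] at hDcard; exact hq.ne_one hDcard.symm)
  have hDgen : zpowers d = D := zpowers_eq_of_prime (hDcard ▸ hq) hd hd1
  obtain ⟨e₁, he₁, c', hc', rfl⟩ := (Coprime.mem_sup_of_le_normalizer hcE).mp (hD'.1 hd)
  have hc'1 : c' ≠ 1 := by
    rintro rfl
    rw [mul_one] at hd hd1 hDgen
    refine hD'.2.2 ?_
    rw [← hDgen, zpowers_eq_of_prime hEprime he₁ hd1]
    exact S.hCE
  have hc'Q : c' ∈ Q := (hcyc.le hc').1
  have hc'o : orderOf c' = q := orderOf_eq_prime (hexp c' hc'Q) hc'1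
  obtain ⟨u, hu, hue⟩ : ∃ u ∈ Q, u * c' * u⁻¹ * c'⁻¹ ≠ 1 := by
    by_contra hno
    push Not at hno
    exact hc'1 (hcZ' c' hc' ⟨hc'Q, mem_centralizer_iff.mpr fun v hv =>
      mul_inv_eq_iff_eq_mul.mp (mul_inv_eq_one.mp (hno v hv))⟩)
  set e₀ := u * c' * u⁻¹ * c'⁻¹ with he₀
  have he₀E : e₀ ∈ E := by
    have := commutator_mem_commutator hu hc'Q
    rwa [commutatorElement_def] at this
  have hgenE : zpowers e₀ = E := zpowers_eq_of_prime hEprime he₀E hue
  have hrel : ∀ e ∈ E, Relevant q ⁅V, E⁆ E₂ (zpowers (e * c')) := by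
    intro e he
    obtain ⟨k, hk⟩ : ∃ k : ℕ, e₀ ^ k = e₁⁻¹ * e :=
      mem_powers_iff_mem_zpowers.mpr (hgenE.ge (mul_mem (inv_mem he₁) he))
    have huE₂ : u ^ k ∈ normalizer (E₂ : Set G) := by
      refine pow_mem ?_ k
      rw [mem_normalizer_iff_map_conj_eq]
      refine eq_of_le_of_card_ge ?_ (card_map_of_injective (MulAut.conj u).injective).ge
      rw [hE₂, Subgroup.map_sup, MonoidHom.map_zpowers,
        mem_normalizer_iff_map_conj_eq.mp (OddLocal.Coprime.le_normalizer_commutator_self le_normalizer hu)]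
      refine sup_le le_sup_left (zpowers_le.mpr ?_)
      show u * c * u⁻¹ ∈ _
      rw [show u * c * u⁻¹ = u * c * u⁻¹ * c⁻¹ * c by group]
      refine mul_mem (mem_sup_left ?_) (mem_sup_right (mem_zpowers c))
      have := commutator_mem_commutator hu hc.1
      rwa [commutatorElement_def] at this
    have h := relevant_conj hD' huE₂ (pow_mem (hQV' hu) k)
    rw [← hDgen, MonoidHom.map_zpowers] at h
    have hcc := OddLocal.Coprime.pow_conj_of_central_commutator (u := c') (v := u) (c := e₀)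
      (show u * c' * u⁻¹ = e₀ * c' by rw [he₀]; group) (hcent e₀ (hderZ he₀E) u hu) k
    have heq : u ^ k * (e₁ * c') * (u ^ k)⁻¹ = e * c' := by
      have h1 := (hcent e₁ (hderZ he₁) _ (pow_mem hu k)).eq
      calc u ^ k * (e₁ * c') * (u ^ k)⁻¹ = e₁ * (u ^ k * c') * (u ^ k)⁻¹ := by
            rw [← mul_assoc (u ^ k) e₁ c', ← h1, mul_assoc e₁ (u ^ k) c']
        _ = _ := by rw [hcc, hk]; group
    rwa [show (MulAut.conj (u ^ k)).toMonoidHom (e₁ * c') = e * c' from heq] at h
  have hsolve : ∀ e ∈ E, ∀ e' ∈ E, e' * c' ∈ zpowers (e * c') → e' = e := by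
    intro e he e' he' h
    obtain ⟨j, hj⟩ := mem_zpowers_iff.mp h
    rw [(hcent e (hderZ he) c' hc'Q).mul_zpow] at hj
    have h1 : e'⁻¹ * e ^ j = c' * (c' ^ j)⁻¹ := by
      calc e'⁻¹ * e ^ j = e'⁻¹ * (e ^ j * c' ^ j) * (c' ^ j)⁻¹ := by group
        _ = _ := by rw [hj]; group
    have h2 : c' * (c' ^ j)⁻¹ = 1 :=
      disjoint_def.mp hdisj (h1 ▸ mul_mem (inv_mem he') (zpow_mem he j))
        (mul_mem hc' (inv_mem (zpow_mem hc' j)))
    rw [mul_inv_eq_one] at h2
    have h3 : e ^ j = e := by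
      by_cases he1 : e = 1
      · rw [he1, one_zpow]
      have := (zpow_eq_zpow_iff_modEq (x := c') (m := j) (n := 1)).mp (by rw [zpow_one]; exact h2.symm)
      conv_rhs => rw [← zpow_one e]
      rw [zpow_eq_zpow_iff_modEq, orderOf_eq_prime (hexp e (hEQ he)) he1, ← hc'o]
      exact this
    rw [← h2, mul_inv_cancel, h3, inv_mul_eq_one] at h1
    exact h1
  have hconjc : ∀ g ∈ X, ∀ e : G, g * (e * c') * g⁻¹ = g * e * g⁻¹ * c' := by
    intro g hg e
    have h := mem_centralizer_iff.mp (hcyc.le hc').2 g hg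
    calc g * (e * c') * g⁻¹ = g * e * g⁻¹ * (g * c') * g⁻¹ := by group
      _ = _ := by rw [h]; group
  have hmv2 : ∀ e ∈ E, e ≠ 1 → ¬ X ≤ normalizer ((zpowers (e * c') : Subgroup G) : Set G) := by
    intro e he he1 h
    refine he1 (hEX e he (mem_centralizer_iff.mpr fun g hg => ?_))
    have hge : g * e * g⁻¹ ∈ E := (mem_normalizer_iff.mp (hXE hg) e).mp he
    have h1 := (mem_normalizer_iff.mp (h hg) _).mp (mem_zpowers (e * c'))
    rw [hconjc g hg] at h1
    exact mul_inv_eq_iff_eq_mul.mp (hsolve e he _ hge h1)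
  obtain ⟨e, he, he1⟩ := (bot_or_exists_ne_one E).resolve_left hder0
  obtain ⟨y, hy, hye⟩ := S₂.one_orbit (hrel e he) (Or.inl (hmv2 e he he1)) (hrel e⁻¹ (inv_mem he))
    (Or.inl (hmv2 e⁻¹ (inv_mem he) (by simpa using he1)))
  have hyE : y * e * y⁻¹ = e⁻¹ := by
    refine hsolve e⁻¹ (inv_mem he) _ ((mem_normalizer_iff.mp (hXE hy) e).mp he) ?_
    rw [← hconjc y hy, ← hye]
    exact mem_map_of_mem _ (mem_zpowers _)
  by_cases hy1 : y = 1
  · rw [hy1, one_mul, inv_one, mul_one] at hyE
    have h2 : e ^ 2 = 1 := by rw [sq]; nth_rewrite 1 [hyE]; rw [inv_mul_cancel]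
    have ho := orderOf_dvd_of_pow_eq_one h2
    rw [orderOf_eq_prime (hexp e (hEQ he)) he1] at ho
    exact hq2 ((Nat.prime_dvd_prime_iff_eq hq Nat.prime_two).mp ho)
  · have hgen : zpowers (y ^ 2) = X := by
      refine zpowers_eq_of_prime hXprime (pow_mem hy 2) fun h => hr2 ?_
      have ho := orderOf_dvd_of_pow_eq_one h
      rw [← Nat.card_zpowers, zpowers_eq_of_prime hXprime hy hy1, hX] at ho
      exact (Nat.prime_dvd_prime_iff_eq hr Nat.prime_two).mp ho
    refine he1 (hEX e he ?_)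
    rw [← hgen, zpowers_eq_closure, centralizer_closure, mem_centralizer_singleton_iff]
    refine (mul_inv_eq_iff_eq_mul.mp ?_).symm
    calc y ^ 2 * e * (y ^ 2)⁻¹ = y * (y * e * y⁻¹) * y⁻¹ := by rw [sq]; group
      _ = y * e⁻¹ * y⁻¹ := by rw [hyE]
      _ = (y * e * y⁻¹)⁻¹ := by group
      _ = e := by rw [hyE, inv_inv]

end Cfsg.Agent.OddLocal.ZGroupCore
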