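import Cfsg.Agent.OddLocal.PrimeActionMain
import Cfsg.Agent.OddLocal.ZGroupCore
import Cfsg.Agent.OddLocal.SigmaMeet

/-! `σ(M)` and `σ(H)` are disjoint for nonconjugate maximal subgroups (BG 13.9). -/

set_option autoImplicit false
set_option linter.unusedSectionVars false

namespace Cfsg.Agent.OddLocal.SigmaPartition

open Cfsg Subgroup PrimeAction
open scoped commutatorElement Pointwise
open TauTwo (Ctx centralizer_zpowers mem_zpowers_of_cyclic)
open Cfsg.Agent.Transfer.Fusion (map_conj_mul card_map_conj map_conj_eq_self_iff map_conj_inv_cancel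
  map_conj_le_iff coe_smul_eq_map map_conj_one)

variable {G : Type*} [Group G] [Finite G] {M H : Subgroup G} {p q t : ℕ} [hp : Fact p.Prime]
  [hq : Fact q.Prime] [ht : Fact t.Prime] {Q : Sylow q G}

/-- Detection of the action of `Q` on a `t`-group by the fixed points of order `t` of `P`. -/
theorem le_centralizer_of_fixed_order (hG : IsMinSimpleOddOrder G) (hpt : p ≠ t) (hqt : q ≠ t)
    (ht2 : t ≠ 2) {P Y T : Subgroup G} (hP : Nat.card P = p) (hY : IsPGroup q Y)
    (hPY : P ≤ normalizer (Y : Set G)) (hfpf : ∀ y ∈ Y, y ∈ centralizer (P : Set G) → y = 1)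
    (hT : IsPGroup t T) (hYT : Y ≤ normalizer (T : Set G)) (hPT : P ≤ normalizer (T : Set G))
    (hfix : ∀ x ∈ T, x ^ t = 1 → x ∈ centralizer (P : Set G) → x ∈ centralizer (Y : Set G)) :
    Y ≤ centralizer (T : Set G) := by
  obtain ⟨C, hCT, hCexp, hNC, hdet⟩ := FrobeniusFixGroup.exists_exponent_sub ht2 hT
  refine hdet Y hYT ?_ ?_
  · obtain ⟨n, hn⟩ := hY.exists_card_eq
    rw [hn]
    exact ((Nat.coprime_primes hq.out ht.out).mpr hqt).pow_left n
  obtain ⟨e, he, -, hep, hPe⟩ := exists_zpowers_eq hP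
  have hCp : IsPGroup t C := hT.to_le hCT
  refine FrobeniusFixGroup.le_centralizer_of_fpf hep (hPY he)
    (fun y hy hey => hfpf y hy (hPe ▸ ?_)) (Coprime.isSolvable_of_isPGroup hCp)
    (hP ▸ coprime_pgroups (p := p) (q := t) hpt.symm hCp (isPGroup_of_card hP))
    (coprime_pgroups (p := q) (q := t) hqt.symm hCp hY) (hNC (hPT he)) (hYT.trans hNC) ?_
  · exact centralizer_zpowers e ▸ mem_centralizer_singleton_iff.mpr hey.symm.eq
  intro x hx hex y hy
  exact mem_centralizer_iff.mp (hfix x (hCT hx) (hCexp x hx)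
    (hPe ▸ centralizer_zpowers e ▸ mem_centralizer_singleton_iff.mpr hex.symm.eq)) y hy

/-- Two nonconjugate maximal subgroups with the normaliser of a common Sylow subgroup. -/
structure Setup (M H : Subgroup G) (Q : Sylow q G) : Prop where
  hG : IsMinSimpleOddOrder G
  hM : IsCoatom M
  hH : IsCoatom H
  hne : ∀ g : G, H ≠ M.map (MulAut.conj g).toMonoidHom
  hqM : q ∈ sigma M
  hqH : q ∈ sigma H
  hNM : normalizer ((Q : Subgroup G) : Set G) ≤ M
  hNH : normalizer ((Q : Subgroup G) : Set G) ≤ H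

theorem Setup.symm (h : Setup M H Q) : Setup H M Q :=
  ⟨h.hG, h.hH, h.hM, ne_symm h.hne, h.hqH, h.hqM, h.hNH, h.hNM⟩

theorem Setup.hQM (h : Setup M H Q) : (Q : Subgroup G) ≤ M := le_normalizer.trans h.hNM

theorem Setup.not_tau2 (h : Setup M H Q) {r : ℕ} : r ∉ tau2 M := fun hτ => by
  have := Fact.mk hτ.1
  obtain ⟨E, hE⟩ := Compl.exists_compl h.hG h.hM
  obtain ⟨A, -, hc⟩ := SigmaCompl.exists_ctx h.hG h.hM hE hτ
  obtain ⟨g, hg⟩ := conj_of_nilpotent h.hG h.hH h.hM h.hqH h.hqM hc.sigmaCore_nilpotent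
  exact ne_symm h.hne g hg

theorem Setup.rank_one (h : Setup M H Q) {r : ℕ} (hr : r.Prime) (hrσ : r ∉ sigma M) : PRankLE r 1 M :=
  by_contra fun h2 => h.not_tau2 ⟨hr, hrσ, SigmaCompl.rank_le h.hG h.hM hr hrσ, h2⟩

theorem Setup.isCyclic_sylow (h : Setup M H Q) {E : Subgroup G} (hE : IsComplIn E (sigmaCore M) M) :
    IsZGroup E := by
  refine ⟨fun r hr S => ?_⟩
  have := Fact.mk hr
  by_cases hd : r ∣ Nat.card E
  · have := Compl.isCyclic_of_rankOne h.hG (h.rank_one hr (Compl.not_sigma h.hG h.hM hE hr hd))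
      (S.isPGroup'.map E.subtype) ((map_subtype_le _).trans hE.1)
    exact isCyclic_of_surjective _
      ((S : Subgroup E).equivMapOfInjective E.subtype E.subtype_injective).symm.surjective
  · have : (S : Subgroup E) = ⊥ := by_contra fun hne =>
      hd ((dvd_card_of_ne_bot S.isPGroup' hne).trans (card_subgroup_dvd_card _))
    rw [this]; exact isCyclic_of_subsingleton

theorem Setup.centralizes (h : Setup M H Q) {x : G} (hx : x ∈ sigmaCore M)
    (hxN : x ∈ normalizer ((Q : Subgroup G) : Set G)) : x ∈ centralizer ((Q : Subgroup G) : Set G) := by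
  have hQK := Sigma.sylow_le_sigmaCore h.hG h.hM h.hqM Q.isPGroup' h.hQM
  refine mem_centralizer_iff.mpr fun y hy => ?_
  have hmem : ⁅y, x⁆ ∈ (Q : Subgroup G) ⊓ ⁅sigmaCore M, sigmaCore M⁆ := by
    refine mem_inf.mpr ⟨?_, commutator_mem_commutator (hQK hy) hx⟩
    have := mul_mem hy ((mem_normalizer_iff.mp hxN _).mp (inv_mem hy))
    simpa [commutatorElement_def, mul_assoc] using this
  have hbot : (Q : Subgroup G) ⊓ ⁅sigmaCore M, sigmaCore M⁆ = ⊥ := by_contra fun hne =>
    not_dvd_commutator h.hG h.hH h.hM (ne_symm h.hne) h.hqH h.hqM (Q.isPGroup'.to_le inf_le_left) hne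
      inf_le_right
  rw [hbot, mem_bot] at hmem
  exact commutatorElement_eq_one_iff_mul_comm.mp hmem

/-- A complement inside `N(Q)`. -/
theorem Setup.exists_compl (h : Setup M H Q) {A : Subgroup G}
    (hA : A ≤ normalizer ((Q : Subgroup G) : Set G))
    (hAσ : ∀ r : ℕ, r.Prime → r ∣ Nat.card A → r ∉ sigma M) :
    ∃ E : Subgroup G, IsComplIn E (sigmaCore M) M ∧ A ≤ E ∧ E ≤ normalizer ((Q : Subgroup G) : Set G) := by
  set N := normalizer ((Q : Subgroup G) : Set G) with hN
  have : Group.IsSolvable N :=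
    Coprime.isSolvable_of_le h.hNM (Transitivity.isSolvable_of_ne_top h.hG h.hM.1)
  obtain ⟨B, hB, hAB⟩ := Hall.exists_le_hall (G := N) (π := {r | r ∉ sigma M}) (U := A.subgroupOf N)
    (fun r hr hd => hAσ r hr (by rwa [Nat.card_congr (subgroupOfEquivOfLe hA).toEquiv] at hd))
  set B' := B.map N.subtype with hB'
  have hB'card : Nat.card B' = Nat.card B := card_map_of_injective N.subtype_injective
  obtain ⟨E, hE, hBE⟩ := Compl.exists_compl_ge h.hG h.hM ((map_subtype_le B).trans h.hNM)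
    fun r hr hd => hB.1 r hr (hB'card ▸ hd)
  have hEσ : ∀ r : ℕ, r.Prime → r ∣ Nat.card E → r ∉ sigma M := fun r hr hd =>
    Compl.not_sigma h.hG h.hM hE hr hd
  have hMle : M ≤ alphaCore M ⊔ N :=
    NonabelianUnique.le_of_frattini h.hG h.hM h.hqM Q h.hQM le_sup_left le_sup_right
  have h1 : Nat.card E ∣ Nat.card N := by
    refine (Nat.Coprime.dvd_of_dvd_mul_left ?_ (((card_dvd_of_le hE.1).trans (card_dvd_of_le hMle)).trans
      (RegularMain.card_sup_dvd (h.hNM.trans (Sigma.le_normalizer_alphaCore M)))))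
    exact Nat.coprime_of_dvd fun r hr hd1 hd2 => not_dvd_alphaCore hr
      (fun hα => hEσ r hr hd1 (Sigma.alpha_subset_sigma h.hG h.hM hα)) hd2
  have h2 : Nat.card E ∣ Nat.card B' := by
    rw [hB'card]
    refine Nat.Coprime.dvd_of_dvd_mul_right ?_ ((card_mul_index B).symm ▸ h1)
    exact Nat.coprime_of_dvd fun r hr hd1 hd2 => hB.2 r hr (hEσ r hr hd1) hd2
  have hEB : B' = E := eq_of_le_of_card_ge hBE (Nat.le_of_dvd Nat.card_pos h2)
  exact ⟨E, hE, fun a ha => hEB ▸ ⟨⟨a, hA ha⟩, hAB (mem_subgroupOf.mpr ha), rfl⟩,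
    hEB ▸ map_subtype_le _⟩

/-- `E'` centralises `Q`. -/
theorem Setup.commutator_le_centralizer (h : Setup M H Q) {E : Subgroup G}
    (hE : IsComplIn E (sigmaCore M) M) (hEN : E ≤ normalizer ((Q : Subgroup G) : Set G)) :
    ⁅E, E⁆ ≤ centralizer ((Q : Subgroup G) : Set G) := by
  have hQc := comm_of_two_sigma h.hG h.hM h.hH h.hne h.hqM h.hqH Q.isPGroup'
  let W : Subgroup G :=
    { carrier := {x | x ∈ (Q : Subgroup G) ∧ x ^ q = 1}
      one_mem' := ⟨one_mem _, one_pow q⟩
      mul_mem' := fun {x y} hx hy => ⟨mul_mem hx.1 hy.1, by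
        rw [(show Commute x y from setLike_mul_comm hx.1 hy.1).mul_pow, hx.2, hy.2, one_mul]⟩
      inv_mem' := fun {x} hx => ⟨inv_mem hx.1, by rw [inv_pow, hx.2, inv_one]⟩ }
  have hWQ : W ≤ (Q : Subgroup G) := fun x hx => hx.1
  have hWe : IsElementaryAbelian q W :=
    ⟨⟨⟨fun x y => Subtype.ext (setLike_mul_comm (hWQ x.2) (hWQ y.2))⟩⟩, fun x hx => hx.2⟩
  have hW2 : Nat.card W ∣ q ^ 2 := by
    obtain ⟨n, hn⟩ := (Q.isPGroup'.to_le hWQ).exists_card_eq
    rw [hn]
    refine Nat.pow_dvd_pow q ?_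
    by_contra hn2
    refine Unique.not_pRankLE_of_elementary (hWQ.trans h.hQM) hWe
      (hn ▸ Nat.pow_le_pow_right hq.out.pos (by omega))
      (by_contra fun h3 => not_alpha h.hG h.hM h.hH h.hne h.hqH ⟨hq.out, h3⟩)
  set N := normalizer (W : Set G) with hN
  have hEW : E ≤ N := by
    rw [le_normalizer_iff]
    exact fun e he x hx => ⟨(mem_normalizer_iff.mp (hEN he) x).mp hx.1,
      by rw [conj_pow, hx.2, mul_one, mul_inv_cancel]⟩
  let _ : CommGroup W := { (inferInstance : Group W) with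
    mul_comm := fun a b => Subtype.ext (Components.Hyperplane.mem_comm hWe a.2 b.2) }
  let φ : N →* MulAut W := W.normalizerMonoidHom
  have hcop : (Nat.card ↥⁅E, E⁆).Coprime (Nat.card (Q : Subgroup G)) := by
    obtain ⟨n, hn⟩ := Q.isPGroup'.exists_card_eq
    rw [hn]
    exact (((hq.out.coprime_iff_not_dvd.mpr fun hd =>
      Compl.not_sigma h.hG h.hM hE hq.out hd h.hqM).pow_left n).symm).coprime_dvd_left
      (card_dvd_of_le (commutator_le_self E))
  refine Coprime.le_centralizer_of_prime_order_abelian ((commutator_le_self E).trans hEN) hcop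
    fun v hv hvo a ha => ?_
  have hvq : v ∈ W := ⟨hv, by
    have := (Cores.isPi_iff_isPGroup (Q : Subgroup G)).mpr Q.isPGroup' (orderOf v) hvo
      ((Q : Subgroup G).orderOf_dvd_natCard hv)
    rw [← orderOf_dvd_iff_pow_eq_one, Set.mem_singleton_iff.mp this]⟩
  have hc : a ∈ ⁅N, N⁆ := commutator_mono hEW hEW ha
  rw [← map_subtype_commutator] at hc
  obtain ⟨c', hc', rfl⟩ := hc
  obtain ⟨k, hk⟩ := (AutRankTwo.elementary_aut
    (Unique.ne_two h.hG h.hqM.2.1)
    (fun v : W => Subtype.ext (hWe.2 _ v.2)) hW2 (Sigma.odd_card h.hG N) φ).1 c' hc'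
  have hco : (orderOf c').Coprime q := by
    rw [← orderOf_coe]
    exact (hq.out.coprime_iff_not_dvd.mpr fun hd => Compl.not_sigma h.hG h.hM hE hq.out
      (hd.trans (E.orderOf_dvd_natCard (commutator_le_self E ha))) h.hqM).symm
  have hc1 : φ c' = 1 := orderOf_eq_one_iff.mp (Nat.eq_one_of_dvd_coprimes (hco.pow_right k)
    (orderOf_map_dvd φ c') (orderOf_dvd_of_pow_eq_one hk))
  exact mul_inv_eq_iff_eq_mul.mp (show (c' : G) * v * (c' : G)⁻¹ = v from
    congrArg Subtype.val (DFunLike.congr_fun hc1 (⟨v, hvq⟩ : W)))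

/-- BG 13.9 (first half): elements of order `p ∈ τ₁(M)` act without fixed points on `Q`. -/
theorem Setup.fpf (h : Setup M H Q) {E : Subgroup G} (hE : IsComplIn E (sigmaCore M) M)
    (hEN : E ≤ normalizer ((Q : Subgroup G) : Set G)) (hpσ : p ∉ sigma M)
    (hpM : ¬ p ∣ Nat.card ↥⁅M, M⁆) {P : Subgroup G} (hPE : P ≤ E) (hP : Nat.card P = p) :
    ∀ y ∈ (Q : Subgroup G), y ∈ centralizer (P : Set G) → y = 1 := by
  have hG := h.hG
  have hM := h.hM
  set C := (Q : Subgroup G) ⊓ centralizer (P : Set G) with hC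
  have hQK := Sigma.sylow_le_sigmaCore hG hM h.hqM Q.isPGroup' h.hQM
  have hCK : C ≤ sigmaCore M ⊓ centralizer (P : Set G) := inf_le_inf_right _ hQK
  set B := E ⊓ centralizer (P : Set G) with hB
  have hBC : B ≤ centralizer (C : Set G) := by
    rw [← subgroupOf_eq_top]
    refine Cores.eq_top_of_sylow_le fun r hr hd => ?_
    have := Fact.mk hr
    have hrσ : r ∉ sigma M := Compl.not_sigma hG hM hE hr (hd.trans (card_dvd_of_le inf_le_left))
    obtain ⟨S⟩ : Nonempty (Sylow r B) := inferInstance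
    set S' := (S : Subgroup B).map B.subtype with hS'
    have hS'B : S' ≤ B := map_subtype_le _
    have hS'p : IsPGroup r S' := S.isPGroup'.map _
    have hS'M : S' ≤ M := hS'B.trans (inf_le_left.trans hE.1)
    have hS'c := Compl.isCyclic_of_rankOne hG (h.rank_one hr hrσ) hS'p hS'M
    obtain ⟨x, hx⟩ := exists_prime_orderOf_dvd_card' r (show r ∣ Nat.card S' by
      rw [hS', card_map_of_injective B.subtype_injective]; exact S.dvd_card_of_dvd_card hd)
    have hX : Nat.card (zpowers (x : G)) = r := by rw [Nat.card_zpowers, orderOf_coe, hx]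
    have h1 := le_centralizer_of_tau1 hG hM hpM hpσ (h.rank_one hp.out hpσ) (hPE.trans hE.1) hP
      (zpowers_le.mpr (hS'M x.2)) hX hrσ (zpowers_le.mpr (mem_inf.mp (hS'B x.2)).2)
    have h2 := le_centralizer_of_cyclic hG hM hrσ (h.rank_one hr hrσ) hX hS'p hS'c
      (zpowers_le.mpr x.2) hS'M
    have h3 : C ≤ centralizer (S' : Set G) :=
      (le_inf (hCK.trans inf_le_left) (hCK.trans h1)).trans h2
    exact ⟨S, fun y hy => mem_subgroupOf.mpr (le_centralizer_iff.mp h3 (mem_map_of_mem _ hy))⟩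
  have hD := h.commutator_le_centralizer hE hEN
  have hDC : ⁅E, E⁆ ≤ centralizer (C : Set G) := hD.trans (Subgroup.centralizer_le inf_le_left)
  have hEC : E ≤ centralizer (C : Set G) := by
    intro e he
    set D := ⁅E, E⁆ with hDdef
    have hDE : D ≤ E := commutator_le_self E
    have hEDn : E ≤ normalizer (D : Set G) := Coprime.le_normalizer_commutator_self le_normalizer
    have hDP : E ≤ normalizer ((D ⊔ P : Subgroup G) : Set G) := by
      rw [le_normalizer_iff]
      intro a ha b hb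
      have : a * b * a⁻¹ = ⁅a, b⁆ * b := by rw [commutatorElement_def, inv_mul_cancel_right]
      rw [this]
      exact mul_mem (mem_sup_left (commutator_mem_commutator ha ((sup_le hDE hPE) hb))) hb
    have hpD : ¬ p ∣ Nat.card D := fun hd => hpM (hd.trans (card_dvd_of_le (commutator_mono hE.1 hE.1)))
    obtain ⟨x, hx, hxe⟩ := Coprime.exists_conj_eq_of_sup_eq (N := D) (H := P.map (MulAut.conj e).toMonoidHom)
      (K := P) (by
        rintro _ ⟨b, hb, rfl⟩
        exact hEDn (mul_mem (mul_mem he (hPE hb)) (inv_mem he))) (hPE.trans hEDn) (by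
        conv_rhs => rw [← map_conj_eq_self_iff.mpr (hDP he)]
        rw [Subgroup.map_sup, map_conj_eq_self_iff.mpr (hEDn he)])
      (by rw [card_map_conj, hP]; exact (hp.out.coprime_iff_not_dvd.mpr hpD).symm)
      (by rw [hP]; exact (hp.out.coprime_iff_not_dvd.mpr hpD).symm)
      (Or.inr (Coprime.isSolvable_of_isPGroup ((isPGroup_of_card hP).map _)))
    rw [Coprime.conj_smul_eq_map, ← map_conj_mul] at hxe
    set n := x * e with hn
    have hnE : n ∈ E := mul_mem (hDE hx) he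
    have hnC : n ∈ centralizer (P : Set G) := mem_centralizer_iff.mpr fun b hb => by
      have h1 : n * b * n⁻¹ ∈ P := hxe ▸ ⟨b, hb, rfl⟩
      have h2 : n * b * n⁻¹ * b⁻¹ ∈ D ⊓ P := mem_inf.mpr
        ⟨by simpa [commutatorElement_def] using commutator_mem_commutator hnE (hPE hb),
          mul_mem h1 (inv_mem hb)⟩
      rw [disjoint_iff.mp (Coprime.disjoint_of_coprime (N := D) (H := P)
        (by rw [hP]; exact (hp.out.coprime_iff_not_dvd.mpr hpD).symm)), mem_bot, mul_inv_eq_one,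
        mul_inv_eq_iff_eq_mul] at h2
      exact h2.symm
    have : e = x⁻¹ * n := by rw [hn, inv_mul_cancel_left]
    rw [this]
    exact mul_mem (inv_mem (hDC hx)) (hBC (mem_inf.mpr ⟨hnE, hnC⟩))
  intro y hy hyP
  have hyC : y ∈ C := mem_inf.mpr ⟨hy, hyP⟩
  by_contra hy1
  refine not_dvd_commutator hG h.hH hM (ne_symm h.hne) h.hqH h.hqM
    (Q.isPGroup'.to_le (inf_le_left : C ≤ _)) (fun e => hy1 (mem_bot.mp (e ▸ hyC))) ?_
  exact (le_inf (hCK.trans inf_le_left) (le_centralizer_iff.mp hEC)).trans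
    (SigmaMeet.inf_centralizer_compl_le hG hM hE)

/-- The fixed points of `P` on `M_α`. -/
theorem Setup.exists_side (h : Setup M H Q) {E P L : Subgroup G} (hE : IsComplIn E (sigmaCore M) M)
    (hEN : E ≤ normalizer ((Q : Subgroup G) : Set G)) (hpσ : p ∉ sigma M)
    (hpM : ¬ p ∣ Nat.card ↥⁅M, M⁆) (hPE : P ≤ E) (hP : Nat.card P = p) (hL : IsCoatom L)
    (hNP : normalizer (P : Set G) ≤ L) :
    ∃ s : ℕ, ∃ X : Subgroup G, s.Prime ∧ s ∈ beta M ∧ PRankLE s 1 L ∧ Nat.card X = s ∧
      X ≤ M ∧ X ≤ centralizer (P : Set G) := by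
  have hG := h.hG
  have hM := h.hM
  have hqα : q ∉ alpha M := not_alpha hG hM h.hH h.hne h.hqH
  have hαne := alphaCore_ne_bot hG hM h.hH h.hne h.hqM h.hqH
  obtain ⟨s, hs, hsd⟩ := Nat.exists_prime_and_dvd (fun e => hαne (card_eq_one.mp e))
  have := Fact.mk hs
  have hsα : s ∈ alpha M := Transitivity.isPi_piCoreOf (alpha M) M s hs hsd
  have hsσ : s ∈ sigma M := Sigma.alpha_subset_sigma hG hM hsα
  have hPQ : P ≤ normalizer ((Q : Subgroup G) : Set G) := hPE.trans hEN
  set U := (Q : Subgroup G) ⊔ P with hU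
  have hUM : U ≤ M := sup_le h.hQM (hPE.trans hE.1)
  have hcop : (Nat.card U).Coprime (Nat.card (alphaCore M)) := Nat.coprime_of_dvd fun r hr hd1 hd2 => by
    rcases hr.dvd_mul.mp (hd1.trans (RegularMain.card_sup_dvd hPQ)) with h1 | h1
    · exact not_dvd_alphaCore hr ((Cores.isPi_iff_isPGroup _).mpr Q.isPGroup' r hr h1 ▸ hqα) hd2
    · exact not_dvd_alphaCore hr (fun h' => hpσ
        ((Nat.prime_dvd_prime_iff_eq hr hp.out).mp (hP ▸ h1) ▸ Sigma.alpha_subset_sigma hG hM h')) hd2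
  obtain ⟨T₀, hUT⟩ := Coprime.exists_invariant_sylow s (hUM.trans (Sigma.le_normalizer_alphaCore M)) hcop
    (Or.inl (Coprime.isSolvable_of_le hUM (Transitivity.isSolvable_of_ne_top hG hM.1)))
  set T := (T₀ : Subgroup (alphaCore M)).map (alphaCore M).subtype with hT
  have hQT : (Q : Subgroup G) ≤ normalizer (T : Set G) := le_sup_left.trans hUT
  have hTM : T ≤ M := (map_subtype_le _).trans (Sigma.alphaCore_le M)
  have hTK : T ≤ sigmaCore M := (map_subtype_le _).trans (Sigma.alphaCore_le_sigmaCore hG hM)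
  have hTp : IsPGroup s T := T₀.isPGroup'.map _
  have hmove : ¬ (Q : Subgroup G) ≤ centralizer (T : Set G) := fun hle => by
    obtain ⟨g, hg⟩ := conj_of_rankThree hG hM h.hH hsα.2 fun h3 => sylow_alpha_rank hG hM hsα T₀
      (RankTwoFitting.pRankLE_mono ((le_centralizer_iff.mp hle).trans
        ((centralizer_le_normalizer _).trans h.hNH)) h3)
    exact h.hne g hg
  have hsp : s ≠ p := fun e => hpσ (e ▸ hsσ)
  have hsq : s ≠ q := fun e => hqα (e ▸ hsα)
  have hK := Sigma.sigmaCore_le_commutator hG hM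
  have hβ : s ∈ beta M := by_contra fun hβ => hmove (le_centralizer_iff.mp
    (le_centralizer_of_not_beta hG hM hsq.symm hβ hTp Q.isPGroup' (hTK.trans hK)
      ((Sigma.sylow_le_sigmaCore hG hM h.hqM Q.isPGroup' h.hQM).trans hK) hQT))
  have hsL : s ∉ sigma L := fun hs' => by
    obtain ⟨g, hg⟩ := conj_of_rankThree hG hM hL hsα.2 (rank_of_sigma hs' hsα.2)
    exact not_conj hG hL hpσ (h.rank_one hp.out hpσ) hP hNP g hg
  have hrank : PRankLE s 1 L := by_contra fun h2 =>
    (S1408.result hG L hL s hsL (SigmaCompl.rank_le hG hL hs hsL) h2).1 hβ.2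
  by_contra hcon
  refine hmove (le_centralizer_of_fixed_order hG hsp.symm hsq.symm
    (Unique.ne_two hG hsσ.2.1) hP Q.isPGroup' hPQ
    (h.fpf hE hEN hpσ hpM hPE hP) hTp hQT (le_sup_right.trans hUT) fun x hx hxs hxP => ?_)
  by_contra hxQ
  have hx1 : x ≠ 1 := fun e => hxQ (e ▸ one_mem _)
  exact hcon ⟨s, zpowers x, hs, hβ, hrank, by rw [Nat.card_zpowers, orderOf_eq_prime hxs hx1],
    zpowers_le.mpr (hTM hx), zpowers_le.mpr hxP⟩

/-- An element of order `t ∈ α(H)` of `C_M(P)` is absurd. -/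
theorem Setup.side_contra (h : Setup M H Q) {E P L : Subgroup G} (hE : IsComplIn E (sigmaCore M) M)
    (hEN : E ≤ normalizer ((Q : Subgroup G) : Set G)) (hpσ : p ∉ sigma M)
    (hpM : ¬ p ∣ Nat.card ↥⁅M, M⁆) (hpH : p ∉ sigma H) (hPE : P ≤ E) (hP : Nat.card P = p)
    (hNP : normalizer (P : Set G) ≤ L) (htH : t ∈ alpha H) (hrank : PRankLE t 1 L) {z : G}
    (hzM : z ∈ M) (hzP : z ∈ centralizer (P : Set G)) (hzo : orderOf z = t) : False := by
  have hG := h.hG
  have hM := h.hM
  have htM : t ∉ sigma M := fun h' => not_alpha hG h.hH hM (ne_symm h.hne) h' htH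
  have hzN : zpowers z ≤ normalizer (P : Set G) :=
    (zpowers_le.mpr hzP).trans (centralizer_le_normalizer _)
  obtain ⟨m, hm, hle⟩ := Compl.exists_conj_le hG hM hE (A := P ⊔ zpowers z)
    (sup_le (hPE.trans hE.1) (zpowers_le.mpr hzM)) fun r hr hd => by
      rcases hr.dvd_mul.mp (hd.trans (RegularMain.card_sup_dvd hzN)) with h1 | h1
      · rwa [(Nat.prime_dvd_prime_iff_eq hr hp.out).mp (hP ▸ h1)]
      · rw [Nat.card_zpowers, hzo] at h1
        rwa [(Nat.prime_dvd_prime_iff_eq hr ht.out).mp h1]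
  rw [Subgroup.map_sup] at hle
  set P' := P.map (MulAut.conj m).toMonoidHom with hP'
  obtain ⟨S₁, hS₁⟩ := ((isPGroup_of_card hP).comap_subtype (K := E)).exists_le_sylow
  obtain ⟨S₂, hS₂⟩ := (((isPGroup_of_card hP).map (MulAut.conj m).toMonoidHom).comap_subtype
    (K := E)).exists_le_sylow
  obtain ⟨a, ha⟩ := MulAction.exists_smul_eq E S₂ S₁
  have hS₁c : IsCyclic ((S₁ : Subgroup E).map E.subtype : Subgroup G) :=
    Compl.isCyclic_of_rankOne hG (h.rank_one hp.out hpσ) (S₁.isPGroup'.map _)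
      ((map_subtype_le _).trans hE.1)
  set g : G := (a : G) * m with hg
  have hPg : P.map (MulAut.conj g).toMonoidHom = P := by
    have hle1 : P.map (MulAut.conj g).toMonoidHom ≤ (S₁ : Subgroup E).map E.subtype := by
      rw [hg, map_conj_mul]
      rintro _ ⟨x, hx, rfl⟩
      refine ⟨a * ⟨x, (le_sup_left.trans hle) hx⟩ * a⁻¹, ?_, rfl⟩
      rw [← ha, coe_smul_eq_map]
      exact ⟨_, hS₂ hx, rfl⟩
    obtain ⟨u, hu, hu1, hup, hPu⟩ := exists_zpowers_eq hP
    refine eq_of_le_of_card_ge ?_ (by rw [card_map_conj])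
    rintro _ ⟨x, hx, rfl⟩
    rw [← hPu]
    refine mem_zpowers_of_cyclic hS₁c ⟨⟨u, hPE hu⟩, hS₁ hu, rfl⟩ (hle1 ⟨x, hx, rfl⟩)
      (orderOf_eq_prime hup hu1) ?_
    rw [← map_pow, orderOf_dvd_iff_pow_eq_one.mp (hP ▸ P.orderOf_dvd_natCard hx), map_one]
  set z' : G := g * z * g⁻¹ with hz'
  have hz'E : z' ∈ E := by
    have h1 : m * z * m⁻¹ ∈ E := hle (mem_sup_right ⟨z, mem_zpowers z, rfl⟩)
    have h2 := mul_mem (mul_mem a.2 h1) (inv_mem a.2)
    rwa [show z' = (a : G) * (m * z * m⁻¹) * (a : G)⁻¹ from by rw [hz', hg]; group]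
  have hz'P : z' ∈ centralizer (P : Set G) := mem_centralizer_iff.mpr fun x hx => by
    obtain ⟨y, hy, rfl⟩ := hPg.ge hx
    have := mem_centralizer_iff.mp hzP y hy
    show g * y * g⁻¹ * (g * z * g⁻¹) = g * z * g⁻¹ * (g * y * g⁻¹)
    calc g * y * g⁻¹ * (g * z * g⁻¹) = g * (y * z) * g⁻¹ := by group
      _ = g * (z * y) * g⁻¹ := by rw [this]
      _ = _ := by group
  have hz'o : orderOf z' = t :=
    (orderOf_injective (MulAut.conj g).toMonoidHom (MulAut.conj g).injective z).trans hzo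
  have hz'1 : z' ≠ 1 := fun e => ht.out.ne_one (by rw [← hz'o, e, orderOf_one])
  have hz'p : IsPGroup t (zpowers z') := IsPGroup.of_card (n := 1) (by rw [Nat.card_zpowers, hz'o, pow_one])
  have hz'α : z' ∈ alphaCore H := Sigma.le_alphaCore hG h.hH (zpowers_le.mpr (h.hNH (hEN hz'E)))
    (fun r hr hd => by
      rw [Nat.card_zpowers, hz'o] at hd
      rwa [(Nat.prime_dvd_prime_iff_eq hr ht.out).mp hd]) (mem_zpowers z')
  have hz'Q : z' ∈ centralizer ((Q : Subgroup G) : Set G) :=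
    h.symm.centralizes (Sigma.alphaCore_le_sigmaCore hG h.hH hz'α) (hEN hz'E)
  have hqα : q ∉ alpha H := not_alpha hG h.hH hM (ne_symm h.hne) h.hqM
  set U := (Q : Subgroup G) ⊔ P with hU
  have hPQ : P ≤ normalizer ((Q : Subgroup G) : Set G) := hPE.trans hEN
  have hUH : U ≤ H := sup_le h.symm.hQM (hPQ.trans h.hNH)
  have hcop : (Nat.card U).Coprime (Nat.card (alphaCore H)) := Nat.coprime_of_dvd fun r hr hd1 hd2 => by
    rcases hr.dvd_mul.mp (hd1.trans (RegularMain.card_sup_dvd hPQ)) with h1 | h1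
    · exact not_dvd_alphaCore hr ((Cores.isPi_iff_isPGroup _).mpr Q.isPGroup' r hr h1 ▸ hqα) hd2
    · exact not_dvd_alphaCore hr (fun h' => hpH
        ((Nat.prime_dvd_prime_iff_eq hr hp.out).mp (hP ▸ h1) ▸ Sigma.alpha_subset_sigma hG h.hH h')) hd2
  have hUz : U ≤ normalizer (zpowers z' : Set G) := le_trans (show U ≤ centralizer (zpowers z' : Set G) by
    rw [centralizer_zpowers]
    exact sup_le (fun y hy => mem_centralizer_singleton_iff.mpr (mem_centralizer_iff.mp hz'Q y hy))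
      (fun y hy => mem_centralizer_singleton_iff.mpr (mem_centralizer_iff.mp hz'P y hy)))
    (centralizer_le_normalizer _)
  obtain ⟨T₀, hzT, hUT⟩ := Coprime.exists_invariant_sylow_ge (hUH.trans (Sigma.le_normalizer_alphaCore H)) hcop
    (Or.inl (Coprime.isSolvable_of_le hUH (Transitivity.isSolvable_of_ne_top hG h.hH.1)))
    (zpowers_le.mpr hz'α) hz'p hUz
  set T := (T₀ : Subgroup (alphaCore H)).map (alphaCore H).subtype with hT
  have hTp : IsPGroup t T := T₀.isPGroup'.map _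
  have htp : t ≠ p := fun e => hpH (e ▸ Sigma.alpha_subset_sigma hG h.hH htH)
  have htq : t ≠ q := fun e => hqα (e ▸ htH)
  have hCP : centralizer (P : Set G) ≤ L := (centralizer_le_normalizer _).trans hNP
  have hQC : (Q : Subgroup G) ≤ centralizer (T : Set G) :=
    le_centralizer_of_fixed_order hG htp.symm htq.symm
      (Unique.ne_two hG (Sigma.alpha_subset_sigma hG h.hH htH).2.1)
      hP Q.isPGroup' hPQ (h.fpf hE hEN hpσ hpM hPE hP) hTp (le_sup_left.trans hUT)
      (le_sup_right.trans hUT) fun x hx hxt hxP => (zpowers_le.mpr hz'Q) (mem_zpowers_of_cyclic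
        (Compl.isCyclic_of_rankOne hG hrank (hTp.to_le (inf_le_left : T ⊓ L ≤ T)) inf_le_right)
        (mem_inf.mpr ⟨hzT (mem_zpowers z'), hCP hz'P⟩) (mem_inf.mpr ⟨hx, hCP hxP⟩) hz'o hxt)
  obtain ⟨g', hg'⟩ := conj_of_rankThree hG h.hH hM htH.2 fun h3 => sylow_alpha_rank hG h.hH htH T₀
    (RankTwoFitting.pRankLE_mono ((le_centralizer_iff.mp hQC).trans
      ((centralizer_le_normalizer _).trans h.hNM)) h3)
  exact ne_symm h.hne g' hg'

theorem normalizer_le_of_beta (hG : IsMinSimpleOddOrder G) (hM : IsCoatom M) (hpβ : p ∈ beta M)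
    {X : Subgroup G} (hX : Nat.card X = p) (hXM : X ≤ M) : normalizer (X : Set G) ≤ M := by
  obtain ⟨L, hL, hNX⟩ := exists_normalizer_le hG (ne_bot_of_card hX) hXM hM
  have := ((SigmaElem.main hG hM (Sigma.alpha_subset_sigma hG hM hpβ.1) hXM hX (Or.inl hpβ)).1.2 L hL
    ((centralizer_le_normalizer _).trans hNX))
  exact this ▸ hNX

omit hp hq ht in
theorem sigma_disjoint (hG : IsMinSimpleOddOrder G) (hM : IsCoatom M) (hH : IsCoatom H)
    (hne : ∀ g : G, H ≠ M.map (MulAut.conj g).toMonoidHom) {q : ℕ} (hqM : q ∈ sigma M) :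
    q ∉ sigma H := by
  intro hqH
  have := Fact.mk hqM.1
  obtain ⟨Q, -, hNM⟩ := Sigma.exists_sylow_normalizer_le hqM
  obtain ⟨R, -, hNR⟩ := Sigma.exists_sylow_normalizer_le hqH
  obtain ⟨g, hg⟩ := MulAction.exists_smul_eq G R Q
  set H' := H.map (MulAut.conj g).toMonoidHom with hH'
  have h : Setup M H' Q := ⟨hG, hM, Unique.isCoatom_map_conj hH g,
    fun a ha => hne (g⁻¹ * a) (by rw [map_conj_mul, ← ha, hH', map_conj_inv_cancel]), hqM,
    sigma_map hqH g, hNM, by rw [← hg, coe_smul_eq_map, normalizer_map]; exact map_mono hNR⟩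
  obtain ⟨E, hE, -, hEN⟩ := h.exists_compl (A := ⊥) bot_le fun r hr hd => by
    rw [card_bot] at hd; exact absurd (Nat.dvd_one.mp hd) hr.ne_one
  have := h.isCyclic_sylow hE
  have hEtriv : Nontrivial E := by
    rw [nontrivial_iff_ne_bot]
    intro e
    have h1 := SigmaMeet.commutator_compl_eq hG hM hE
    rw [e, commutator_bot_right] at h1
    exact Sigma.sigmaCore_ne_bot hG hM h1.symm
  obtain ⟨p, hp, hpd⟩ := Nat.exists_prime_and_dvd (n := (commutator E).index)
    fun e => (IsZGroup.commutator_lt E).ne (index_eq_one.mp e)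
  have := Fact.mk hp
  have hpE : p ∣ Nat.card E := hpd.trans (index_dvd_card _)
  have hpσ : p ∉ sigma M := Compl.not_sigma hG hM hE hp hpE
  have hpM : ¬ p ∣ Nat.card ↥⁅M, M⁆ := fun hd => by
    have h1 := Compl.dvd_commutator hG hM hE hpσ hd
    rw [← map_subtype_commutator, card_map_of_injective E.subtype_injective] at h1
    exact (hp.coprime_iff_not_dvd.mp ((IsZGroup.coprime_commutator_index E).coprime_dvd_left h1)) hpd
  obtain ⟨u, hu⟩ := exists_prime_orderOf_dvd_card' p hpE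
  set P := zpowers (u : G) with hPdef
  have hP : Nat.card P = p := by rw [hPdef, Nat.card_zpowers, orderOf_coe, hu]
  have hPE : P ≤ E := zpowers_le.mpr u.2
  have hPN : P ≤ normalizer ((Q : Subgroup G) : Set G) := hPE.trans hEN
  have hpH : p ∉ sigma H' := fun hσ => by
    obtain ⟨x, hx, hx1, -, -⟩ := exists_zpowers_eq hP
    have hc := h.symm.centralizes (Sigma.sylow_le_sigmaCore hG h.hH hσ (isPGroup_of_card hP)
      (hPN.trans h.hNH) hx) (hPN hx)
    obtain ⟨y, hy, hy1⟩ := (bot_or_exists_ne_one (Q : Subgroup G)).resolve_left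
      (Q.ne_bot_of_dvd_card (hqM.2.1.trans (card_subgroup_dvd_card M)))
    refine hy1 (h.fpf hE hEN hpσ hpM hPE hP y hy ?_)
    have hle : P ≤ centralizer ((Q : Subgroup G) : Set G) := fun z hz =>
      h.symm.centralizes (Sigma.sylow_le_sigmaCore hG h.hH hσ (isPGroup_of_card hP)
        (hPN.trans h.hNH) hz) (hPN hz)
    exact le_centralizer_iff.mp hle hy
  have hpH' : ¬ p ∣ Nat.card ↥⁅H', H'⁆ := fun hd => hpH (Sigma.alpha_subset_sigma hG h.hH
    (mem_alpha hG hM h.hH h.hne h.hqM h.hqH hpM hd))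
  obtain ⟨E', hE', hPE', hEN'⟩ := h.symm.exists_compl hPN fun r hr hd => by
    rwa [(Nat.prime_dvd_prime_iff_eq hr hp).mp (hP ▸ hd)]
  obtain ⟨L, hL, hNP⟩ := exists_normalizer_le hG (ne_bot_of_card hP) (hPE.trans hE.1) hM
  obtain ⟨s, X, hs, hsβ, hsL, hX, hXM, hXP⟩ := h.exists_side hE hEN hpσ hpM hPE hP hL hNP
  obtain ⟨t, Y, ht, htβ, htL, hY, hYH, hYP⟩ := h.symm.exists_side hE' hEN' hpH hpH' hPE' hP hL hNP
  have := Fact.mk hs
  have := Fact.mk ht
  have hst : s ≠ t := fun e => by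
    subst e
    obtain ⟨a, ha⟩ := conj_of_rankThree hG hM h.hH hsβ.1.2 htβ.1.2
    exact h.hne a ha
  -- a Hall subgroup of `C(P)`
  set C := centralizer (P : Set G) with hC
  have hCL : C ≤ L := (centralizer_le_normalizer _).trans hNP
  have : Group.IsSolvable C := Coprime.isSolvable_of_le hCL (Transitivity.isSolvable_of_ne_top hG hL.1)
  have hπ : ∀ {Z : Subgroup G} {r : ℕ}, r.Prime → r ∈ ({s, t} : Set ℕ) → Nat.card Z = r → Z ≤ C →
      Cores.IsPi ({s, t} : Set ℕ) (Z.subgroupOf C) := fun {Z r} hr hrm hZ hZC k hk hd => by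
    rw [Nat.card_congr (subgroupOfEquivOfLe hZC).toEquiv, hZ] at hd
    rwa [(Nat.prime_dvd_prime_iff_eq hk hr).mp hd]
  obtain ⟨B₀, hB₀, hXB⟩ := Hall.exists_le_hall (π := ({s, t} : Set ℕ))
    (hπ hs (Or.inl rfl) hX hXP)
  obtain ⟨c, hc⟩ := Hall.exists_conj_le_hall hB₀ (hπ ht (Or.inr rfl) hY hYP)
  set B := B₀.map C.subtype with hB
  have hBC : B ≤ C := map_subtype_le _
  obtain ⟨x, hx, hx1, hxs, hXx⟩ := exists_zpowers_eq hX
  obtain ⟨y, hy, hy1, hyt, hYy⟩ := exists_zpowers_eq hY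
  set y' : G := ((c⁻¹ : C) : G) * y * ((c⁻¹ : C) : G)⁻¹ with hy'
  have hxB : x ∈ B := ⟨⟨x, hXP hx⟩, hXB (show (⟨x, hXP hx⟩ : C) ∈ X.subgroupOf C from hx), rfl⟩
  have hy'B : y' ∈ B := by
    have h1 := hc (show (⟨y, hYP hy⟩ : C) ∈ Y.subgroupOf C from hy)
    rw [Subgroup.mem_pointwise_smul_iff_inv_smul_mem] at h1
    exact ⟨_, h1, by simp [hy', MulAut.smul_def]⟩
  have hxo : orderOf x = s := orderOf_eq_prime hxs hx1
  have hy'o : orderOf y' = t := (orderOf_injective (MulAut.conj ((c⁻¹ : C) : G)).toMonoidHom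
    (MulAut.conj ((c⁻¹ : C) : G)).injective y).trans (orderOf_eq_prime hyt hy1)
  have hZB : IsZGroup B := by
    refine ⟨fun r hr S => ?_⟩
    have := Fact.mk hr
    by_cases hd : r ∣ Nat.card B
    · have hr' : PRankLE r 1 L := by
        rw [hB, card_map_of_injective C.subtype_injective] at hd
        rcases hB₀.1 r hr hd with rfl | rfl
        · exact hsL
        · exact htL
      have := Compl.isCyclic_of_rankOne hG hr' (S.isPGroup'.map B.subtype)
        ((map_subtype_le _).trans (hBC.trans hCL))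
      exact isCyclic_of_surjective _
        ((S : Subgroup B).equivMapOfInjective B.subtype B.subtype_injective).symm.surjective
    · have : (S : Subgroup B) = ⊥ := by_contra fun hne' =>
        hd ((dvd_card_of_ne_bot S.isPGroup' hne').trans (card_subgroup_dvd_card _))
      rw [this]; exact isCyclic_of_subsingleton
  -- one of the two elements normalises the other's subgroup
  have key : ∀ {a b : ℕ}, a.Prime → ¬ b ∣ Nat.card (commutator B) → (∀ r : ℕ, r.Prime → r ∣ Nat.card B →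
      r = a ∨ r = b) → ∀ {u v : G}, u ∈ B → v ∈ B → orderOf u = a →
      v ∈ normalizer (zpowers u : Set G) := fun {a b} ha hb hab {u v} hu hv huo => by
    rcases eq_or_ne (commutator B) ⊥ with hD | hD
    · refine centralizer_le_normalizer _ (mem_centralizer_iff.mpr fun z hz => ?_)
      have hzB : z ∈ B := (zpowers_le.mpr hu) hz
      have := (hD ▸ commutator_mem_commutator (mem_top (⟨z, hzB⟩ : B)) (mem_top (⟨v, hv⟩ : B)) :
        ⁅(⟨z, hzB⟩ : B), ⟨v, hv⟩⁆ ∈ (⊥ : Subgroup B))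
      exact congrArg Subtype.val (commutatorElement_eq_one_iff_mul_comm.mp (mem_bot.mp this))
    · have := IsZGroup.isCyclic_commutator (G := B)
      obtain ⟨k, hk, hkd⟩ := Nat.exists_prime_and_dvd (fun e => hD (card_eq_one.mp e))
      obtain rfl : k = a := (hab k hk (hkd.trans (card_subgroup_dvd_card _))).resolve_right
        fun e => hb (e ▸ hkd)
      have hidx : ¬ k ∣ (commutator B).index :=
        hk.coprime_iff_not_dvd.mp ((IsZGroup.coprime_commutator_index B).coprime_dvd_left hkd)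
      set D := (commutator B).map B.subtype with hDdef
      have huD : u ∈ D := by
        refine ⟨⟨u, hu⟩, ?_, rfl⟩
        refine (QuotientGroup.eq_one_iff _).mp (orderOf_eq_one_iff.mp ?_)
        refine Nat.eq_one_of_dvd_coprimes (hk.coprime_iff_not_dvd.mpr hidx)
          ((orderOf_map_dvd (QuotientGroup.mk' _) _).trans (by rw [orderOf_mk, huo]))
          (_root_.orderOf_dvd_natCard _)
      have hDc : IsCyclic D := isCyclic_of_surjective _
        ((commutator B).equivMapOfInjective B.subtype B.subtype_injective).surjective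
      exact SigmaSub.normalizer_le_of_cyclic hDc (zpowers_le.mpr huD)
        (Coprime.OmegaDetect.normalizer_le_normalizer_char B _ (le_normalizer hv))
  have hcases : ∀ r : ℕ, r.Prime → r ∣ Nat.card B → r = s ∨ r = t := fun r hr hd => by
    rw [hB, card_map_of_injective C.subtype_injective] at hd
    exact hB₀.1 r hr hd
  by_cases htD : t ∣ Nat.card (commutator B)
  · have hsD : ¬ s ∣ Nat.card (commutator B) := fun hsD => by
      obtain ⟨k, hk, hkd⟩ := Nat.exists_prime_and_dvd (n := (commutator B).index) fun e => by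
        have : Nontrivial B := nontrivial_iff_ne_bot _ |>.mpr fun e' => hx1 (mem_bot.mp (e' ▸ hxB))
        exact (IsZGroup.commutator_lt B).ne (index_eq_one.mp e)
      have hco := IsZGroup.coprime_commutator_index B
      rcases hcases k hk (hkd.trans (index_dvd_card _)) with rfl | rfl
      · exact hk.coprime_iff_not_dvd.mp (hco.coprime_dvd_left hsD) hkd
      · exact hk.coprime_iff_not_dvd.mp (hco.coprime_dvd_left htD) hkd
    have hx' := key ht hsD (fun r hr hd => (hcases r hr hd).symm) hy'B hxB hy'o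
    have hw : (c : G) * x * (c : G)⁻¹ ∈ normalizer (Y : Set G) := by
      have h1 : zpowers y' = Y.map (MulAut.conj ((c⁻¹ : C) : G)).toMonoidHom := by
        rw [← hYy, MonoidHom.map_zpowers]; rfl
      rw [h1, normalizer_map] at hx'
      obtain ⟨w, hw, hwx⟩ := hx'
      have : (c : G) * x * (c : G)⁻¹ = w := by rw [← hwx]; simp [mul_assoc]
      rwa [this]
    exact h.symm.side_contra hE' hEN' hpH hpH' hpσ hPE' hP hNP hsβ.1 hsL
      (normalizer_le_of_beta hG h.hH htβ hY hYH hw) (mul_mem (mul_mem c.2 (hXP hx)) (inv_mem c.2))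
      ((orderOf_injective (MulAut.conj (c : G)).toMonoidHom (MulAut.conj (c : G)).injective x).trans hxo)
  · have hy'N := key hs htD hcases hxB hy'B hxo
    exact h.side_contra hE hEN hpσ hpM hpH hPE hP hNP htβ.1 htL
      (normalizer_le_of_beta hG hM hsβ hX hXM (hXx ▸ hy'N)) (hBC hy'B) hy'o

end Cfsg.Agent.OddLocal.SigmaPartition
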