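import Cfsg.Agent.OddLocal.PType
import Cfsg.Agent.S1378
import Cfsg.Agent.S1425

/-! The sets `M̃` and the conjugates of `Ẑ` cover `G` (BG 14.8). -/

set_option autoImplicit false
set_option linter.unusedSectionVars false

namespace Cfsg.Agent.OddLocal.PType

open Cfsg Subgroup KappaStructure SigmaParts
open Cfsg.Agent.Transfer.Fusion (card_map_conj map_conj_one map_conj_inv_cancel)

variable {G : Type*} [Group G] [Finite G] {M H L K K' : Subgroup G} {x y g : G}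

theorem kappa_map (hG : IsMinSimpleOddOrder G) (g : G) {p : ℕ}
    (hp : p ∈ kappa M) : p ∈ kappa (M.map (MulAut.conj g).toMonoidHom) := by
  have := Fact.mk hp.1
  obtain ⟨v, hv⟩ := exists_prime_orderOf_dvd_card' p hp.2.1
  rw [← orderOf_coe] at hv
  obtain ⟨q, y, hq, hy, hyo, hvy⟩ := kappa_fixed hp v.2 hv
  have := Fact.mk hq
  refine mem_kappa (u := g * v * g⁻¹) (y := g * y * g⁻¹) hG ⟨v, v.2, rfl⟩
    (((MulAut.conj g).orderOf_eq (v : G)).trans hv) ?_ ?_ ?_ ?_ ?_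
  · rw [sigma_eq]; exact hp.2.2.1
  · by_contra h1
    exact PrimeAction.pRank_of_map h1 (rank_of_kappa hp)
  · rw [sigmaCore_map]; exact ⟨y, hy, rfl⟩
  · exact fun e => KappaCentral.ne_one_of_order hyo (conj_eq_one_iff.mp e)
  · calc g * v * g⁻¹ * (g * y * g⁻¹) = g * (v * y) * g⁻¹ := by group
      _ = g * (y * v) * g⁻¹ := by rw [hvy]
      _ = g * y * g⁻¹ * (g * v * g⁻¹) := by group

theorem kappa_eq (hG : IsMinSimpleOddOrder G) (g : G) :
    kappa (M.map (MulAut.conj g).toMonoidHom) = kappa M := by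
  refine Set.ext fun p => ⟨fun hp => ?_, kappa_map hG g⟩
  have := kappa_map hG g⁻¹ hp
  rwa [map_conj_inv_cancel] at this

theorem hall_map (hG : IsMinSimpleOddOrder G) (hK : IsPiHallOf (kappa M) K M) (g : G) :
    IsPiHallOf (kappa (M.map (MulAut.conj g).toMonoidHom)) (K.map (MulAut.conj g).toMonoidHom)
      (M.map (MulAut.conj g).toMonoidHom) := by
  refine ⟨map_mono hK.1, fun p hp hd => ?_, fun p hp hπ => ?_⟩
  · rw [card_map_conj] at hd
    exact kappa_map hG g (hK.2.1 p hp hd)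
  · rw [kappa_eq hG] at hπ
    rw [relIndex_map_map_of_injective _ _ (MulAut.conj g).injective]
    exact hK.2.2 p hp hπ

theorem star_map (g : G) : star (M.map (MulAut.conj g).toMonoidHom) (K.map (MulAut.conj g).toMonoidHom) =
    (star M K).map (MulAut.conj g).toMonoidHom := by
  have hc : centralizer ((K.map (MulAut.conj g).toMonoidHom : Subgroup G) : Set G) =
      (centralizer (K : Set G)).map (MulAut.conj g).toMonoidHom := by
    ext z
    rw [mem_conj_iff, mem_centralizer_iff, mem_centralizer_iff]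
    constructor
    · intro h k hk
      have h1 := h (g * k * g⁻¹) ⟨k, hk, rfl⟩
      calc k * (g⁻¹ * z * g) = g⁻¹ * (g * k * g⁻¹ * z) * g := by group
        _ = g⁻¹ * (z * (g * k * g⁻¹)) * g := by rw [h1]
        _ = g⁻¹ * z * g * k := by group
    · rintro h _ ⟨k, hk, rfl⟩
      have h1 := h k hk
      show g * k * g⁻¹ * z = z * (g * k * g⁻¹)
      calc g * k * g⁻¹ * z = g * (k * (g⁻¹ * z * g)) * g⁻¹ := by group
        _ = g * (g⁻¹ * z * g * k) * g⁻¹ := by rw [h1]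
        _ = z * (g * k * g⁻¹) := by group
  rw [star, star, hc, sigmaCore_map, Subgroup.map_inf _ _ _ (MulAut.conj g).injective]

/-- Two Hall `κ(M)`-subgroups are conjugate in `M`. -/
theorem hall_conj (hG : IsMinSimpleOddOrder G) (hM : IsCoatom M) (hK : IsPiHallOf (kappa M) K M)
    (hK' : IsPiHallOf (kappa M) K' M) : ∃ m ∈ M, K' = K.map (MulAut.conj m).toMonoidHom := by
  obtain ⟨m, hm, hle⟩ := exists_conj_le_hall hG hM hK hK'.1 hK'.2.1
  obtain ⟨m', hm', hle'⟩ := exists_conj_le_hall hG hM hK' hK.1 hK.2.1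
  refine ⟨m, hm, eq_of_le_of_card_ge hle ?_⟩
  rw [card_map_conj]
  exact (Subgroup.card_le_of_le hle').trans (card_map_conj _ _).le

theorem Pair.zhatConj_subset (hG : IsMinSimpleOddOrder G) (h : Pair M K H) {H' : Subgroup G}
    (h' : Pair L K' H') {g : G} (hL : L = M.map (MulAut.conj g).toMonoidHom) :
    zhatConj (K' ⊔ star L K') ⊆ zhatConj (K ⊔ star M K) := by
  subst hL
  obtain ⟨n, hn, rfl⟩ := hall_conj hG h'.hM (hall_map hG h.hK g) h'.hK
  rintro _ ⟨c, z, hz, rfl⟩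
  rw [h'.zhat_eq hG] at hz
  have hm : (M.map (MulAut.conj g).toMonoidHom).map (MulAut.conj n).toMonoidHom =
      M.map (MulAut.conj g).toMonoidHom := (mem_iff_conj_eq hG h'.hM).mp hn
  have hs : star (M.map (MulAut.conj g).toMonoidHom)
      ((K.map (MulAut.conj g).toMonoidHom).map (MulAut.conj n).toMonoidHom) =
      ((star M K).map (MulAut.conj g).toMonoidHom).map (MulAut.conj n).toMonoidHom := by
    rw [← star_map, ← star_map, hm]
  rw [hs, ← Subgroup.map_sup, ← Subgroup.map_sup, ← Transfer.Fusion.map_conj_mul,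
    ← Transfer.Fusion.map_conj_mul, ← Transfer.Fusion.map_conj_mul] at hz
  obtain ⟨⟨w, hw, rfl⟩, hnot⟩ := hz
  refine ⟨c * (n * g), w, ?_, ?_⟩
  · rw [h.zhat_eq hG]
    exact ⟨hw, fun h' => hnot (h'.imp (fun h1 => ⟨w, h1, rfl⟩) fun h1 => ⟨w, h1, rfl⟩)⟩
  · show c * (n * g * w * (n * g)⁻¹) * c⁻¹ = _
    group

/-- The conjugates of `Ẑ` do not depend on the choice of the pair. -/
theorem Pair.zhatConj_le (hG : IsMinSimpleOddOrder G) (h : Pair M K H) {H' : Subgroup G}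
    (h' : Pair L K' H') : zhatConj (K' ⊔ star L K') ⊆ zhatConj (K ⊔ star M K) := by
  obtain ⟨g, hg | hg⟩ := h.conj_cases hG h'
  · exact h.zhatConj_subset hG h' hg
  · have := (h.symm hG).zhatConj_subset hG h' hg
    rwa [h.hKeq, sup_comm (star M K)] at this

/-- An element with a nontrivial `σ(M)'`-part in `C_M(x)`. -/
theorem cover_core (hG : IsMinSimpleOddOrder G) (hM : IsCoatom M) (hx : x ∈ sigmaCore M) (hx1 : x ≠ 1)
    (hy : y ∈ M) (hy1 : y ≠ 1) (hxy : Commute y x) (hσ : IsPiEl {p | p ∉ sigma M} y) :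
    (∃ L : Subgroup G, IsCoatom L ∧ x * y ∈ tildeOf L ((sigmaCore L : Set G) \ {1})) ∨
      ∃ K H : Subgroup G, Pair M K H ∧ x * y ∈ zhatConj (K ⊔ star M K) := by
  rcases S1432.result hG M hM x hx hx1 y (mem_inf.mpr ⟨hy, mem_centralizer_singleton_iff.mpr hxy.eq⟩)
    hy1 hσ with ⟨hκ, -⟩ | ⟨-, ⟨L₀, hL₀, hyL₀⟩, hCy, huy⟩
  · right
    obtain ⟨K, hK, hyK⟩ := exists_hall_ge hG hM (π := kappa M) (zpowers_le.mpr hy) fun p hp hd =>
      hκ p hp (by rwa [Nat.card_zpowers] at hd)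
    have hyK' : y ∈ K := hyK (mem_zpowers y)
    have hK1 : K ≠ ⊥ := fun e => hy1 (mem_bot.mp (e ▸ hyK'))
    obtain ⟨H, h⟩ := exists_pair hG hM hK hK1
    obtain ⟨E, U, hd⟩ := exists_data hG hM hK hK1
    have hxs : x ∈ star M K :=
      (hd.fixed y hyK' hy1).le (mem_inf.mpr ⟨hx, mem_centralizer_singleton_iff.mpr hxy.symm.eq⟩)
    exact ⟨K, H, h, 1, y * x, h.mul_mem_zhat hG hyK' hy1 hxs hx1, by
      rw [one_mul, inv_one, mul_one, hxy.eq]⟩
  · left
    obtain ⟨c, hc⟩ := S1425.result hG L₀ hL₀ (zpowers y) (fun e => hy1 (zpowers_eq_bot.mp e))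
      fun p hp hd => hyL₀ p hp (by rwa [Nat.card_zpowers] at hd)
    set L := L₀.map (MulAut.conj c⁻¹).toMonoidHom
    have hL : IsCoatom L := Unique.isCoatom_map_conj hL₀ c⁻¹
    have hyL : y ∈ sigmaCore L := by
      rw [sigmaCore_map, mem_conj_iff, inv_inv]
      exact hc ⟨y, mem_zpowers y, rfl⟩
    have hCL : ¬ centralizer ({y} : Set G) ≤ L := fun hle => by
      obtain ⟨p, hp, hd⟩ := Nat.exists_prime_and_dvd (mt orderOf_eq_one_iff.mp hy1)
      exact hσ p hp hd (huy L hL hle ▸ mem_sigma_core hyL p hp hd)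
    obtain ⟨N, hN⟩ := Signalizer.exists_sig hG hL hyL hy1 hCL
    obtain rfl := hN.uniq M hM hCy
    refine ⟨L, hL, SupportR.mem_tilde.mpr ⟨y, ⟨hyL, hy1⟩, x, ?_, 1, ?_⟩⟩
    · rw [hN.supportR_eq hG hL]
      exact mem_inf.mpr ⟨hx, mem_centralizer_singleton_iff.mpr hxy.symm.eq⟩
    · rw [one_mul, inv_one, mul_one, hxy.eq]

theorem cover (hG : IsMinSimpleOddOrder G) (hg : g ≠ 1) :
    (∃ L : Subgroup G, IsCoatom L ∧ g ∈ tildeOf L ((sigmaCore L : Set G) \ {1})) ∨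
      ∃ M K H : Subgroup G, Pair M K H ∧ g ∈ zhatConj (K ⊔ star M K) := by
  obtain ⟨n, hn⟩ := exists_prime_power hg
  obtain ⟨M₀, hM₀, hpM⟩ := (S1378.result hG).1 _ hn (_root_.orderOf_dvd_natCard (g ^ n))
  obtain ⟨x, y, rfl, hxy, hxσ, hyσ, -, -⟩ := exists_parts (sigma M₀) g
  have hx1 : x ≠ 1 := fun e => by
    subst e
    rw [one_mul] at hn hpM
    exact hyσ _ hn (orderOf_pow_dvd n) hpM
  obtain ⟨c, hc⟩ := S1425.result hG M₀ hM₀ (zpowers x) (fun e => hx1 (zpowers_eq_bot.mp e))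
    fun p hp hd => hxσ p hp (by rwa [Nat.card_zpowers] at hd)
  set M := M₀.map (MulAut.conj c⁻¹).toMonoidHom with hMdef
  have hM : IsCoatom M := Unique.isCoatom_map_conj hM₀ c⁻¹
  have hx : x ∈ sigmaCore M := by
    rw [sigmaCore_map, mem_conj_iff, inv_inv]
    exact hc ⟨x, mem_zpowers x, rfl⟩
  rw [show sigma M₀ = sigma M from (sigma_eq _).symm] at hyσ
  by_cases hy1 : y = 1
  · exact Or.inl ⟨M, hM, SupportR.mem_tilde.mpr ⟨x, ⟨hx, hx1⟩, 1, one_mem _, 1, by simp [hy1]⟩⟩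
  by_cases hle : centralizer ({x} : Set G) ≤ M
  · exact (cover_core hG hM hx hx1 (hle (mem_centralizer_singleton_iff.mpr hxy.symm.eq)) hy1
      hxy.symm hyσ).imp id fun ⟨K, H, h⟩ => ⟨M, K, H, h⟩
  obtain ⟨N, hN⟩ := Signalizer.exists_sig hG hM hx hx1 hle
  have hyC : y ∈ centralizer ({x} : Set G) := mem_centralizer_singleton_iff.mpr hxy.symm.eq
  obtain ⟨a, b, hab, hcomm, haσ, hbσ, hay, hby⟩ := exists_parts (sigma N) y
  have haC : a ∈ centralizer ({x} : Set G) := zpowers_le.mpr hyC hay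
  have hbC : b ∈ centralizer ({x} : Set G) := zpowers_le.mpr hyC hby
  have haR : a ∈ sigmaCore N ⊓ centralizer ({x} : Set G) :=
    mem_inf.mpr ⟨mem_core_of_piEl hG hN.hN (hN.hC haC) haσ, haC⟩
  by_cases hb1 : b = 1
  · refine Or.inl ⟨M, hM, SupportR.mem_tilde.mpr ⟨x, ⟨hx, hx1⟩, a, ?_, 1, ?_⟩⟩
    · rwa [hN.supportR_eq hG hM]
    · rw [one_mul, inv_one, mul_one, hab, hb1, mul_one]
  have hC := hN.compl_centralizer
  obtain ⟨d, hd, hdb⟩ := SigmaSub.exists_conj_le_of_supplement (π := {p | p ∉ sigma N})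
    (Transitivity.isSolvable_of_ne_top hG fun e => hN.hN.1 (top_le_iff.mp (e ▸ hN.hC)))
    hC.2.1 hC.1 hN.normal
    (fun c hc => by
      obtain ⟨e, he, r, hr, rfl⟩ := hC.2.2.2 c hc
      exact mul_mem (mem_sup_right he) (mem_sup_left hr))
    (fun r hr hd hπ => hπ (Transitivity.isPi_piCoreOf (sigma N) N r hr
      (hd.trans (card_dvd_of_le inf_le_left))))
    (zpowers_le.mpr hbC) fun r hr hd => hbσ r hr (by rwa [Nat.card_zpowers] at hd)
  set M' := M.map (MulAut.conj d⁻¹).toMonoidHom with hM'def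
  have hM' : IsCoatom M' := Unique.isCoatom_map_conj hM d⁻¹
  have hbM' : b ∈ M' := by
    rw [mem_conj_iff, inv_inv]
    exact (mem_inf.mp (hdb ⟨b, mem_zpowers b, rfl⟩)).1
  have hxM' : x ∈ sigmaCore M' := by
    rw [sigmaCore_map, mem_conj_iff, inv_inv,
      show d * x = x * d from mem_centralizer_singleton_iff.mp hd, mul_inv_cancel_right]
    exact hx
  have hN' := hN.of_conj hG hM hx hx1 (g := d⁻¹) (Sigma.sigmaCore_le _ hxM')
  have hbσ' : IsPiEl {p | p ∉ sigma M'} b := by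
    have h1 : IsPiEl {p | p ∉ sigma M} b := fun p hp hd =>
      hyσ p hp (hd.trans ((orderOf_dvd_natCard _ hby).trans (Nat.card_zpowers y).dvd))
    rwa [sigma_eq]
  rcases S1432.result hG M' hM' x hxM' hx1 b (mem_inf.mpr ⟨hbM', hbC⟩) hb1 hbσ' with
    ⟨-, hle'⟩ | ⟨-, -, hCb, -⟩
  · exact absurd hle' (hN'.not_le hM')
  have ha1 : a ∈ (M' ⊓ N) ⊓ sigmaCore N := mem_inf.mpr
    ⟨mem_inf.mpr ⟨hCb (mem_centralizer_singleton_iff.mpr hcomm.eq), hN.hC haC⟩, (mem_inf.mp haR).1⟩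
  rw [hN'.compl.2.2.1, mem_bot] at ha1
  rw [ha1, one_mul] at hab
  subst hab
  exact (cover_core hG hM' hxM' hx1 hbM' hy1 hxy.symm hbσ').imp id fun ⟨K, H, h⟩ => ⟨M', K, H, h⟩

theorem Pair.zhat_eq' (hG : IsMinSimpleOddOrder G) (h : Pair M K H) :
    ((K ⊔ (sigmaCore M ⊓ centralizer (K : Set G)) : Subgroup G) : Set G) \
      ((K : Set G) ∪ ((sigmaCore M ⊓ centralizer (K : Set G) : Subgroup G) : Set G)) =
        zhat (K ⊔ star M K) :=
  (h.zhat_eq hG).symm

theorem exists_pair_of_decomposition {U : Subgroup G} (hG : IsMinSimpleOddOrder G) (hM : IsCoatom M)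
    (hKU : IsSigmaDecomposition M K U) (hK1 : K ≠ ⊥) : ∃ H : Subgroup G, Pair M K H :=
  exists_pair hG hM hKU.hall hK1

theorem pair_of_partner {U : Subgroup G} (hG : IsMinSimpleOddOrder G) (hM : IsCoatom M)
    (hKU : IsSigmaDecomposition M K U) (hK1 : K ≠ ⊥) (hH : IsCoatom H)
    (hKst : K = sigmaCore H ⊓ centralizer ((sigmaCore M ⊓ centralizer (K : Set G) : Subgroup G) : Set G)) :
    Pair M K H := by
  obtain ⟨H₀, h⟩ := exists_pair hG hM hKU.hall hK1
  rwa [h.unique hG hH (hKst.le.trans inf_le_left)]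

theorem notP1_iff {U : Subgroup G} (hG : IsMinSimpleOddOrder G) (hM : IsCoatom M)
    (hKU : IsSigmaDecomposition M K U) : NotP1 M ↔ U ≠ ⊥ := by
  constructor
  · rintro ⟨t, ht, htM, htσ, htκ⟩ e
    have := KappaDecomp.dvd_of_not hKU ht htM htσ htκ
    rw [e, card_bot] at this
    exact ht.not_dvd_one this
  · intro hU
    obtain ⟨t, ht, htd⟩ := Nat.exists_prime_and_dvd (fun e : Nat.card U = 1 => hU (card_eq_one.mp e))
    exact ⟨t, ht, htd.trans (card_dvd_of_le hKU.compl.1),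
      KappaDecomp.not_sigma_of_dvd hG hM hKU ht htd, KappaDecomp.not_kappa_of_dvd hKU ht htd⟩

theorem not_kappa_pair (h : Pair M K H) : (kappa M).Nonempty := by
  obtain ⟨p, hp, hd⟩ := Nat.exists_prime_and_dvd (fun e : Nat.card K = 1 => h.hK1 (card_eq_one.mp e))
  exact ⟨p, h.hK.2.1 p hp hd⟩

end Cfsg.Agent.OddLocal.PType
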