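import Cfsg.Agent.OddLocal.NonTIKappa
import Cfsg.Agent.Lib.PLocal.Cores
import Mathlib.GroupTheory.QuotientGroup.Defs

/-! BG 15.7: the alternatives for a nilpotent `M_σ` that is not a TI-subset, `M` of type P1. -/

set_option autoImplicit false
set_option linter.unusedSectionVars false

namespace Cfsg.Agent.OddLocal.NonTI

open Cfsg Subgroup SigmaParts
open scoped commutatorElement

variable {G : Type*} [Group G] [Finite G] {M N K U P : Subgroup G} {x z : G} {p : ℕ}

/-- For `|V| = p³`, `K` acts on `V / ⟨z⟩` with order dividing `p - 1` or `p + 1`. -/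
theorem Cen.cube (d : Cen M N P K x z p) {V : Subgroup G}
    (hV : ∀ v, v ∈ V ↔ v ∈ P ∧ v ^ p = 1 ∧ ∀ y ∈ P, v * y * v⁻¹ * y⁻¹ ∈ zpowers z)
    (hx : x ∈ V) (h3 : Nat.card V = p ^ 3) : Nat.card K ∣ p - 1 ∨ Nat.card K ∣ p + 1 := by
  have := Fact.mk d.c.hp
  set Z := (zpowers z).subgroupOf V with hZdef
  have hZn : Z.Normal := ⟨fun a ha b => by
    have ha' : (a : G) ∈ zpowers z := ha
    show (b : G) * a * (b : G)⁻¹ ∈ zpowers z
    rwa [(d.comm_z ha' (d.V_le hV b.2)).eq, mul_inv_cancel_right]⟩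
  have hcommY : ∀ a b : V ⧸ Z, a * b = b * a := fun a b => by
    induction a using QuotientGroup.induction_on with | H a =>
    induction b using QuotientGroup.induction_on with | H b =>
    rw [← QuotientGroup.mk_mul, ← QuotientGroup.mk_mul, QuotientGroup.eq]
    have h1 : (b : G)⁻¹ * (a : G)⁻¹ * (b : G)⁻¹⁻¹ * (a : G)⁻¹⁻¹ ∈ zpowers z :=
      ((hV _).mp (inv_mem b.2)).2.2 _ (d.V_le hV (inv_mem a.2))
    rw [inv_inv, inv_inv] at h1
    show (((a * b)⁻¹ * (b * a) : V) : G) ∈ zpowers z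
    push_cast
    rwa [mul_inv_rev, ← mul_assoc]
  let : CommGroup (V ⧸ Z) := { (inferInstance : Group (V ⧸ Z)) with mul_comm := hcommY }
  have hexp : ∀ y : V ⧸ Z, y ^ p = 1 := fun y => by
    induction y using QuotientGroup.induction_on with | H a =>
    rw [← QuotientGroup.mk_pow, QuotientGroup.eq_one_iff]
    show ((a ^ p : V) : G) ∈ zpowers z
    rw [SubgroupClass.coe_pow, ((hV _).mp a.2).2.1]
    exact one_mem _
  let cj : K →* MulAut V := V.normalizerMonoidHom.comp (inclusion (d.K_le_normalizer hV))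
  have hcj : ∀ (k : K) (v : V), (cj k v : G) = (k : G) * v * (k : G)⁻¹ := fun _ _ => rfl
  have hfixz : ∀ (k : K) (v : V), (v : G) ∈ zpowers z → (k : G) * v * (k : G)⁻¹ = v := fun k v hv => by
    obtain ⟨i, hi⟩ := mem_zpowers_iff.mp hv
    rw [← hi, ((d.hzK k k.2).zpow_right i).eq, mul_inv_cancel_right]
  have he : ∀ k : K, Z.map (cj k : V →* V) = Z := fun k => by
    ext v
    constructor
    · rintro ⟨w, hw, rfl⟩
      show (cj k w : G) ∈ zpowers z
      rw [hcj, hfixz k w hw]; exact hw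
    · intro hv
      exact ⟨v, hv, Subtype.ext ((hcj k v).trans (hfixz k v hv))⟩
  let φ : K →* MulAut (V ⧸ Z) :=
    { toFun := fun k => QuotientGroup.congr Z Z (cj k) (he k)
      map_one' := MulEquiv.ext fun y => by
        induction y using QuotientGroup.induction_on with | H a =>
        rw [QuotientGroup.congr_mk, map_one, MulAut.one_apply, MulAut.one_apply]
      map_mul' := fun k l => MulEquiv.ext fun y => by
        induction y using QuotientGroup.induction_on with | H a =>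
        rw [MulAut.mul_apply, QuotientGroup.congr_mk, QuotientGroup.congr_mk, QuotientGroup.congr_mk,
          map_mul, MulAut.mul_apply] }
  have hφ : ∀ (k : K) (v : V), φ k (v : V ⧸ Z) = ((cj k v : V) : V ⧸ Z) := fun _ _ => rfl
  -- a nontrivial element fixes only the trivial coset
  have hfp : ∀ k : K, k ≠ 1 → ∀ v : V, φ k (v : V ⧸ Z) = (v : V ⧸ Z) → (v : G) ∈ zpowers z := by
    intro k hk v hv
    rw [hφ, QuotientGroup.eq] at hv
    have hv' : ((k : G) * v * (k : G)⁻¹)⁻¹ * (v : G) ∈ zpowers z := hv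
    set e := ((k : G) * v * (k : G)⁻¹)⁻¹ * (v : G) with he'
    have hek : Commute (k : G) e := by
      obtain ⟨i, hi⟩ := mem_zpowers_iff.mp hv'
      exact hi ▸ (d.hzK k k.2).zpow_right i
    have hev : Commute (v : G) e := d.comm_z hv' (d.V_le hV v.2)
    have h1 : (k : G) * v * (k : G)⁻¹ = v * e⁻¹ := by
      rw [he']; group
    have hn : ∀ n : ℕ, (k : G) ^ n * v * ((k : G) ^ n)⁻¹ = v * (e⁻¹) ^ n := by
      intro n
      induction n with
      | zero => simp
      | succ n ih =>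
        calc (k : G) ^ (n + 1) * v * ((k : G) ^ (n + 1))⁻¹
            = (k : G) * ((k : G) ^ n * v * ((k : G) ^ n)⁻¹) * (k : G)⁻¹ := by group
          _ = (k : G) * v * (e⁻¹ ^ n) * (k : G)⁻¹ := by rw [ih, ← mul_assoc]
          _ = (k : G) * v * (k : G)⁻¹ * e⁻¹ ^ n := by
            rw [mul_assoc _ (e⁻¹ ^ n), ((hek.inv_right.pow_right n).inv_left).symm.eq, ← mul_assoc]
          _ = v * e⁻¹ ^ (n + 1) := by rw [h1, pow_succ', ← mul_assoc]
    have h2 := hn (orderOf (k : G))
    rw [pow_orderOf_eq_one, one_mul, inv_one, mul_one, left_eq_mul, inv_pow, inv_eq_one] at h2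
    have he1 : e = 1 := by
      obtain ⟨i, hi⟩ := mem_zpowers_iff.mp hv'
      have h3 : orderOf e ∣ p := orderOf_dvd_of_pow_eq_one (by
        rw [← hi, ← zpow_natCast, ← zpow_mul, mul_comm, zpow_mul, zpow_natCast, ← d.hzo,
          pow_orderOf_eq_one, one_zpow])
      have h4 : orderOf e ∣ orderOf (k : G) := orderOf_dvd_of_pow_eq_one h2
      have h5 : (orderOf (k : G)).Coprime p := by
        refine (d.hco.coprime_dvd_left (orderOf_dvd_natCard K k.2)).coprime_dvd_right ?_
        exact (dvd_of_eq d.c.hxo.symm).trans (orderOf_dvd_natCard P d.c.x_mem)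
      exact orderOf_eq_one_iff.mp (Nat.eq_one_of_dvd_coprimes h5 h4 h3)
    rw [he1, inv_one, mul_one] at h1
    exact d.hfix k k.2 (fun e1 => hk (Subtype.ext e1)) v (d.V_le hV v.2)
      (mul_inv_eq_iff_eq_mul.mp h1)
  obtain ⟨v₀, hv₀, hv₀z⟩ := d.exists_not_mem hV
  have hinj : Function.Injective φ := (injective_iff_map_eq_one φ).mpr fun k hk => by
    by_contra hk1
    exact hv₀z (hfp k hk1 ⟨v₀, hv₀⟩ (by rw [hk]; rfl))
  have := d.hKc
  obtain ⟨g, hg⟩ := IsCyclic.exists_ofOrder_eq_natCard (α := K)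
  rw [← hg, ← orderOf_injective φ hinj g]
  refine LineAut.orderOf_dvd hexp (φ g) (fun y => ?_) fun n hn y hy => ?_
  · induction y using QuotientGroup.induction_on with | H v =>
    by_cases hvz : (v : G) ∈ zpowers z
    · refine ⟨0, ?_⟩
      rw [(QuotientGroup.eq_one_iff v).mpr hvz, map_one, map_one, one_mul, pow_zero]
    set a := (g : G) * v * (g : G)⁻¹ with ha
    set b := (g : G)⁻¹ * v * (g : G) with hb
    have haV : a ∈ V := (cj g v).2
    have hbV : b ∈ V := by
      have := (cj g⁻¹ v).2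
      rwa [hcj, InvMemClass.coe_inv, inv_inv] at this
    have hvP := d.V_le hV v.2
    have hc1 : b * (v : G) * b⁻¹ * (v : G)⁻¹ ∈ zpowers z := ((hV b).mp hbV).2.2 _ hvP
    have hbv : b * (v : G) * b⁻¹ * (v : G)⁻¹ = (a * (v : G) * a⁻¹ * (v : G)⁻¹)⁻¹ := by
      have hc2 : (v : G) * a * (v : G)⁻¹ * a⁻¹ ∈ zpowers z := ((hV v).mp v.2).2.2 _ (d.V_le hV haV)
      obtain ⟨i, hi⟩ := mem_zpowers_iff.mp hc2
      have h3 : b * (v : G) * b⁻¹ * (v : G)⁻¹ =
          (g : G)⁻¹ * ((v : G) * a * (v : G)⁻¹ * a⁻¹) * (g : G) := by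
        rw [ha, hb]; group
      rw [h3, ← hi, (((d.hzK g g.2).zpow_right i).inv_left).eq, inv_mul_cancel_right, hi]
      group
    have hsv : Commute (a * b) (v : G) := by
      have h4 := comm_left (a := a) hc1 fun c hc => d.comm_z hc (d.V_le hV haV)
      rw [hbv, inv_mul_cancel, mul_inv_eq_one, mul_inv_eq_iff_eq_mul] at h4
      exact h4
    obtain ⟨s, hs, e, hez, hse⟩ := KappaDecomp.exists_mul_sup (A := zpowers (v : G)) (B := zpowers z)
      (zpowers_le.mpr (centralizer_le_normalizer _ (TauTwo.centralizer_zpowers (v : G) ▸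
        mem_centralizer_singleton_iff.mpr (d.hzc _ hvP).eq)))
      (d.centralizer_mem hV hx h3 v.2 hvz (mul_mem haV hbV) hsv)
    obtain ⟨i, rfl⟩ := mem_powers_iff_mem_zpowers.mpr hs
    refine ⟨i, ?_⟩
    rw [← _root_.map_inv, hφ, hφ, ← QuotientGroup.mk_mul, ← QuotientGroup.mk_pow, QuotientGroup.eq]
    show ((cj g v * cj g⁻¹ v : V) : G)⁻¹ * ((v ^ i : V) : G) ∈ zpowers z
    push_cast
    rw [hcj, hcj, InvMemClass.coe_inv, inv_inv, ← ha, ← hb, hse]
    simpa [mul_inv_rev] using inv_mem hez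
  · rw [← map_pow] at hn hy
    induction y using QuotientGroup.induction_on with | H v =>
    exact (QuotientGroup.eq_one_iff v).mpr (hfp (g ^ n) (fun e => hn (by rw [e, map_one])) v hy)

/-- BG 15.7 for `K ≠ 1`, `U = 1`, `M_σ` nilpotent. -/
theorem alternatives (hG : IsMinSimpleOddOrder G) (hM : IsCoatom M) (hKU : IsSigmaDecomposition M K U)
    (hK1 : K ≠ ⊥) (hU : U = ⊥) (hnil : Group.IsNilpotent (sigmaCore M)) (hx : x ∈ sigmaCore M)
    (hxp : (orderOf x).Prime) (hxM : ¬ centralizer ({x} : Set G) ≤ M) :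
    ∃ p : ℕ, p.Prime ∧ p ∣ Nat.card (sigmaCore M) ∧ IsCyclic (pPrimeCore p (sigmaCore M)) ∧
      (Nat.card K ∣ p - 1 ∨ (Nat.card (pCore p (sigmaCore M)) = p ^ 3 ∧ Nat.card K ∣ p + 1)) := by
  obtain ⟨N, P, c⟩ := exists_nbr hG hM hnil hx hxp hxM
  set p := orderOf x with hp
  have := Fact.mk c.hp
  have hPp := c.pgroup
  have hd := KappaDecomp.data_of hG hM hKU hK1
  set S := sigmaCore M ⊓ centralizer (K : Set G) with hS
  have hS1 : S ≠ ⊥ := PType.star_ne_bot hG hM hKU.hall hK1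
  have hSle : S ≤ ⁅sigmaCore M, sigmaCore M⁆ := PType.star_le_commutator_core hG hM hKU hU
  have hncx : ¬ ∀ a ∈ P, Commute a x := fun h => by
    have hc := c.core_comm h
    refine hS1 (le_bot_iff.mp (hSle.trans (commutator_le.mpr fun a ha b hb => mem_bot.mpr ?_)))
    exact commutatorElement_eq_one_iff_mul_comm.mpr
      (congrArg Subtype.val (hc.is_comm.comm ⟨a, ha⟩ ⟨b, hb⟩))
  have hnab : ¬ IsMulCommutative P := fun h =>
    hncx fun a ha => congrArg Subtype.val (h.is_comm.comm ⟨a, ha⟩ ⟨x, c.x_mem⟩)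
  have hSP : S ≤ P := hSle.trans (c.commutator_le_P hnab)
  have hSc : Nat.card S = p := by
    obtain ⟨T, h⟩ := PType.exists_pair hG hM hKU.hall hK1
    have hq : (Nat.card S).Prime :=
      (h.p2.resolve_left fun h1 => (PType.notP1_iff hG hM hKU).mp h1.1 hU).2
    obtain ⟨n, hn⟩ := (hPp.to_le hSP).exists_card_eq
    rw [hn] at hq ⊢
    rw [Nat.Prime.eq_one_of_pow hq, pow_one]
  -- the central line
  obtain ⟨z, hzm, hzo⟩ := KappaFixed.exists_order_eq (hPp.to_le (inf_le_left (b := centralizer (P : Set G)))) (fun e => by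
    have : Nontrivial P := Finite.one_lt_card_iff_nontrivial.mp (lt_of_lt_of_le c.hp.one_lt
      (Nat.le_of_dvd Nat.card_pos (orderOf_dvd_natCard P c.x_mem)))
    have := hPp.center_nontrivial
    obtain ⟨⟨a, ha⟩, ha1⟩ := exists_ne (1 : center P)
    refine ha1 (Subtype.ext (Subtype.ext (mem_bot.mp (e.le (mem_inf.mpr ⟨a.2,
      mem_centralizer_iff.mpr fun b hb => congrArg Subtype.val (mem_center_iff.mp ha ⟨b, hb⟩)⟩))))))
  obtain ⟨hzP, hzC⟩ := mem_inf.mp hzm
  have hzc : ∀ a ∈ P, Commute z a := fun a ha => (mem_centralizer_iff.mp hzC a ha).symm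
  have hxz : x ∉ zpowers z := fun h => hncx fun a ha => by
    obtain ⟨i, hi⟩ := mem_zpowers_iff.mp h
    exact hi ▸ ((hzc a ha).zpow_left i).symm
  have huniq : ∀ w ∈ P, (∀ a ∈ P, Commute w a) → w ^ p = 1 → w ∈ zpowers z := fun w hw hwc hwp => by
    obtain ⟨b, hb, e, he, hbe⟩ := KappaDecomp.exists_mul_sup (A := zpowers x) (B := zpowers z)
      (zpowers_le.mpr (centralizer_le_normalizer _ (TauTwo.centralizer_zpowers x ▸
        mem_centralizer_singleton_iff.mpr (hzc x c.x_mem).eq)))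
      (c.mem_pair hzP hzc hzo hxz hw hwp (hwc x c.x_mem))
    rcases eq_or_ne b 1 with rfl | hb1
    · rw [hbe, one_mul]; exact he
    refine absurd (fun a ha => ?_) hncx
    have hbz : b = w * e⁻¹ := eq_mul_inv_of_mul_eq hbe.symm
    have hba : Commute a b := by
      obtain ⟨j, hj⟩ := mem_zpowers_iff.mp he
      rw [hbz, ← hj]
      exact (hwc a ha).symm.mul_right ((hzc a ha).symm.zpow_right j).inv_right
    obtain ⟨i, hi⟩ := mem_zpowers_iff.mp ((ZGroupCore.zpowers_eq_of_prime (A := zpowers x)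
      (by rw [Nat.card_zpowers]; exact c.hp) hb hb1).ge (mem_zpowers x))
    exact hi ▸ hba.zpow_right i
  have hKP : K ≤ normalizer (P : Set G) := hKU.hall.1.trans c.normal
  have hE := KappaDecomp.isCompl hKU
  have hco : (Nat.card K).Coprime (Nat.card P) :=
    ((SigmaMeet.coprime_card hG hM hE).coprime_dvd_left (card_dvd_of_le le_sup_right)).coprime_dvd_right
      (card_dvd_of_le c.hPσ)
  obtain ⟨D, hDσ, hDc, hmax⟩ := c.exists_cyclic hnab
  have hcyc : IsCyclic (pPrimeCore p (sigmaCore M)) := by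
    have h1 : (pPrimeCore p (sigmaCore M)).map (sigmaCore M).subtype ≤ D :=
      hmax _ (map_subtype_le _) (by
        rw [card_map_of_injective (sigmaCore M).subtype_injective]
        exact PLocal.Cores.not_dvd_card_pPrimeCore c.hp.ne_one)
    have := Subgroup.isCyclic_of_le h1
    exact isCyclic_of_surjective _ ((pPrimeCore p (sigmaCore M)).equivMapOfInjective
      (sigmaCore M).subtype (sigmaCore M).subtype_injective).symm.surjective
  refine ⟨p, c.hp, orderOf_dvd_natCard _ hx, hcyc, ?_⟩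
  have hfixed : ∀ k ∈ K, k ≠ 1 → ∀ a ∈ sigmaCore M, Commute k a → a ∈ S := fun k hk hk1 a ha hka =>
    (hd.fixed k hk hk1).le (mem_inf.mpr ⟨ha, mem_centralizer_singleton_iff.mpr hka.symm.eq⟩)
  by_cases hzS : z ∈ S
  · have hzS' : zpowers z = S := eq_of_le_of_card_ge (zpowers_le.mpr hzS) (by
      rw [Nat.card_zpowers, hzo, hSc])
    have d : Cen M N P K x z p := ⟨c, hKU.hall.1, hKU.cyclic, hco, hKP, hzP, hzc, hzo, hxz, huniq,
      fun k hk => mem_centralizer_iff.mp (mem_inf.mp hzS).2 k hk,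
      fun k hk hk1 a ha hka => hzS'.ge (hfixed k hk hk1 a (c.hPσ ha) hka)⟩
    obtain ⟨V, hV⟩ := d.exists_V
    obtain ⟨h3, h2⟩ := d.le_cube hV
    have hsq := d.sq_le hV
    obtain ⟨n, hn⟩ := (hPp.to_le (d.V_le hV)).exists_card_eq
    rw [hn] at h3 hsq
    have hn2 := (Nat.pow_le_pow_iff_right c.hp.one_lt).mp hsq
    have hn3 := (Nat.pow_le_pow_iff_right c.hp.one_lt).mp h3
    rcases (show n = 2 ∨ n = 3 by omega) with rfl | rfl
    · exact Or.inl (d.small hV hn)
    · have hxV : x ∈ V := by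
        by_contra hxV
        have := h2 hxV
        rw [hn, Nat.pow_le_pow_iff_right c.hp.one_lt] at this
        omega
      refine (d.cube hV hxV hn).imp id fun h => ⟨?_, h⟩
      rw [← hn, ← d.eq_V hV hK1 hxV hn, ← card_map_of_injective (sigmaCore M).subtype_injective]
      refine congrArg (fun H : Subgroup G => Nat.card H) (le_antisymm
        (c.mem_P (map_subtype_le _) ((PLocal.Cores.isPGroup_pCore).map _)) ?_)
      rw [← map_subgroupOf_eq_of_le c.hPσ]
      have : (P.subgroupOf (sigmaCore M)).Normal := (normal_subgroupOf_iff_le_normalizer c.hPσ).mpr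
        ((Sigma.sigmaCore_le M).trans c.normal)
      exact map_mono (PLocal.Cores.le_pCore (hPp.of_equiv (subgroupOfEquivOfLe c.hPσ).symm))
  · refine Or.inl (LineAut.card_dvd_pred (Y := zpowers z) (by rw [Nat.card_zpowers, hzo])
      (fun k hk => PType.mem_normalizer_of_stable (M := K) (fun k hk a ha => ?_) hk) fun k hk hkC => ?_)
    · obtain ⟨i, rfl⟩ := mem_zpowers_iff.mp ha
      rw [← conj_zpow]
      refine zpow_mem (huniq _ ((mem_normalizer_iff.mp (hKP hk) z).mp hzP) (fun b hb => ?_)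
        (by rw [conj_pow, ← hzo, pow_orderOf_eq_one, mul_one, mul_inv_cancel])) i
      have h1 : Commute z (k⁻¹ * b * k) := hzc _ ((mem_normalizer_iff''.mp (hKP hk) b).mp hb)
      show k * z * k⁻¹ * b = b * (k * z * k⁻¹)
      calc k * z * k⁻¹ * b = k * (z * (k⁻¹ * b * k)) * k⁻¹ := by group
        _ = k * ((k⁻¹ * b * k) * z) * k⁻¹ := by rw [h1.eq]
        _ = b * (k * z * k⁻¹) := by group
    · by_contra hk1
      exact hzS (hfixed k hk hk1 z (c.hPσ hzP) (mem_centralizer_iff.mp hkC z (mem_zpowers z)).symm)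

end Cfsg.Agent.OddLocal.NonTI
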