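import Cfsg.Agent.OddLocal.PTypeU
import Cfsg.Agent.Lib.CN.Basic
import Cfsg.Agent.S1408
import Cfsg.Agent.S1414

/-! For `M` of type `P₂`, the maximal subgroup `H ⊇ N(R)` meets the partner in a complement of `H_σ`
(BG 14.12). -/

set_option autoImplicit false
set_option linter.unusedSectionVars false

namespace Cfsg.Agent.OddLocal.PType

open Cfsg Subgroup KappaStructure SigmaParts
open TauTwo (centralizer_zpowers)
open scoped commutatorElement Pointwise

variable {G : Type*} [Group G] [Finite G] {M L H K U S A X D Y : Subgroup G} {u v : G} {t : ℕ}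
  [ht : Fact t.Prime]

/-- Hall subgroups of a solvable subgroup dominate. -/
theorem exists_conj_le_hall_solvable {π : Set ℕ} (hs : Group.IsSolvable X) (hD : IsPiHallOf π D X)
    (hYX : Y ≤ X) (hY : ∀ p : ℕ, p.Prime → p ∣ Nat.card Y → p ∈ π) :
    ∃ m ∈ X, Y ≤ D.map (MulAut.conj m).toMonoidHom := by
  have := hs
  obtain ⟨H₀, hH₀, hdom⟩ := Hall.exists_hall_dominating π X
  have hDπ : IsPiHall π (D.subgroupOf X) :=
    ⟨fun p hp hd => hD.2.1 p hp (by rwa [Nat.card_congr (subgroupOfEquivOfLe hD.1).toEquiv] at hd),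
      fun p hp hπ => hD.2.2 p hp hπ⟩
  obtain ⟨a, ha⟩ := hdom _ hDπ.1
  have ha' := eq_of_le_of_card_ge ha
    (by rw [Coprime.card_conj_smul, Hall.card_eq_of_isPiHall hH₀ hDπ])
  obtain ⟨b, hb⟩ := hdom (Y.subgroupOf X) fun p hp hd => hY p hp (by
    rwa [Nat.card_congr (subgroupOfEquivOfLe hYX).toEquiv] at hd)
  refine ⟨((b * a⁻¹ : X) : G), (b * a⁻¹).2, fun y hy => ?_⟩
  have h1 := hb (show (⟨y, hYX hy⟩ : X) ∈ Y.subgroupOf X from hy)
  rw [Coprime.mem_conj_smul] at h1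
  have h2 : a * (b⁻¹ * ⟨y, hYX hy⟩ * b) * a⁻¹ ∈ D.subgroupOf X := by
    rw [ha', Coprime.mem_conj_smul]
    simpa [mul_assoc] using h1
  rw [mem_conj_iff]
  have h3 : (a : G) * ((b : G)⁻¹ * y * b) * (a : G)⁻¹ ∈ D := h2
  have h4 : ((b * a⁻¹ : X) : G)⁻¹ * y * ((b * a⁻¹ : X) : G) =
      (a : G) * ((b : G)⁻¹ * y * b) * (a : G)⁻¹ := by push_cast; group
  rwa [h4]

/-- Outside `β`, elements of coprime orders of a `β'`-subgroup of `L_σ` commute. -/
theorem commute_of_not_beta_core (hG : IsMinSimpleOddOrder G) (hL : IsCoatom L) (hY : Y ≤ sigmaCore L)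
    (hYβ : ∀ p : ℕ, p.Prime → p ∣ Nat.card Y → p ∉ beta L) {a b : G} (ha : a ∈ Y) (hb : b ∈ Y)
    (hab : (orderOf a).Coprime (orderOf b)) : a * b = b * a := by
  obtain ⟨-, -, -, ⟨D, hD, hDn⟩, -⟩ := S1414.result hG L hL
  obtain ⟨m, -, hle⟩ := exists_conj_le_hall_solvable
    (Transitivity.isSolvable_of_ne_top hG fun e => hL.1 (top_le_iff.mp (e ▸ Sigma.sigmaCore_le L)))
    hD hY (fun p hp hd => ⟨hp, hYβ p hp hd⟩)
  obtain ⟨a', ha', rfl⟩ := hle ha
  obtain ⟨b', hb', rfl⟩ := hle hb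
  have h := CN.commute_of_coprime hDn ha' hb' (by
    rwa [MulEquiv.toMonoidHom_eq_coe, MonoidHom.coe_coe, MulEquiv.orderOf_eq,
      MulEquiv.orderOf_eq] at hab)
  rw [← map_mul, h, map_mul]

/-- An element of prime order `t` moved by `u` in an elementary abelian group of `S` contradicts
`u ∈ S_σ`. -/
theorem P2.false_of_mover {c : G} (P : P2 M K U S u) (hA : IsElementaryAbelian t A) (hAS : A ≤ S)
    (huA : u ∈ normalizer (A : Set G)) (htu : t ≠ orderOf u) (hc : c ∈ A) (hmove : u * c ≠ c * u)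
    (hnid : ¬ IsIdealPrime t G) : False := by
  refine hmove ?_
  have hco : (orderOf c).Coprime (orderOf u) := by
    refine Nat.coprime_of_dvd fun p hp h1 h2 => htu ?_
    rw [← P.u_el p hp h2]
    exact ((Nat.prime_dvd_prime_iff_eq hp ht.out).mp
      (h1.trans (orderOf_dvd_of_pow_eq_one (hA.2 c hc)))).symm
  have hcomm : u * c * u⁻¹ * c⁻¹ ∈ A :=
    mul_mem ((mem_normalizer_iff.mp huA c).mp hc) (inv_mem hc)
  by_cases htS : t ∈ sigma S
  swap
  · have h1 : u * c * u⁻¹ * c⁻¹ ∈ sigmaCore S := by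
      rw [show u * c * u⁻¹ * c⁻¹ = u * (c * u⁻¹ * c⁻¹) by group]
      exact mul_mem P.u_core ((mem_normalizer_iff.mp (Sigma.le_normalizer_sigmaCore S (hAS hc)) _).mp
        (inv_mem P.u_core))
    have h2 := eq_one_of_both (mem_sigma_core h1) fun p hp hd => by
      rw [Set.mem_ofPred_eq, (Nat.prime_dvd_prime_iff_eq hp ht.out).mp
        (hd.trans (orderOf_dvd_of_pow_eq_one (hA.2 _ hcomm)))]
      exact htS
    exact mul_inv_eq_iff_eq_mul.mp (mul_inv_eq_one.mp h2)
  have hAp : IsPGroup t A := Components.Hyperplane.isPGroup hA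
  have hAσ : A ≤ sigmaCore S := Sigma.sylow_le_sigmaCore P.hG P.h.hH htS hAp hAS
  have htβ : t ∉ beta S := fun h => hnid h.2
  by_cases hpβ : orderOf u ∈ beta S
  · have hB := (S1414.result P.hG S P.h.hH).1
    have huB : u ∈ piCoreOf (beta S) S := by
      refine KappaDecomp.mem_of_normal_coprime (Transitivity.le_normalizer_piCoreOf _ _) hB.1
        (Sigma.sigmaCore_le S P.u_core) (P.hup.coprime_iff_not_dvd.mpr fun h => hB.2.2 _ P.hup hpβ h)
    have h1 : u * c * u⁻¹ * c⁻¹ ∈ piCoreOf (beta S) S := by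
      rw [show u * c * u⁻¹ * c⁻¹ = u * (c * u⁻¹ * c⁻¹) by group]
      exact mul_mem huB ((mem_normalizer_iff.mp
        (Transitivity.le_normalizer_piCoreOf _ _ (hAS hc)) _).mp (inv_mem huB))
    have h2 := eq_one_of_both (π := beta S)
      (fun p hp hd => Transitivity.isPi_piCoreOf (beta S) S p hp (hd.trans (orderOf_dvd_natCard _ h1)))
      (fun p hp hd => by
      rw [Set.mem_ofPred_eq, (Nat.prime_dvd_prime_iff_eq hp ht.out).mp
        (hd.trans (orderOf_dvd_of_pow_eq_one (hA.2 _ hcomm)))]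
      exact htβ)
    exact mul_inv_eq_iff_eq_mul.mp (mul_inv_eq_one.mp h2)
  refine (commute_of_not_beta_core P.hG P.h.hH (Y := A ⊔ zpowers u)
    (sup_le hAσ (zpowers_le.mpr P.u_core)) (fun p hp hd => ?_) (mem_sup_left hc)
    (mem_sup_right (mem_zpowers u)) hco).symm
  have hdj : Disjoint A (zpowers u) := by
    rw [disjoint_iff]
    refine inf_eq_bot_of_coprime (Nat.coprime_of_dvd fun p hp h1 h2 => htu ?_)
    rw [Nat.card_zpowers] at h2
    rw [← P.u_el p hp h2]
    exact (eq_of_dvd_pow_card hp hAp h1).symm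
  rw [Coprime.card_sup_of_disjoint (zpowers_le.mpr huA) hdj, Nat.card_zpowers] at hd
  rcases hp.dvd_mul.mp hd with h1 | h1
  · exact eq_of_dvd_pow_card hp hAp h1 ▸ htβ
  · exact P.u_el p hp h1 ▸ hpβ

/-- Points of a fixed line: `C(s) ≤ S`. -/
theorem P2.centralizer_fixed_le {s : G} (P : P2 M K U S u) (htS : t ∈ sigma S)
    (hA : Max2 t A) (huA : u ∈ normalizer (A : Set G)) (htu : t ≠ orderOf u) (hs : s ∈ A) (hs1 : s ≠ 1) (hus : Commute u s)
    (hv : v ∈ A) (hmove : u * v ≠ v * u) : centralizer ({s} : Set G) ≤ S := by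
  by_contra hle
  have hso : orderOf s = t := orderOf_eq_prime (hA.el.2 s hs) hs1
  have hsS : s ∈ S := P.centralizer_u_le (mem_centralizer_singleton_iff.mpr hus.symm.eq)
  have hsσ : s ∈ sigmaCore S := mem_core_of_piEl P.hG P.h.hH hsS fun p hp hd =>
    (Nat.prime_dvd_prime_iff_eq hp ht.out).mp (hso ▸ hd) ▸ htS
  obtain ⟨N, hN⟩ := Signalizer.exists_sig P.hG P.h.hH hsσ hs1 hle
  have hτ : t ∈ tau2 N := hN.htau t ht.out (hso ▸ dvd_rfl)
  have huN : u ∈ N := hN.hC (mem_centralizer_singleton_iff.mpr hus.eq)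
  have hAN : A ≤ N := fun a ha => hN.hC
    (mem_centralizer_singleton_iff.mpr (Components.Hyperplane.mem_comm hA.el ha hs))
  have hpN : orderOf u ∉ sigma N := not_sigma_of_ne P.hG P.h.hH hN.hN hN.hne P.p_sigma
  have hNM : ∀ g : G, N ≠ M.map (MulAut.conj g).toMonoidHom := by
    intro g e
    have h1 : t ∈ tau2 M := by
      refine ⟨ht.out, fun h => hτ.2.1 (by rw [e, sigma_eq]; exact h),
        SigmaCompl.rank_le P.hG P.h.hM ht.out (fun h => hτ.2.1 (by rw [e, sigma_eq]; exact h)), ?_⟩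
      exact PrimeAction.pRank_of_map (e ▸ hτ.2.2.2)
    exact P.not_sigma_U (KappaDecomp.dvd_of_not P.hKU ht.out
      (Sigma.dvd_of_not_pRankLE h1.2.2.2) h1.2.1
      (fun hκ => h1.2.2.2 (rank_of_kappa hκ))) htS
  -- a line moved by `u`
  have hAc : IsMulCommutative A := hA.comm
  set W := ⁅A, zpowers u⁆
  have hWA : W ≤ A := Cfsg.Agent.Coprime.commutator_le_of_le_normalizer (zpowers_le.mpr huA)
  have hco : (Nat.card (zpowers u)).Coprime (Nat.card A) := Nat.coprime_of_dvd fun p hp h1 h2 => by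
    rw [Nat.card_zpowers] at h1
    exact htu ((eq_of_dvd_pow_card hp hA.isPGroup h2).symm.trans (P.u_el p hp h1))
  have hW1 : W ≠ ⊥ := fun e => hmove
    (mem_centralizer_iff.mp (Cfsg.Agent.Coprime.commutator_eq_bot_iff_le_centralizer'.mp e
      (mem_zpowers u)) v hv).symm
  have huW : u ∈ normalizer (W : Set G) :=
    mem_normalizer_iff_map_conj_eq.mpr (by
      rw [map_commutator, mem_normalizer_iff_map_conj_eq.mp huA,
        mem_normalizer_iff_map_conj_eq.mp (le_normalizer (mem_zpowers u))])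
  have hfpf : ∀ w ∈ W, Commute u w → w = 1 := fun w hw e => mem_bot.mp
    ((Cfsg.Agent.Coprime.inf_centralizer_inf_commutator (zpowers_le.mpr huA) hco).le (mem_inf.mpr
      ⟨mem_inf.mpr ⟨hWA hw, centralizer_zpowers u ▸ mem_centralizer_singleton_iff.mpr e.symm.eq⟩, hw⟩))
  have hWC := P.centralizes hN.hN hNM huN hpN (hWA.trans hAN) huW hfpf
    (hA.isPGroup.to_le hWA) hτ.2.1
  obtain ⟨w, hw, hw1⟩ := (bot_or_exists_ne_one W).resolve_left hW1
  obtain ⟨d, hd, hd1, hsd⟩ := hN.fixed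
  obtain ⟨-, -, -, hCA, -⟩ := S1417.result P.hG N hN.hN t hτ A ⟨hAN, hA.el, hA.card⟩
  refine hd1 (mem_bot.mp (hCA ▸ mem_inf.mpr ⟨hd, mem_centralizer_iff.mpr fun a ha => ?_⟩))
  have hdj : Disjoint (zpowers s) (zpowers w) := by
    rw [disjoint_iff]
    by_contra hb
    obtain ⟨z, hz, hz1⟩ := (bot_or_exists_ne_one _).resolve_left hb
    obtain ⟨hzs, hzw⟩ := mem_inf.mp hz
    obtain ⟨i, rfl⟩ := mem_zpowers_iff.mp hzs
    exact hz1 (hfpf _ ((zpowers_le.mpr hw) hzw) (hus.zpow_right i))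
  have hgen : zpowers s ⊔ zpowers w = A := by
    refine eq_of_le_of_card_ge (sup_le (zpowers_le.mpr hs) (zpowers_le.mpr (hWA hw))) ?_
    rw [Coprime.card_sup_of_disjoint ?_ hdj, hA.card_zpowers hs hs1, hA.card_zpowers (hWA hw) hw1,
      hA.card, sq]
    exact (zpowers_le.mpr (hWA hw)).trans ((le_centralizer_iff.mp (zpowers_le.mpr (by
      exact mem_centralizer_iff.mpr fun b hb => Components.Hyperplane.mem_comm hA.el hb hs) :
      zpowers s ≤ centralizer (A : Set G))).trans (centralizer_le_normalizer _))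
  rw [← hgen] at ha
  have hle2 : zpowers s ⊔ zpowers w ≤ centralizer ({d} : Set G) := sup_le
    (zpowers_le.mpr (mem_centralizer_singleton_iff.mpr hsd))
    (zpowers_le.mpr (mem_centralizer_singleton_iff.mpr (mem_centralizer_iff.mp (hWC hw) d hd).symm))
  exact mem_centralizer_singleton_iff.mp (hle2 ha)

/-- The complement of `H_σ` lies in the partner. -/
theorem P2.compl_le (P : P2 M K U S u) (hH : IsCoatom H)
    (hHM : ∀ g : G, H ≠ M.map (MulAut.conj g).toMonoidHom) (hpσ : orderOf u ∉ sigma H) (huH : u ∈ H) :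
    ∃ E B : Subgroup G, IsComplIn E (sigmaCore H) H ∧ E ≤ S ∧ u ∈ B ∧ B ≤ E ∧
      E ≤ normalizer (B : Set G) ∧ IsMulCommutative B := by
  obtain ⟨E, hE, huE⟩ := Compl.exists_compl_ge P.hG hH (zpowers_le.mpr huH) fun p hp hd => by
    rw [Nat.card_zpowers] at hd
    exact P.u_el p hp hd ▸ hpσ
  have huE' : u ∈ E := huE (mem_zpowers u)
  have := Fact.mk P.hup
  have hzc : IsMulCommutative ↥(zpowers u) := inferInstance
  have hline : normalizer ((zpowers u : Subgroup G) : Set G) ≤ S := by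
    obtain ⟨L, hL, hLu, -, -, hN⟩ := exists_side P.hG P.h.hM P.h.hK P.hu P.hup
    exact hN.trans (le_of_eq (P.eq_partner hL.1 (Sigma.sigmaCore_le L hLu)
      (mem_sigma_core hLu _ P.hup dvd_rfl)))
  by_cases hp1 : PRankLE (orderOf u) 1 H
  swap
  · have hτ : orderOf u ∈ tau2 H := ⟨P.hup, hpσ, SigmaCompl.rank_le P.hG hH P.hup hpσ, hp1⟩
    obtain ⟨A, hAE, h⟩ := SigmaCompl.exists_ctx P.hG hH hE hτ
    have huA : u ∈ A := h.mem_of_pow hE hAE huE' (pow_orderOf_eq_one u)
    have hAS : A ≤ S := (h.hA.le_centralizer_singleton huA).trans P.centralizer_u_le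
    exact ⟨E, A, hE, (h.le_normalizer_compl hE hAE).trans
      (SigmaCompl.normalizer_le P.hG P.h.hH P.p_sigma h.hA.isPGroup hAS h.hA.not_isCyclic),
      huA, hAE, h.le_normalizer_compl hE hAE, h.hA.comm⟩
  by_cases hpd : orderOf u ∣ Nat.card ↥⁅H, H⁆
  · have hn := KappaOver.normalizes_line P.hG hH hE hpσ hp1 hpd huE' rfl
    exact ⟨E, zpowers u, hE, hn.trans hline, mem_zpowers u, huE, hn, hzc⟩
  have hDc := (S1420.result P.hG H hH E hE).2.1
  have hpD : ¬ orderOf u ∣ Nat.card ↥⁅E, E⁆ := fun h =>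
    hpd (h.trans (card_dvd_of_le (commutator_mono hE.1 hE.1)))
  have huD : u ∈ normalizer ((⁅E, E⁆ : Subgroup G) : Set G) :=
    Coprime.le_normalizer_commutator_self le_normalizer huE'
  have hzD : zpowers u ≤ normalizer ((⁅E, E⁆ : Subgroup G) : Set G) := zpowers_le.mpr huD
  have hco : (Nat.card (zpowers u)).Coprime (Nat.card ↥⁅E, E⁆) := by
    rw [Nat.card_zpowers]; exact P.hup.coprime_iff_not_dvd.mpr hpD
  -- `u` centralises `E'`
  have hcent : zpowers u ≤ centralizer ((⁅E, E⁆ : Subgroup G) : Set G) := by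
    rw [← Cfsg.Agent.Coprime.commutator_eq_bot_iff_le_centralizer']
    by_contra hW1
    set W := ⁅⁅E, E⁆, zpowers u⁆
    have hWD : W ≤ ⁅E, E⁆ := Cfsg.Agent.Coprime.commutator_le_of_le_normalizer hzD
    have hfpf : ∀ w ∈ W, Commute u w → w = 1 := fun w hw e => mem_bot.mp
      ((Cfsg.Agent.Coprime.inf_centralizer_inf_commutator hzD hco).le (mem_inf.mpr
        ⟨mem_inf.mpr ⟨hWD hw, centralizer_zpowers u ▸ mem_centralizer_singleton_iff.mpr e.symm.eq⟩, hw⟩))
    obtain ⟨t, ht, htd⟩ := Nat.exists_prime_and_dvd (fun e : Nat.card W = 1 => hW1 (card_eq_one.mp e))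
    have := Fact.mk ht
    have htσ : t ∉ sigma H :=
      Compl.not_sigma P.hG hH hE ht (htd.trans (card_dvd_of_le (hWD.trans (commutator_le_self E))))
    obtain ⟨⟨v, hv⟩, hvo⟩ := exists_prime_orderOf_dvd_card' t htd
    rw [orderOf_mk] at hvo
    have hv1 := KappaCentral.ne_one_of_order hvo
    have hWc : IsMulCommutative W :=
      ⟨⟨fun a b => Subtype.ext (congrArg (Subtype.val : ↥⁅E, E⁆ → G) (hDc.is_comm.comm ⟨a, hWD a.2⟩ ⟨b, hWD b.2⟩))⟩⟩
    obtain ⟨Y, hY⟩ := exists_omega hWc t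
    have huW : u ∈ normalizer (W : Set G) :=
      mem_normalizer_iff_map_conj_eq.mpr (by
        rw [map_commutator, mem_normalizer_iff_map_conj_eq.mp huD,
          mem_normalizer_iff_map_conj_eq.mp (le_normalizer (mem_zpowers u))])
    have huY : u ∈ normalizer (Y : Set G) := mem_normalizer_iff.mpr fun x => by
      rw [hY, hY, conj_pow]
      refine ⟨fun h => ⟨(mem_normalizer_iff.mp huW x).mp h.1, by rw [h.2]; group⟩,
        fun h => ⟨(mem_normalizer_iff.mp huW x).mpr h.1, conj_eq_one_iff.mp h.2⟩⟩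
    have hYE : Y ≤ E := fun x hx => commutator_le_self E (hWD ((hY x).mp hx).1)
    have hvY : v ∈ Y := (hY v).mpr ⟨hv, orderOf_dvd_iff_pow_eq_one.mp hvo.dvd⟩
    have hYC := P.centralizes hH hHM huH hpσ (hYE.trans hE.1) huY
      (fun y hy e => hfpf y ((hY y).mp hy).1 e) (fun y => ⟨1, Subtype.ext (by simpa using ((hY y).mp y.2).2)⟩)
      htσ
    have hτ := P.tau2_of_centralizes hH hHM hpσ (hE.1 (hYE hvY)) hvo htσ (hYC hvY)
    obtain ⟨A, hAE, h⟩ := SigmaCompl.exists_ctx P.hG hH hE hτ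
    have huA : u ∈ normalizer (A : Set G) := h.le_normalizer_compl hE hAE huE'
    have hvA : v ∈ A := h.mem_of_pow hE hAE (hYE hvY) (orderOf_dvd_iff_pow_eq_one.mp hvo.dvd)
    have hmove : u * v ≠ v * u := fun e => hv1 (hfpf v hv e)
    obtain ⟨s, hs, hs1, hus⟩ : ∃ s ∈ A, s ≠ 1 ∧ Commute u s := by
      by_contra hcon
      have hAC := P.centralizes hH hHM huH hpσ h.hAM huA
        (fun y hy e => by_contra fun h1 => hcon ⟨y, hy, h1, e⟩) h.hA.isPGroup htσ
      refine Sigma.sigmaCore_ne_bot P.hG hH ?_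
      rw [← (S1417.result P.hG H hH t hτ A ⟨h.hAM, h.hA.el, h.hA.card⟩).2.2.2.1, eq_comm, inf_eq_left]
      exact le_centralizer_iff.mp hAC
    have hso : orderOf s = t := orderOf_eq_prime (h.hA.el.2 s hs) hs1
    have htu : t ≠ orderOf u := fun e => hpD (e ▸ hvo ▸ orderOf_dvd_natCard _ (hWD hv))
    have hnid := (S1408.result P.hG H hH t htσ hτ.2.2.1 hτ.2.2.2).1
    have htM : t ∉ sigma M := fun h' => P.not_tau2 h' hH hτ
    have hsC : s ∈ centralizer ({u} : Set G) := mem_centralizer_singleton_iff.mpr hus.symm.eq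
    have hCs : centralizer ({s} : Set G) ≤ S := by
      by_cases htS : t ∈ sigma S
      · exact P.centralizer_fixed_le htS h.hA huA htu hs hs1 hus hvA hmove
      · rcases S1432.result P.hG S P.h.hH u P.u_core P.u_ne s
          (mem_inf.mpr ⟨P.centralizer_u_le hsC, hsC⟩) hs1
          (fun p hp hpd' => by
            rw [hso] at hpd'
            exact (Nat.prime_dvd_prime_iff_eq hp ht).mp hpd' ▸ htS) with ⟨hκ, -⟩ | ⟨-, -, hCs, -⟩
        · exact absurd (P.kappa_partner (hκ t ht (hso ▸ dvd_rfl))) htM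
        · exact hCs
    exact P.false_of_mover h.hA.el
      (fun a ha => hCs (mem_centralizer_singleton_iff.mpr (Components.Hyperplane.mem_comm h.hA.el ha hs)))
      huA htu hvA hmove hnid
  have hcen : ∀ e ∈ E, e * u = u * e := fun e he => by
    have hc : ⁅e, u⁆ ∈ ⁅E, E⁆ := commutator_mem_commutator he huE'
    rw [commutatorElement_def] at hc
    set d := e * u * e⁻¹ * u⁻¹ with hd
    have hdu : Commute d u := (mem_centralizer_iff.mp (hcent (mem_zpowers u)) d hc)
    have h1 : d ^ orderOf u = 1 := by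
      have h2 : (e * u * e⁻¹) ^ orderOf u = 1 := by rw [conj_pow, pow_orderOf_eq_one]; group
      rw [show e * u * e⁻¹ = d * u by rw [hd]; group, hdu.mul_pow, pow_orderOf_eq_one, mul_one] at h2
      exact h2
    have h3 : orderOf d = 1 := Nat.eq_one_of_dvd_coprimes hco
      ((orderOf_dvd_of_pow_eq_one h1).trans (Nat.card_zpowers u).symm.dvd) (orderOf_dvd_natCard _ hc)
    rw [orderOf_eq_one_iff, hd, mul_inv_eq_one, mul_inv_eq_iff_eq_mul] at h3
    exact h3
  exact ⟨E, zpowers u, hE, fun e he => P.centralizer_u_le (mem_centralizer_singleton_iff.mpr (hcen e he)),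
    mem_zpowers u, huE, fun e he => Signalizer.centralizer_le_normalizer_zpowers u
      (mem_centralizer_singleton_iff.mpr (hcen e he)), hzc⟩

/-- `H_σ` meets the partner trivially. -/
theorem P2.core_inf_partner (P : P2 M K U S u) (hH : IsCoatom H)
    (hHM : ∀ g : G, H ≠ M.map (MulAut.conj g).toMonoidHom) (hpσ : orderOf u ∉ sigma H) (huH : u ∈ H) :
    sigmaCore H ⊓ S = ⊥ := by
  refine eq_bot_iff.mpr fun s hs => ?_
  obtain ⟨hsσ, hsS⟩ := mem_inf.mp hs
  have hne : ∀ g : G, H ≠ S.map (MulAut.conj g).toMonoidHom := fun g e => hpσ (by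
    rw [e, sigma_eq]; exact P.p_sigma)
  have hus := KappaOver.inter_comm P.hG P.h.hH hH hne P.u_core huH hsσ hsS
  have := Fact.mk P.hup
  by_contra hs1
  by_cases hp1 : PRankLE (orderOf u) 1 H
  · exact Set.eq_empty_iff_forall_notMem.mp (P.kappa_empty hH hHM hpσ) _
      (mem_kappa P.hG huH rfl hpσ hp1 hsσ (fun e => hs1 (mem_bot.mpr e)) hus)
  have hτ : orderOf u ∈ tau2 H := ⟨P.hup, hpσ, SigmaCompl.rank_le P.hG hH P.hup hpσ, hp1⟩
  obtain ⟨E, hE, huE⟩ := Compl.exists_compl_ge P.hG hH (zpowers_le.mpr huH) fun p hp hd => by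
    rw [Nat.card_zpowers] at hd
    exact P.u_el p hp hd ▸ hpσ
  obtain ⟨A, hAE, h⟩ := SigmaCompl.exists_ctx P.hG hH hE hτ
  have huA : u ∈ A := h.mem_of_pow hE hAE (huE (mem_zpowers u)) (pow_orderOf_eq_one u)
  have hAS : A ≤ S := (h.hA.le_centralizer_singleton huA).trans P.centralizer_u_le
  have hAσ : A ≤ sigmaCore S := Sigma.sylow_le_sigmaCore P.hG P.h.hH P.p_sigma h.hA.isPGroup hAS
  obtain ⟨-, -, -, hCA, -⟩ := S1417.result P.hG H hH _ hτ A ⟨h.hAM, h.hA.el, h.hA.card⟩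
  exact hs1 (hCA ▸ mem_inf.mpr ⟨hsσ, mem_centralizer_iff.mpr fun a ha =>
    KappaOver.inter_comm P.hG P.h.hH hH hne (hAσ ha) (h.hAM ha) hsσ hsS⟩)

end Cfsg.Agent.OddLocal.PType
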