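import Cfsg.Agent.OddLocal.PTypeHull
import Cfsg.Agent.OddLocal.PTypeU2

/-! The support sets `A(M)` and `A₀(M)` (BG 14.7, 15.2). -/

set_option autoImplicit false
set_option linter.unusedSectionVars false

namespace Cfsg.Agent.OddLocal.PType

open Cfsg Subgroup KappaStructure SigmaParts
open Cfsg.Agent.Transfer.Fusion (map_conj_eq_self_iff mem_map_conj)

variable {G : Type*} [Group G] [Finite G] {M K U : Subgroup G} {a g m : G}

theorem hall_U (hG : IsMinSimpleOddOrder G) (hM : IsCoatom M) (hKU : IsSigmaDecomposition M K U) :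
    IsPiHallOf {p | p ∉ sigma M} U (U ⊔ sigmaCore M) := by
  refine ⟨le_sup_left, fun p hp hd => KappaDecomp.not_sigma_of_dvd hG hM hKU hp hd, fun p hp hσ hd => hσ ?_⟩
  have hn : U ≤ normalizer (sigmaCore M : Set G) :=
    hKU.compl.1.trans (Sigma.le_normalizer_sigmaCore M)
  have hdj : Disjoint U (sigmaCore M) := disjoint_iff.mpr (le_bot_iff.mp
    (le_trans (inf_le_inf_left U le_sup_right) hKU.compl.2.2.1.le))
  have h1 : Nat.card U * U.relIndex (U ⊔ sigmaCore M) = Nat.card ↥(U ⊔ sigmaCore M) := by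
    rw [← relIndex_bot_left, ← relIndex_bot_left, relIndex_mul_relIndex ⊥ U _ bot_le le_sup_left]
  rw [sup_comm, Coprime.card_sup_of_disjoint hn hdj.symm, mul_comm (Nat.card (sigmaCore M))] at h1
  have h2 := Nat.eq_of_mul_eq_mul_left Nat.card_pos h1
  rw [sup_comm, h2] at hd
  exact Transitivity.isPi_piCoreOf (sigma M) M p hp hd

theorem sigmaHat_conj (hm : m ∈ M) (ha : a ∈ sigmaHat M) : m * a * m⁻¹ ∈ sigmaHat M := by
  obtain ⟨haM, y, hy, hy1, hay⟩ := ha
  refine ⟨mul_mem (mul_mem hm haM) (inv_mem hm), m * y * m⁻¹,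
    (mem_normalizer_iff.mp (Sigma.le_normalizer_sigmaCore M hm) y).mp hy,
    fun e => hy1 (conj_eq_one_iff.mp e), ?_⟩
  calc m * a * m⁻¹ * (m * y * m⁻¹) = m * (a * y) * m⁻¹ := by group
    _ = m * (y * a) * m⁻¹ := by rw [hay]
    _ = m * y * m⁻¹ * (m * a * m⁻¹) := by group

theorem mem_normalizer_of_stable {X : Set G} (h : ∀ m ∈ M, ∀ a ∈ X, m * a * m⁻¹ ∈ X) :
    M ≤ normalizer X := fun m hm => mem_set_normalizer_iff.mpr fun a => ⟨h m hm a, fun ha => by
  have := h m⁻¹ (inv_mem hm) _ ha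
  simpa [mul_assoc] using this⟩

/-- The `σ'`-part of an element of `A(M) ∖ M_σ`. -/
theorem part_unique_max (hG : IsMinSimpleOddOrder G) (hM : IsCoatom M)
    (hKU : IsSigmaDecomposition M K U) (ha : a ∈ sigmaA M U) (haσ : a ∉ sigmaCore M) {b c : G}
    (e : a = b * c) (hb : IsPiEl (sigma M) b) (hc : IsPiEl {p | p ∉ sigma M} c) (hba : b ∈ zpowers a)
    (hca : c ∈ zpowers a) :
    centralizer ({c} : Set G) ≤ M ∧ ∀ L : Subgroup G, IsCoatom L → centralizer ({c} : Set G) ≤ L → L = M := by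
  obtain ⟨⟨haM, y, hy, hy1, hay⟩, haU⟩ := ha
  have hc1 : c ≠ 1 := by
    rintro rfl
    rw [mul_one] at e
    exact haσ (e ▸ mem_core_of_piEl hG hM ((zpowers_le.mpr haM) hba) hb)
  have hcy : c * y = y * c := by
    obtain ⟨i, rfl⟩ := mem_zpowers_iff.mp hca
    exact ((show Commute a y from hay).zpow_left i).eq
  obtain ⟨n, hn, hle⟩ := exists_conj_le_hall_solvable
    (Transitivity.isSolvable_of_ne_top hG fun e' => hM.1 (top_le_iff.mp (e' ▸ KappaDecomp.sup_le' hKU)))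
    (hall_U hG hM hKU) (zpowers_le.mpr ((zpowers_le.mpr haU) hca))
    (fun p hp hd => hc p hp (by rwa [Nat.card_zpowers] at hd))
  obtain ⟨d, hd, hdc⟩ := hle (mem_zpowers c)
  have hnM : n ∈ M := KappaDecomp.sup_le' hKU hn
  have hdc' : c = n * d * n⁻¹ := hdc.symm
  have hd1 : d ≠ 1 := fun h => hc1 (by rw [hdc', h]; group)
  obtain ⟨-, hle', huniq⟩ := of_fixed hG hM hKU hd hd1
    ((mem_normalizer_iff.mp (Sigma.le_normalizer_sigmaCore M (inv_mem hnM)) y).mp hy)
    (fun h => hy1 (conj_eq_one_iff.mp h)) (by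
      rw [hdc'] at hcy
      calc d * (n⁻¹ * y * n⁻¹⁻¹) = n⁻¹ * (n * d * n⁻¹ * y) * n := by group
        _ = n⁻¹ * (y * (n * d * n⁻¹)) * n := by rw [hcy]
        _ = n⁻¹ * y * n⁻¹⁻¹ * d := by group)
  have hC : centralizer ({c} : Set G) = (centralizer ({d} : Set G)).map (MulAut.conj n).toMonoidHom := by
    rw [hdc', TauTwo.centralizer_map_conj]
  refine ⟨?_, fun L hL hLc => ?_⟩
  · rw [hC, ← map_conj_eq_self_iff.mpr (le_normalizer hnM)]
    exact map_mono hle'
  · have hback : centralizer ({d} : Set G) ≤ L.map (MulAut.conj n⁻¹).toMonoidHom := fun z hz => by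
      rw [mem_map_conj]
      simpa using hLc (hC.ge (mem_map_of_mem _ hz))
    have h2 := huniq _ (Unique.isCoatom_map_conj hL _) hback
    refine le_antisymm ?_ ?_ <;> intro z hz
    · have : n⁻¹ * z * n⁻¹⁻¹ ∈ M := h2 ▸ mem_map_of_mem _ hz
      simpa [mul_assoc] using mul_mem (mul_mem hnM this) (inv_mem hnM)
    · have : n⁻¹ * z * n⁻¹⁻¹ ∈ L.map (MulAut.conj n⁻¹).toMonoidHom :=
        h2.ge (mul_mem (mul_mem (inv_mem hnM) hz) (inv_mem (inv_mem hnM)))
      rw [mem_map_conj] at this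
      simpa [mul_assoc] using this

/-- `A(M) ∖ M_σ` is a TI-set. -/
theorem ti_sigmaA (hG : IsMinSimpleOddOrder G) (hM : IsCoatom M) (hKU : IsSigmaDecomposition M K U) :
    IsTISubset (sigmaA M U \ (sigmaCore M : Set G)) := by
  intro g hg a ha hga
  refine absurd (mem_normalizer_of_stable (M := M) ?_ ?_) hg
  · rintro m hm b ⟨⟨hb, hbU⟩, hbσ⟩
    exact ⟨⟨sigmaHat_conj hm hb,
      (mem_normalizer_iff.mp (KappaDecomp.normal_sup hG hM hKU hm) b).mp hbU⟩,
      fun h => hbσ ((mem_normalizer_iff.mp (Sigma.le_normalizer_sigmaCore M hm) b).mpr h)⟩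
  obtain ⟨b, c, e, -, hb, hc, hba, hca⟩ := exists_parts (sigma M) a
  obtain ⟨h1, h2⟩ := part_unique_max hG hM hKU ha.1 ha.2 e hb hc hba hca
  have hconj : ∀ x : G, orderOf (g * x * g⁻¹) = orderOf x := fun x => (MulAut.conj g).orderOf_eq x
  have hz : ∀ x ∈ zpowers a, g * x * g⁻¹ ∈ zpowers (g * a * g⁻¹) := fun x hx => by
    obtain ⟨i, rfl⟩ := mem_zpowers_iff.mp hx
    exact mem_zpowers_iff.mpr ⟨i, conj_zpow⟩
  obtain ⟨h3, h4⟩ := part_unique_max hG hM hKU hga.1 hga.2 (b := g * b * g⁻¹) (c := g * c * g⁻¹)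
    (by rw [e]; group) (fun p hp hd => hb p hp (by rwa [hconj] at hd))
    (fun p hp hd => hc p hp (by rwa [hconj] at hd)) (hz b hba) (hz c hca)
  rw [TauTwo.centralizer_map_conj] at h4
  exact (mem_iff_conj_eq hG hM).mpr (h4 _ (Unique.isCoatom_map_conj hM g) (map_mono h1))

end Cfsg.Agent.OddLocal.PType
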