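import Cfsg.Agent.OddLocal.P2ElemAux

/-! An elementary abelian subgroup of order `p²` of a maximal subgroup (BG 12.4). -/

set_option autoImplicit false
set_option linter.unusedSectionVars false

namespace Cfsg.Agent.OddLocal.P2Elem

open Cfsg Subgroup MaxStruct
open scoped commutatorElement
open Cfsg.Agent.Transfer.Fusion (map_conj_mul card_map_conj map_conj_eq_self_iff map_conj_inv_cancel)

variable {G : Type*} [Group G] [Finite G] {p : ℕ} [hp : Fact p.Prime] {A M : Subgroup G}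

/-- No line of `A` has its normaliser uniquely in `M`. -/
def NoLine (A M : Subgroup G) : Prop :=
  ∀ a ∈ A, a ≠ 1 → ∃ L : Subgroup G, IsCoatom L ∧ L ≠ M ∧ normalizer (zpowers a : Set G) ≤ L

theorem not_unique (hG : IsMinSimpleOddOrder G) (hM : IsCoatom M) (hAM : A ≤ M)
    (hn : NoLine A M) (hA : A ≠ ⊥) (hAe : IsElementaryAbelian p A) : ¬ InUniqueMaximal A := by
  intro hU
  obtain ⟨a, ha, ha1⟩ := (bot_or_exists_ne_one A).resolve_left hA
  obtain ⟨L, hL, hne, hNL⟩ := hn a ha ha1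
  refine hne (hU.unique ⟨hL, fun b hb => hNL (centralizer_singleton_le a ?_)⟩ ⟨hM, hAM⟩)
  exact mem_centralizer_singleton_iff.mpr (Components.Hyperplane.mem_comm hAe hb ha)

theorem not_alpha (hG : IsMinSimpleOddOrder G) (hM : IsCoatom M) (hA : Max2 p A) (hAM : A ≤ M)
    (hn : NoLine A M) : p ∉ alpha M := by
  intro hα
  obtain ⟨B, hBM, hBe, hBc⟩ := Unique.exists_elementary_of_not_pRankLE hα.2
  obtain ⟨S, hAS, hSM⟩ := Sigma.exists_sylow_ge (Sigma.alpha_subset_sigma hG hM hα) hA.isPGroup hAM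
  obtain ⟨g, hg, hBS⟩ := Transfer.Fusion.exists_conj_le_of_isPGroup S hSM
    (Components.Hyperplane.isPGroup hBe) hBM
  have hBge : IsElementaryAbelian p (B.map (MulAut.conj g).toMonoidHom) := by
    refine ⟨?_, ?_⟩
    · have := hBe.1
      exact map_isMulCommutative B _
    · rintro _ ⟨b, hb, rfl⟩
      rw [← map_pow, hBe.2 b hb, map_one]
  have hS1 : (S : Subgroup G) ≠ ⊥ := fun e => hA.ne_bot (le_bot_iff.mp (e ▸ hAS))
  obtain ⟨z, hz, hz1⟩ := (bot_or_exists_ne_one _).resolve_left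
    (omegaCenter_ne_bot (q := p) S.isPGroup' hS1)
  have hzA : z ∈ A := hA.omega_sylow hAS hz.2.1 hz.2.2
  obtain ⟨L, hL, hne, hNL⟩ := hn z hzA hz1
  have hSC : (S : Subgroup G) ≤ centralizer ({z} : Set G) := fun s hs =>
    mem_centralizer_singleton_iff.mpr (mem_centralizer_iff.mp hz.2.1 s hs)
  have hS3 : ¬ PRankLE p 2 (S : Subgroup G) :=
    Unique.not_pRankLE_of_elementary hBS hBge (by rw [card_map_conj]; exact hBc.ge)
  have hU := Unique.uniqueness hG (K := (S : Subgroup G))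
    (fun e => hM.1 (top_le_iff.mp (e ▸ hSM)))
    (fun h => hS3 fun E hE hE' => (h p hp.out E hE hE').trans (Nat.pow_le_pow_right hp.out.pos (by norm_num)))
    (Or.inl fun h => hS3 (h p hp.out))
  exact hne (hU.unique ⟨hL, hSC.trans ((centralizer_singleton_le z).trans hNL)⟩ ⟨hM, hSM⟩)

/-- Case `M_α ≠ 1`. -/
theorem alphaCore_eq_bot (hG : IsMinSimpleOddOrder G) (hM : IsCoatom M) (hA : Max2 p A) (hAM : A ≤ M)
    (hn : NoLine A M) : alphaCore M = ⊥ := by
  by_contra hne
  have hpα := not_alpha hG hM hA hAM hn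
  obtain ⟨q, hqp', hqd⟩ := Nat.exists_prime_and_dvd (fun e : Nat.card (alphaCore M) = 1 => hne (card_eq_one.mp e))
  have := Fact.mk hqp'
  have hqα : q ∈ alpha M := Transitivity.isPi_piCoreOf (alpha M) M q hqp' hqd
  have hqp : q ≠ p := fun e => hpα (e ▸ hqα)
  have hqσ := Sigma.alpha_subset_sigma hG hM hqα
  have hcop : (Nat.card A).Coprime (Nat.card (alphaCore M)) :=
    (hA.coprime_iff _).mpr fun hd => hpα (Transitivity.isPi_piCoreOf (alpha M) M p hp.out hd)
  have hsol : Group.IsSolvable A := @Coprime.isSolvable_of_isMulCommutative G _ A hA.comm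
  obtain ⟨W₀, hAW⟩ := Coprime.exists_invariant_sylow q (hAM.trans (Sigma.le_normalizer_alphaCore M)) hcop
    (Or.inl hsol)
  obtain ⟨Q, hQ⟩ := exists_sylow_of_alphaCore hG hM hqα W₀
  rw [← hQ] at hAW
  have hQK : (Q : Subgroup G) ≤ alphaCore M := hQ ▸ map_subtype_le _
  have hQM := hQK.trans (Sigma.alphaCore_le M)
  obtain ⟨B, hBM, hBe, hBc⟩ := Unique.exists_elementary_of_not_pRankLE hqα.2
  obtain ⟨g, hg, hBQ⟩ := Transfer.Fusion.exists_conj_le_of_isPGroup Q hQM
    (Components.Hyperplane.isPGroup hBe) hBM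
  have hBge : IsElementaryAbelian q (B.map (MulAut.conj g).toMonoidHom) := by
    refine ⟨?_, ?_⟩
    · have := hBe.1
      exact map_isMulCommutative B _
    · rintro _ ⟨b, hb, rfl⟩
      rw [← map_pow, hBe.2 b hb, map_one]
  have hQ3 : ¬ PRankLE q 2 (Q : Subgroup G) :=
    Unique.not_pRankLE_of_elementary hBQ hBge (by rw [card_map_conj]; exact hBc.ge)
  have hQ1 : (Q : Subgroup G) ≠ ⊥ := Q.ne_bot_of_dvd_card (hqd.trans (card_subgroup_dvd_card _))
  have hQU := Unique.uniqueness hG (K := (Q : Subgroup G))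
    (fun e => hM.1 (top_le_iff.mp (e ▸ hQM)))
    (fun h => hQ3 fun E hE hE' => (h q hqp' E hE hE').trans (Nat.pow_le_pow_right hqp'.pos (by norm_num)))
    (Or.inl fun h => hQ3 (h q hqp'))
  have hcQ := hA.coprime_of_isPGroup hqp Q.isPGroup'
  -- `A` centralises the fixed points of each of its elements
  have hcyc : ∀ a ∈ A, a ≠ 1 → IsCyclic ↥((Q : Subgroup G) ⊓ centralizer ({a} : Set G)) := by
    intro a ha ha1
    by_contra hnc
    obtain ⟨L, hL, hne', hNL⟩ := hn a ha ha1
    have hCa : centralizer (zpowers a : Set G) = centralizer ({a} : Set G) := by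
      rw [zpowers_eq_closure, centralizer_closure]
    have h1 := Unique.not_pRankLE_one_of_not_isCyclic (Unique.ne_two hG hqd)
      (Q.isPGroup'.to_le (inf_le_left : (Q : Subgroup G) ⊓ centralizer ({a} : Set G) ≤ Q)) hnc
    have hU := Sigma.unique_inf_centralizer hG hM (X := zpowers a) (zpowers_le.mpr (hAM ha))
      (fun r hr hd => by
        rw [hA.card_zpowers ha ha1] at hd
        exact (Nat.prime_dvd_prime_iff_eq hr hp.out).mp hd ▸ hpα)
      (fun h => h1 (RankTwoFitting.pRankLE_mono (le_inf (inf_le_left.trans hQK)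
        (hCa ▸ inf_le_right)) (h q hqp')))
    exact hne' (hU.unique ⟨hL, inf_le_right.trans (hCa ▸ (centralizer_singleton_le a).trans hNL)⟩
      ⟨hM, inf_le_left⟩)
  have hfix : ∀ a ∈ A, a ≠ 1 →
      (Q : Subgroup G) ⊓ centralizer ({a} : Set G) ≤ centralizer (A : Set G) := by
    intro a ha ha1
    set C := (Q : Subgroup G) ⊓ centralizer ({a} : Set G) with hC
    have := hcyc a ha ha1
    have hAC : A ≤ normalizer (C : Set G) := hA.le_normalizer_inf_centralizer hAW ha
    have hcC := hcQ.coprime_dvd_right (card_dvd_of_le (inf_le_left : C ≤ Q))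
    refine le_centralizer_iff.mp (Coprime.commutator_eq_bot_iff_le_centralizer'.mp ?_)
    by_contra hT1
    set T := ⁅C, A⁆ with hT
    have hTC : T ≤ C := Coprime.commutator_le_of_le_normalizer hAC
    obtain ⟨L, hL, hneL, hNL⟩ := hn a ha ha1
    have hCaL : centralizer ({a} : Set G) ≤ L := (centralizer_singleton_le a).trans hNL
    have hside : Max2.Side p q A M L Q :=
      { hG := hG, hA := hA, hM := hM, hAM := hAM, hpα := hpα, hqp := hqp, hqσ := hqσ, hQM := hQM
        hAQ := hAW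
        hQu := fun H hH hN => hQU.unique ⟨hH, le_normalizer.trans hN⟩ ⟨hM, hQM⟩
        hL := hL, hne := hneL
        hAL := (hA.le_centralizer_singleton ha).trans hCaL
        hCA := (centralizer_le_singleton ha).trans hCaL }
    set Z₁ := omegaCenter q (Q : Subgroup G) with hZ₁
    have hCz : ∀ z ∈ Z₁, z ≠ 1 → centralizer ({z} : Set G) ≤ M := fun z hz hz1 =>
      Unique.le_max hQU hM hQM (Transitivity.centralizer_ne_top hG rfl hz1) fun y hy =>
        mem_centralizer_singleton_iff.mpr (mem_centralizer_iff.mp hz.2.1 y hy)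
    obtain ⟨hpσL, hNAL, hinv⟩ := hside.main ha ha1 hT1 (hTC.trans inf_le_left)
      (hTC.trans (inf_le_right.trans hCaL)) (hTC.trans inf_le_right) (normalizer_commutator_ge_right C A)
      (hA.commutator_commutator_eq hAC hcC) fun hqL hpL hZ0 hZQ hTZ => by
        by_cases hz : Z₁ ⊓ centralizer ({a} : Set G) = ⊥
        · refine hside.center_case (q := q) (Z₁ := Z₁) hqL (omegaCenter_le _) (omegaCenter_le_centralizer _)
            (hAW.trans (normalizer_le_normalizer_omegaCenter _)) ?_ ?_ hpL hZ0 hZQ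
          · exact le_bot_iff.mp ((inf_le_inf_left _ (centralizer_le_singleton ha)).trans hz.le)
          · obtain ⟨z, hz', hz1⟩ := (bot_or_exists_ne_one _).resolve_left
              (omegaCenter_ne_bot (q := q) Q.isPGroup' hQ1)
            exact (centralizer_le_singleton hz').trans (hCz z hz' hz1)
        · obtain ⟨z, hz', hz1⟩ := (bot_or_exists_ne_one _).resolve_left hz
          have hzT : z ∈ T := mem_of_cyclic (Q.isPGroup'.to_le inf_le_left) hTC hT1
            (mem_inf.mpr ⟨(mem_inf.mp hz').1.1, (mem_inf.mp hz').2⟩) (mem_inf.mp hz').1.2.2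
          exact Or.inl ((centralizer_le_singleton (hTZ hzT)).trans (hCz z (mem_inf.mp hz').1 hz1))
    exact hA.not_normalizer_line hG hpσL (zpowers_le.mpr ha) (hA.card_zpowers ha ha1) hNL hinv
  have hQA : (Q : Subgroup G) ≤ centralizer (A : Set G) := by
    by_contra hcon
    obtain ⟨a, ha, ha1, h⟩ := hA.exists_fixed hAW hcQ hcon
    exact h (hfix a ha ha1)
  obtain ⟨a, ha, ha1⟩ := (bot_or_exists_ne_one A).resolve_left hA.ne_bot
  have := hcyc a ha ha1
  have hle : B.map (MulAut.conj g).toMonoidHom ≤ (Q : Subgroup G) ⊓ centralizer ({a} : Set G) :=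
    le_inf hBQ (hBQ.trans (hQA.trans (centralizer_le_singleton ha)))
  have hcy : IsCyclic ↥(B.map (MulAut.conj g).toMonoidHom) :=
    isCyclic_of_surjective _ (subgroupOfEquivOfLe hle).surjective
  exact Components.Hyperplane.not_isCyclic hBge (by
    rw [card_map_conj, hBc]; exact Nat.pow_le_pow_right hqp'.pos (by norm_num)) hcy

/-- `M'` is nilpotent when `M_α = 1`. -/
theorem commutator_nilpotent (hG : IsMinSimpleOddOrder G) (hM : IsCoatom M) (h : alphaCore M = ⊥) :
    Group.IsNilpotent ↥⁅M, M⁆ := by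
  have hn := (S1405.result hG M hM).2.2.2.2
  have hK : piCore (alpha M) M = ⊥ := (map_eq_bot_iff_of_injective _ M.subtype_injective).mp h
  have hf : Function.Injective (QuotientGroup.mk' (piCore (alpha M) M)) := by
    rw [← MonoidHom.ker_eq_bot_iff, QuotientGroup.ker_mk', hK]
  have h1 : Group.IsNilpotent ↥(commutator M) :=
    have := hn
    Group.nilpotent_of_mulEquiv ((commutator M).equivMapOfInjective _ hf).symm
  rw [← map_subtype_commutator]
  exact Cores.isNilpotent_map _ _ h1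

theorem not_dvd_relIndex {H K : Subgroup G} (hHK : H ≤ K) {q : ℕ} (h : ¬ q ∣ H.index) : ¬ q ∣ H.relIndex K :=
  fun hd => h (hd.trans (Dvd.intro _ (relIndex_mul_index hHK)))

variable {q : ℕ} [hq : Fact q.Prime]

/-- With `M'` nilpotent, a Sylow subgroup at a prime of `σ(M)` is normal in `M`. -/
theorem le_normalizer_sylow (hG : IsMinSimpleOddOrder G) (hM : IsCoatom M)
    (hnil : Group.IsNilpotent ↥⁅M, M⁆) (hqσ : q ∈ sigma M) (Q : Sylow q G) (hQM : (Q : Subgroup G) ≤ M) :
    M ≤ normalizer ((Q : Subgroup G) : Set G) := by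
  have hQ' : (Q : Subgroup G) ≤ ⁅M, M⁆ :=
    (Sigma.sylow_le_sigmaCore hG hM hqσ Q.isPGroup' hQM).trans (Sigma.sigmaCore_le_commutator hG hM)
  intro m hm
  rw [← map_conj_eq_self_iff]
  refine eq_of_le_of_card_ge ?_ (by rw [card_map_conj])
  refine Compl.le_of_nilpotent_hall hnil hQ' ?_ fun r hr hd => ?_
  · have hm' : ⁅M, M⁆.map (MulAut.conj m).toMonoidHom = ⁅M, M⁆ := by
      rw [Subgroup.map_commutator, map_conj_eq_self_iff.mpr (le_normalizer hm)]
    exact hm' ▸ map_mono hQ'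
  · have : r = q := (Cores.isPi_iff_isPGroup _).mpr (Q.isPGroup'.map _) r hr hd
    subst this
    exact not_dvd_relIndex hQ' Q.not_dvd_index

/-- `M'` centralises `Ω₁(Z(Q))`. -/
theorem commutator_le_centralizer_center (hG : IsMinSimpleOddOrder G) (hM : IsCoatom M)
    (hnil : Group.IsNilpotent ↥⁅M, M⁆) (hqσ : q ∈ sigma M) (Q : Sylow q G) (hQM : (Q : Subgroup G) ≤ M) :
    ⁅M, M⁆ ≤ centralizer (omegaCenter q (Q : Subgroup G) : Set G) := by
  have hQ' : (Q : Subgroup G) ≤ ⁅M, M⁆ :=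
    (Sigma.sylow_le_sigmaCore hG hM hqσ Q.isPGroup' hQM).trans (Sigma.sigmaCore_le_commutator hG hM)
  refine CN.le_of_forall_isPGroup fun r hr x hx hxr => mem_centralizer_iff.mpr fun z hz => ?_
  have := Fact.mk hr
  rcases eq_or_ne r q with rfl | hne
  · have hxQ : zpowers x ≤ (Q : Subgroup G) := by
      refine Compl.le_of_nilpotent_hall hnil hQ' (zpowers_le.mpr hx) fun s hs hd => ?_
      have : s = r := (Cores.isPi_iff_isPGroup _).mpr hxr s hs hd
      subst this
      exact not_dvd_relIndex hQ' Q.not_dvd_index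
    exact (mem_centralizer_iff.mp hz.2.1 x (hxQ (mem_zpowers x))).symm
  · exact CN.commute_of_coprime hnil (hQ' hz.1) hx
      (CN.coprime_orderOf_of_isPGroup (Ne.symm hne) Q.isPGroup' hxr hz.1 (mem_zpowers x))

/-- Case `M_α = 1`, `A` moves the Sylow subgroup `Q`. -/
theorem moved_false (hG : IsMinSimpleOddOrder G) (hM : IsCoatom M) (hA : Max2 p A) (hAM : A ≤ M)
    (hn : NoLine A M) (hα : alphaCore M = ⊥) (hpσ : p ∉ sigma M) (hqσ : q ∈ sigma M) (Q : Sylow q G)
    (hQM : (Q : Subgroup G) ≤ M) (hmove : ¬ A ≤ centralizer ((Q : Subgroup G) : Set G)) : False := by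
  have hqp : q ≠ p := fun e => hpσ (e ▸ hqσ)
  have hpα : p ∉ alpha M := fun h => hpσ (Sigma.alpha_subset_sigma hG hM h)
  have hnil := commutator_nilpotent hG hM hα
  have hMQ := le_normalizer_sylow hG hM hnil hqσ Q hQM
  have hQ1 : (Q : Subgroup G) ≠ ⊥ := fun e => hmove (by
    rw [e]; exact fun x _ => mem_centralizer_iff.mpr fun y hy => by
      rw [SetLike.mem_coe, mem_bot] at hy; simp [hy])
  have hNQ : normalizer ((Q : Subgroup G) : Set G) = M := (hM.le_iff.mp hMQ).resolve_left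
    (Transitivity.normalizer_ne_top hG hQ1 fun e => hM.1 (top_le_iff.mp (e ▸ hQM)))
  have hAQ : A ≤ normalizer ((Q : Subgroup G) : Set G) := hAM.trans hMQ
  set Z₁ := omegaCenter q (Q : Subgroup G) with hZ₁
  have hMZ : M ≤ normalizer (Z₁ : Set G) := hMQ.trans (normalizer_le_normalizer_omegaCenter _)
  have hNT : ∀ T : Subgroup G, T ≠ ⊥ → T ≤ (Q : Subgroup G) → M ≤ normalizer (T : Set G) →
      centralizer (T : Set G) ≤ M := fun T hT1 hTQ hMT =>
    (centralizer_le_normalizer _).trans ((hM.le_iff.mp hMT).resolve_left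
      (Transitivity.normalizer_ne_top hG hT1 fun e => hM.1 (top_le_iff.mp (e ▸ hTQ.trans hQM)))).le
  -- the contradiction from a suitable subgroup
  have fin : ∀ b ∈ A, b ≠ 1 → ∀ T : Subgroup G, T ≠ ⊥ → T ≤ (Q : Subgroup G) →
      T ≤ centralizer ({b} : Set G) → A ≤ normalizer (T : Set G) → ⁅T, A⁆ = T →
      centralizer (T : Set G) ≤ M → False := by
    intro b hb hb1 T hT1 hTQ hTb hAT hTA hCT
    obtain ⟨L, hL, hneL, hNL⟩ := hn b hb hb1
    have hCbL : centralizer ({b} : Set G) ≤ L := (centralizer_singleton_le b).trans hNL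
    have hside : Max2.Side p q A M L Q :=
      { hG := hG, hA := hA, hM := hM, hAM := hAM, hpα := hpα, hqp := hqp, hqσ := hqσ, hQM := hQM
        hAQ := hAQ
        hQu := fun H hH hN => ((hM.le_iff.mp (hNQ ▸ hN)).resolve_left hH.1)
        hL := hL, hne := hneL
        hAL := (hA.le_centralizer_singleton hb).trans hCbL
        hCA := (centralizer_le_singleton hb).trans hCbL }
    obtain ⟨hpσL, -, hinv⟩ := hside.main hb hb1 hT1 hTQ (hTb.trans hCbL) hTb hAT hTA
      fun _ _ _ _ hTZ => Or.inl ((centralizer_le hTZ).trans hCT)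
    exact hA.not_normalizer_line hG hpσL (zpowers_le.mpr hb) (hA.card_zpowers hb hb1) hNL hinv
  have hAZ : A ≤ normalizer (Z₁ : Set G) := hAM.trans hMZ
  have hZq : IsPGroup q Z₁ := Q.isPGroup'.to_le (omegaCenter_le _)
  have hcZ := hA.coprime_of_isPGroup hqp hZq
  set U := ⁅Z₁, A⁆ with hU
  by_cases hU0 : U = ⊥
  swap
  · -- `A` moves `Ω₁(Z(Q))`
    have hUZ : U ≤ Z₁ := Coprime.commutator_le_of_le_normalizer hAZ
    have hM' := commutator_le_centralizer_center hG hM hnil hqσ Q hQM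
    have hact : ∀ m ∈ M, ∀ a ∈ A, ∀ z ∈ Z₁, m * a * m⁻¹ * z * (m * a * m⁻¹)⁻¹ = a * z * a⁻¹ := by
      intro m hm a ha z hz
      have hc : m * a * m⁻¹ * a⁻¹ ∈ ⁅M, M⁆ := commutator_mem_commutator hm (hAM ha)
      have h1 : a * z * a⁻¹ ∈ Z₁ := (mem_normalizer_iff.mp (hAZ ha) z).mp hz
      have h2 := mem_centralizer_iff.mp (hM' hc) _ h1
      calc m * a * m⁻¹ * z * (m * a * m⁻¹)⁻¹
          = (m * a * m⁻¹ * a⁻¹) * (a * z * a⁻¹) * (m * a * m⁻¹ * a⁻¹)⁻¹ := by group
        _ = a * z * a⁻¹ := by rw [← h2]; group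
    have hMU : M ≤ normalizer (U : Set G) := by
      intro m hm
      rw [← map_conj_eq_self_iff]
      refine eq_of_le_of_card_ge ?_ (by rw [card_map_conj])
      rw [hU, Subgroup.map_commutator, map_conj_eq_self_iff.mpr (hMZ hm), commutator_le]
      rintro z hz _ ⟨a, ha, rfl⟩
      have h1 := hact m hm a ha z⁻¹ (inv_mem hz)
      show z * (m * a * m⁻¹) * z⁻¹ * (m * a * m⁻¹)⁻¹ ∈ _
      rw [show z * (m * a * m⁻¹) * z⁻¹ * (m * a * m⁻¹)⁻¹ = z * (a * z⁻¹ * a⁻¹) by rw [← h1]; group,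
        show z * (a * z⁻¹ * a⁻¹) = ⁅z, a⁆ by rw [commutatorElement_def]; group]
      exact commutator_mem_commutator hz ha
    have hZab : IsMulCommutative Z₁ := ⟨⟨fun x y => Subtype.ext
      (mem_centralizer_iff.mp y.2.2.1 _ x.2.1)⟩⟩
    have hUfix : U ⊓ centralizer (A : Set G) = ⊥ := by
      have h := Coprime.inf_centralizer_inf_commutator hAZ hcZ
      exact le_bot_iff.mp (le_trans (le_inf (le_inf (inf_le_left.trans hUZ) inf_le_right) inf_le_left) h.le)
    have hAU : A ≤ normalizer (U : Set G) := hAM.trans hMU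
    obtain ⟨b, hb, hb1, hbne⟩ := hA.exists_fixed hAU (hcZ.coprime_dvd_right (card_dvd_of_le hUZ))
      (fun h => hU0 (le_bot_iff.mp h))
    set T := U ⊓ centralizer ({b} : Set G) with hT
    have hT1 : T ≠ ⊥ := fun e => hbne e.le
    have hAT : A ≤ normalizer (T : Set G) := hA.le_normalizer_inf_centralizer hAU hb
    have hTA : ⁅T, A⁆ = T := hA.commutator_eq_self hAT
      (hcZ.coprime_dvd_right (card_dvd_of_le (inf_le_left.trans hUZ)))
      (le_bot_iff.mp ((inf_le_inf_right _ inf_le_left).trans hUfix.le))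
    have hTQ : T ≤ (Q : Subgroup G) := inf_le_left.trans (hUZ.trans (omegaCenter_le _))
    refine fin b hb hb1 T hT1 hTQ inf_le_right hAT hTA (hNT T hT1 hTQ ?_)
    rw [le_normalizer_iff]
    intro m hm t ht
    refine mem_inf.mpr ⟨(mem_normalizer_iff.mp (hMU hm) t).mp (mem_inf.mp ht).1,
      mem_centralizer_singleton_iff.mpr ?_⟩
    have h1 := hact m⁻¹ (inv_mem hm) b hb t (hUZ (mem_inf.mp ht).1)
    have h2 := mem_centralizer_singleton_iff.mp (mem_inf.mp ht).2
    have h3 : b * t * b⁻¹ = t := by rw [← h2]; group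
    rw [h3, inv_inv] at h1
    calc m * t * m⁻¹ * b = m * (t * (m⁻¹ * b * m)) * m⁻¹ := by group
      _ = m * ((m⁻¹ * b * m * t * (m⁻¹ * b * m)⁻¹) * (m⁻¹ * b * m)) * m⁻¹ := by rw [h1]
      _ = b * (m * t * m⁻¹) := by group
  -- `A` centralises `Ω₁(Z(Q))`
  have hAZc : Z₁ ≤ centralizer (A : Set G) :=
    le_centralizer_iff.mp (Coprime.commutator_eq_bot_iff_le_centralizer'.mp hU0)
  have hq2 : q ≠ 2 := Unique.ne_two hG (Unique.dvd_card_of_ne_bot Q.isPGroup' hQ1)
  have hdetect : (∀ x ∈ (Q : Subgroup G), x ^ q = 1 → x ∈ centralizer (A : Set G)) → False := by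
    intro hfix
    refine hmove fun a ha => Coprime.OmegaDetect.mem_centralizer_of_fix (p := q) ?_ Q.isPGroup' (hAQ ha)
      fun x hx hxq => ?_
    · rcases eq_or_ne a 1 with rfl | ha1
      · simp
      · rw [Components.Hyperplane.orderOf_eq hA.el ha ha1]
        exact (Nat.coprime_primes hp.out hq.out).mpr (Ne.symm hqp)
    · rcases hxq with h | ⟨h, -⟩
      · exact mem_centralizer_iff.mp (hfix x hx h) a ha
      · exact absurd h hq2
  have hr : PRankLE q 2 (Q : Subgroup G) := by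
    by_contra h3
    have hqα : q ∈ alpha M := ⟨hq.out, fun h => h3 (RankTwoFitting.pRankLE_mono hQM h)⟩
    have h1 := (Sigma.alphaCore_hall hG hM).2.2 q hq.out hqα
    rw [hα, index_bot] at h1
    exact h1 ((Unique.dvd_card_of_ne_bot Q.isPGroup' hQ1).trans (card_subgroup_dvd_card _))
  rcases S1412.result hG q Q hr with hab | ⟨P₁, P₂, hsup, hcomm, hna, hc, hexp, hP₂, hP₂Z⟩
  · refine hdetect fun x hx hxq => hAZc ⟨hx, ?_, hxq⟩
    exact mem_centralizer_iff.mpr fun y hy => setLike_mul_comm (s := (Q : Subgroup G)) hy hx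
  have hP₁Q : P₁ ≤ (Q : Subgroup G) := hsup ▸ le_sup_left
  have hP₂Q : P₂ ≤ (Q : Subgroup G) := hsup ▸ le_sup_right
  have hP₂N : P₂ ≤ normalizer (P₁ : Set G) := le_trans
    (fun b hb => mem_centralizer_iff.mpr fun a ha => hcomm a ha b hb) (centralizer_le_normalizer _)
  have hexp' : ∀ x ∈ P₁, x ^ q = 1 := fun x hx =>
    congrArg Subtype.val (hexp ▸ Monoid.pow_exponent_eq_one (⟨x, hx⟩ : P₁))
  have hΩ : ∀ x ∈ (Q : Subgroup G), x ^ q = 1 → x ∈ P₁ := by
    intro x hx hxq
    rw [← hsup] at hx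
    obtain ⟨u, hu, v, hv, rfl⟩ := (Coprime.mem_sup_of_le_normalizer hP₂N).mp hx
    rw [(show Commute u v from hcomm u hu v hv).mul_pow, hexp' u hu, one_mul] at hxq
    refine mul_mem hu ?_
    have h1 : v ∈ P₁ ⊓ centralizer (P₁ : Set G) := hP₂Z ▸ subset_closure ⟨hv, hxq⟩
    exact (mem_inf.mp h1).1
  have hAP : A ≤ normalizer (P₁ : Set G) := by
    rw [le_normalizer_iff]
    intro a ha x hx
    refine hΩ _ ((mem_normalizer_iff.mp (hAQ ha) x).mp (hP₁Q hx)) ?_
    rw [conj_pow, hexp' x hx]; group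
  have hZ0 : P₁ ⊓ centralizer (P₁ : Set G) ≤ Z₁ := by
    intro x hx
    refine ⟨hP₁Q (mem_inf.mp hx).1, ?_, hexp' x (mem_inf.mp hx).1⟩
    have h1 : (Q : Subgroup G) ≤ centralizer ({x} : Set G) := by
      rw [← hsup]
      refine sup_le (fun y hy => mem_centralizer_singleton_iff.mpr
        (mem_centralizer_iff.mp (mem_inf.mp hx).2 y hy))
        (fun y hy => mem_centralizer_singleton_iff.mpr (hcomm x (mem_inf.mp hx).1 y hy).symm)
    exact mem_centralizer_iff.mpr fun y hy => mem_centralizer_singleton_iff.mp (h1 hy)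
  have hd : ⁅P₁, P₁⁆ ≤ P₁ ⊓ centralizer (P₁ : Set G) :=
    le_inf (commutator_le_self P₁) (commutator_le_centralizer_of_card hc)
  have hP₁q : IsPGroup q P₁ := IsPGroup.of_card hc
  have hcP := hA.coprime_of_isPGroup hqp hP₁q
  obtain ⟨b, hb, hb1, hnab⟩ := exists_nonabelian hA hAP hcP (hZ0.trans hAZc) ((hd.trans hZ0).trans hAZc)
    fun h => hdetect fun x hx hxq => h (hΩ x hx hxq)
  set C := P₁ ⊓ centralizer ({b} : Set G) with hC
  have hAC : A ≤ normalizer (C : Set G) := hA.le_normalizer_inf_centralizer hAP hb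
  have hcC := hcP.coprime_dvd_right (card_dvd_of_le (inf_le_left : C ≤ P₁))
  set T := ⁅C, A⁆ with hT
  have hTC : T ≤ C := Coprime.commutator_le_of_le_normalizer hAC
  have hTP : T = P₁ := by
    refine eq_of_le_of_card_ge (hTC.trans inf_le_left) ?_
    by_contra hlt
    refine hnab (comm_of_card_le_sq (hP₁q.to_le (hTC.trans inf_le_left)) ?_)
    obtain ⟨n, hn⟩ := (hP₁q.to_le (hTC.trans inf_le_left)).exists_card_eq
    rw [hn, hc, not_le, Nat.pow_lt_pow_iff_right hq.out.one_lt] at hlt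
    rw [hn]
    exact Nat.pow_le_pow_right hq.out.pos (by omega)
  have hna1 : P₁ ⊓ centralizer (P₁ : Set G) ≠ ⊥ := fun e => hna (by
    rw [eq_bot_iff] at e
    have h1 := le_bot_iff.mp (hd.trans e)
    refine ⟨⟨fun x y => Subtype.ext (commutatorElement_eq_one_iff_mul_comm.mp ?_)⟩⟩
    exact mem_bot.mp (h1 ▸ commutator_mem_commutator x.2 y.2))
  refine fin b hb hb1 T (hTP ▸ fun e => hna1 (le_bot_iff.mp (inf_le_left.trans e.le)))
    (hTP ▸ hP₁Q) (hTC.trans inf_le_right) (normalizer_commutator_ge_right C A)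
    (hA.commutator_commutator_eq hAC hcC) ?_
  rw [hTP]
  refine le_trans (centralizer_le fun x hx => hΩ x hx.1 hx.2.2) (hNT Z₁ ?_ (omegaCenter_le _) hMZ)
  exact omegaCenter_ne_bot Q.isPGroup' hQ1

/-- Case `M_α = 1`, `p ∉ σ(M)`. -/
theorem mem_sigma_of_noLine (hG : IsMinSimpleOddOrder G) (hM : IsCoatom M) (hA : Max2 p A) (hAM : A ≤ M)
    (hn : NoLine A M) (hα : alphaCore M = ⊥) : p ∈ sigma M := by
  by_contra hpσ
  obtain ⟨q, hqp', hqd⟩ := Nat.exists_prime_and_dvd
    (fun e : Nat.card (sigmaCore M) = 1 => Sigma.sigmaCore_ne_bot hG hM (card_eq_one.mp e))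
  have := Fact.mk hqp'
  have hqσ : q ∈ sigma M := Transitivity.isPi_piCoreOf (sigma M) M q hqp' hqd
  obtain ⟨Q, hQM, -⟩ := Sigma.exists_sylow_normalizer_le hqσ
  by_cases hmove : A ≤ centralizer ((Q : Subgroup G) : Set G)
  swap
  · exact moved_false hG hM hA hAM hn hα hpσ hqσ Q hQM hmove
  have hQC : (Q : Subgroup G) ≤ centralizer (A : Set G) := le_centralizer_iff.mp hmove
  have hnil := commutator_nilpotent hG hM hα
  have hMQ := le_normalizer_sylow hG hM hnil hqσ Q hQM
  have hQ1 : (Q : Subgroup G) ≠ ⊥ := Q.ne_bot_of_dvd_card (hqd.trans (card_subgroup_dvd_card _))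
  have hNQ : normalizer ((Q : Subgroup G) : Set G) = M := (hM.le_iff.mp hMQ).resolve_left
    (Transitivity.normalizer_ne_top hG hQ1 fun e => hM.1 (top_le_iff.mp (e ▸ hQM)))
  -- `M'` has order prime to `p`
  have hp' : ¬ p ∣ Nat.card ↥⁅M, M⁆ := by
    intro hd
    obtain ⟨P, hP⟩ := (hA.isPGroup.comap_subtype (K := M)).exists_le_sylow
    set T := (P : Subgroup M).map M.subtype with hT
    have hAT : A ≤ T := fun a ha => ⟨⟨a, hAM ha⟩, hP ha, rfl⟩
    have hTM : T ≤ M := map_subtype_le _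
    have hTp : IsPGroup p T := P.isPGroup'.map _
    obtain ⟨D, hD⟩ : ∃ D : Sylow p ↥⁅M, M⁆, (D : Subgroup ↥⁅M, M⁆).Normal := ⟨default,
      (Group.isNilpotent_of_finite_tfae.out 0 3 rfl rfl).1 hnil p inferInstance default⟩
    have := Sylow.unique_of_normal D hD
    have hchar : (D : Subgroup ↥⁅M, M⁆).Characteristic := D.characteristic_of_normal hD
    set D' := (D : Subgroup ↥⁅M, M⁆).map ⁅M, M⁆.subtype with hD'
    have hMD : M ≤ normalizer (D' : Set G) := by
      refine le_trans ?_ (Coprime.OmegaDetect.normalizer_le_normalizer_char _ _)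
      intro m hm
      rw [← map_conj_eq_self_iff, Subgroup.map_commutator, map_conj_eq_self_iff.mpr (le_normalizer hm)]
    set W := omegaCenter p D' with hW
    have hMW : M ≤ normalizer (W : Set G) := hMD.trans (normalizer_le_normalizer_omegaCenter _)
    have hW1 : W ≠ ⊥ := omegaCenter_ne_bot (D.isPGroup'.map _) fun e => D.ne_bot_of_dvd_card hd
      ((map_eq_bot_iff_of_injective _ (Subgroup.subtype_injective _)).mp e)
    have hM' : ⁅M, M⁆ ≤ centralizer (W : Set G) := by
      refine CN.le_of_forall_isPGroup fun r hr x hx hxr => mem_centralizer_iff.mpr fun z hz => ?_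
      have := Fact.mk hr
      rcases eq_or_ne r p with rfl | hne
      · obtain ⟨S, hS⟩ := (hxr.comap_subtype (K := ⁅M, M⁆)).exists_le_sylow
        rw [Subsingleton.elim S D] at hS
        exact (mem_centralizer_iff.mp hz.2.1 x
          ⟨⟨x, hx⟩, hS (show (⟨x, hx⟩ : (⁅M, M⁆ : Subgroup G)) ∈ (zpowers x).comap _ from mem_zpowers x), rfl⟩).symm
      · exact CN.commute_of_coprime hnil (map_subtype_le _ hz.1) hx
          (CN.coprime_orderOf_of_isPGroup (Ne.symm hne) (D.isPGroup'.map _) hxr hz.1 (mem_zpowers x))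
    have hWp : IsPGroup p W := (D.isPGroup'.map _).to_le (omegaCenter_le _)
    have hWM : W ≤ M := (omegaCenter_le _).trans ((map_subtype_le _).trans (commutator_le_self M))
    set Zc := W ⊓ centralizer (T : Set G) with hZc
    have hWT : W ≤ T := by
      have : (W.subgroupOf M).Normal := (normal_subgroupOf_iff_le_normalizer hWM).mpr hMW
      intro w hw
      exact ⟨⟨w, hWM hw⟩, (Cores.le_pCore (hN := this) hWp.comap_subtype).trans
        (Cores.pCore_le_sylow (p := p) P) hw, rfl⟩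
    have hZc1 : Zc ≠ ⊥ := by
      have : Group.IsNilpotent T := hTp.isNilpotent
      have hn' : (W.subgroupOf T).Normal :=
        (normal_subgroupOf_iff_le_normalizer hWT).mpr (hTM.trans hMW)
      obtain ⟨z, hz, hz1⟩ := (bot_or_exists_ne_one _).resolve_left
        (Cores.inf_center_ne_bot (N := W.subgroupOf T) (fun e => hW1 (by
          rw [← map_subgroupOf_eq_of_le hWT, e, Subgroup.map_bot])))
      intro e
      refine hz1 (Subtype.ext (mem_bot.mp (e ▸ mem_inf.mpr ⟨(mem_inf.mp hz).1, mem_centralizer_iff.mpr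
        fun y hy => congrArg Subtype.val (mem_center_iff.mp (mem_inf.mp hz).2 ⟨y, hy⟩)⟩)))
    have hMZ : M ≤ normalizer (Zc : Set G) := by
      rw [le_normalizer_iff]
      intro m hm x hx
      have hx' := mem_inf.mp hx
      refine mem_inf.mpr ⟨(mem_normalizer_iff.mp (hMW hm) x).mp hx'.1, mem_centralizer_iff.mpr fun u hu => ?_⟩
      have hc : u⁻¹ * (m⁻¹ * u * m) ∈ ⁅M, M⁆ := by
        have := commutator_mem_commutator (inv_mem (hTM hu)) (inv_mem hm)
        rw [commutatorElement_def, inv_inv, inv_inv] at this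
        simpa [mul_assoc] using this
      have h1 := mem_centralizer_iff.mp (hM' hc) x hx'.1
      have h2 := mem_centralizer_iff.mp hx'.2 u hu
      calc u * (m * x * m⁻¹) = m * (u * ((u⁻¹ * (m⁻¹ * u * m)) * x)) * m⁻¹ := by group
        _ = m * (u * (x * (u⁻¹ * (m⁻¹ * u * m)))) * m⁻¹ := by rw [h1]
        _ = m * ((u * x) * (u⁻¹ * (m⁻¹ * u * m))) * m⁻¹ := by group
        _ = m * ((x * u) * (u⁻¹ * (m⁻¹ * u * m))) * m⁻¹ := by rw [h2]
        _ = m * x * m⁻¹ * u := by group
    have hZA : Zc ≤ A := fun x hx =>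
      hA.omega_sylow hAT (mem_inf.mp hx).2 (mem_inf.mp hx).1.2.2
    have hNZ : normalizer (Zc : Set G) = M := (hM.le_iff.mp hMZ).resolve_left
      (Transitivity.normalizer_ne_top hG hZc1 fun e => hA.ne_top hG (top_le_iff.mp (e ▸ hZA)))
    rcases eq_or_ne Zc A with he | hne'
    · refine Sigma.normalizer_sylow_not_le hpσ (hA.dvd_card.trans (card_dvd_of_le hAM)) P (le_trans ?_ hNZ.le)
      rw [← hT, he, le_normalizer_iff]
      intro g hg a ha
      have hac : a ∈ centralizer (T : Set G) := (mem_inf.mp (he.symm ▸ ha : a ∈ Zc)).2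
      refine hA.omega_sylow hAT (Sigma.centralizer_conj hg hac) ?_
      rw [conj_pow, hA.el.2 a ha]; group
    · have hc := hA.card_eq_of_lt hZA hZc1 hne'
      obtain ⟨a, ha, ha1⟩ := (bot_or_exists_ne_one _).resolve_left hZc1
      obtain ⟨L, hL, hneL, hNL⟩ := hn a (hZA ha) ha1
      have h1 : zpowers a = Zc := eq_of_le_of_card_ge (zpowers_le.mpr ha)
        (by rw [hc, hA.card_zpowers (hZA ha) ha1])
      rw [h1, hNZ] at hNL
      exact hneL ((hM.le_iff.mp hNL).resolve_left hL.1)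
  -- so `N(A)` centralises `A`
  refine hA.normalizer_not_le_centralizer hG fun n hn' => ?_
  set C := centralizer (A : Set G) with hC
  set Qn := (Q : Subgroup G).map (MulAut.conj n).toMonoidHom with hQn
  have hQnC : Qn ≤ C := by
    rintro _ ⟨x, hx, rfl⟩
    exact Sigma.centralizer_conj hn' (hQC hx)
  obtain ⟨c, hc, hcQ⟩ := HallFusion.exists_conj_sylow hQC hQnC Q.isPGroup'
    (not_dvd_relIndex hQC Q.not_dvd_index) (Q.isPGroup'.map _) (card_map_conj _ _)
  have hcn : c * n ∈ M := by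
    rw [← hNQ, ← map_conj_eq_self_iff, map_conj_mul, ← hQn, hcQ]
  refine mem_centralizer_iff.mpr fun a ha => ?_
  have hm : c * n * a * (c * n)⁻¹ * a⁻¹ ∈ ⁅M, M⁆ ⊓ A := by
    refine mem_inf.mpr ⟨commutator_mem_commutator hcn (hAM ha), mul_mem ?_ (inv_mem ha)⟩
    exact (mem_normalizer_iff.mp (mul_mem (centralizer_le_normalizer _ hc) hn') a).mp ha
  have hbot : ⁅M, M⁆ ⊓ A = ⊥ := (disjoint_of_coprime_natCard ((hA.coprime_iff _).mpr hp').symm).eq_bot
  rw [hbot, mem_bot, mul_inv_eq_one, mul_inv_eq_iff_eq_mul] at hm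
  have hca := mem_centralizer_iff.mp hc a ha
  calc a * n = c⁻¹ * (c * a) * n := by group
    _ = c⁻¹ * (a * c) * n := by rw [hca]
    _ = c⁻¹ * (a * (c * n)) := by group
    _ = c⁻¹ * (c * n * a) := by rw [hm]
    _ = n * a := by group

/-- Some line of `A` has normaliser uniquely in `M`, unless `p ∈ σ(M)` and `M_α = 1`. -/
theorem main (hG : IsMinSimpleOddOrder G) (hM : IsCoatom M) (hAM : A ≤ M) (hAe : IsElementaryAbelian p A)
    (hAc : Nat.card A = p ^ 2) (hn : NoLine A M) :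
    p ∈ sigma M ∧ alphaCore M = ⊥ ∧ Group.IsNilpotent (sigmaCore M) := by
  have hA1 : A ≠ ⊥ := fun e => by
    rw [e, card_bot] at hAc
    exact (Nat.one_lt_pow two_ne_zero hp.out.one_lt).ne hAc
  have hA := max2_of_not_unique hG hM hAM hAe hAc (not_unique hG hM hAM hn hA1 hAe)
  have hα := alphaCore_eq_bot hG hM hA hAM hn
  exact ⟨mem_sigma_of_noLine hG hM hA hAM hn hα, hα,
    Cores.isNilpotent_to_le (Sigma.sigmaCore_le_commutator hG hM) (commutator_nilpotent hG hM hα)⟩

/-- In the exceptional case too, `C(A) ≤ M`. -/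
theorem centralizer_le_of_noLine (hG : IsMinSimpleOddOrder G) (hM : IsCoatom M) (hAM : A ≤ M)
    (hAe : IsElementaryAbelian p A) (hAc : Nat.card A = p ^ 2) (hn : NoLine A M) :
    centralizer (A : Set G) ≤ M := by
  obtain ⟨hpσ, hα, -⟩ := main hG hM hAM hAe hAc hn
  have hA1 : A ≠ ⊥ := fun e => by
    rw [e, card_bot] at hAc
    exact (Nat.one_lt_pow two_ne_zero hp.out.one_lt).ne hAc
  have hA := max2_of_not_unique hG hM hAM hAe hAc (not_unique hG hM hAM hn hA1 hAe)
  obtain ⟨S, hAS, hSM⟩ := Sigma.exists_sylow_ge hpσ hA.isPGroup hAM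
  have hMS := le_normalizer_sylow hG hM (commutator_nilpotent hG hM hα) hpσ S hSM
  set W := omegaCenter p (S : Subgroup G)
  have hW1 : W ≠ ⊥ := omegaCenter_ne_bot S.isPGroup' fun e => hA1 (le_bot_iff.mp (e ▸ hAS))
  have hWA : W ≤ A := fun x hx => hA.omega_sylow hAS hx.2.1 hx.2.2
  have hNW : normalizer (W : Set G) = M :=
    (hM.le_iff.mp (hMS.trans (normalizer_le_normalizer_omegaCenter _))).resolve_left
      (Transitivity.normalizer_ne_top hG hW1 fun e => hA.ne_top hG (top_le_iff.mp (e ▸ hWA)))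
  exact (centralizer_le hWA).trans ((centralizer_le_normalizer _).trans hNW.le)

end Cfsg.Agent.OddLocal.P2Elem
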