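import Cfsg.Agent.OddLocal.P2Elem
import Cfsg.Agent.S1408
import Cfsg.Agent.S1416
import Cfsg.Agent.S1453

/-! Sylow subgroups at the primes of `τ₂(M)`: they are abelian (BG 12.5). -/

set_option autoImplicit false
set_option linter.unusedSectionVars false

namespace Cfsg.Agent.OddLocal.TauTwo

open Cfsg Subgroup
open scoped commutatorElement
open Cfsg.Agent.Transfer.Fusion (map_conj_mul card_map_conj map_conj_eq_self_iff map_conj_inv_cancel)
open P2Elem (omegaCenter centralizer_singleton_le centralizer_le_singleton)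

variable {G : Type*} [Group G] [Finite G] {p : ℕ} [hp : Fact p.Prime] {A M : Subgroup G}

theorem max2 (hG : IsMinSimpleOddOrder G) (hM : IsCoatom M) (hpτ : p ∈ tau2 M) (hAM : A ≤ M)
    (hAe : IsElementaryAbelian p A) (hAc : Nat.card A = p ^ 2) : Max2 p A := by
  refine ⟨hAe, hAc, fun x hx hxp => ?_⟩
  have hsup := PLocal.ThompsonSubgroup.IsElementaryAbelian.sup hAe
    (PLocal.ThompsonSubgroup.isElementaryAbelian_zpowers hxp)
    (zpowers_le.mpr hx |> le_centralizer_iff.mp)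
  exact (S1408.result hG M hM p hpτ.2.1 hpτ.2.2.1 hpτ.2.2.2).2 A hAM hAe hAc _ hsup le_sup_left ▸
    mem_sup_right (mem_zpowers x)

theorem centralizer_le (hG : IsMinSimpleOddOrder G) (hM : IsCoatom M) (hA : Max2 p A) (hAM : A ≤ M) :
    centralizer (A : Set G) ≤ M :=
  (S1416.result hG M hM p A ⟨hAM, hA.el, hA.card⟩).1

theorem exists_line (hG : IsMinSimpleOddOrder G) (hM : IsCoatom M) (hpσ : p ∉ sigma M) (hA : Max2 p A)
    (hAM : A ≤ M) : ∃ a ∈ A, a ≠ 1 ∧ normalizer (zpowers a : Set G) ≤ M ∧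
      ∀ L : Subgroup G, IsCoatom L → normalizer (zpowers a : Set G) ≤ L → L = M := by
  by_contra hcon
  refine hpσ ((S1416.result hG M hM p A ⟨hAM, hA.el, hA.card⟩).2 fun A₀ hA₀ hc h => hcon ?_).1
  obtain ⟨a, ha, ha1⟩ := (bot_or_exists_ne_one A₀).resolve_left fun e => by
    rw [e, card_bot] at hc
    exact hp.out.ne_one hc.symm
  have he : zpowers a = A₀ := eq_of_le_of_card_ge (zpowers_le.mpr ha)
    (by rw [hc, hA.card_zpowers (hA₀ ha) ha1])
  exact ⟨a, hA₀ ha, ha1, he.symm ▸ h.1, fun L hL hN => h.2 L hL (he ▸ hN)⟩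

/-- In a nonabelian Sylow subgroup, `A` is not centralised; the centraliser of `A` in it is abelian,
and not all of `A` consists of `p`-th powers of it. -/
theorem centralizer_inf_structure (hG : IsMinSimpleOddOrder G) (hA : Max2 p A) (S : Sylow p G)
    (hAS : A ≤ (S : Subgroup G)) :
    IsMulCommutative ↥((S : Subgroup G) ⊓ centralizer (A : Set G)) ∧
      (¬ A ≤ centralizer ((S : Subgroup G) : Set G) →
        ∃ a ∈ A, ∀ x ∈ (S : Subgroup G), x ∈ centralizer (A : Set G) → x ^ p ≠ a) := by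
  set S' := (S : Subgroup G) with hS'
  have hp2 := hA.ne_two hG
  by_cases hr : PRankLE p 2 S'
  · rcases S1412.result hG p S hr with hab | ⟨P₁, P₂, hsup, hcomm, -, -, hexp, hP₂, hP₂Z⟩
    · refine ⟨⟨⟨fun x y => Subtype.ext (setLike_mul_comm (s := S') (mem_inf.mp x.2).1 (mem_inf.mp y.2).1)⟩⟩,
        fun h => absurd (fun a ha => mem_centralizer_iff.mpr fun y hy =>
          setLike_mul_comm (s := S') hy (hAS ha)) h⟩
    have hP₂N : P₂ ≤ normalizer (P₁ : Set G) := le_trans
      (fun b hb => mem_centralizer_iff.mpr fun a ha => hcomm a ha b hb) (centralizer_le_normalizer _)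
    have hexp' : ∀ x ∈ P₁, x ^ p = 1 := fun x hx =>
      congrArg Subtype.val (hexp ▸ Monoid.pow_exponent_eq_one (⟨x, hx⟩ : P₁))
    have hdec : ∀ x ∈ S', ∃ u ∈ P₁, ∃ v ∈ P₂, x = u * v ∧ x ^ p = v ^ p := by
      intro x hx
      rw [hS', ← hsup] at hx
      obtain ⟨u, hu, v, hv, rfl⟩ := (Coprime.mem_sup_of_le_normalizer hP₂N).mp hx
      exact ⟨u, hu, v, hv, rfl, by
        rw [(show Commute u v from hcomm u hu v hv).mul_pow, hexp' u hu, one_mul]⟩
    have hA₁ : A ≤ P₁ := by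
      intro a ha
      obtain ⟨u, hu, v, hv, rfl, hpw⟩ := hdec a (hAS ha)
      rw [hA.el.2 _ ha] at hpw
      have h1 : v ∈ P₁ ⊓ centralizer (P₁ : Set G) := hP₂Z ▸ subset_closure ⟨hv, hpw.symm⟩
      exact mul_mem hu (mem_inf.mp h1).1
    have hdecC : ∀ x ∈ S', x ∈ centralizer (A : Set G) → ∃ u ∈ A, ∃ v ∈ P₂, x = u * v ∧ x ^ p = v ^ p := by
      intro x hx hxC
      obtain ⟨u, hu, v, hv, rfl, hpw⟩ := hdec x hx
      refine ⟨u, hA.omega u ?_ (hexp' u hu), v, hv, rfl, hpw⟩
      have hvC : v ∈ centralizer (A : Set G) := mem_centralizer_iff.mpr fun a ha => hcomm a (hA₁ ha) v hv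
      exact (mul_mem_cancel_right hvC).mp hxC
    refine ⟨⟨⟨fun x y => Subtype.ext ?_⟩⟩, fun _ => ?_⟩
    · obtain ⟨u, hu, v, hv, ex, -⟩ := hdecC x (mem_inf.mp x.2).1 (mem_inf.mp x.2).2
      obtain ⟨u', hu', v', hv', ey, -⟩ := hdecC y (mem_inf.mp y.2).1 (mem_inf.mp y.2).2
      have hvv : Commute v v' := by
        obtain ⟨w, hw⟩ := hP₂.exists_generator
        obtain ⟨i, hi⟩ := mem_zpowers_iff.mp (hw ⟨v, hv⟩)
        obtain ⟨j, hj⟩ := mem_zpowers_iff.mp (hw ⟨v', hv'⟩)
        have hi' := congrArg Subtype.val hi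
        have hj' := congrArg Subtype.val hj
        simp only [coe_zpow] at hi' hj'
        rw [← hi', ← hj']
        exact Commute.zpow_zpow (Commute.refl _) i j
      have h1 : Commute u u' := Components.Hyperplane.mem_comm hA.el hu hu'
      have h2 : Commute u v' := hcomm u (hA₁ hu) v' hv'
      have h3 : Commute v u' := (hcomm u' (hA₁ hu') v hv).symm
      show (x : G) * (y : G) = (y : G) * (x : G)
      rw [ex, ey]
      exact ((h1.mul_right h2).mul_left (h3.mul_right hvv)).eq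
    · by_contra hcon
      push Not at hcon
      refine hA.not_isCyclic ?_
      have hle : A ≤ P₂ := by
        intro a ha
        obtain ⟨x, hx, hxC, rfl⟩ := hcon a ha
        obtain ⟨u, -, v, hv, -, hpw⟩ := hdecC x hx hxC
        rw [hpw]
        exact pow_mem hv p
      exact isCyclic_of_surjective _ (subgroupOfEquivOfLe hle).surjective
  · set E := A.subgroupOf S' with hE
    have hEe : IsElementaryAbelian p E :=
      ⟨⟨⟨fun u v => Subtype.ext (Subtype.ext (Components.Hyperplane.mem_comm hA.el u.2 v.2))⟩⟩,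
        fun b hb => Subtype.ext (hA.el.2 _ hb)⟩
    have hEmax : ∀ B : Subgroup S', IsElementaryAbelian p B → E ≤ B → B = E := fun B hB hEB =>
      le_antisymm (show B ≤ E from fun (b : S') hb => hA.omega (b : G) (mem_centralizer_iff.mpr fun a ha =>
        congrArg Subtype.val (Components.Hyperplane.mem_comm hB (hEB (show (⟨a, hAS ha⟩ : S') ∈ E from ha)) hb))
        (congrArg Subtype.val (hB.2 b hb))) hEB
    obtain ⟨hEC, -, -, hCchar, hCidx⟩ := S1453.result p hp2 S.isPGroup' hr E hEe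
      ((Nat.card_congr (subgroupOfEquivOfLe hAS).toEquiv).trans hA.card) hEmax
    set C := centralizer ((closure {x : S' | x ∈ Subgroup.upperCentralSeries S' 2 ∧ x ^ p = 1} :
      Subgroup S') : Set S') with hCdef
    have : C.Normal := inferInstance
    obtain ⟨a, haE, haC⟩ := SetLike.not_le_iff_exists.mp hEC
    refine ⟨?_, fun _ => ⟨a, haE, fun x hx _ hxp => haC ?_⟩⟩
    swap
    · have h1 := C.pow_index_mem ⟨x, hx⟩
      rw [hCidx] at h1
      have : (⟨x, hx⟩ : S') ^ p = a := Subtype.ext hxp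
      rwa [this] at h1
    -- `S ∩ C(A)` is generated by `a` and a cyclic subgroup
    set C' := C.map S'.subtype with hC'
    set K := C' ⊓ centralizer (A : Set G) with hK
    have hKp : IsPGroup p K := S.isPGroup'.to_le (inf_le_left.trans (map_subtype_le _))
    have hKc : IsCyclic K := by
      by_contra hnc
      obtain ⟨B, hBK, hBe, hBc⟩ := Unique.exists_elementary_of_not_pRankLE
        (Unique.not_pRankLE_one_of_not_isCyclic hp2 hKp hnc)
      have hBA : B ≤ A := fun b hb => hA.omega b (mem_inf.mp (hBK hb)).2 (hBe.2 b hb)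
      have hBA' : B = A := eq_of_le_of_card_ge hBA (by rw [hBc, hA.card])
      obtain ⟨a', ha', e⟩ := (mem_inf.mp (hBK (hBA'.symm ▸ haE : (a : G) ∈ B))).1
      exact haC ((Subtype.ext e : a' = a) ▸ ha')
    have hgen : ∀ x ∈ S', x ∈ centralizer (A : Set G) → ∃ i : ℤ, ∃ y ∈ K, x = (a : G) ^ i * y := by
      intro x hx hxC
      have hcard : Nat.card (S' ⧸ C) = p := by rw [← index_eq_card, hCidx]
      have hgq : zpowers (QuotientGroup.mk' C a) = ⊤ := zpowers_eq_top_of_prime_card hcard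
        fun e => haC ((QuotientGroup.eq_one_iff a).mp e)
      obtain ⟨i, hi⟩ := mem_zpowers_iff.mp (hgq ▸ mem_top (QuotientGroup.mk' C ⟨x, hx⟩) :
        QuotientGroup.mk' C ⟨x, hx⟩ ∈ zpowers (QuotientGroup.mk' C a))
      have hyC : ((a ^ i)⁻¹ * ⟨x, hx⟩ : S') ∈ C := by
        rw [← QuotientGroup.ker_mk' C, MonoidHom.mem_ker, map_mul, map_inv, map_zpow, hi, inv_mul_cancel]
      refine ⟨i, ((a ^ i)⁻¹ * ⟨x, hx⟩ : S'), mem_inf.mpr ⟨⟨_, hyC, rfl⟩, ?_⟩, by simp⟩
      rw [coe_mul, coe_inv, coe_zpow]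
      exact mul_mem (inv_mem (zpow_mem (hA.le_centralizer haE) i)) hxC
    refine ⟨⟨fun x y => Subtype.ext ?_⟩⟩
    obtain ⟨i, u, hu, ex⟩ := hgen x (mem_inf.mp x.2).1 (mem_inf.mp x.2).2
    obtain ⟨j, v, hv, ey⟩ := hgen y (mem_inf.mp y.2).1 (mem_inf.mp y.2).2
    have hau : Commute (a : G) u := mem_centralizer_iff.mp (mem_inf.mp hu).2 a haE
    have hav : Commute (a : G) v := mem_centralizer_iff.mp (mem_inf.mp hv).2 a haE
    have huv : Commute u v := setLike_mul_comm (s := K) hu hv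
    show (x : G) * (y : G) = (y : G) * (x : G)
    rw [ex, ey]
    exact (((Commute.zpow_zpow (Commute.refl (a : G)) i j).mul_right (hav.zpow_left i)).mul_left
      ((hau.zpow_left j).symm.mul_right huv)).eq

/-- A subgroup not central in a `p`-group containing it is moved by an element normalising it. -/
theorem exists_normalizing (hA : Max2 p A) {T : Subgroup G} (hT : IsPGroup p T) (hAT : A ≤ T)
    (hc : ¬ A ≤ centralizer (T : Set G)) :
    ∃ u ∈ T, u ∈ normalizer (A : Set G) ∧ u ∉ centralizer (A : Set G) := by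
  set C := T ⊓ centralizer (A : Set G) with hC
  have hAC : A ≤ C := le_inf hAT hA.le_centralizer
  have hlt : C < T := lt_of_le_of_ne inf_le_left fun e => hc (le_centralizer_iff.mp (e ▸ inf_le_right))
  have hgt := Transitivity.inf_normalizer_gt hT hlt
  obtain ⟨s, hs, hsC⟩ := SetLike.not_le_iff_exists.mp fun h : normalizer (C : Set G) ⊓ T ≤ C =>
    absurd (card_dvd_of_le h) fun hd => not_le.mpr hgt (Nat.le_of_dvd Nat.card_pos hd)
  have hsT := (mem_inf.mp hs).2
  refine ⟨s, hsT, ?_, fun h => hsC (mem_inf.mpr ⟨hsT, h⟩)⟩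
  rw [← map_conj_eq_self_iff]
  refine eq_of_le_of_card_ge ?_ (by rw [card_map_conj])
  rintro _ ⟨a, ha, rfl⟩
  refine hA.omega _ (mem_inf.mp ((mem_normalizer_iff.mp (mem_inf.mp hs).1 a).mp (hAC ha))).2 ?_
  show (s * a * s⁻¹) ^ p = 1
  rw [conj_pow, hA.el.2 a ha]; group

/-- The lines of `A` other than the central one have normalisers uniquely in `M`. -/
theorem lines_unique (hG : IsMinSimpleOddOrder G) (hM : IsCoatom M) (hpσ : p ∉ sigma M) (hA : Max2 p A)
    {T : Subgroup G} (hT : IsPGroup p T) (hTM : T ≤ M) (hAT : A ≤ T) {Z : Subgroup G} (hZA : Z ≤ A)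
    (hZc : Nat.card Z = p) (hZT : Z ≤ centralizer (T : Set G)) (hc : ¬ A ≤ centralizer (T : Set G))
    (hZN : ¬ normalizer (Z : Set G) ≤ M) {a : G} (ha : a ∈ A) (haZ : a ∉ Z) :
    normalizer (zpowers a : Set G) ≤ M ∧
      ∀ L : Subgroup G, IsCoatom L → normalizer (zpowers a : Set G) ≤ L → L = M := by
  obtain ⟨a₀, ha₀, ha₀1, hN₀, hU₀⟩ := exists_line hG hM hpσ hA (hAT.trans hTM)
  have ha₀Z : a₀ ∉ Z := fun h => hZN (by
    rwa [eq_of_le_of_card_ge (zpowers_le.mpr h) (by rw [hZc, hA.card_zpowers ha₀ ha₀1])] at hN₀)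
  obtain ⟨u, huT, huN, huC⟩ := exists_normalizing hA hT hAT hc
  have hua₀ : ¬ Commute u a₀ := fun h => huC (by
    rw [← zpowers_le, le_centralizer_iff, ← hA.sup_zpowers hZA hZc ha₀ ha₀Z]
    refine sup_le (hZT.trans (Subgroup.centralizer_le (zpowers_le.mpr huT)))
      (zpowers_le.mpr (mem_centralizer_iff.mpr fun y hy => ?_))
    obtain ⟨i, rfl⟩ := mem_zpowers_iff.mp hy
    exact (h.zpow_left i).eq)
  have hZcomm : ∀ z ∈ Z, Commute u z := fun z hz => mem_centralizer_iff.mp (hZT hz) u huT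
  set c := u * a₀ * u⁻¹ * a₀⁻¹ with hcdef
  -- the commutator lies in `Z`
  have hcZ : c ∈ Z := by
    set U := A ⊔ zpowers u with hU
    have hUT : U ≤ T := sup_le hAT (zpowers_le.mpr huT)
    have hUN : U ≤ normalizer (A : Set G) := sup_le le_normalizer (zpowers_le.mpr huN)
    have : Group.IsNilpotent U := (hT.to_le hUT).isNilpotent
    set K := ⁅A, U⁆ with hK
    have hlt : K < A := Coprime.commutator_lt_of_isNilpotent le_sup_left hA.ne_bot hUN
    have hcK : c ∈ K := by
      rw [hK, commutator_comm]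
      exact commutator_mem_commutator (mem_sup_right (mem_zpowers u) : u ∈ U) ha₀
    by_contra hcZ
    have hc1 : c ≠ 1 := fun e => hcZ (e ▸ one_mem Z)
    have hKc := hA.card_eq_of_lt hlt.le (fun e => hc1 (mem_bot.mp (e ▸ hcK))) hlt.ne
    have hzK : zpowers c = K := eq_of_le_of_card_ge (zpowers_le.mpr hcK)
      (by rw [hKc, hA.card_zpowers (hlt.le hcK) hc1])
    have huK : u ∈ normalizer (zpowers c : Set G) := by
      rw [hzK]
      exact normalizer_commutator_ge_right A U (mem_sup_right (mem_zpowers u))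
    have huc := centralize_of_normalize (p := p) (hT.to_le (zpowers_le.mpr huT))
      (Components.Hyperplane.orderOf_eq hA.el (hlt.le hcK) hc1) huK
    refine hua₀ ?_
    have ha₀c : a₀ ∈ Z ⊔ zpowers c := by rw [hA.sup_zpowers hZA hZc (hlt.le hcK) hcZ]; exact ha₀
    have hle : Z ⊔ zpowers c ≤ centralizer ({u} : Set G) :=
      sup_le (fun z hz => mem_centralizer_singleton_iff.mpr (hZcomm z hz).eq.symm)
        (zpowers_le.mpr (mem_centralizer_singleton_iff.mpr huc.eq.symm))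
    exact (mem_centralizer_singleton_iff.mp (hle ha₀c)).symm
  have hc1 : c ≠ 1 := fun e => hua₀ (mul_inv_eq_iff_eq_mul.mp (mul_inv_eq_one.mp e))
  have hZeq : zpowers c = Z := eq_of_le_of_card_ge (zpowers_le.mpr hcZ)
    (by rw [hZc, hA.card_zpowers (hZA hcZ) hc1])
  have hpow : ∀ j : ℕ, u ^ j * a₀ * (u ^ j)⁻¹ = c ^ j * a₀ := by
    intro j
    induction j with
    | zero => simp
    | succ j ih =>
      have hcu : Commute u (c ^ j) := (hZcomm c hcZ).pow_right j
      calc u ^ (j + 1) * a₀ * (u ^ (j + 1))⁻¹ = u * (u ^ j * a₀ * (u ^ j)⁻¹) * u⁻¹ := by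
            rw [pow_succ']; group
        _ = u * c ^ j * a₀ * u⁻¹ := by rw [ih]; group
        _ = c ^ j * (u * a₀ * u⁻¹) := by rw [hcu.eq]; group
        _ = c ^ (j + 1) * a₀ := by rw [pow_succ, hcdef]; group
  -- `zpowers a` is a conjugate of `zpowers a₀` by a power of `u`
  have ha₀' : a₀ ∈ zpowers a ⊔ Z := by
    rw [sup_comm, hA.sup_zpowers hZA hZc ha haZ]; exact ha₀
  have hcomm : zpowers a ≤ normalizer (Z : Set G) :=
    (zpowers_le.mpr (hAT ha)).trans ((le_centralizer_iff.mp hZT).trans (centralizer_le_normalizer _))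
  obtain ⟨z, hz, v, hv, e⟩ := (Coprime.mem_sup_of_le_normalizer hcomm).mp (sup_comm (zpowers a) Z ▸ ha₀')
  obtain ⟨j, hj⟩ := mem_powers_iff_mem_zpowers.mpr (hZeq.symm ▸ inv_mem hz : z⁻¹ ∈ zpowers c)
  have hv' : v = u ^ j * a₀ * (u ^ j)⁻¹ := by
    rw [hpow, show c ^ j = z⁻¹ from hj, ← e]; group
  have hv1 : v ≠ 1 := fun h => ha₀Z (by rw [← e, h, mul_one]; exact hz)
  have hzv : zpowers v = zpowers a := eq_of_le_of_card_ge (zpowers_le.mpr hv) (by
    rw [hA.card_zpowers ha (fun h => haZ (h ▸ one_mem Z)),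
      hA.card_zpowers ((zpowers_le.mpr ha) hv) hv1])
  have hzp : zpowers a = (zpowers a₀).map (MulAut.conj (u ^ j)).toMonoidHom := by
    rw [MonoidHom.map_zpowers, ← hzv, hv']; rfl
  have hum : u ^ j ∈ M := pow_mem (hTM huT) j
  have hN : normalizer (zpowers a : Set G) =
      (normalizer (zpowers a₀ : Set G)).map (MulAut.conj (u ^ j)).toMonoidHom := by
    rw [hzp, Subgroup.map_equiv_normalizer_eq]
  refine ⟨?_, fun L hL hNL => ?_⟩
  · rw [hN, ← map_conj_eq_self_iff.mpr (le_normalizer hum)]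
    exact map_mono hN₀
  · have h1 := hU₀ (L.map (MulAut.conj (u ^ j)⁻¹).toMonoidHom) (Unique.isCoatom_map_conj hL _) (by
      rw [hN] at hNL
      have := map_mono (f := (MulAut.conj (u ^ j)⁻¹).toMonoidHom) hNL
      rwa [map_conj_inv_cancel] at this)
    rw [← map_conj_eq_self_iff.mpr (le_normalizer hum), ← h1, ← map_conj_mul, mul_inv_cancel,
      Transfer.Fusion.map_conj_one]

/-- `T ∩ C(T)` has its elements of order `p` in `A`. -/
theorem omegaCenter_le (hA : Max2 p A) {T : Subgroup G} (hAT : A ≤ T) : omegaCenter p T ≤ A :=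
  fun _ hx => hA.omega_sylow hAT hx.2.1 hx.2.2

/-- A `p`-subgroup of `M` containing `A` centralises `A`. -/
theorem le_centralizer_of_sylow (hG : IsMinSimpleOddOrder G) (hM : IsCoatom M) (hpτ : p ∈ tau2 M)
    (hA : Max2 p A) (P : Sylow p M) (hAP : A ≤ (P : Subgroup M).map M.subtype) :
    A ≤ centralizer ((P : Subgroup M).map M.subtype : Set G) := by
  by_contra hc
  set T := (P : Subgroup M).map M.subtype with hTdef
  have hTp : IsPGroup p T := P.isPGroup'.map _
  have hTM : T ≤ M := map_subtype_le _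
  have hpσ := hpτ.2.1
  have hpM : p ∣ Nat.card M := hA.dvd_card.trans (card_dvd_of_le (hAP.trans hTM))
  have hNT : ¬ normalizer (T : Set G) ≤ M := Sigma.normalizer_sylow_not_le hpσ hpM P
  set Z := omegaCenter p T with hZ
  have hZN : normalizer (T : Set G) ≤ normalizer (Z : Set G) :=
    P2Elem.normalizer_le_normalizer_omegaCenter T
  have hNZ : ¬ normalizer (Z : Set G) ≤ M := fun h => hNT (hZN.trans h)
  have hZA : ∀ {B : Subgroup G}, Max2 p B → B ≤ T → Z ≤ B := fun hB hBT => omegaCenter_le hB hBT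
  have hZc : Nat.card Z = p := by
    refine hA.card_eq_of_lt (hZA hA hAP) (P2Elem.omegaCenter_ne_bot hTp fun e => ?_) fun e => hc ?_
    · exact hA.ne_bot (le_bot_iff.mp (e ▸ hAP))
    · exact e ▸ P2Elem.omegaCenter_le_centralizer T
  have hlines : ∀ {B : Subgroup G}, Max2 p B → B ≤ T → ∀ b ∈ B, b ∉ Z →
      normalizer (zpowers b : Set G) ≤ M ∧
        ∀ L : Subgroup G, IsCoatom L → normalizer (zpowers b : Set G) ≤ L → L = M := by
    intro B hB hBT b hb hbZ
    refine lines_unique hG hM hpσ hB hTp hTM hBT (hZA hB hBT) hZc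
      (P2Elem.omegaCenter_le_centralizer T) (fun hBc => hbZ ⟨hBT hb, hBc hb, hB.el.2 b hb⟩) hNZ hb hbZ
  obtain ⟨n, hn, hnM⟩ := SetLike.not_le_iff_exists.mp hNT
  set B := A.map (MulAut.conj n).toMonoidHom with hB
  have hBT : B ≤ T := by
    rw [hB, ← map_conj_eq_self_iff.mpr hn]
    exact map_mono hAP
  have hBe : IsElementaryAbelian p B := by
    refine ⟨?_, ?_⟩
    · have := hA.el.1
      exact map_isMulCommutative A _
    · rintro _ ⟨b, hb, rfl⟩
      rw [← map_pow, hA.el.2 b hb, map_one]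
  have hB2 : Max2 p B := max2 hG hM hpτ (hBT.trans hTM) hBe (by rw [hB, card_map_conj, hA.card])
  obtain ⟨a, ha, haZ⟩ := SetLike.not_le_iff_exists.mp fun h : A ≤ Z => by
    have := Nat.le_of_dvd Nat.card_pos (card_dvd_of_le h)
    rw [hA.card, hZc] at this
    nlinarith [hp.out.one_lt]
  have haZ' : n * a * n⁻¹ ∉ Z := fun h => haZ ((mem_normalizer_iff.mp (hZN hn) a).mpr h)
  obtain ⟨h1, h1'⟩ := hlines hA hAP a ha haZ
  obtain ⟨h2, -⟩ := hlines hB2 hBT _ (Transfer.Fusion.conj_mem_map_conj ha n) haZ'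
  refine hnM ?_
  have hN : normalizer (zpowers (n * a * n⁻¹) : Set G) =
      (normalizer (zpowers a : Set G)).map (MulAut.conj n).toMonoidHom := by
    rw [Subgroup.map_equiv_normalizer_eq, MonoidHom.map_zpowers]; rfl
  have h3 := h1' (M.map (MulAut.conj n⁻¹).toMonoidHom) (Unique.isCoatom_map_conj hM _) (by
    rw [hN] at h2
    have := map_mono (f := (MulAut.conj n⁻¹).toMonoidHom) h2
    rwa [map_conj_inv_cancel] at this)
  have h4 : n⁻¹ ∈ normalizer (M : Set G) := map_conj_eq_self_iff.mp h3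
  rw [Sigma.normalizer_eq_self hG hM] at h4
  simpa using inv_mem h4

/-- The Sylow `p`-subgroup of `M` containing `A` is abelian, with `Ω₁ = A`. -/
theorem sylow_structure (hG : IsMinSimpleOddOrder G) (hM : IsCoatom M) (hpτ : p ∈ tau2 M)
    (hA : Max2 p A) (P : Sylow p M) (hAP : A ≤ (P : Subgroup M).map M.subtype) :
    IsMulCommutative ↥((P : Subgroup M).map M.subtype) ∧
      (∀ x ∈ (P : Subgroup M).map M.subtype, x ^ p = 1 ↔ x ∈ A) ∧
      normalizer ((P : Subgroup M).map M.subtype : Set G) ≤ normalizer (A : Set G) := by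
  set T := (P : Subgroup M).map M.subtype with hT
  have hTC : T ≤ centralizer (A : Set G) :=
    le_centralizer_iff.mp (le_centralizer_of_sylow hG hM hpτ hA P hAP)
  obtain ⟨S, hTS⟩ := (P.isPGroup'.map M.subtype : IsPGroup p T).exists_le_sylow
  have hab := (centralizer_inf_structure hG hA S (hAP.trans hTS)).1
  have hΩ : ∀ x ∈ T, x ^ p = 1 ↔ x ∈ A := fun x hx =>
    ⟨fun h => hA.omega x (hTC hx) h, fun h => hA.el.2 x h⟩
  refine ⟨⟨⟨fun x y => Subtype.ext (setLike_mul_comm (s := (S : Subgroup G) ⊓ centralizer (A : Set G))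
    (mem_inf.mpr ⟨hTS x.2, hTC x.2⟩) (mem_inf.mpr ⟨hTS y.2, hTC y.2⟩))⟩⟩, hΩ, ?_⟩
  rw [le_normalizer_iff]
  intro g hg a ha
  refine (hΩ _ ((mem_normalizer_iff.mp hg a).mp (hAP ha))).mp ?_
  rw [conj_pow, hA.el.2 a ha]; group

theorem exists_sylow_ge (hA : Max2 p A) (hAM : A ≤ M) :
    ∃ P : Sylow p M, A ≤ (P : Subgroup M).map M.subtype := by
  obtain ⟨P, hP⟩ := (hA.isPGroup.comap_subtype (K := M)).exists_le_sylow
  exact ⟨P, fun a ha => ⟨⟨a, hAM ha⟩, hP ha, rfl⟩⟩

theorem exists_not_mem (hG : IsMinSimpleOddOrder G) (hM : IsCoatom M) (hpτ : p ∈ tau2 M) (hA : Max2 p A)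
    (hAM : A ≤ M) : ∃ n ∈ normalizer (A : Set G), n ∉ M := by
  obtain ⟨P, hAP⟩ := exists_sylow_ge hA hAM
  refine SetLike.not_le_iff_exists.mp fun h => Sigma.normalizer_sylow_not_le hpτ.2.1
    (hA.dvd_card.trans (card_dvd_of_le hAM)) P ((sylow_structure hG hM hpτ hA P hAP).2.2.trans h)

end Cfsg.Agent.OddLocal.TauTwo
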