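import Cfsg.Agent.OddLocal.TauTwoNormal

/-! `τ₂(M)` when the Sylow `p`-subgroups of `G` are nonabelian (BG 12.7). -/

set_option autoImplicit false
set_option linter.unusedSectionVars false

namespace Cfsg.Agent.OddLocal.TauTwo

open Cfsg Subgroup MaxStruct
open scoped commutatorElement
open Cfsg.Agent.Transfer.Fusion (map_conj_mul map_conj_eq_self_iff)

variable {G : Type*} [Group G] [Finite G] {p : ℕ} [hp : Fact p.Prime] {A M : Subgroup G}

theorem centralizer_map_conj (a u : G) : centralizer ({u * a * u⁻¹} : Set G) =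
    (centralizer ({a} : Set G)).map (MulAut.conj u).toMonoidHom := by
  ext y
  rw [Transfer.Fusion.mem_map_conj, mem_centralizer_singleton_iff, mem_centralizer_singleton_iff]
  constructor
  · intro e
    calc u⁻¹ * y * u * a = u⁻¹ * (y * (u * a * u⁻¹)) * u := by group
      _ = u⁻¹ * (u * a * u⁻¹ * y) * u := by rw [e]
      _ = a * (u⁻¹ * y * u) := by group
  · intro e
    calc y * (u * a * u⁻¹) = u * (u⁻¹ * y * u * a) * u⁻¹ := by group
      _ = u * (a * (u⁻¹ * y * u)) * u⁻¹ := by rw [e]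
      _ = u * a * u⁻¹ * y := by group

theorem centralizer_zpowers (a : G) :
    centralizer (zpowers a : Set G) = centralizer ({a} : Set G) := by
  rw [zpowers_eq_closure, centralizer_closure]

/-- An element of a `p`-group that normalises `A` without centralising it permutes transitively the
lines off its fixed line. -/
theorem line_conj (hA : Max2 p A) {T : Subgroup G} (hT : IsPGroup p T) (hAT : A ≤ T) {u : G} (huT : u ∈ T)
    (huN : u ∈ normalizer (A : Set G)) (huC : u ∉ centralizer (A : Set G)) {Z : Subgroup G} (hZA : Z ≤ A)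
    (hZc : Nat.card Z = p) (hZcomm : ∀ z ∈ Z, Commute u z) {a b : G} (ha : a ∈ A) (haZ : a ∉ Z)
    (hb : b ∈ A) (hbZ : b ∉ Z) :
    ∃ j : ℕ, zpowers b = zpowers (u ^ j * a * (u ^ j)⁻¹) := by
  have hua : ¬ Commute u a := fun h => huC (by
    rw [← zpowers_le, le_centralizer_iff, ← hA.sup_zpowers hZA hZc ha haZ]
    refine sup_le (fun z hz => mem_centralizer_iff.mpr fun y hy => ?_)
      (zpowers_le.mpr (mem_centralizer_iff.mpr fun y hy => ?_))
    · obtain ⟨i, rfl⟩ := mem_zpowers_iff.mp hy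
      exact ((hZcomm z hz).zpow_left i).eq
    · obtain ⟨i, rfl⟩ := mem_zpowers_iff.mp hy
      exact (h.zpow_left i).eq)
  set c := u * a * u⁻¹ * a⁻¹ with hcdef
  have hcZ : c ∈ Z := by
    set U := A ⊔ zpowers u with hU
    have hUT : U ≤ T := sup_le hAT (zpowers_le.mpr huT)
    have hUN : U ≤ normalizer (A : Set G) := sup_le le_normalizer (zpowers_le.mpr huN)
    have : Group.IsNilpotent U := (hT.to_le hUT).isNilpotent
    set K := ⁅A, U⁆ with hK
    have hlt : K < A := Coprime.commutator_lt_of_isNilpotent le_sup_left hA.ne_bot hUN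
    have hcK : c ∈ K := by
      rw [hK, commutator_comm]
      exact commutator_mem_commutator (mem_sup_right (mem_zpowers u) : u ∈ U) ha
    by_contra hcZ
    have hc1 : c ≠ 1 := fun e => hcZ (e ▸ one_mem Z)
    have hKc := hA.card_eq_of_lt hlt.le (fun e => hc1 (mem_bot.mp (e ▸ hcK))) hlt.ne
    have hzK : zpowers c = K := eq_of_le_of_card_ge (zpowers_le.mpr hcK)
      (by rw [hKc, hA.card_zpowers (hlt.le hcK) hc1])
    have huK : u ∈ normalizer (zpowers c : Set G) := by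
      rw [hzK]
      exact normalizer_commutator_ge_right A U (mem_sup_right (mem_zpowers u))
    have huc := centralize_of_normalize (p := p) (hT.to_le (zpowers_le.mpr huT))
      (Components.Hyperplane.orderOf_eq hA.el (hlt.le hcK) hc1) huK
    refine hua ?_
    have hac : a ∈ Z ⊔ zpowers c := by rw [hA.sup_zpowers hZA hZc (hlt.le hcK) hcZ]; exact ha
    have hle : Z ⊔ zpowers c ≤ centralizer ({u} : Set G) :=
      sup_le (fun z hz => mem_centralizer_singleton_iff.mpr (hZcomm z hz).eq.symm)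
        (zpowers_le.mpr (mem_centralizer_singleton_iff.mpr huc.eq.symm))
    exact (mem_centralizer_singleton_iff.mp (hle hac)).symm
  have hc1 : c ≠ 1 := fun e => hua (mul_inv_eq_iff_eq_mul.mp (mul_inv_eq_one.mp e))
  have hZeq : zpowers c = Z := eq_of_le_of_card_ge (zpowers_le.mpr hcZ)
    (by rw [hZc, hA.card_zpowers (hZA hcZ) hc1])
  have hpow : ∀ j : ℕ, u ^ j * a * (u ^ j)⁻¹ = c ^ j * a := by
    intro j
    induction j with
    | zero => simp
    | succ j ih =>
      have hcu : Commute u (c ^ j) := (hZcomm c hcZ).pow_right j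
      calc u ^ (j + 1) * a * (u ^ (j + 1))⁻¹ = u * (u ^ j * a * (u ^ j)⁻¹) * u⁻¹ := by
            rw [pow_succ']; group
        _ = u * c ^ j * a * u⁻¹ := by rw [ih]; group
        _ = c ^ j * (u * a * u⁻¹) := by rw [hcu.eq]; group
        _ = c ^ (j + 1) * a := by rw [pow_succ, hcdef]; group
  have ha' : a ∈ zpowers b ⊔ Z := by rw [sup_comm, hA.sup_zpowers hZA hZc hb hbZ]; exact ha
  have hcomm : zpowers b ≤ normalizer (Z : Set G) := le_trans
    ((zpowers_le.mpr hb).trans (hA.le_centralizer.trans (Subgroup.centralizer_le hZA)))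
    (centralizer_le_normalizer _)
  obtain ⟨z, hz, v, hv, e⟩ := (Coprime.mem_sup_of_le_normalizer hcomm).mp (sup_comm (zpowers b) Z ▸ ha')
  obtain ⟨j, hj⟩ := mem_powers_iff_mem_zpowers.mpr (hZeq.symm ▸ inv_mem hz : z⁻¹ ∈ zpowers c)
  refine ⟨j, ?_⟩
  have hv' : v = u ^ j * a * (u ^ j)⁻¹ := by
    rw [hpow, show c ^ j = z⁻¹ from hj, ← e]; group
  have hv1 : v ≠ 1 := fun h => haZ (by rw [← e, h, mul_one]; exact hz)
  rw [← hv']
  exact (eq_of_le_of_card_ge (zpowers_le.mpr hv) (by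
    rw [hA.card_zpowers hb (fun h => hbZ (h ▸ one_mem Z)),
      hA.card_zpowers ((zpowers_le.mpr hb) hv) hv1])).symm

/-- In `H'`, two elements at a prime outside `β(H)` and off it commute. -/
theorem commute_of_not_beta (hG : IsMinSimpleOddOrder G) {H : Subgroup G} (hH : IsCoatom H) {r : ℕ}
    [hr : Fact r.Prime] (hrH : r ∣ Nat.card H) (hrβ : r ∉ beta H) {x y : G} (hx : x ∈ ⁅H, H⁆)
    (hy : y ∈ ⁅H, H⁆) (hxo : (orderOf x).Coprime r) {k : ℕ} (hk : ⁅x, y⁆ ^ r ^ k = 1) : Commute x y := by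
  obtain ⟨P, N, hN, hNP⟩ := ((S1414.result hG H hH).2.2.2.2 r hr.out hrH hrβ).1
  have hNc : (Nat.card N).Coprime r := by
    rw [← hNP.index_eq_card]
    exact (hr.out.coprime_iff_not_dvd.mpr P.not_dvd_index).symm
  obtain ⟨l, hl⟩ := P.isPGroup'.exists_card_eq
  have hNi : N.index = r ^ l := hNP.symm.index_eq_card.trans hl
  have hxN : (⟨x, hx⟩ : ↥⁅H, H⁆) ∈ N := by
    refine (QuotientGroup.eq_one_iff _).mp (orderOf_eq_one_iff.mp ?_)
    exact Nat.eq_one_of_dvd_coprimes (hxo.pow_right l)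
      ((orderOf_map_dvd (QuotientGroup.mk' N) _).trans (by rw [orderOf_mk]))
      (hNi ▸ _root_.orderOf_dvd_natCard _)
  have hmem : ⁅(⟨x, hx⟩ : ↥⁅H, H⁆), ⟨y, hy⟩⁆ ∈ N :=
    commutator_le_left N ⊤ (commutator_mem_commutator hxN (mem_top _))
  refine commutatorElement_eq_one_iff_mul_comm.mp (orderOf_eq_one_iff.mp
    (Nat.eq_one_of_dvd_coprimes (hNc.pow_right k) ?_ (orderOf_dvd_of_pow_eq_one hk)))
  rw [show ⁅x, y⁆ = ((⁅(⟨x, hx⟩ : ↥⁅H, H⁆), ⟨y, hy⟩⁆ : ↥⁅H, H⁆) : G) from rfl, orderOf_coe]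
  exact N.orderOf_dvd_natCard hmem

theorem Ctx.pelem_centralizes (h : Ctx p A M) {E : Subgroup G} (hE : IsComplIn E (sigmaCore M) M)
    (hAE : A ≤ E) {X : Subgroup G} (hX : IsPGroup p X) (hXM : X ≤ M)
    (hXA : X ≤ normalizer (A : Set G)) : X ≤ centralizer (A : Set G) := by
  obtain ⟨W, hWC, -, hWp⟩ := h.exists_normal_cover hE hAE
  exact (hWp X hX (h.inf_normalizer hE hAE ▸ le_inf hXM hXA)).trans hWC

/-- The situation with a nonabelian Sylow subgroup `S` of `G`. -/
structure Nab (p : ℕ) (A M : Subgroup G) (S : Sylow p G) (Z : Subgroup G) (s : G) : Prop where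
  AS : A ≤ (S : Subgroup G)
  pow : ∃ a ∈ A, ∀ x ∈ (S : Subgroup G), x ∈ centralizer (A : Set G) → x ^ p ≠ a
  comm : IsMulCommutative ↥((S : Subgroup G) ⊓ centralizer (A : Set G))
  ZA : Z ≤ A
  Zc : Nat.card Z = p
  ZS : Z ≤ centralizer ((S : Subgroup G) : Set G)
  ZM : ¬ centralizer (Z : Set G) ≤ M
  sS : s ∈ (S : Subgroup G)
  sN : s ∈ normalizer (A : Set G)
  sC : s ∉ centralizer (A : Set G)
  sM : s ∉ M
  OS : (pCore p M).map M.subtype ≤ (S : Subgroup G)
  PS : ∃ P : Sylow p M, A ≤ (P : Subgroup M).map M.subtype ∧ (P : Subgroup M).map M.subtype ≤ (S : Subgroup G)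

theorem Ctx.exists_nab (h : Ctx p A M) (hS : ∀ S : Sylow p G, ¬ IsMulCommutative (S : Subgroup G))
    {E : Subgroup G} (hE : IsComplIn E (sigmaCore M) M) (hAE : A ≤ E) :
    ∃ (S : Sylow p G) (Z : Subgroup G) (s : G), Nab p A M S Z s := by
  obtain ⟨P, hAP⟩ := exists_sylow_ge h.hA h.hAM
  obtain ⟨S, hPS⟩ := (P.isPGroup'.map M.subtype).exists_le_sylow
  have hAS : A ≤ (S : Subgroup G) := hAP.trans hPS
  obtain ⟨hcomm, hpow⟩ := centralizer_inf_structure h.hG h.hA S hAS
  have hnc : ¬ A ≤ centralizer ((S : Subgroup G) : Set G) := fun hle => hS S (by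
    have hSC : (S : Subgroup G) ≤ centralizer (A : Set G) := le_centralizer_iff.mp hle
    exact ⟨⟨fun x y => Subtype.ext (setLike_mul_comm
      (mem_inf.mpr ⟨x.2, hSC x.2⟩ : (x : G) ∈ (S : Subgroup G) ⊓ centralizer (A : Set G))
      (mem_inf.mpr ⟨y.2, hSC y.2⟩))⟩⟩)
  rcases h.hA.sylow_cases S hAS with ⟨h1, -⟩ | ⟨Z, hZA, hZc, hZS, -, s, hs, hsN, hsC⟩
  · exact absurd h1 hnc
  refine ⟨S, Z, s, hAS, hpow hnc, hcomm, hZA, hZc, hZS, fun hle => ?_, hs, hsN, hsC, fun hsM => ?_,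
    (map_mono (PLocal.Cores.pCore_le_sylow P)).trans hPS, P, hAP, hPS⟩
  · exact hS S (h.pgroup_comm S.isPGroup' ((le_centralizer_iff.mp hZS).trans hle))
  · exact hsC (h.pelem_centralizes hE hAE (S.isPGroup'.to_le (zpowers_le.mpr hs)) (zpowers_le.mpr hsM)
      (zpowers_le.mpr hsN) (mem_zpowers s))

variable {S : Sylow p G} {Z : Subgroup G} {s : G}

theorem Ctx.fpf_Z (h : Ctx p A M) (hn : Nab p A M S Z s) {b : G} (hb : b ∈ Z) (hb1 : b ≠ 1) :
    sigmaCore M ⊓ centralizer ({b} : Set G) = ⊥ ∧ ¬ centralizer ({b} : Set G) ≤ M := by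
  have heq : zpowers b = Z := eq_of_le_of_card_ge (zpowers_le.mpr hb)
    (by rw [hn.Zc, h.hA.card_zpowers (hn.ZA hb) hb1])
  have h1 : ¬ centralizer ({b} : Set G) ≤ M := by
    rw [← centralizer_zpowers, heq]; exact hn.ZM
  exact ⟨by_contra fun hne => h1 (h.good_centralizer_le h.good_sigma (hn.ZA hb) hb1 hne), h1⟩

/-- There is exactly one line with fixed points on `M_σ`, and it centralises `M_σ`. -/
theorem Ctx.exists_center_line (h : Ctx p A M) (hn : Nab p A M S Z s) {E : Subgroup G}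
    (hE : IsComplIn E (sigmaCore M) M) (hAE : A ≤ E) :
    ∃ a ∈ A, a ≠ 1 ∧ a ∉ Z ∧ A ⊓ centralizer (sigmaCore M : Set G) = zpowers a ∧
      ∀ b ∈ A, b ∉ zpowers a →
        sigmaCore M ⊓ centralizer ({b} : Set G) = ⊥ ∧ ¬ centralizer ({b} : Set G) ≤ M := by
  have hAσ : A ≤ normalizer (sigmaCore M : Set G) := h.hAM.trans (Sigma.le_normalizer_sigmaCore M)
  have hσ1 := Sigma.sigmaCore_ne_bot h.hG h.hM
  obtain ⟨a, ha, ha1, hfix⟩ := h.hA.exists_fixed hAσ h.coprime (X := ⊥)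
    fun e => hσ1 (le_bot_iff.mp e)
  have hfix' : sigmaCore M ⊓ centralizer ({a} : Set G) ≠ ⊥ := fun e => hfix e.le
  have haZ : a ∉ Z := fun hz => hfix' (h.fpf_Z hn hz ha1).1
  have hothers : ∀ b ∈ A, b ∉ zpowers a →
      sigmaCore M ⊓ centralizer ({b} : Set G) = ⊥ ∧ ¬ centralizer ({b} : Set G) ≤ M := by
    intro b hb hba
    by_cases hbZ : b ∈ Z
    · exact h.fpf_Z hn hbZ fun e => hba (e ▸ one_mem _)
    obtain ⟨j, hj⟩ := line_conj h.hA S.isPGroup' hn.AS hn.sS hn.sN hn.sC hn.ZA hn.Zc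
      (fun z hz => mem_centralizer_iff.mp (hn.ZS hz) s hn.sS) ha haZ hb hbZ
    have huM : s ^ j ∉ M := fun hu => hba (by
      have hc := h.pelem_centralizes hE hAE (S.isPGroup'.to_le (zpowers_le.mpr (pow_mem hn.sS j)))
        (zpowers_le.mpr hu) (zpowers_le.mpr (pow_mem hn.sN j)) (mem_zpowers _)
      rw [← (mem_centralizer_iff.mp hc a ha : a * s ^ j = s ^ j * a), mul_inv_cancel_right] at hj
      exact hj ▸ mem_zpowers b)
    have hC : centralizer ({b} : Set G) =
        (centralizer ({a} : Set G)).map (MulAut.conj (s ^ j)).toMonoidHom := by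
      rw [← centralizer_zpowers b, hj, centralizer_zpowers, centralizer_map_conj]
    have hb1 : b ≠ 1 := fun e => hba (e ▸ one_mem _)
    have h1 : ¬ centralizer ({b} : Set G) ≤ M := fun hle => by
      have h2 := map_mono (f := (MulAut.conj (s ^ j)⁻¹).toMonoidHom) (hC ▸ hle)
      rw [Transfer.Fusion.map_conj_inv_cancel] at h2
      have h3 := h.good_unique h.good_sigma ha hfix' (Unique.isCoatom_map_conj h.hM _) h2
      have h4 : (s ^ j)⁻¹ ∈ normalizer (M : Set G) := map_conj_eq_self_iff.mp h3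
      rw [Sigma.normalizer_eq_self h.hG h.hM] at h4
      exact huM (by simpa using inv_mem h4)
    exact ⟨by_contra fun hne => h1 (h.good_centralizer_le h.good_sigma hb hb1 hne), h1⟩
  have hcen : a ∈ centralizer (sigmaCore M : Set G) := by
    rw [← zpowers_le, le_centralizer_iff, centralizer_zpowers]
    by_contra hnle
    obtain ⟨b, hb, hb1, hbfix⟩ := h.hA.exists_fixed hAσ h.coprime hnle
    by_cases hba : b ∈ zpowers a
    · refine hbfix (inf_le_right.trans (le_of_eq ?_))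
      rw [← centralizer_zpowers b, ← centralizer_zpowers a, eq_of_le_of_card_ge (zpowers_le.mpr hba)
        (by rw [h.hA.card_zpowers hb hb1, h.hA.card_zpowers ha ha1])]
    · exact hbfix ((hothers b hb hba).1.le.trans bot_le)
  refine ⟨a, ha, ha1, haZ, le_antisymm (fun b hb => ?_) (le_inf (zpowers_le.mpr ha)
    (zpowers_le.mpr hcen)), hothers⟩
  by_contra hba
  refine hσ1 (le_bot_iff.mp ((le_inf le_rfl ?_).trans (hothers b (mem_inf.mp hb).1 hba).1.le))
  exact fun y hy => mem_centralizer_singleton_iff.mpr (mem_centralizer_iff.mp (mem_inf.mp hb).2 y hy)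

/-- No other prime lies in `τ₂(M)`. -/
theorem Ctx.tau2_eq (h : Ctx p A M) (hn : Nab p A M S Z s) {E : Subgroup G}
    (hE : IsComplIn E (sigmaCore M) M) (hAE : A ≤ E) {r : ℕ} (hrτ : r ∈ tau2 M) : r = p := by
  have := Fact.mk hrτ.1
  by_contra hrp
  obtain ⟨B₀, hB₀M, hB₀e, hB₀c⟩ := Unique.exists_elementary_of_not_pRankLE hrτ.2.2.2
  obtain ⟨m, hm, hle⟩ := Compl.exists_conj_le h.hG h.hM hE hB₀M fun q hq hd =>
    (show q = r from (Cores.isPi_iff_isPGroup B₀).mpr (Components.Hyperplane.isPGroup hB₀e) q hq hd) ▸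
      hrτ.2.1
  set B := B₀.map (MulAut.conj m).toMonoidHom with hB
  have h' : Ctx r B M := Ctx.mk' h.hG h.hM hrτ (hle.trans hE.1)
    (PLocal.ThompsonSubgroup.IsElementaryAbelian.map hB₀e _)
    (by rw [Transfer.Fusion.card_map_conj, hB₀c])
  have hAB : ⁅A, B⁆ = ⊥ := by
    refine le_bot_iff.mp (le_trans (le_inf ?_ ?_)
      (IsPGroup.disjoint_of_ne p r (Ne.symm hrp) A B h.hA.isPGroup h'.hA.isPGroup).le_bot)
    · exact Coprime.commutator_le_of_le_normalizer (hle.trans (h.le_normalizer_compl hE hAE))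
    · rw [commutator_comm]
      exact Coprime.commutator_le_of_le_normalizer (hAE.trans (h'.le_normalizer_compl hE hle))
  have hBC : B ≤ centralizer (A : Set G) :=
    le_centralizer_iff.mp (commutator_eq_bot_iff_le_centralizer.mp hAB)
  have hBs : ∀ b ∈ B, s * b * s⁻¹ ∈ B := fun b hb => by
    refine h'.mem_of_pow hE hle ?_ (by rw [conj_pow, h'.hA.el.2 b hb]; group)
    rw [← h.inf_normalizer hE hAE]
    have hsC : s * b * s⁻¹ ∈ centralizer (A : Set G) := by
      have hsN := hn.sN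
      exact (mem_normalizer_iff.mp (CharP.normalizer_le_normalizer_centralizer _ hsN) b).mp (hBC hb)
    exact mem_inf.mpr ⟨h.hCA hsC, centralizer_le_normalizer _ hsC⟩
  obtain ⟨H, hH, hNH⟩ := (eq_top_or_exists_le_coatom (normalizer (A : Set G))).resolve_left
    (Transitivity.normalizer_ne_top h.hG h.hA.ne_bot (h.hA.ne_top h.hG))
  have hAH : A ≤ H := le_normalizer.trans hNH
  have hsH : s ∈ H := hNH hn.sN
  have hBH : B ≤ H := hBC.trans ((centralizer_le_normalizer _).trans hNH)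
  have hpσ : p ∈ sigma H := by
    rcases Max2.sigma_or_nonabelian h.hG h.hA hNH with h1 | ⟨P₁, hP₁H, hP₁, hP₁ab⟩
    · exact h1
    by_contra hσ
    refine hP₁ab (Ctx.pgroup_comm (M := H) (A := A) ⟨h.hG, hH, ?_, h.hA, hAH⟩ hP₁ hP₁H)
    exact ⟨hp.out, hσ, by_contra fun h3 => hσ (Sigma.alpha_subset_sigma h.hG hH ⟨hp.out, h3⟩),
      Unique.not_pRankLE_of_elementary hAH h.hA.el h.hA.card.ge⟩
  have hsσ : s ∈ sigmaCore H := Sigma.sylow_le_sigmaCore h.hG hH hpσ
    (S.isPGroup'.to_le (zpowers_le.mpr hn.sS)) (zpowers_le.mpr hsH) (mem_zpowers s)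
  refine hn.sM (h'.hCA (mem_centralizer_iff.mpr fun b hb => ?_))
  have hcB : ⁅s, b⁆ ∈ B := mul_mem (hBs b hb) (inv_mem hb)
  have hcr : ⁅s, b⁆ ^ r ^ 1 = 1 := by rw [pow_one]; exact h'.hA.el.2 _ hcB
  by_cases hrσ : r ∈ sigma H
  · have hrβ : r ∉ beta H := fun hb' =>
      (S1408.result h.hG M h.hM r hrτ.2.1 hrτ.2.2.1 hrτ.2.2.2).1 hb'.2
    refine (commute_of_not_beta h.hG hH (h'.hA.dvd_card.trans (card_dvd_of_le hBH)) hrβ
      (Sigma.sigmaCore_le_commutator h.hG hH hsσ)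
      (Sigma.sigmaCore_le_commutator h.hG hH (Sigma.sylow_le_sigmaCore h.hG hH hrσ h'.hA.isPGroup hBH hb))
      ?_ hcr).eq.symm
    obtain ⟨k, hk⟩ := S.isPGroup' ⟨s, hn.sS⟩
    exact (((Nat.coprime_primes hp.out hrτ.1).mpr (Ne.symm hrp)).pow_left k).coprime_dvd_left
      (orderOf_dvd_of_pow_eq_one (congrArg Subtype.val hk))
  · have hcσ : ⁅s, b⁆ ∈ sigmaCore H := by
      have h1 := (mem_normalizer_iff.mp (Sigma.le_normalizer_sigmaCore H (hBH hb)) s⁻¹).mp (inv_mem hsσ)
      have h2 := mul_mem hsσ h1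
      simpa [commutatorElement_def, mul_assoc] using h2
    refine (commutatorElement_eq_one_iff_mul_comm.mp (orderOf_eq_one_iff.mp ?_)).symm
    refine Nat.eq_one_of_dvd_coprimes ((hrτ.1.coprime_iff_not_dvd.mpr
      fun hd => hrσ (Transitivity.isPi_piCoreOf (sigma H) H r hrτ.1 hd)).pow_left 1)
      (orderOf_dvd_of_pow_eq_one hcr) (orderOf_dvd_natCard _ hcσ)

/-- A cyclic `p`-subgroup of `S ∩ C(A)` containing a noncentral element of `A` has order `p`. -/
theorem Ctx.le_line (h : Ctx p A M) (hn : Nab p A M S Z s) {Y : Subgroup G} (hYS : Y ≤ (S : Subgroup G))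
    (hYA : Y ≤ centralizer (A : Set G)) (hYc : IsCyclic Y) {a : G} (ha : a ∈ A) (ha1 : a ≠ 1)
    (haY : a ∈ Y) (haZ : a ∉ Z) : Y ≤ zpowers a := by
  intro y hy
  refine mem_zpowers_of_cyclic hYc haY hy (Components.Hyperplane.orderOf_eq h.hA.el ha ha1) ?_
  by_contra hy1
  set K := (S : Subgroup G) ⊓ centralizer (A : Set G) with hK
  obtain ⟨j, hj1, hj2⟩ : ∃ j, y ^ p ^ (j + 1) ≠ 1 ∧ y ^ p ^ (j + 2) = 1 := by
    obtain ⟨k, hk⟩ := (S.isPGroup'.to_le hYS) ⟨y, hy⟩
    by_contra hcon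
    push Not at hcon
    have : ∀ j, y ^ p ^ (j + 1) ≠ 1 := fun j => by
      induction j with
      | zero => simpa using hy1
      | succ j ih => exact hcon j ih
    exact this k (by rw [pow_succ, pow_mul, show y ^ p ^ k = 1 from congrArg Subtype.val hk, one_pow])
  set x := y ^ p ^ j with hx
  have hxp : x ^ p ≠ 1 := by rw [hx, ← pow_mul, ← pow_succ]; exact hj1
  have hxpp : (x ^ p) ^ p = 1 := by
    rw [hx, ← pow_mul, ← pow_mul]; convert hj2 using 2; ring
  obtain ⟨i, hi⟩ := mem_zpowers_iff.mp (mem_zpowers_of_cyclic hYc (pow_mem (pow_mem hy _) _) haY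
    (orderOf_eq_prime hxpp hxp) (h.hA.el.2 a ha))
  set w := x ^ i with hwdef
  have hwY : w ∈ Y := zpow_mem (pow_mem hy _) i
  have hw : w ^ p = a := by
    rw [← hi, hwdef, ← zpow_natCast, ← zpow_mul, mul_comm, zpow_mul, zpow_natCast]
  have hwK : w ∈ K := mem_inf.mpr ⟨hYS hwY, hYA hwY⟩
  set v := s * w * s⁻¹ with hv
  have hvK : v ∈ K := mem_inf.mpr ⟨mul_mem (mul_mem hn.sS (hYS hwY)) (inv_mem hn.sS),
    (mem_normalizer_iff.mp (CharP.normalizer_le_normalizer_centralizer _ hn.sN) w).mp (hYA hwY)⟩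
  set a₂ := s * a * s⁻¹ with ha₂
  have ha₂A : a₂ ∈ A := (mem_normalizer_iff.mp hn.sN a).mp ha
  have hsa : ¬ Commute s a := fun hc => hn.sC (by
    rw [← zpowers_le, le_centralizer_iff, ← h.hA.sup_zpowers hn.ZA hn.Zc ha haZ]
    refine sup_le (hn.ZS.trans (Subgroup.centralizer_le (zpowers_le.mpr hn.sS))) ?_
    rw [zpowers_le, centralizer_zpowers]
    exact mem_centralizer_singleton_iff.mpr hc.eq.symm)
  have ha₂n : a₂ ∉ zpowers a := fun hm => hsa (centralize_of_normalize (p := p)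
    (S.isPGroup'.to_le (zpowers_le.mpr hn.sS)) (Components.Hyperplane.orderOf_eq h.hA.el ha ha1) (by
      rw [← map_conj_eq_self_iff, MonoidHom.map_zpowers]
      exact eq_of_le_of_card_ge (zpowers_le.mpr hm) (by
        rw [h.hA.card_zpowers ha ha1,
          show (MulAut.conj s).toMonoidHom a = a₂ from rfl,
          h.hA.card_zpowers ha₂A fun e => ha1 (conj_eq_one_iff.mp e)])))
  obtain ⟨a', ha', hno⟩ := hn.pow
  rw [← h.hA.sup_zpowers (zpowers_le.mpr ha) (h.hA.card_zpowers ha ha1) ha₂A ha₂n] at ha'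
  have hnorm : zpowers a₂ ≤ normalizer (zpowers a : Set G) :=
    ((zpowers_le.mpr ha₂A).trans (h.hA.le_centralizer.trans (Subgroup.centralizer_le
      (zpowers_le.mpr ha)))).trans (centralizer_le_normalizer _)
  obtain ⟨u, hu, u', hu', rfl⟩ := (Coprime.mem_sup_of_le_normalizer hnorm).mp ha'
  obtain ⟨m, rfl⟩ := mem_zpowers_iff.mp hu
  obtain ⟨n, rfl⟩ := mem_zpowers_iff.mp hu'
  have hmem : w ^ m * v ^ n ∈ K := mul_mem (zpow_mem hwK m) (zpow_mem hvK n)
  have := hn.comm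
  have hwv : Commute (w ^ m) (v ^ n) := setLike_mul_comm (zpow_mem hwK m) (zpow_mem hvK n)
  refine hno _ (mem_inf.mp hmem).1 (mem_inf.mp hmem).2 ?_
  have hz : ∀ (t : G) (l : ℤ), (t ^ l) ^ p = (t ^ p) ^ l := fun t l => by
    rw [← zpow_natCast (t ^ l), ← zpow_mul, mul_comm, zpow_mul, zpow_natCast]
  rw [hwv.mul_pow, hz w m, hw, hz v n, hv, conj_pow, hw]

/-- The Fitting subgroup of `M`. -/
theorem Ctx.fitting_eq (h : Ctx p A M) (hn : Nab p A M S Z s) {E : Subgroup G}
    (hE : IsComplIn E (sigmaCore M) M) (hAE : A ≤ E) :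
    fittingOf M = sigmaCore M ⊔ (A ⊓ centralizer (sigmaCore M : Set G)) := by
  obtain ⟨a, ha, ha1, haZ, hA₀, -⟩ := h.exists_center_line hn hE hAE
  set A₀ := A ⊓ centralizer (sigmaCore M : Set G) with hA₀def
  have hA₀M : A₀ ≤ M := inf_le_left.trans h.hAM
  have hMA₀ : M ≤ normalizer (A₀ : Set G) := by
    intro m hm
    obtain ⟨e, he, t, ht, rfl⟩ := hE.2.2.2 m hm
    refine mul_mem ?_ (centralizer_le_normalizer _ ?_)
    · exact inf_normalizer_le_normalizer_inf (mem_inf.mpr ⟨h.le_normalizer_compl hE hAE he,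
        CharP.normalizer_le_normalizer_centralizer _ (Sigma.le_normalizer_sigmaCore M (hE.1 he))⟩)
    · exact mem_centralizer_iff.mpr fun y hy =>
        (mem_centralizer_iff.mp (mem_inf.mp hy).2 t ht).symm
  refine le_antisymm ?_ (sup_le ?_ ?_)
  · rw [fittingOf, Cores.fittingSubgroup_eq_iSup, Subgroup.map_iSup]
    refine iSup_le fun ⟨q, hq'⟩ => ?_
    have hq := Nat.prime_of_mem_primeFactors hq'
    have := Fact.mk hq
    show (pCore q M).map M.subtype ≤ _
    set Y := (pCore q M).map M.subtype with hY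
    have hYq : IsPGroup q Y := (Cores.pCore_isPGroup _).map _
    by_cases hqσ : q ∈ sigma M
    · exact le_sup_of_le_left (Sigma.sylow_le_sigmaCore h.hG h.hM hqσ hYq (map_subtype_le _))
    rcases eq_or_ne Y ⊥ with hY1 | hY1
    · rw [hY1]; exact bot_le
    have : (pCore q M).Characteristic := Cores.pCore_characteristic _
    have hMY : M ≤ normalizer (Y : Set G) :=
      le_normalizer.trans (Coprime.OmegaDetect.normalizer_le_normalizer_char M _)
    obtain ⟨hqτ, hYc⟩ := h.qcore_cases hqσ hYq (map_subtype_le _) hMY hY1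
    obtain rfl : q = p := h.tau2_eq hn hE hAE hqτ
    refine le_sup_of_le_right ?_
    rw [hA₀]
    obtain ⟨P, hAP⟩ := exists_sylow_ge h.hA h.hAM
    refine h.le_line hn hn.OS ((map_mono (PLocal.Cores.pCore_le_sylow P)).trans
      (le_centralizer_iff.mp (le_centralizer_of_sylow h.hG h.hM h.hτ h.hA P hAP))) hYc ha ha1 ?_ haZ
    have hzn : ((zpowers a).subgroupOf M).Normal := (normal_subgroupOf_iff_le_normalizer
      (zpowers_le.mpr (h.hAM ha))).mpr (hA₀ ▸ hMA₀)
    exact ⟨⟨a, h.hAM ha⟩, Cores.le_pCore (hN := hzn)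
      ((h.hA.isPGroup.to_le (zpowers_le.mpr ha)).comap_subtype) (mem_subgroupOf.mpr (mem_zpowers a)), rfl⟩
  · have : (piCore (sigma M) M).Characteristic := Cores.piCore_characteristic _
    have : Group.IsNilpotent ((piCore (sigma M) M).map M.subtype) := h.sigmaCore_nilpotent
    exact map_mono (Cores.le_fittingSubgroup (N := piCore (sigma M) M)
      (Group.nilpotent_of_mulEquiv
        (equivMapOfInjective (piCore (sigma M) M) M.subtype M.subtype_injective).symm))
  · rw [← map_subgroupOf_eq_of_le hA₀M]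
    refine map_mono (Cores.le_fittingSubgroup (hN := (normal_subgroupOf_iff_le_normalizer hA₀M).mpr hMA₀) ?_)
    exact ((h.hA.isPGroup.to_le inf_le_left).comap_subtype (K := M)).isNilpotent

end Cfsg.Agent.OddLocal.TauTwo
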