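import Cfsg.Agent.OddLocal.PTypeCover
import Cfsg.Agent.S1419
import Cfsg.Agent.S1423
import Cfsg.Agent.OddLocal.TauTwoSylow

/-! Consequences of BG 14.7 for a maximal subgroup with nonempty `κ`. -/

set_option autoImplicit false
set_option linter.unusedSectionVars false

namespace Cfsg.Agent.OddLocal.PType

open Cfsg Subgroup KappaStructure SigmaParts
open TauTwo (centralizer_zpowers)
open scoped commutatorElement

variable {G : Type*} [Group G] [Finite G] {M H L K U : Subgroup G} {x y : G} {q : ℕ} [hq : Fact q.Prime]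

/-- `M' = U M_σ`. -/
theorem commutator_eq (hG : IsMinSimpleOddOrder G) (hM : IsCoatom M) (hKU : IsSigmaDecomposition M K U)
    (hK1 : K ≠ ⊥) : ⁅M, M⁆ = U ⊔ sigmaCore M := by
  refine le_antisymm ?_ (sup_le ?_ (Sigma.sigmaCore_le_commutator hG hM))
  · have hN : (U ⊔ sigmaCore M).subgroupOf M |>.Normal :=
      (normal_subgroupOf_iff_le_normalizer (KappaDecomp.sup_le' hKU)).mpr
        (KappaDecomp.normal_sup hG hM hKU)
    set f := QuotientGroup.mk' ((U ⊔ sigmaCore M).subgroupOf M) with hf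
    have hrep : ∀ a : M, ∃ k : M, (k : G) ∈ K ∧ f a = f k := fun a => by
      obtain ⟨u, hu, b, hb, hab⟩ := hKU.compl.2.2.2 a a.2
      obtain ⟨k, hk, s, hs, rfl⟩ : ∃ k ∈ K, ∃ s ∈ sigmaCore M, b = k * s := by
        rw [sup_comm] at hb
        obtain ⟨s, hs, k, hk, rfl⟩ :=
          KappaDecomp.exists_mul_sup (hKU.hall.1.trans (Sigma.le_normalizer_sigmaCore M)) hb
        exact ⟨k, hk, k⁻¹ * s * k, (mem_normalizer_iff''.mp
          (Sigma.le_normalizer_sigmaCore M (hKU.hall.1 hk)) s).mp hs, by group⟩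
      have h1 : f ⟨u, hKU.compl.1 hu⟩ = 1 := (QuotientGroup.eq_one_iff _).mpr (mem_sup_left hu)
      have h2 : f ⟨s, Sigma.sigmaCore_le M hs⟩ = 1 := (QuotientGroup.eq_one_iff _).mpr (mem_sup_right hs)
      refine ⟨⟨k, hKU.hall.1 hk⟩, hk, ?_⟩
      have h3 : a = ⟨u, hKU.compl.1 hu⟩ * (⟨k, hKU.hall.1 hk⟩ * ⟨s, Sigma.sigmaCore_le M hs⟩) :=
        Subtype.ext hab
      rw [h3, map_mul, map_mul, h1, h2, one_mul, mul_one]
    rw [commutator_le]
    intro a ha b hb
    obtain ⟨k, hk, hak⟩ := hrep ⟨a, ha⟩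
    obtain ⟨l, hl, hbl⟩ := hrep ⟨b, hb⟩
    have := hKU.cyclic
    let := IsCyclic.commGroup (α := K)
    have hcomm : k * l = l * k :=
      Subtype.ext (congrArg (fun x : K => (x : G)) (mul_comm (⟨(k : G), hk⟩ : K) ⟨(l : G), hl⟩))
    have h4 : f ⁅(⟨a, ha⟩ : M), (⟨b, hb⟩ : M)⁆ = 1 := by
      rw [map_commutatorElement, hak, hbl, ← map_commutatorElement,
        commutatorElement_eq_one_iff_commute.mpr hcomm, map_one]
    have h5 : ⁅(⟨a, ha⟩ : M), (⟨b, hb⟩ : M)⁆ ∈ (U ⊔ sigmaCore M).subgroupOf M :=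
      (QuotientGroup.eq_one_iff _).mp h4
    exact h5
  · exact (KappaDecomp.data_of hG hM hKU hK1).hUD.trans
      (commutator_mono (KappaDecomp.isCompl hKU).1 (KappaDecomp.isCompl hKU).1)

/-- When `U = 1`, `C_{M_σ}(K) ≤ M_σ'`. -/
theorem star_le_commutator_core (hG : IsMinSimpleOddOrder G) (hM : IsCoatom M)
    (hKU : IsSigmaDecomposition M K U) (hU : U = ⊥) : star M K ≤ ⁅sigmaCore M, sigmaCore M⁆ := by
  have hE := KappaDecomp.isCompl hKU
  rw [hU, bot_sup_eq] at hE
  exact SigmaMeet.inf_centralizer_compl_le hG hM hE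

/-- `C_{M_σ}(K) ≤ M''`. -/
theorem star_le_commutator_two (hG : IsMinSimpleOddOrder G) (hM : IsCoatom M)
    (hKU : IsSigmaDecomposition M K U) (hK1 : K ≠ ⊥) : star M K ≤ ⁅⁅M, M⁆, ⁅M, M⁆⁆ := by
  rw [commutator_eq hG hM hKU hK1]
  rcases eq_or_ne U ⊥ with hU | hU
  · exact (star_le_commutator_core hG hM hKU hU).trans (commutator_mono le_sup_right le_sup_right)
  · have hd := KappaDecomp.data_of hG hM hKU hK1
    obtain ⟨hCU, hnil⟩ := fixed_eq_bot hG hM hKU.hall hd ((notP1_iff hG hM hKU).mpr hU)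
    have hUN : U ≤ normalizer (sigmaCore M : Set G) :=
      hKU.compl.1.trans (Sigma.le_normalizer_sigmaCore M)
    have h := Cfsg.Agent.Coprime.commutator_sup_inf_centralizer hUN
      ((SigmaMeet.coprime_card hG hM (KappaDecomp.isCompl hKU)).coprime_dvd_left
        (card_dvd_of_le le_sup_left))
      (Or.inr (Transitivity.isSolvable_of_ne_top hG fun e =>
        hM.1 (top_le_iff.mp (e ▸ Sigma.sigmaCore_le M))))
    rw [hCU, sup_bot_eq] at h
    exact inf_le_left.trans (h.symm.le.trans (commutator_mono le_sup_right le_sup_left))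

theorem Pair.kappa_eq (hG : IsMinSimpleOddOrder G) (hKU : IsSigmaDecomposition M K U)
    (hK1 : K ≠ ⊥) (hM : IsCoatom M) : kappa M = tau1 M := by
  have hd := KappaDecomp.data_of hG hM hKU hK1
  have hM' := commutator_eq hG hM hKU hK1
  ext t
  constructor
  · intro ht
    have := Fact.mk ht.1
    refine ⟨ht.1, ht.2.2.1, ht.2.1, fun hd' => ?_, rank_of_kappa ht⟩
    have hcard : Nat.card ↥(U ⊔ sigmaCore M) ∣ Nat.card U * Nat.card (sigmaCore M) := by
      rw [sup_comm, Coprime.card_sup_of_disjoint (hKU.compl.1.trans (Sigma.le_normalizer_sigmaCore M))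
        (disjoint_iff.mpr (by
          rw [inf_comm]
          exact le_bot_iff.mp (le_trans (inf_le_inf_left U le_sup_right) hKU.compl.2.2.1.le))),
        mul_comm]
    rcases ht.1.dvd_mul.mp ((hM' ▸ hd').trans hcard) with h | h
    · exact KappaDecomp.not_kappa_of_dvd hKU ht.1 h ht
    · exact ht.2.2.1 (Transitivity.isPi_piCoreOf (sigma M) M t ht.1 h)
  · rintro ⟨ht, hσ, htM, hnd, -⟩
    by_contra hκ
    exact hnd ((KappaDecomp.dvd_of_not hKU ht htM hσ hκ).trans (card_dvd_of_le (hM' ▸ le_sup_left)))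

/-- `C_{M_σ}(K)` is a Hall `σ(M)`-subgroup of the partner. -/
theorem Pair.hall_sigma (hG : IsMinSimpleOddOrder G) (h : Pair M K H) :
    IsPiHallOf (sigma M) (star M K) H := by
  refine ⟨h.hKs.1, fun p hp hd =>
    Transitivity.isPi_piCoreOf (sigma M) M p hp (hd.trans (card_dvd_of_le inf_le_left)),
    fun q hq hqσ hd => ?_⟩
  have := Fact.mk hq
  have hqH : q ∉ sigma H := not_sigma_of_ne hG h.hM h.hH (h.not_conj hG) hqσ
  have hqκ : q ∉ kappa H := fun hκ => h.hKs.2.2 q hq hκ hd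
  have hKsc : IsCyclic (star M K) := by
    have := h.cyclic
    exact Subgroup.isCyclic_of_le (le_sup_right : star M K ≤ K ⊔ star M K)
  obtain ⟨U, hU⟩ := KappaDecomp.exists_decomposition hG h.hH h.hKs hKsc
  have hs1 := h.star_ne_bot hG
  have hd' := KappaDecomp.data_of hG h.hH hU hs1
  have hqU : q ∣ Nat.card U := KappaDecomp.dvd_of_not hU hq
    (hd.trans ((star M K).subgroupOf H).index_dvd_card) hqH hqκ
  have hcomm : ∀ a b : G, a ∈ U → b ∈ U → Commute a b := fun a b ha hb =>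
    congrArg Subtype.val (hd'.hUc.is_comm.comm ⟨a, ha⟩ ⟨b, hb⟩)
  set T : Subgroup G :=
    { carrier := {v | v ∈ U ∧ v ^ q = 1}
      mul_mem' := fun {a b} ha hb =>
        ⟨mul_mem ha.1 hb.1, by rw [(hcomm a b ha.1 hb.1).mul_pow, ha.2, hb.2, one_mul]⟩
      one_mem' := ⟨one_mem _, one_pow _⟩
      inv_mem' := fun {a} ha => ⟨inv_mem ha.1, by rw [inv_pow, ha.2, inv_one]⟩ } with hT
  have hTN : star M K ≤ normalizer (T : Set G) := fun s hs => mem_normalizer_iff.mpr fun v => by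
    refine ⟨fun hv => ⟨(mem_normalizer_iff.mp (hU.normal hs) v).mp hv.1, by
        rw [conj_pow, hv.2]; group⟩, fun hv => ⟨(mem_normalizer_iff.mp (hU.normal hs) v).mpr hv.1, ?_⟩⟩
    have h2 := hv.2
    rwa [conj_pow, conj_eq_one_iff] at h2
  obtain ⟨v, hv⟩ := exists_prime_orderOf_dvd_card' q hqU
  rw [← orderOf_coe] at hv
  have hvT : (v : G) ∈ T := ⟨v.2, hv ▸ pow_orderOf_eq_one _⟩
  have hTσ : ∀ p : ℕ, p.Prime → p ∣ Nat.card ↥(T ⊔ star M K) → p ∈ sigma M := by
    intro p hp hpd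
    obtain ⟨z, hz⟩ := @exists_prime_orderOf_dvd_card' _ _ _ p (Fact.mk hp) hpd
    rw [← orderOf_coe] at hz
    obtain ⟨a, ha, b, hb, hab⟩ := KappaDecomp.exists_mul_sup hTN z.2
    by_contra hpσ
    have hpq : Nat.card ↥(T ⊔ star M K) ∣ Nat.card T * Nat.card (star M K) := by
      rw [Coprime.card_sup_of_disjoint hTN (disjoint_iff.mpr (le_bot_iff.mp (le_trans
        (inf_le_inf (fun w hw => hw.1) le_sup_left) hU.compl.2.2.1.le)))]
    rcases hp.dvd_mul.mp (hpd.trans hpq) with h1 | h1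
    · obtain ⟨w, hw⟩ := @exists_prime_orderOf_dvd_card' _ _ _ p (Fact.mk hp) h1
      rw [← orderOf_coe] at hw
      exact hpσ ((Nat.prime_dvd_prime_iff_eq hp hq).mp
        (hw ▸ orderOf_dvd_of_pow_eq_one w.2.2) ▸ hqσ)
    · exact hpσ (Transitivity.isPi_piCoreOf (sigma M) M p hp (h1.trans (card_dvd_of_le inf_le_left)))
  have hle : T ⊔ star M K ≤ sigmaCore M := by
    refine (S1431.result hG M h.hM K h.hK h.hK1).2.2.2 _ hTσ fun e => hs1 ?_
    exact le_bot_iff.mp ((le_inf le_sup_right le_rfl).trans e.le)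
  have hvZ : (v : G) ∈ star M K := (core_inf_sup h.hK).le (mem_inf.mpr ⟨hle (mem_sup_left hvT),
    h.inter.le (mem_inf.mpr ⟨Sigma.sigmaCore_le M (hle (mem_sup_left hvT)), hU.compl.1 v.2⟩)⟩)
  exact hqκ (h.hKs.2.1 q hq (hv ▸ orderOf_dvd_natCard _ hvZ))

/-- The centraliser of a line of `C_{M_σ}(K)` lies in no maximal subgroup but `M`. -/
theorem Pair.unique_line (hG : IsMinSimpleOddOrder G) (h : Pair M K H) (hKU : IsSigmaDecomposition M K U)
    (hy : y ∈ star M K) (hyo : orderOf y = q) (hL : IsCoatom L)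
    (hCL : centralizer ({y} : Set G) ≤ L) : L = M := by
  have hy1 := KappaCentral.ne_one_of_order hyo
  have hyσ : y ∈ sigmaCore M := (mem_inf.mp hy).1
  have hyM := Sigma.sigmaCore_le M hyσ
  have hqM : q ∈ sigma M := mem_sigma_core hyσ q hq.out (hyo.symm ▸ dvd_rfl)
  have hX : Nat.card (zpowers y) = q := by rw [Nat.card_zpowers, hyo]
  by_contra hne
  rcases eq_or_ne U ⊥ with hU | hU
  · obtain ⟨S⟩ : Nonempty (Sylow q (sigmaCore M)) := inferInstance
    obtain ⟨⟨-, hu⟩, -, -⟩ := S1423.result hG M h.hM q hqM (zpowers y) (zpowers_le.mpr hyM) hX S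
      (Or.inr (zpowers_le.mpr (star_le_commutator_core hG h.hM hKU hU hy)))
    exact hne (hu L hL (centralizer_zpowers y ▸ hCL))
  have hyL : y ∈ L := hCL (mem_centralizer_singleton_iff.mpr rfl)
  have hpart : y ∈ sigmaCore M ⊓ (K ⊔ star M K) := mem_inf.mpr ⟨hyσ, mem_sup_right hy⟩
  have hncj : ∀ g : G, L ≠ M.map (MulAut.conj g).toMonoidHom := fun g e => hne (by
    rw [e, (mem_iff_conj_eq hG h.hM).mp (h.member.mem_of_part hG hpart hy1 (e ▸ hyL))])
  obtain ⟨-, hnil⟩ := fixed_eq_bot hG h.hM h.hK (KappaDecomp.data_of hG h.hM hKU h.hK1)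
    ((notP1_iff hG h.hM hKU).mpr hU)
  obtain ⟨S₀⟩ : Nonempty (Sylow q (sigmaCore M)) := inferInstance
  have hSn : (S₀ : Subgroup (sigmaCore M)).Normal :=
    (Group.isNilpotent_of_finite_tfae.out 0 3 rfl rfl).mp hnil q inferInstance S₀
  obtain ⟨S, hS⟩ := MaxStruct.exists_sylow_of_core hG h.hM hqM S₀
  have hyS : y ∈ (S : Subgroup G) := by
    rw [hS]
    obtain ⟨P, hP⟩ := ((PrimeAction.isPGroup_of_card hX).comap_subtype (K := sigmaCore M)).exists_le_sylow
    have hPS : P = S₀ := by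
      have := Sylow.unique_of_normal S₀ hSn
      exact Subsingleton.elim P S₀
    exact ⟨⟨y, hyσ⟩, hPS ▸ hP (mem_subgroupOf.mpr (mem_zpowers y)), rfl⟩
  have hSu : InUniqueMaximal (S : Subgroup G) := hS ▸
    ((S1431.result hG M h.hM K h.hK h.hK1).2.2.1 q hq.out
      (hyo ▸ orderOf_dvd_natCard _ hy) S₀).1
  have hSM : (S : Subgroup G) ≤ M := hS ▸ (map_subtype_le _).trans (Sigma.sigmaCore_le M)
  have hnSC : ¬ (S : Subgroup G) ≤ centralizer ({y} : Set G) := fun hle =>
    hne (hSu.unique ⟨hL, hle.trans hCL⟩ ⟨h.hM, hSM⟩)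
  have hSna : ¬ IsMulCommutative (S : Subgroup G) := fun hab => hnSC fun s hs =>
    mem_centralizer_singleton_iff.mpr (congrArg Subtype.val (hab.is_comm.comm ⟨s, hs⟩ ⟨y, hyS⟩))
  have hSnt : Nontrivial (S : Subgroup G) :=
    (nontrivial_iff_ne_bot _).mpr fun e => hy1 (mem_bot.mp (e ▸ hyS))
  have hcn := S.isPGroup'.center_nontrivial
  obtain ⟨n, hn⟩ := (S.isPGroup'.to_subgroup (center (S : Subgroup G))).exists_card_eq
  have hn0 : n ≠ 0 := fun e => by
    rw [e, pow_zero] at hn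
    exact absurd hn ((Subgroup.one_lt_card_iff_ne_bot _).mpr ((nontrivial_iff_ne_bot _).mp hcn)).ne'
  obtain ⟨z, hz⟩ := exists_prime_orderOf_dvd_card' q (hn ▸ dvd_pow_self q hn0)
  rw [← orderOf_coe, ← orderOf_coe] at hz
  have hzc : ∀ s ∈ (S : Subgroup G), s * ((z : (S : Subgroup G)) : G) = ((z : (S : Subgroup G)) : G) * s :=
    fun s hs => congrArg Subtype.val (mem_center_iff.mp z.2 ⟨s, hs⟩)
  set w : G := ((z : (S : Subgroup G)) : G) with hw
  have hwy : w ∉ zpowers y := fun hwz => hnSC fun s hs => by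
    have heq : zpowers w = zpowers y := eq_of_le_of_card_ge (zpowers_le.mpr hwz)
      (by rw [hX, Nat.card_zpowers, hz])
    obtain ⟨i, hi⟩ := mem_zpowers_iff.mp (heq.ge (mem_zpowers y))
    exact mem_centralizer_singleton_iff.mpr
      (hi ▸ (show Commute s w from hzc s hs).zpow_right i).eq
  set A := zpowers y ⊔ zpowers w with hA
  have hyw : Commute y w := hzc y hyS
  have hAe : IsElementaryAbelian q A := PLocal.ThompsonSubgroup.IsElementaryAbelian.sup
    (PLocal.ThompsonSubgroup.isElementaryAbelian_zpowers (hyo ▸ pow_orderOf_eq_one y))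
    (PLocal.ThompsonSubgroup.isElementaryAbelian_zpowers (hz ▸ pow_orderOf_eq_one w))
    (zpowers_le.mpr (mem_centralizer_iff.mpr fun a ha => by
      obtain ⟨i, rfl⟩ := mem_zpowers_iff.mp ha
      exact (hyw.symm.zpow_left i).eq))
  have hdj : Disjoint (zpowers y) (zpowers w) := by
    rw [disjoint_iff]
    by_contra hb
    have hle : zpowers y ⊓ zpowers w ≤ zpowers w := inf_le_right
    have hc := ((hz ▸ hq.out : (orderOf w).Prime).eq_one_or_self_of_dvd _
      ((card_dvd_of_le hle).trans (Nat.card_zpowers w).dvd)).resolve_left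
      (fun e => hb (card_eq_one.mp e))
    have := eq_of_le_of_card_ge hle (by rw [hc, Nat.card_zpowers])
    exact hwy ((this.ge.trans inf_le_left) (mem_zpowers w))
  have hAc : Nat.card A = q ^ 2 := by
    rw [hA, Coprime.card_sup_of_disjoint ?_ hdj, hX, Nat.card_zpowers, hz, sq]
    exact zpowers_le.mpr (Signalizer.centralizer_le_normalizer_zpowers y
      (mem_centralizer_singleton_iff.mpr hyw.symm.eq))
  have hAL : A ≤ L := sup_le (zpowers_le.mpr hyL)
    (zpowers_le.mpr (hCL (mem_centralizer_singleton_iff.mpr hyw.symm.eq)))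
  have hwS : w ∈ (S : Subgroup G) := (z : (S : Subgroup G)).2
  have hAM : A ≤ M := sup_le (zpowers_le.mpr hyM) (zpowers_le.mpr (hSM hwS))
  have hqL := not_sigma_of_ne hG h.hM hL hncj hqM
  have hτ : q ∈ tau2 L := ⟨hq.out, hqL, SigmaCompl.rank_le hG hL hq.out hqL,
    Unique.not_pRankLE_of_elementary hAL hAe hAc.ge⟩
  obtain ⟨E, hE, hAE⟩ := Compl.exists_compl_ge hG hL hAL fun p hp hd => by
    rw [hAc] at hd
    rw [(Nat.prime_dvd_prime_iff_eq hp hq.out).mp (hp.dvd_of_dvd_pow hd)]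
    exact hqL
  have hnab : ∀ S' : Sylow q G, ¬ IsMulCommutative (S' : Subgroup G) := fun S' hab => by
    refine hSna ⟨⟨fun a b => ?_⟩⟩
    apply (S.equiv S').injective
    rw [map_mul, map_mul, hab.is_comm.comm]
  obtain ⟨-, -, hline⟩ := S1419.result hG L hL E hE q hτ hnab A ⟨hAE, hAe, hAc⟩
  have hyA : zpowers y = A ⊓ centralizer (sigmaCore L : Set G) := by
    by_contra hne'
    exact (hline (zpowers y) (le_sup_left.trans hAE) hX hne').2 (centralizer_zpowers y ▸ hCL)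
  obtain ⟨-, -, -, -, hinf, -⟩ := S1417.result hG L hL q hτ A ⟨hAL, hAe, hAc⟩
  have hle : sigmaCore L ≤ centralizer ({y} : Set G) := fun l hl => by
    have := mem_centralizer_iff.mp (mem_inf.mp (hyA.le (mem_zpowers y))).2 l hl
    exact mem_centralizer_singleton_iff.mpr this
  refine Sigma.sigmaCore_ne_bot hG hL ?_
  rw [← hinf M h.hM (Ne.symm hne) hAM, eq_comm, inf_eq_left]
  exact hle.trans (h.member.centralizer_le hG hpart hy1)

theorem Pair.unique_centralizer (hG : IsMinSimpleOddOrder G) (h : Pair M K H)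
    (hKU : IsSigmaDecomposition M K U) {X : Subgroup G} (hX : X ≤ star M K) (hXp : (Nat.card X).Prime) :
    centralizer (X : Set G) ≤ M ∧
      ∀ L : Subgroup G, IsCoatom L → centralizer (X : Set G) ≤ L → L = M := by
  have := Fact.mk hXp
  obtain ⟨y, hy⟩ := exists_prime_orderOf_dvd_card' (G := X) (Nat.card X) dvd_rfl
  rw [← orderOf_coe] at hy
  have hXy : zpowers (y : G) = X := eq_of_le_of_card_ge (zpowers_le.mpr y.2)
    (by rw [Nat.card_zpowers, hy])
  rw [← hXy, centralizer_zpowers]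
  have hy1 : (y : G) ≠ 1 := KappaCentral.ne_one_of_order hy
  exact ⟨h.member.centralizer_le hG (mem_inf.mpr ⟨(mem_inf.mp (hX y.2)).1, mem_sup_right (hX y.2)⟩) hy1,
    fun L hL hCL => h.unique_line hG hKU (hX y.2) hy hL hCL⟩

end Cfsg.Agent.OddLocal.PType
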