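import Cfsg.Agent.OddLocal.RankTwoAction
import Cfsg.Agent.OddLocal.RankThree

/-! Automorphisms of narrow `p`-groups of rank at least three. -/

set_option autoImplicit false
set_option linter.unusedSectionVars false

namespace Cfsg.Agent.OddLocal.Narrow

open Cfsg Subgroup
open scoped commutatorElement

variable {R : Type*} [Group R] [Finite R] {p : ℕ} [hp : Fact p.Prime]

/-- The automorphisms fixing the factor `M / N`. -/
def fixFactor (M N : Subgroup R) [hM : M.Characteristic] [hN : N.Characteristic] : Subgroup (MulAut R) where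
  carrier := {e | ∀ x ∈ M, e x * x⁻¹ ∈ N}
  one_mem' := fun x _ => by rw [MulAut.one_apply, mul_inv_cancel]; exact one_mem _
  mul_mem' := fun {a b} ha hb x hx => by
    have hbx : b x ∈ M := characteristic_iff_map_le.mp hM b ⟨x, hx, rfl⟩
    have e : (a * b) x * x⁻¹ = (a (b x) * (b x)⁻¹) * (b x * x⁻¹) := by rw [MulAut.mul_apply]; group
    rw [e]
    exact mul_mem (ha _ hbx) (hb x hx)
  inv_mem' := fun {a} ha x hx => by
    have hax : a⁻¹ x ∈ M := characteristic_iff_map_le.mp hM a⁻¹ ⟨x, hx, rfl⟩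
    have h := inv_mem (ha _ hax)
    rw [MulAut.apply_inv_self, mul_inv_rev, inv_inv] at h
    exact h

/-- On a factor of order at most `p` automorphisms commute and have exponent `p - 1`. -/
theorem mem_fixFactor (M N : Subgroup R) [hM : M.Characteristic] [hN : N.Characteristic]
    (hle : N ≤ M) (hidx : N.relIndex M ≤ p) (hR : IsPGroup p R) :
    (∀ a b : MulAut R, ⁅a, b⁆ ∈ fixFactor M N) ∧ ∀ a : MulAut R, a ^ (p - 1) ∈ fixFactor M N := by
  set q := QuotientGroup.mk' N with hq
  have hq1 : ∀ {u : R}, q u = 1 ↔ u ∈ N := fun {u} => QuotientGroup.eq_one_iff u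
  by_cases hall : ∀ x ∈ M, x ∈ N
  · have : ∀ e : MulAut R, e ∈ fixFactor M N := fun e x hx =>
      mul_mem (characteristic_iff_map_le.mp hN e ⟨x, hall x hx, rfl⟩) (inv_mem (hall x hx))
    exact ⟨fun a b => this _, fun a => this _⟩
  push Not at hall
  obtain ⟨m, hmM, hmN⟩ := hall
  have hcard : Nat.card (M.map q) = N.relIndex M := by rw [← relIndex_ker, QuotientGroup.ker_mk']
  have hmp : q m ^ p = 1 ∧ zpowers (q m) = M.map q := by
    obtain ⟨i, hi⟩ := ((hR.to_quotient N).to_subgroup (M.map q)).exists_card_eq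
    rw [← hcard, hi] at hidx
    have hi1 : i ≤ 1 := by
      rw [← Nat.pow_le_pow_iff_right hp.out.one_lt, pow_one]
      exact hidx
    have h1 : orderOf (q m) ∣ Nat.card (M.map q) :=
      (M.map q).orderOf_dvd_natCard ⟨m, hmM, rfl⟩
    rw [hi] at h1
    have h2 : q m ^ p = 1 :=
      orderOf_dvd_iff_pow_eq_one.mp (h1.trans ((pow_dvd_pow p hi1).trans (pow_one p).dvd))
    refine ⟨h2, eq_of_le_of_card_ge (zpowers_le.mpr ⟨m, hmM, rfl⟩) ?_⟩
    rw [hi, Nat.card_zpowers, orderOf_eq_prime h2 (fun h => hmN (hq1.mp h))]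
    exact (Nat.pow_le_pow_right hp.out.pos hi1).trans (pow_one p).le
  have hscal : ∀ e : MulAut R, ∃ n : ℤ, ∀ x ∈ M, q (e x) = q x ^ n := by
    intro e
    obtain ⟨n, hn⟩ := mem_zpowers_iff.mp (show q (e m) ∈ zpowers (q m) by
      rw [hmp.2]; exact ⟨e m, characteristic_iff_map_le.mp hM e ⟨m, hmM, rfl⟩, rfl⟩)
    refine ⟨n, fun x hx => ?_⟩
    obtain ⟨i, hi⟩ := mem_zpowers_iff.mp (show q x ∈ zpowers (q m) by rw [hmp.2]; exact ⟨x, hx, rfl⟩)
    have h1 : (m ^ i)⁻¹ * x ∈ N := by
      rw [← hq1, map_mul, map_inv, map_zpow, hi, inv_mul_cancel]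
    have h2 : q (e ((m ^ i)⁻¹ * x)) = 1 := hq1.mpr (characteristic_iff_map_le.mp hN e ⟨_, h1, rfl⟩)
    rw [map_mul, map_inv, map_mul, map_inv, map_zpow, map_zpow, inv_mul_eq_one] at h2
    rw [← h2, ← hn, ← hi, ← zpow_mul, ← zpow_mul, mul_comm]
  have hinvM : ∀ (e : MulAut R), ∀ x ∈ M, e x ∈ M := fun e x hx =>
    characteristic_iff_map_le.mp hM e ⟨x, hx, rfl⟩
  refine ⟨fun a b x hx => ?_, fun a x hx => ?_⟩
  · obtain ⟨n, hn⟩ := hscal a
    obtain ⟨l, hl⟩ := hscal b
    have key : ∀ y ∈ M, q ((a * b) y) = q ((b * a) y) := fun y hy => by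
      rw [MulAut.mul_apply, MulAut.mul_apply, hn _ (hinvM b y hy), hl y hy, hl _ (hinvM a y hy), hn y hy,
        ← zpow_mul, ← zpow_mul, mul_comm]
    have h := key ((b * a)⁻¹ x) (hinvM _ x hx)
    rw [MulAut.apply_inv_self, ← MulAut.mul_apply, show a * b * (b * a)⁻¹ = ⁅a, b⁆ by
      simp only [commutatorElement_def]; group] at h
    rw [← hq1, map_mul, map_inv, h, mul_inv_cancel]
  · obtain ⟨n, hn⟩ := hscal a
    have key : ∀ (k : ℕ), ∀ y ∈ M, q ((a ^ k) y) = q y ^ (n ^ k) := by
      intro k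
      induction k with
      | zero => intro y _; rw [pow_zero, pow_zero, MulAut.one_apply, zpow_one]
      | succ k ih =>
        intro y hy
        rw [pow_succ', pow_succ, MulAut.mul_apply, hn _ (hinvM (a ^ k) y hy), ih y hy, ← zpow_mul]
    have hnp : IsCoprime n (p : ℤ) := by
      refine ((Nat.prime_iff_prime_int.mp hp.out).coprime_iff_not_dvd.mpr fun hd => hmN ?_).symm
      obtain ⟨t, rfl⟩ := hd
      have h := hn m hmM
      rw [zpow_mul, zpow_natCast, hmp.1, one_zpow, hq1] at h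
      have h' := characteristic_iff_map_le.mp hN a⁻¹ ⟨a m, h, rfl⟩
      change a⁻¹ (a m) ∈ N at h'
      rwa [MulAut.inv_apply_self] at h'
    rw [← hq1, map_mul, map_inv, key _ x hx, mul_inv_eq_one]
    obtain ⟨i, hi⟩ := mem_zpowers_iff.mp (show q x ∈ zpowers (q m) by rw [hmp.2]; exact ⟨x, hx, rfl⟩)
    obtain ⟨t, ht⟩ := Int.modEq_iff_dvd.mp (Int.ModEq.pow_card_sub_one_eq_one hp.out hnp).symm
    rw [← hi, ← zpow_mul, show i * n ^ (p - 1) = i + (p : ℤ) * (t * i) by linear_combination i * ht,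
      zpow_add, zpow_mul (q m) (p : ℤ), zpow_natCast, hmp.1, one_zpow, mul_one]

/-- Stability step. -/
theorem fix_of_fix_factor (hR : IsPGroup p R) {e : MulAut R} (he : (orderOf e).Coprime p) {x : R}
    (h : e (e x * x⁻¹) = e x * x⁻¹) : e x = x := by
  set y := e x * x⁻¹ with hy
  have key : ∀ k : ℕ, (e ^ k) x = y ^ k * x := by
    intro k
    induction k with
    | zero => rw [pow_zero, pow_zero, MulAut.one_apply, one_mul]
    | succ k ih =>
      rw [pow_succ', MulAut.mul_apply, ih, map_mul, map_pow, h, pow_succ, mul_assoc, hy,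
        inv_mul_cancel_right]
  have h1 := key (orderOf e)
  rw [pow_orderOf_eq_one, MulAut.one_apply, right_eq_mul] at h1
  obtain ⟨k, hk⟩ := IsPGroup.iff_orderOf.mp hR y
  exact mul_inv_eq_one.mp (orderOf_eq_one_iff.mp
    (Nat.eq_one_of_dvd_coprimes (he.pow_right k) (orderOf_dvd_of_pow_eq_one h1) hk.dvd))

/-- If some element outside a characteristic subgroup `T` of index `p` centralizes at most `p` solutions
of `x ^ p = 1` in `T`, the automorphism group is a `p`-group extended by an abelian group of exponent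
dividing `p - 1`. -/
theorem exists_kernel (hp2 : p ≠ 2) (hR : IsPGroup p R) (T : Subgroup R) [hT : T.Characteristic]
    (hidx : T.index = p) (s : R) (Z : Subgroup R) (hZ : Nat.card Z ≤ p)
    (hs : ∀ x ∈ T, x ^ p = 1 → Commute x s → x ∈ Z) :
    ∃ K : Subgroup (MulAut R), IsPGroup p K ∧ (∀ a b : MulAut R, ⁅a, b⁆ ∈ K) ∧
      ∀ a : MulAut R, a ^ (p - 1) ∈ K := by
  classical
  obtain ⟨H, hH, h1, h2, h3⟩ := Techniques.Critical.exists_critical (hR.to_subgroup T)
  have hcl : ⁅commutator H, (⊤ : Subgroup H)⁆ = ⊥ := by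
    rw [commutator_eq_bot_iff_le_centralizer]
    intro u hu
    have hu' : (u : T) ∈ H ⊓ centralizer (H : Set T) := by
      refine h2 ?_
      have h4 : (commutator H).map H.subtype ≤ ⁅H, (⊤ : Subgroup T)⁆ := by
        rw [map_subtype_commutator]
        exact commutator_mono le_rfl le_top
      exact h4 ⟨u, hu, rfl⟩
    exact fun y _ => Subtype.ext (hu'.2 _ y.2)
  set W := closure {x : H | x ^ p = 1} with hW
  have hWexp : ∀ x ∈ W, x ^ p = 1 := S0096.result hp2 ((hR.to_subgroup T).to_subgroup H) hcl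
  set V := (W.map H.subtype).map T.subtype with hV
  have hVT : V ≤ T := map_subtype_le _
  have hVexp : ∀ x ∈ V, x ^ p = 1 := by
    rintro _ ⟨_, ⟨x, hx, rfl⟩, rfl⟩
    rw [← map_pow, ← map_pow, hWexp x hx, map_one, map_one]
  have hinvT : ∀ (e : MulAut R) (x : R), x ∈ T → e x ∈ T := fun e x hx =>
    characteristic_iff_map_le.mp hT e ⟨x, hx, rfl⟩
  let resT : MulAut R → MulAut T := fun e =>
    { toFun := fun y => ⟨e y, hinvT e y y.2⟩
      invFun := fun y => ⟨e.symm y, hinvT e.symm y y.2⟩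
      left_inv := fun y => Subtype.ext (e.symm_apply_apply _)
      right_inv := fun y => Subtype.ext (e.apply_symm_apply _)
      map_mul' := fun y z => Subtype.ext (map_mul e _ _) }
  have hinvH : ∀ (f : MulAut T) (x : T), x ∈ H → f x ∈ H := fun f x hx =>
    characteristic_iff_map_le.mp hH f ⟨x, hx, rfl⟩
  have hVc : V.Characteristic := characteristic_iff_map_le.mpr fun e => by
    rintro _ ⟨_, ⟨_, ⟨x, hx, rfl⟩, rfl⟩, rfl⟩
    refine ⟨resT e x, ⟨⟨resT e x, hinvH _ _ x.2⟩, subset_closure ?_, rfl⟩, rfl⟩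
    refine Subtype.ext (Subtype.ext ?_)
    show e ((x : T) : R) ^ p = 1
    rw [← map_pow]
    have := congrArg (fun u : H => ((u : T) : R)) (hWexp x hx)
    simp only [SubmonoidClass.coe_pow, OneMemClass.coe_one] at this
    rw [this, map_one]
  let S : ℕ → Subgroup R := fun i => Nat.rec (motive := fun _ => Subgroup R) V (fun _ M => ⁅M, (⊤ : Subgroup R)⁆) i
  have hSc : ∀ i, (S i).Characteristic := by
    intro i
    induction i with
    | zero => exact hVc
    | succ i ih =>
      refine characteristic_iff_map_le.mpr fun e => ?_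
      show (⁅S i, (⊤ : Subgroup R)⁆).map e.toMonoidHom ≤ ⁅S i, (⊤ : Subgroup R)⁆
      rw [map_commutator]
      exact commutator_mono (characteristic_iff_map_le.mp ih e) le_top
  have hSle : ∀ i, S (i + 1) ≤ S i := fun i => by
    have := hSc i
    exact commutator_le_left (S i) ⊤
  have hSV : ∀ i, S i ≤ V := by
    intro i
    induction i with
    | zero => exact le_rfl
    | succ i ih => exact (hSle i).trans ih
  obtain ⟨r, hr⟩ := hR.exists_card_eq
  have hScard : ∀ i ≤ r, Nat.card ↥(S i) ≤ p ^ (r - i) := by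
    intro i
    induction i with
    | zero => intro _; rw [Nat.sub_zero, ← hr]; exact card_le_card_group _
    | succ i ih =>
      intro hi
      have hn : (S i).Normal := @Subgroup.normal_of_characteristic _ _ (S i) (hSc i)
      exact @OmegaExp.mul_card_commutator_le R _ _ p _ hR (S i) hn _
        (by rw [show r - (i + 1) + 1 = r - i by omega]; exact ih (by omega))
  have hSr : S r = ⊥ := by
    have h5 := hScard r le_rfl
    rw [Nat.sub_self, pow_zero] at h5
    exact eq_bot_of_card_le (S r) h5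
  have hfac : ∀ i, (S (i + 1)).relIndex (S i) ≤ p := by
    intro i
    set N := S (i + 1) with hN
    set M := S i with hM
    have hd : ∀ m : M, ⁅(m : R), s⁆ ∈ N := fun m => commutator_mem_commutator m.2 (mem_top s)
    let δ : M → N := fun m => ⟨⁅(m : R), s⁆, hd m⟩
    have hmem : ∀ m : M, ((Function.invFun δ (δ m) : M) : R)⁻¹ * m ∈ Z := by
      intro m
      have h : δ (Function.invFun δ (δ m)) = δ m := Function.invFun_eq ⟨m, rfl⟩
      set k := Function.invFun δ (δ m)
      have hk : (k : R)⁻¹ * m ∈ V := hSV i (mul_mem (inv_mem k.2) m.2)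
      exact hs _ (hVT hk) (hVexp _ hk) (RankTwoAction.inv_mul_commute (congrArg Subtype.val h).symm)
    have hinj : Function.Injective fun m : M => ((δ m, ⟨_, hmem m⟩) : N × Z) := by
      intro m m' h
      have h1 : δ m = δ m' := congrArg Prod.fst h
      have h2 : ((Function.invFun δ (δ m) : M) : R)⁻¹ * m = ((Function.invFun δ (δ m') : M) : R)⁻¹ * m' :=
        congrArg (fun w : N × Z => (w.2 : R)) h
      rw [h1] at h2
      exact Subtype.ext (mul_left_cancel h2)
    have hle : Nat.card M ≤ Nat.card N * p :=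
      (Nat.card_le_card_of_injective _ hinj).trans (by rw [Nat.card_prod]; exact Nat.mul_le_mul le_rfl hZ)
    have h4 := (N.subgroupOf M).card_mul_index
    rw [Nat.card_congr (subgroupOfEquivOfLe (hSle i)).toEquiv] at h4
    exact Nat.le_of_mul_le_mul_left (by rw [show N.relIndex M = (N.subgroupOf M).index from rfl, h4]; exact hle)
      Nat.card_pos
  let K : Subgroup (MulAut R) := fixFactor (⊤ : Subgroup R) T ⊓
    ⨅ i, @fixFactor R _ (S i) (S (i + 1)) (hSc i) (hSc (i + 1))
  refine ⟨K, ?_, fun a b => ?_, fun a => ?_⟩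
  rotate_left
  · refine mem_inf.mpr ⟨(mem_fixFactor ⊤ T le_top ?_ hR).1 a b, mem_iInf.mpr fun i => ?_⟩
    · rw [relIndex_top_right, hidx]
    · exact (@mem_fixFactor R _ _ p _ (S i) (S (i + 1)) (hSc i) (hSc (i + 1)) (hSle i) (hfac i) hR).1 a b
  · refine mem_inf.mpr ⟨(mem_fixFactor ⊤ T le_top ?_ hR).2 a, mem_iInf.mpr fun i => ?_⟩
    · rw [relIndex_top_right, hidx]
    · exact (@mem_fixFactor R _ _ p _ (S i) (S (i + 1)) (hSc i) (hSc (i + 1)) (hSle i) (hfac i) hR).2 a
  have key : ∀ e ∈ K, (orderOf e).Coprime p → e = 1 := by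
    intro e he hcop
    obtain ⟨he0, hei⟩ := mem_inf.mp he
    have hSfix : ∀ j ≤ r, ∀ x ∈ S (r - j), e x = x := by
      intro j
      induction j with
      | zero => intro _ x hx; rw [Nat.sub_zero, hSr, mem_bot] at hx; rw [hx, map_one]
      | succ j ih =>
        intro hj x hx
        have h5 : e x * x⁻¹ ∈ S (r - (j + 1) + 1) := mem_iInf.mp hei (r - (j + 1)) x hx
        rw [show r - (j + 1) + 1 = r - j by omega] at h5
        exact fix_of_fix_factor hR hcop (ih (by omega) _ h5)
    have hVfix : ∀ x ∈ V, e x = x := fun x hx => hSfix r le_rfl x (by rw [Nat.sub_self]; exact hx)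
    have hpowT : ∀ (m : ℕ) (y : T), ((resT e ^ m) y : R) = (e ^ m) (y : R) := by
      intro m
      induction m with
      | zero => intro y; rfl
      | succ m ih =>
        intro y
        rw [pow_succ', pow_succ', MulAut.mul_apply, MulAut.mul_apply, ← ih y]
        rfl
    have hcT : (orderOf (resT e)).Coprime p := Nat.Coprime.coprime_dvd_left (orderOf_dvd_of_pow_eq_one
      (MulEquiv.ext fun y => Subtype.ext (by rw [hpowT, pow_orderOf_eq_one]; rfl))) hcop
    have hT1 : resT e = 1 := by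
      refine S0121.result (hR.to_subgroup T) H hH h1 h2 h3 (resT e) hcT fun x hx => ?_
      let aH : MulAut H :=
        { toFun := fun y => ⟨resT e y, hinvH _ y y.2⟩
          invFun := fun y => ⟨(resT e).symm y, hinvH (resT e).symm y y.2⟩
          left_inv := fun y => Subtype.ext ((resT e).symm_apply_apply _)
          right_inv := fun y => Subtype.ext ((resT e).apply_symm_apply _)
          map_mul' := fun y z => Subtype.ext (map_mul (resT e) _ _) }
      have hpowH : ∀ (m : ℕ) (y : H), ((aH ^ m) y : T) = (resT e ^ m) (y : T) := by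
        intro m
        induction m with
        | zero => intro y; rfl
        | succ m ih =>
          intro y
          rw [pow_succ', pow_succ', MulAut.mul_apply, MulAut.mul_apply, ← ih y]
          rfl
      have hcH : (orderOf aH).Coprime p := Nat.Coprime.coprime_dvd_left (orderOf_dvd_of_pow_eq_one
        (MulEquiv.ext fun y => Subtype.ext (by rw [hpowH, pow_orderOf_eq_one]; rfl))) hcT
      have hone : aH = 1 := S0120.result hp2 ((hR.to_subgroup T).to_subgroup H) aH hcH fun y hy =>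
        Subtype.ext (Subtype.ext (hVfix _ ⟨_, ⟨y, subset_closure hy, rfl⟩, rfl⟩))
      exact congrArg Subtype.val (DFunLike.congr_fun hone ⟨x, hx⟩)
    refine MulEquiv.ext fun x => fix_of_fix_factor hR hcop ?_
    exact congrArg Subtype.val (DFunLike.congr_fun hT1 ⟨_, he0 x (mem_top x)⟩)
  intro e
  obtain ⟨k, m, hm, hem⟩ := Nat.exists_eq_pow_mul_and_not_dvd (orderOf_pos (e : MulAut R)).ne' p hp.out.ne_one
  refine ⟨k, Subtype.ext ?_⟩
  rw [SubmonoidClass.coe_pow]
  refine key _ (pow_mem e.2 _) ?_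
  rw [orderOf_pow, hem, Nat.gcd_eq_right (dvd_mul_right _ _), Nat.mul_div_cancel_left _ (pow_pos hp.out.pos k)]
  exact (hp.out.coprime_iff_not_dvd.mpr hm).symm

/-- The conclusion for a narrow group of rank at least three. -/
theorem exists_kernel_of_narrow (hp2 : p ≠ 2) (hR : IsPGroup p R) (hn : IsNarrow p R)
    (hr : ¬ PRankLE p 2 R) :
    ∃ K : Subgroup (MulAut R), IsPGroup p K ∧ (∀ a b : MulAut R, ⁅a, b⁆ ∈ K) ∧
      ∀ a : MulAut R, a ^ (p - 1) ∈ K := by
  obtain ⟨R₀, R₁, h0, hcyc, hint, hcomm, hsup⟩ := hn.resolve_left hr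
  have hpow0 : ∀ u ∈ R₀, u ^ p = 1 := fun u hu =>
    orderOf_dvd_iff_pow_eq_one.mp ((R₀.orderOf_dvd_natCard hu).trans h0.dvd)
  have hR₀ab : IsMulCommutative R₀ := (isCyclic_of_prime_card h0).isMulCommutative
  have hR₁ab : IsMulCommutative R₁ := hcyc.isMulCommutative
  have hdec : ∀ u ∈ centralizer (R₀ : Set R), ∃ a ∈ R₀, ∃ b ∈ R₁, a * b = u := by
    intro u hu
    have hN : R₁ ≤ normalizer (R₀ : Set R) :=
      fun b hb => centralizer_le_normalizer (R₀ : Set R) (mem_centralizer_iff.mpr fun a ha => hcomm a ha b hb)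
    have h : u ∈ ((R₀ ⊔ R₁ : Subgroup R) : Set R) := by rw [hsup]; exact hu
    rw [coe_mul_of_right_le_normalizer_left R₀ R₁ hN] at h
    obtain ⟨a, ha, b, hb, he⟩ := h
    exact ⟨a, ha, b, hb, he⟩
  have hcab : ∀ u ∈ centralizer (R₀ : Set R), ∀ v ∈ centralizer (R₀ : Set R), u * v = v * u := by
    intro u hu v hv
    obtain ⟨a, ha, b, hb, rfl⟩ := hdec u hu
    obtain ⟨c, hc, d, hd, rfl⟩ := hdec v hv
    have h1 : Commute a c := setLike_mul_comm ha hc
    have h2 : Commute b d := setLike_mul_comm hb hd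
    have h3 : Commute a d := hcomm a ha d hd
    have h4 : Commute b c := (hcomm c hc b hb).symm
    exact (h1.mul_right h3).mul_left (h4.mul_right h2)
  set E := closure {x : R | x ∈ centralizer (R₀ : Set R) ∧ x ^ p = 1} with hE
  have hEc : ∀ u ∈ E, u ∈ centralizer (R₀ : Set R) ∧ u ^ p = 1 := by
    intro u hu
    induction hu using closure_induction with
    | mem x hx => exact hx
    | one => exact ⟨one_mem _, one_pow p⟩
    | mul x y _ _ hx hy =>
      exact ⟨mul_mem hx.1 hy.1, by rw [Commute.mul_pow (hcab x hx.1 y hy.1), hx.2, hy.2, one_mul]⟩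
    | inv x _ hx => exact ⟨inv_mem hx.1, by rw [inv_pow, hx.2, inv_one]⟩
  have hEmem : ∀ u ∈ centralizer (R₀ : Set R), u ^ p = 1 → u ∈ E := fun u hu hup =>
    subset_closure ⟨hu, hup⟩
  have hR₀E : R₀ ≤ E := fun u hu =>
    hEmem u (mem_centralizer_iff.mpr fun v hv => setLike_mul_comm hv hu) (hpow0 u hu)
  have hEab : IsElementaryAbelian p E :=
    ⟨⟨⟨fun u v => Subtype.ext (hcab u (hEc u u.2).1 v (hEc v v.2).1)⟩⟩, fun u hu => (hEc u hu).2⟩
  have hEmax : ∀ B : Subgroup R, IsElementaryAbelian p B → E ≤ B → B = E := by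
    intro B hB hEB
    refine le_antisymm (fun u hu => hEmem u (mem_centralizer_iff.mpr fun v hv => ?_) (hB.2 u hu)) hEB
    have := hB.1
    exact setLike_mul_comm (hEB (hR₀E hv)) hu
  obtain ⟨z, hzc, hzp, hz1⟩ : ∃ z ∈ center R, z ^ p = 1 ∧ z ≠ 1 := by
    have : Nontrivial R := by
      refine not_subsingleton_iff_nontrivial.mp fun h => hr fun A _ _ => ?_
      have : Subsingleton A := ⟨fun a b => Subtype.ext (Subsingleton.elim _ _)⟩
      rw [Nat.card_unique]
      exact Nat.one_le_pow _ _ hp.out.pos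
    exact RankThree.exists_center_order_p hR
  have hzE : z ∈ E := hEmem z (center_le_centralizer _ hzc) hzp
  have hE1 : Nat.card (E ⊓ R₁ : Subgroup R) ≤ p := by
    have hcy : IsCyclic (E ⊓ R₁ : Subgroup R) :=
      isCyclic_of_injective (inclusion inf_le_right) (inclusion_injective _)
    obtain ⟨g, hg⟩ := hcy.exists_generator
    rw [← orderOf_eq_card_of_forall_mem_zpowers hg, ← orderOf_coe]
    exact Nat.le_of_dvd hp.out.pos (orderOf_dvd_of_pow_eq_one (hEc _ g.2.1).2)
  have hEle : Nat.card E ≤ p ^ 2 := by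
    have hinj : ∀ u : E, ∃ w : R₀ × (E ⊓ R₁ : Subgroup R), (w.1 : R) * w.2 = u := by
      intro u
      obtain ⟨a, ha, b, hb, he⟩ := hdec u (hEc u u.2).1
      have hbE : b ∈ E := by
        rw [show b = a⁻¹ * u by rw [← he]; group]
        exact mul_mem (inv_mem (hR₀E ha)) u.2
      exact ⟨(⟨a, ha⟩, ⟨b, hbE, hb⟩), he⟩
    choose F hF using hinj
    refine (Nat.card_le_card_of_injective F fun u v h => Subtype.ext ?_).trans ?_
    · rw [← hF u, ← hF v, h]
    · rw [Nat.card_prod, h0, pow_two]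
      exact Nat.mul_le_mul le_rfl hE1
  have hzR₀ : z ∉ R₀ := by
    intro hz
    have hgen : zpowers z = R₀ := eq_of_le_of_card_ge (zpowers_le.mpr hz)
      (by rw [h0, Nat.card_zpowers, orderOf_eq_prime hzp hz1])
    have htop : centralizer (R₀ : Set R) = ⊤ := centralizer_eq_top_iff_subset.mpr fun u hu =>
      (hgen ▸ zpowers_le.mpr hzc : R₀ ≤ center R) hu
    refine hr fun A hA hA' => le_trans (card_le_of_le fun u hu => ?_) hEle
    exact hEmem u (htop ▸ mem_top u) (hA' u hu)
  have hEgen : R₀ ⊔ zpowers z = E := by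
    refine eq_of_le_of_card_ge (sup_le hR₀E (zpowers_le.mpr hzE)) (hEle.trans ?_)
    obtain ⟨k, hk⟩ := (hR.to_subgroup (R₀ ⊔ zpowers z)).exists_card_eq
    have hlt : Nat.card R₀ < Nat.card (R₀ ⊔ zpowers z : Subgroup R) := lt_of_not_ge fun hge =>
      hzR₀ ((eq_of_le_of_card_ge le_sup_left hge).symm ▸ mem_sup_right (mem_zpowers z))
    rw [hk, h0] at hlt
    rw [hk]
    refine Nat.pow_le_pow_right hp.out.pos ?_
    by_contra hh
    have := Nat.pow_le_pow_right hp.out.pos (show k ≤ 1 by omega)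
    rw [pow_one] at this
    omega
  have hE2 : Nat.card E = p ^ 2 := by
    refine le_antisymm hEle ?_
    obtain ⟨k, hk⟩ := (hR.to_subgroup E).exists_card_eq
    have hlt : Nat.card R₀ < Nat.card E := lt_of_not_ge fun hge =>
      hzR₀ ((eq_of_le_of_card_ge hR₀E hge).symm ▸ hzE)
    rw [hk, h0] at hlt
    rw [hk]
    refine Nat.pow_le_pow_right hp.out.pos ?_
    by_contra hh
    have := Nat.pow_le_pow_right hp.out.pos (show k ≤ 1 by omega)
    rw [pow_one] at this
    omega
  obtain ⟨hET, -, -, hTc, hTi⟩ := RankThree.maximal_rank_two hp2 hR hr E hEab hE2 hEmax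
  set T := centralizer ((closure {x : R | x ∈ Subgroup.upperCentralSeries R 2 ∧ x ^ p = 1} : Subgroup R) : Set R)
  have hzT : z ∈ T := center_le_centralizer _ hzc
  obtain ⟨s, hs⟩ := (isCyclic_of_prime_card (α := R₀) h0).exists_generator
  refine exists_kernel hp2 hR T hTi (s : R) (E ⊓ T) ?_ fun x hx hxp hxs => ⟨hEmem x ?_ hxp, hx⟩
  · obtain ⟨k, hk⟩ := (hR.to_subgroup (E ⊓ T)).exists_card_eq
    have hlt : Nat.card (E ⊓ T : Subgroup R) < Nat.card E := lt_of_not_ge fun hge =>
      hET (inf_eq_left.mp (eq_of_le_of_card_ge inf_le_left hge))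
    rw [hk, hE2, Nat.pow_lt_pow_iff_right hp.out.one_lt] at hlt
    rw [hk]
    exact (Nat.pow_le_pow_right hp.out.pos (by omega : k ≤ 1)).trans (pow_one p).le
  · refine mem_centralizer_iff.mpr fun u hu => ?_
    obtain ⟨i, hi⟩ := mem_zpowers_iff.mp (hs ⟨u, hu⟩)
    have := congrArg Subtype.val hi
    rw [coe_zpow] at this
    change (s : R) ^ i = u at this
    rw [← this]
    exact ((hxs.zpow_right i).symm).eq

/-- The same for a group with a maximal elementary abelian subgroup of order `p ^ 2`. -/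
theorem exists_kernel_of_maximal (hp2 : p ≠ 2) (hR : IsPGroup p R) (hr : ¬ PRankLE p 2 R) (E : Subgroup R)
    (hE : IsElementaryAbelian p E) (hE2 : Nat.card E = p ^ 2)
    (hEmax : ∀ B : Subgroup R, IsElementaryAbelian p B → E ≤ B → B = E) :
    ∃ K : Subgroup (MulAut R), IsPGroup p K ∧ (∀ a b : MulAut R, ⁅a, b⁆ ∈ K) ∧
      ∀ a : MulAut R, a ^ (p - 1) ∈ K := by
  obtain ⟨hET, -, -, hTc, hTi⟩ := RankThree.maximal_rank_two hp2 hR hr E hE hE2 hEmax
  set T := centralizer ((closure {x : R | x ∈ Subgroup.upperCentralSeries R 2 ∧ x ^ p = 1} : Subgroup R) : Set R)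
  obtain ⟨s, hsE, hsT⟩ := SetLike.not_le_iff_exists.mp hET
  have hcard : Nat.card (E ⊓ T : Subgroup R) ≤ p := by
    obtain ⟨k, hk⟩ := (hR.to_subgroup (E ⊓ T)).exists_card_eq
    have hlt : Nat.card (E ⊓ T : Subgroup R) < Nat.card E := lt_of_not_ge fun hge =>
      hET (inf_eq_left.mp (eq_of_le_of_card_ge inf_le_left hge))
    rw [hk, hE2, Nat.pow_lt_pow_iff_right hp.out.one_lt] at hlt
    rw [hk]
    exact (Nat.pow_le_pow_right hp.out.pos (by omega : k ≤ 1)).trans (pow_one p).le
  have : Nontrivial R := by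
    refine not_subsingleton_iff_nontrivial.mp fun h => hr fun A _ _ => ?_
    have : Subsingleton A := ⟨fun a b => Subtype.ext (Subsingleton.elim _ _)⟩
    rw [Nat.card_unique]
    exact Nat.one_le_pow _ _ hp.out.pos
  obtain ⟨z, hzc, hzp, hz1⟩ := RankThree.exists_center_order_p (p := p) hR
  have hzE : z ∈ E := RankThree.omega_center E hEmax hE (center_le_centralizer _ hzc) hzp
  have hEgen : zpowers s ⊔ zpowers z = E := by
    refine eq_of_le_of_card_ge (sup_le (zpowers_le.mpr hsE) (zpowers_le.mpr hzE)) ?_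
    obtain ⟨k, hk⟩ := (hR.to_subgroup (zpowers s ⊔ zpowers z)).exists_card_eq
    have hlt : Nat.card (zpowers z) < Nat.card (zpowers s ⊔ zpowers z : Subgroup R) :=
      lt_of_not_ge fun hge => hsT ((zpowers_le.mpr (center_le_centralizer _ hzc) : zpowers z ≤ T)
        ((eq_of_le_of_card_ge le_sup_right hge).symm ▸ mem_sup_left (mem_zpowers s)))
    rw [hk, Nat.card_zpowers, orderOf_eq_prime hzp hz1] at hlt
    rw [hE2, hk]
    refine Nat.pow_le_pow_right hp.out.pos ?_
    by_contra hh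
    have := Nat.pow_le_pow_right hp.out.pos (show k ≤ 1 by omega)
    rw [pow_one] at this
    omega
  refine exists_kernel hp2 hR T hTi s (E ⊓ T) hcard fun x hx hxp hxs => ⟨?_, hx⟩
  refine RankThree.omega_center E hEmax hE ?_ hxp
  rw [← hEgen, ← le_centralizer_iff.trans (zpowers_le (g := x))]
  refine sup_le (zpowers_le.mpr ?_) (zpowers_le.mpr (center_le_centralizer _ hzc))
  refine mem_centralizer_iff.mpr fun u hu => ?_
  obtain ⟨i, rfl⟩ := mem_zpowers_iff.mp hu
  exact (hxs.zpow_left i).eq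

end Cfsg.Agent.OddLocal.Narrow
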