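import Cfsg.Agent.OddLocal.SigmaPartition
import Cfsg.Agent.OddLocal.SigmaElem
import Cfsg.Agent.OddLocal.AutRankTwo
import Cfsg.Agent.OddLocal.Narrow
import Cfsg.Agent.OddLocal.SigmaCompl
import Cfsg.Agent.S1426

/-! Centralisers of elements of `M_σ` fixed by elements of prime order outside `σ(M)` of rank one
(towards BG 14.4). -/

set_option autoImplicit false
set_option linter.unusedSectionVars false

namespace Cfsg.Agent.OddLocal.KappaCentral

open Cfsg Subgroup PrimeAction
open scoped commutatorElement Pointwise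
open TauTwo (Ctx centralizer_zpowers mem_zpowers_of_cyclic)
open Cfsg.Agent.Transfer.Fusion (map_conj_mul card_map_conj map_conj_eq_self_iff map_conj_inv_cancel
  map_conj_le_iff coe_smul_eq_map map_conj_one map_conj_le_of_mem)

variable {G : Type*} [Group G] [Finite G] {M E : Subgroup G} {p q r : ℕ} [hp : Fact p.Prime]
  [hq : Fact q.Prime] [hr : Fact r.Prime]

theorem ne_one_of_order {x : G} (h : orderOf x = p) : x ≠ 1 := fun e =>
  hp.out.ne_one (by rw [← h, e, orderOf_one])

theorem pow_eq_one_of_order {x : G} (h : orderOf x = p) : x ^ p = 1 := h ▸ pow_orderOf_eq_one x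

theorem mem_centralizer_zpowers {x y : G} (h : x * y = y * x) :
    x ∈ centralizer ((zpowers y : Subgroup G) : Set G) := by
  rw [centralizer_zpowers]
  exact mem_centralizer_singleton_iff.mpr h

/-- A subgroup of order `r`, of rank one outside `σ(M)`, centralising a line of rank two is regular. -/
theorem fixed_regular (hG : IsMinSimpleOddOrder G) (hM : IsCoatom M) {A : Subgroup G} (h : Ctx p A M)
    {X : Subgroup G} (hXM : X ≤ M) (hX : Nat.card X = r) (hrσ : r ∉ sigma M) (hr1 : PRankLE r 1 M)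
    (hAX : A ≤ centralizer (X : Set G)) : sigmaCore M ⊓ centralizer (X : Set G) = ⊥ := by
  obtain ⟨L, hL, hNL⟩ := exists_normalizer_le hG (ne_bot_of_card hX) hXM hM
  have hCL : centralizer (X : Set G) ≤ L := (centralizer_le_normalizer _).trans hNL
  have hne : L ≠ M := fun e => not_conj hG hL hrσ hr1 hX hNL 1 (by rw [map_conj_one, e])
  exact le_bot_iff.mp ((inf_le_inf_left _ hCL).trans (h.sigma_inf hL hne (hAX.trans hCL)).le)

/-- A complement of `M_σ` inside the normaliser of a Sylow subgroup at a prime of `σ(M)`. -/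
theorem exists_compl_normalizer (hG : IsMinSimpleOddOrder G) (hM : IsCoatom M) (hqσ : q ∈ sigma M)
    (Q : Sylow q G) (hQM : (Q : Subgroup G) ≤ M) {A : Subgroup G}
    (hA : A ≤ normalizer ((Q : Subgroup G) : Set G))
    (hAσ : ∀ s : ℕ, s.Prime → s ∣ Nat.card A → s ∉ sigma M) :
    ∃ E : Subgroup G, IsComplIn E (sigmaCore M) M ∧ A ≤ E ∧ E ≤ normalizer ((Q : Subgroup G) : Set G) := by
  have hNM := Sigma.sylow_normalizer_le hqσ Q hQM
  set N := normalizer ((Q : Subgroup G) : Set G) with hN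
  have : Group.IsSolvable N :=
    Coprime.isSolvable_of_le hNM (Transitivity.isSolvable_of_ne_top hG hM.1)
  obtain ⟨B, hB, hAB⟩ := Hall.exists_le_hall (G := N) (π := {s | s ∉ sigma M}) (U := A.subgroupOf N)
    (fun s hs hd => hAσ s hs (by rwa [Nat.card_congr (subgroupOfEquivOfLe hA).toEquiv] at hd))
  set B' := B.map N.subtype with hB'
  have hB'card : Nat.card B' = Nat.card B := card_map_of_injective N.subtype_injective
  obtain ⟨E, hE, hBE⟩ := Compl.exists_compl_ge hG hM ((map_subtype_le B).trans hNM)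
    fun s hs hd => hB.1 s hs (hB'card ▸ hd)
  have hEσ : ∀ s : ℕ, s.Prime → s ∣ Nat.card E → s ∉ sigma M := fun s hs hd =>
    Compl.not_sigma hG hM hE hs hd
  have hMle : M ≤ alphaCore M ⊔ N :=
    NonabelianUnique.le_of_frattini hG hM hqσ Q hQM le_sup_left le_sup_right
  have h1 : Nat.card E ∣ Nat.card N := by
    refine (Nat.Coprime.dvd_of_dvd_mul_left ?_ (((card_dvd_of_le hE.1).trans (card_dvd_of_le hMle)).trans
      (RegularMain.card_sup_dvd (hNM.trans (Sigma.le_normalizer_alphaCore M)))))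
    exact Nat.coprime_of_dvd fun s hs hd1 hd2 => not_dvd_alphaCore hs
      (fun hα => hEσ s hs hd1 (Sigma.alpha_subset_sigma hG hM hα)) hd2
  have h2 : Nat.card E ∣ Nat.card B' := by
    rw [hB'card]
    refine Nat.Coprime.dvd_of_dvd_mul_right ?_ ((card_mul_index B).symm ▸ h1)
    exact Nat.coprime_of_dvd fun s hs hd1 hd2 => hB.2 s hs (hEσ s hs hd1) hd2
  have hEB : B' = E := eq_of_le_of_card_ge hBE (Nat.le_of_dvd Nat.card_pos h2)
  exact ⟨E, hE, fun a ha => hEB ▸ ⟨⟨a, hA ha⟩, hAB (mem_subgroupOf.mpr ha), rfl⟩,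
    hEB ▸ map_subtype_le _⟩

/-- Commutators of order prime to `q` in `N(S)` centralise `S`, if `S` has a maximal elementary
subgroup of order `q ^ 2`. -/
theorem commutator_centralizes (hG : IsMinSimpleOddOrder G) {A : Subgroup G} (hA : Max2 q A)
    (S : Sylow q G) (hAS : A ≤ (S : Subgroup G)) {c : G}
    (hc : c ∈ ⁅normalizer ((S : Subgroup G) : Set G), normalizer ((S : Subgroup G) : Set G)⁆)
    (hco : (orderOf c).Coprime q) : c ∈ centralizer ((S : Subgroup G) : Set G) := by
  set N := normalizer ((S : Subgroup G) : Set G) with hN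
  let φ : N →* MulAut (S : Subgroup G) := (S : Subgroup G).normalizerMonoidHom
  rw [← map_subtype_commutator] at hc
  obtain ⟨c', hc', rfl⟩ := hc
  obtain ⟨k, hk⟩ : ∃ k : ℕ, φ c' ^ q ^ k = 1 := by
    by_cases hr : PRankLE q 2 (S : Subgroup G)
    · exact (AutRankTwo.aut_rankTwo (hA.ne_two hG) S.isPGroup' hr (Sigma.odd_card hG N) φ).1 c' hc'
    obtain ⟨K, hKp, hKc, -⟩ := Narrow.exists_kernel_of_maximal (hA.ne_two hG) S.isPGroup' hr
      (A.subgroupOf (S : Subgroup G))
      ⟨⟨⟨fun x y => Subtype.ext (Subtype.ext (Components.Hyperplane.mem_comm hA.el x.2 y.2))⟩⟩,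
        fun x hx => Subtype.ext (hA.el.2 _ hx)⟩
      (by rw [Nat.card_congr (subgroupOfEquivOfLe hAS).toEquiv, hA.card])
      (fun B hB hle => le_antisymm (fun b hb => mem_subgroupOf.mpr (hA.omega _
        (mem_centralizer_iff.mpr fun a ha => congrArg Subtype.val
          (Components.Hyperplane.mem_comm hB (hle (show (⟨a, hAS ha⟩ : (S : Subgroup G)) ∈
            A.subgroupOf (S : Subgroup G) from ha)) hb))
        (congrArg Subtype.val (hB.2 b hb)))) hle)
    have hle : commutator N ≤ K.comap φ := by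
      rw [_root_.commutator_def, commutator_le]
      intro a _ b _
      rw [mem_comap, map_commutatorElement]
      exact hKc _ _
    obtain ⟨k, hk⟩ := hKp ⟨φ c', hle hc'⟩
    exact ⟨k, congrArg Subtype.val hk⟩
  have hc1 : φ c' = 1 := orderOf_eq_one_iff.mp (Nat.eq_one_of_dvd_coprimes (hco.pow_right k)
    ((orderOf_map_dvd φ c').trans (dvd_of_eq (orderOf_coe c').symm)) (orderOf_dvd_of_pow_eq_one hk))
  refine mem_centralizer_iff.mpr fun a ha => ?_
  exact (mul_inv_eq_iff_eq_mul.mp (show (c' : G) * a * (c' : G)⁻¹ = a from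
    congrArg Subtype.val (DFunLike.congr_fun hc1 (⟨a, ha⟩ : (S : Subgroup G))))).symm

/-- `E = E' C_E(u)` for `u` of prime order not dividing `|E'|`. -/
theorem exists_decomp {u : G} (huE : u ∈ E) (huo : orderOf u = r)
    (hrE : ¬ r ∣ Nat.card ↥⁅E, E⁆) {e : G} (he : e ∈ E) :
    ∃ x ∈ ⁅E, E⁆, x * e ∈ centralizer ({u} : Set G) := by
  set D := ⁅E, E⁆ with hDdef
  set P := zpowers u with hPdef
  have hP : Nat.card P = r := by rw [hPdef, Nat.card_zpowers, huo]
  have hPE : P ≤ E := zpowers_le.mpr huE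
  have hDE : D ≤ E := commutator_le_self E
  have hEDn : E ≤ normalizer (D : Set G) := Coprime.le_normalizer_commutator_self le_normalizer
  have hDP : E ≤ normalizer ((D ⊔ P : Subgroup G) : Set G) := by
    rw [le_normalizer_iff]
    intro a ha b hb
    have : a * b * a⁻¹ = ⁅a, b⁆ * b := by rw [commutatorElement_def, inv_mul_cancel_right]
    rw [this]
    exact mul_mem (mem_sup_left (commutator_mem_commutator ha ((sup_le hDE hPE) hb))) hb
  have hcop : (Nat.card D).Coprime (Nat.card P) := by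
    rw [hP]; exact (hr.out.coprime_iff_not_dvd.mpr hrE).symm
  obtain ⟨x, hx, hxe⟩ := Coprime.exists_conj_eq_of_sup_eq (N := D) (H := P.map (MulAut.conj e).toMonoidHom)
    (K := P) (by
      rintro _ ⟨b, hb, rfl⟩
      exact hEDn (mul_mem (mul_mem he (hPE hb)) (inv_mem he))) (hPE.trans hEDn) (by
      conv_rhs => rw [← map_conj_eq_self_iff.mpr (hDP he)]
      rw [Subgroup.map_sup, map_conj_eq_self_iff.mpr (hEDn he)])
    (by rwa [card_map_conj]) hcop (Or.inr (Coprime.isSolvable_of_isPGroup ((isPGroup_of_card hP).map _)))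
  rw [Coprime.conj_smul_eq_map, ← map_conj_mul] at hxe
  refine ⟨x, hx, mem_centralizer_singleton_iff.mpr ?_⟩
  have hnE : x * e ∈ E := mul_mem (hDE hx) he
  have hu : u ∈ P := mem_zpowers u
  have h2 : x * e * u * (x * e)⁻¹ * u⁻¹ ∈ D ⊓ P := mem_inf.mpr
    ⟨by simpa [commutatorElement_def] using commutator_mem_commutator hnE (hPE hu),
      mul_mem (hxe ▸ ⟨u, hu, rfl⟩) (inv_mem hu)⟩
  rw [disjoint_iff.mp (Coprime.disjoint_of_coprime hcop), mem_bot, mul_inv_eq_one,
    mul_inv_eq_iff_eq_mul] at h2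
  exact h2

/-- The maximal subgroup over the normaliser of a maximal elementary group of order `p²` has `p` in `σ`. -/
theorem sigma_of_normalizer (hG : IsMinSimpleOddOrder G) {A H : Subgroup G} (hA : Max2 p A)
    (hH : IsCoatom H) (hNH : normalizer (A : Set G) ≤ H) : p ∈ sigma H := by
  rcases Max2.sigma_or_nonabelian hG hA hNH with h1 | ⟨P, hPH, hP, hPab⟩
  · exact h1
  by_contra hσ
  have hAH : A ≤ H := le_normalizer.trans hNH
  refine hPab (Ctx.pgroup_comm (M := H) (A := A) ⟨hG, hH, ?_, hA, hAH⟩ hP hPH)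
  exact ⟨hp.out, hσ, SigmaCompl.rank_le hG hH hp.out hσ,
    Unique.not_pRankLE_of_elementary hAH hA.el hA.card.ge⟩

/-- The statement of the main induction at the prime `t`. -/
def Central (G : Type*) [Group G] (t : ℕ) : Prop :=
  ∀ (M : Subgroup G), IsCoatom M → ∀ (r : ℕ) (u v : G), r.Prime → u ∈ M → orderOf u = r →
    r ∉ sigma M → PRankLE r 1 M → v ∈ sigmaCore M → orderOf v = t → u * v = v * u →
    ∀ H : Subgroup G, IsCoatom H → normalizer ((zpowers v : Subgroup G) : Set G) ≤ H → H = M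

/-- No fixed point of a `τ₁`-element is also fixed by a commuting `τ₂`-element. -/
theorem no_mixed_of (hG : IsMinSimpleOddOrder G) (hM : IsCoatom M) (hc : Central G p) (hτ : p ∈ tau2 M)
    {u v y : G} (hu : u ∈ M) (huo : orderOf u = r) (hrσ : r ∉ sigma M) (hr1 : PRankLE r 1 M)
    (hv : v ∈ M) (hvo : orderOf v = p) (huv : u * v = v * u) (hy : y ∈ sigmaCore M) (hy1 : y ≠ 1)
    (huy : u * y = y * u) (hvy : v * y = y * v) : False := by
  have hrp : r ≠ p := fun e => hτ.2.2.2 (e ▸ hr1)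
  set V : Subgroup G := zpowers u ⊔ zpowers v with hV
  have hVM : V ≤ M := sup_le (zpowers_le.mpr hu) (zpowers_le.mpr hv)
  have hVd : Nat.card V ∣ r * p := by
    have := RegularMain.card_sup_dvd (N := zpowers u) (H := zpowers v)
      ((zpowers_le.mpr (mem_centralizer_zpowers huv.symm)).trans (centralizer_le_normalizer _))
    rwa [Nat.card_zpowers, Nat.card_zpowers, huo, hvo] at this
  obtain ⟨E, hE, hVE⟩ := Compl.exists_compl_ge hG hM hVM fun s hs hd => by
    rcases hs.dvd_mul.mp (hd.trans hVd) with h | h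
    · rwa [(Nat.prime_dvd_prime_iff_eq hs hr.out).mp h]
    · rw [(Nat.prime_dvd_prime_iff_eq hs hp.out).mp h]; exact hτ.2.1
  obtain ⟨A, hAE, h⟩ := SigmaCompl.exists_ctx hG hM hE hτ
  have huE : u ∈ E := hVE (mem_sup_left (mem_zpowers u))
  have hvA : v ∈ A := h.mem_of_pow hE hAE (hVE (mem_sup_right (mem_zpowers v))) (pow_eq_one_of_order hvo)
  have huX : Nat.card (zpowers u) = r := by rw [Nat.card_zpowers, huo]
  have hAu : ¬ A ≤ centralizer ({u} : Set G) := fun hle => by
    have h1 := fixed_regular hG hM h (zpowers_le.mpr hu) huX hrσ hr1 (by rwa [centralizer_zpowers])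
    exact hy1 (mem_bot.mp (h1 ▸ mem_inf.mpr ⟨hy, mem_centralizer_zpowers huy.symm⟩))
  obtain ⟨L, hL, hNL⟩ := exists_normalizer_le hG h.hA.ne_bot h.hAM hM
  have hAL : A ≤ L := le_normalizer.trans hNL
  have huN : u ∈ normalizer (A : Set G) := h.le_normalizer_compl hE hAE huE
  have huL : u ∈ L := hNL huN
  have hneL : L ≠ M := fun e => by
    obtain ⟨n, hn, hnM⟩ := TauTwo.exists_not_mem hG hM hτ h.hA h.hAM
    exact hnM (e ▸ hNL hn)
  have hpL := sigma_of_normalizer hG h.hA hL hNL
  have hvL : v ∈ sigmaCore L := Sigma.sylow_le_sigmaCore hG hL hpL h.hA.isPGroup hAL hvA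
  have hyL : y ∉ L := fun hyL =>
    hy1 (mem_bot.mp (h.sigma_inf hL hneL hAL ▸ mem_inf.mpr ⟨hy, hyL⟩))
  have hrL : r ∉ sigma L := fun hrL => hAu fun a ha => by
    have huL' : u ∈ ⁅L, L⁆ := Sigma.sigmaCore_le_commutator hG hL
      (Sigma.sylow_le_sigmaCore hG hL hrL (isPGroup_of_card huX) (zpowers_le.mpr huL) (mem_zpowers u))
    have haL : a ∈ ⁅L, L⁆ := Sigma.sigmaCore_le_commutator hG hL
      (Sigma.sylow_le_sigmaCore hG hL hpL h.hA.isPGroup hAL ha)
    have hcA : ⁅u, a⁆ ∈ A := mul_mem ((mem_normalizer_iff.mp huN a).mp ha) (inv_mem ha)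
    refine mem_centralizer_singleton_iff.mpr (TauTwo.commute_of_not_beta hG hL
      (h.hA.dvd_card.trans (card_dvd_of_le hAL)) (fun hb =>
        (S1408.result hG M hM p hτ.2.1 hτ.2.2.1 hτ.2.2.2).1 hb.2) huL' haL
      (by rw [huo]; exact (Nat.coprime_primes hr.out hp.out).mpr hrp) (k := 1)
      (by rw [pow_one]; exact h.hA.el.2 _ hcA)).eq.symm
  have hr1L : PRankLE r 1 L := by_contra fun h2 => by
    have h3 : r ∈ tau2 L := ⟨hr.out, hrL, SigmaCompl.rank_le hG hL hr.out hrL, h2⟩
    refine hyL ((SigmaCompl.centralizer_unique hG hL huL (ne_one_of_order huo) (fun s hs hd => ?_) hvL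
      (ne_one_of_order hvo) huv).1 (mem_centralizer_singleton_iff.mpr huy.symm))
    rw [huo] at hd
    rwa [(Nat.prime_dvd_prime_iff_eq hs hr.out).mp hd]
  obtain ⟨H, hH, hNH⟩ := exists_normalizer_le hG (X := zpowers v)
    (ne_bot_of_card (p := p) (by rw [Nat.card_zpowers, hvo])) (zpowers_le.mpr hv) hM
  have hHL := hc L hL r u v hr.out huL huo hrL hr1L hvL hvo huv H hH hNH
  have hCL : centralizer ({v} : Set G) ≤ L := by
    rw [← hHL, ← centralizer_zpowers]
    exact (centralizer_le_normalizer _).trans hNH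
  refine hneL (h.good_unique h.good_sigma hvA (fun e => hy1 (mem_bot.mp ?_)) hL hCL)
  rw [← e]
  exact mem_inf.mpr ⟨hy, mem_centralizer_singleton_iff.mpr hvy.symm⟩

/-- Main induction. -/
theorem central (hG : IsMinSimpleOddOrder G) : ∀ t : ℕ, t.Prime → Central G t := by
  intro q
  induction q using Nat.strong_induction_on with
  | _ q ih =>
  intro hqp M hM r u y hr0 hu huo hrσ hr1 hy hyo huy H hH hNH
  have hqi := Fact.mk hqp
  have hri := Fact.mk hr0
  by_contra hHM
  have hy1 : y ≠ 1 := ne_one_of_order hyo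
  have hyM : y ∈ M := Sigma.sigmaCore_le M hy
  set Y := zpowers y with hY
  have hYc : Nat.card Y = q := by rw [hY, Nat.card_zpowers, hyo]
  have hqσ : q ∈ sigma M := Transitivity.isPi_piCoreOf (sigma M) M q hqp
    (hYc ▸ card_dvd_of_le (zpowers_le.mpr hy))
  have hCH : centralizer ({y} : Set G) ≤ H := by
    rw [← centralizer_zpowers]
    exact (centralizer_le_normalizer _).trans hNH
  have hne : ∀ g : G, H ≠ M.map (MulAut.conj g).toMonoidHom := by
    intro g e
    obtain ⟨m, hm, c, hc, hg⟩ := Sigma.sigma_conj hG hM hqσ (isPGroup_of_card hYc)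
      (ne_bot_of_card hYc) (zpowers_le.mpr hyM) (g := g⁻¹) (by
        rw [map_conj_le_iff, inv_inv, ← e]
        exact le_normalizer.trans hNH)
    have hcH : c⁻¹ ∈ H := inv_mem (hNH (centralizer_le_normalizer _ hc))
    refine hHM ?_
    rw [show g = c⁻¹ * m⁻¹ by rw [← mul_inv_rev, ← hg, inv_inv], map_conj_mul,
      map_conj_eq_self_iff.mpr (le_normalizer (inv_mem hm))] at e
    have h1 := map_conj_eq_self_iff.mpr (le_normalizer (inv_mem hcH))
    rw [inv_inv] at h1
    have h2 : H.map (MulAut.conj c).toMonoidHom = M := by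
      rw [e, ← map_conj_mul, mul_inv_cancel, map_conj_one]
    exact h1.symm.trans h2
  have hqH : q ∉ sigma H := SigmaPartition.sigma_disjoint hG hM hH hne hqσ
  have hqτ : q ∈ tau2 H := (mem_sigma_or_tau2 hG hH hYc hNH).resolve_left hqH
  have hqr : q ≠ r := fun e => hrσ (e ▸ hqσ)
  obtain ⟨A, hAM, hAe, hAc, hAy⟩ := exists_elementary (rank_of_sigma hqσ hqτ.2.2.2) hyM
    (pow_eq_one_of_order hyo) hy1
  have hAH : A ≤ H := hAy.trans hCH
  have h : Ctx q A H := Ctx.mk' hG hH hqτ hAH hAe hAc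
  have hyA : y ∈ A := h.hA.omega y (mem_centralizer_iff.mpr fun a ha =>
    mem_centralizer_singleton_iff.mp (hAy ha)) (pow_eq_one_of_order hyo)
  have hσH : sigmaCore H ⊓ M = ⊥ := h.sigma_inf hM (fun e => hHM e.symm) hAM
  have hNA : normalizer (A : Set G) ≤ M :=
    SigmaCompl.normalizer_le hG hM hqσ h.hA.isPGroup hAM h.hA.not_isCyclic
  -- we may suppose that `u` normalises `A`
  obtain ⟨u, hu, huo, huy, huN⟩ : ∃ u' : G, u' ∈ M ∧ orderOf u' = r ∧ u' * y = y * u' ∧
      u' ∈ normalizer (A : Set G) := by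
    have huH : u ∈ H := hCH (mem_centralizer_singleton_iff.mpr huy)
    have hrH : r ∉ sigma H := fun hrH => ne_one_of_order huo (mem_bot.mp (hσH ▸ mem_inf.mpr
      ⟨Sigma.sylow_le_sigmaCore hG hH hrH (isPGroup_of_card (p := r) (by rw [Nat.card_zpowers, huo]))
        (zpowers_le.mpr huH) (mem_zpowers u), hu⟩))
    obtain ⟨E₁, hE₁, hAE₁⟩ := Compl.exists_compl_ge hG hH hAH fun s hs hd =>
      (show s = q from (Cores.isPi_iff_isPGroup A).mpr h.hA.isPGroup s hs hd) ▸ hqH
    have hWd : Nat.card ↥(zpowers u ⊔ Y) ∣ r * q := by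
      have := RegularMain.card_sup_dvd (N := zpowers u) (H := Y)
        ((zpowers_le.mpr (mem_centralizer_zpowers huy.symm)).trans (centralizer_le_normalizer _))
      rwa [Nat.card_zpowers, huo, hYc] at this
    obtain ⟨s, hs, hle⟩ := Compl.exists_conj_le hG hH hE₁ (A := zpowers u ⊔ Y)
      (sup_le (zpowers_le.mpr huH) (zpowers_le.mpr (hAH hyA))) fun t ht hd => by
        rcases ht.dvd_mul.mp (hd.trans hWd) with h1 | h1
        · rwa [(Nat.prime_dvd_prime_iff_eq ht hr0).mp h1]
        · rwa [(Nat.prime_dvd_prime_iff_eq ht hqp).mp h1]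
    have hsy : s * y * s⁻¹ = y := by
      have h1 : s * y * s⁻¹ * y⁻¹ ∈ sigmaCore H ⊓ E₁ := mem_inf.mpr ⟨by
        have h2 := mul_mem hs ((mem_normalizer_iff.mp (Sigma.le_normalizer_sigmaCore H (hAH hyA)) s⁻¹).mp
          (inv_mem hs))
        simpa [mul_assoc] using h2,
        mul_mem (hle ⟨y, mem_sup_right (mem_zpowers y), rfl⟩) (inv_mem (hAE₁ hyA))⟩
      rwa [Compl.sigmaCore_inf hE₁, mem_bot, mul_inv_eq_one] at h1
    have hN : s * u * s⁻¹ ∈ normalizer (A : Set G) :=
      h.le_normalizer_compl hE₁ hAE₁ (hle ⟨u, mem_sup_left (mem_zpowers u), rfl⟩)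
    refine ⟨s * u * s⁻¹, hNA hN, ?_, ?_, hN⟩
    · exact (MulAut.conj s).orderOf_eq u ▸ huo
    · calc s * u * s⁻¹ * y = s * u * s⁻¹ * (s * y * s⁻¹) := by rw [hsy]
        _ = s * (u * y) * s⁻¹ := by group
        _ = s * (y * u) * s⁻¹ := by rw [huy]
        _ = s * y * s⁻¹ * (s * u * s⁻¹) := by group
        _ = y * (s * u * s⁻¹) := by rw [hsy]
  have huX : Nat.card (zpowers u) = r := by rw [Nat.card_zpowers, huo]
  -- `u` moves `A`
  have hAu : ¬ A ≤ centralizer ({u} : Set G) := fun hle => by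
    obtain ⟨L, hL, hNL⟩ := exists_normalizer_le hG (ne_bot_of_card huX) (zpowers_le.mpr hu) hM
    have hAL : A ≤ L := hle.trans (by
      rw [← centralizer_zpowers]; exact (centralizer_le_normalizer _).trans hNL)
    have hneL : ∀ g : G, L ≠ M.map (MulAut.conj g).toMonoidHom := not_conj hG hL hrσ hr1 huX hNL
    have hqL : q ∉ sigma L := SigmaPartition.sigma_disjoint hG hM hL hneL hqσ
    have h' : Ctx q A L := Ctx.mk' hG hL ⟨hqp, hqL, SigmaCompl.rank_le hG hL hqp hqL,
      Unique.not_pRankLE_of_elementary hAL hAe hAc.ge⟩ hAL hAe hAc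
    have hσL : sigmaCore L ⊓ M = ⊥ := h'.sigma_inf hM (fun e => hneL 1 (by rw [map_conj_one, e])) hAM
    have huL : u ∈ L := hNL (le_normalizer (mem_zpowers u))
    have hrτ : r ∈ tau2 L := (mem_sigma_or_tau2 hG hL huX hNL).resolve_left fun hrL =>
      ne_one_of_order huo (mem_bot.mp (hσL ▸ mem_inf.mpr
        ⟨Sigma.sylow_le_sigmaCore hG hL hrL (isPGroup_of_card huX) (zpowers_le.mpr huL) (mem_zpowers u),
          hu⟩))
    exact rank_of_two_tau2 hG hM h' hAM hrτ hqr hr1
  -- an invariant Sylow subgroup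
  have hAσ : A ≤ sigmaCore M := Sigma.sylow_le_sigmaCore hG hM hqσ h.hA.isPGroup hAM
  obtain ⟨S₀, hAS, huS⟩ := Coprime.exists_invariant_sylow_ge
    (zpowers_le.mpr (Sigma.le_normalizer_sigmaCore M hu))
    (huX.symm ▸ hr0.coprime_iff_not_dvd.mpr (Compl.not_dvd_sigmaCore hr0 hrσ))
    (Or.inl (Coprime.isSolvable_of_isPGroup (isPGroup_of_card huX))) hAσ h.hA.isPGroup
    (zpowers_le.mpr huN)
  obtain ⟨S, hS⟩ := MaxStruct.exists_sylow_of_core hG hM hqσ S₀
  rw [← hS] at hAS huS
  have hSM : (S : Subgroup G) ≤ M := hS ▸ (map_subtype_le _).trans (Sigma.sigmaCore_le M)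
  obtain ⟨E, hE, huE', hES⟩ := exists_compl_normalizer hG hM hqσ S hSM huS fun t ht hd => by
    rw [huX] at hd
    rwa [(Nat.prime_dvd_prime_iff_eq ht hr0).mp hd]
  have huE : u ∈ E := huE' (mem_zpowers u)
  have hyS : y ∈ (S : Subgroup G) := hAS hyA
  -- `E'` centralises `S`
  have hE' : ⁅E, E⁆ ≤ centralizer ((S : Subgroup G) : Set G) := fun c hc =>
    commutator_centralizes hG h.hA S hAS (commutator_mono hES hES hc) ((hqp.coprime_iff_not_dvd.mpr
      fun hd => Compl.not_sigma hG hM hE hqp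
        (hd.trans (E.orderOf_dvd_natCard (commutator_le_self E hc))) hqσ).symm)
  have hrM : ¬ r ∣ Nat.card ↥⁅M, M⁆ := fun hd => hAu fun a ha => by
    have hdE := Compl.dvd_commutator hG hM hE hrσ hd
    obtain ⟨w, hw⟩ := exists_prime_orderOf_dvd_card' r hdE
    have hwE : (w : G) ∈ E := commutator_le_self E w.2
    obtain ⟨T, huT⟩ := ((isPGroup_of_card huX).comap_subtype (K := E)).exists_le_sylow
    obtain ⟨T', hwT⟩ := ((isPGroup_of_card (p := r) (X := zpowers (w : G))
      (by rw [Nat.card_zpowers, orderOf_coe, hw])).comap_subtype (K := E)).exists_le_sylow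
    obtain ⟨g, hg⟩ := MulAction.exists_smul_eq E T' T
    set w' : G := (g : G) * w * (g : G)⁻¹ with hw'
    have hcyc : IsCyclic ((T : Subgroup E).map E.subtype) :=
      Compl.isCyclic_of_rankOne hG hr1 (T.isPGroup'.map _) ((map_subtype_le _).trans hE.1)
    have hw'T : w' ∈ (T : Subgroup E).map E.subtype := by
      refine ⟨g * ⟨w, hwE⟩ * g⁻¹, ?_, rfl⟩
      rw [← hg, coe_smul_eq_map]
      exact ⟨_, hwT (show (⟨(w : G), hwE⟩ : E) ∈ _ from mem_subgroupOf.mpr (mem_zpowers _)), rfl⟩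
    have huT' : u ∈ (T : Subgroup E).map E.subtype :=
      ⟨⟨u, huE⟩, huT (show (⟨u, huE⟩ : E) ∈ _ from mem_subgroupOf.mpr (mem_zpowers u)), rfl⟩
    have hw'o : orderOf w' = r := by
      rw [hw', show (g : G) * w * (g : G)⁻¹ = MulAut.conj (g : G) w from rfl, MulEquiv.orderOf_eq,
        orderOf_coe, hw]
    have hw'E : w' ∈ ⁅E, E⁆ := (mem_normalizer_iff.mp
      (Coprime.le_normalizer_commutator_self le_normalizer g.2) (w : G)).mp w.2
    have hu' : u ∈ zpowers w' :=
      mem_zpowers_of_cyclic hcyc hw'T huT' hw'o (pow_eq_one_of_order huo)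
    exact mem_centralizer_singleton_iff.mpr
      (mem_centralizer_iff.mp (hE' ((zpowers_le.mpr hw'E) hu')) a (hAS ha))
  have hrE : ¬ r ∣ Nat.card ↥⁅E, E⁆ := fun hd =>
    hrM (hd.trans (card_dvd_of_le (commutator_mono hE.1 hE.1)))
  -- fixed points of `u` on `S`
  have hfix : ∀ x ∈ (S : Subgroup G), x ^ q = 1 → x ∈ centralizer ({u} : Set G) → x ∈ Y := by
    have hAuY : A ⊓ centralizer ({u} : Set G) = Y := by
      have hle : Y ≤ A ⊓ centralizer ({u} : Set G) :=
        zpowers_le.mpr (mem_inf.mpr ⟨hyA, mem_centralizer_singleton_iff.mpr huy.symm⟩)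
      refine (eq_of_le_of_card_ge hle ?_).symm
      rw [hYc, h.hA.card_eq_of_lt inf_le_left (ne_bot_of_le_ne_bot (ne_bot_of_card hYc) hle)
        fun e => hAu (e ▸ inf_le_right)]
    have hSy : ∀ x ∈ (S : Subgroup G), x ^ q = 1 → x * y = y * x → x ∈ A := by
      intro x hx hxq hxy
      refine h.hA.omega x (mem_centralizer_iff.mpr fun a ha => ?_) hxq
      have hT : IsPGroup q ↥((S : Subgroup G) ⊓ centralizer ({y} : Set G)) :=
        S.isPGroup'.to_le inf_le_left
      have := h.pgroup_comm hT (inf_le_right.trans hCH)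
      exact setLike_mul_comm (s := (S : Subgroup G) ⊓ centralizer ({y} : Set G))
        (mem_inf.mpr ⟨hAS ha, hAy ha⟩) (mem_inf.mpr ⟨hx, mem_centralizer_singleton_iff.mpr hxy⟩)
    set C := (S : Subgroup G) ⊓ centralizer ({u} : Set G) with hCdef
    have hyC : y ∈ C := mem_inf.mpr ⟨hyS, mem_centralizer_singleton_iff.mpr huy.symm⟩
    obtain ⟨z, hz, hz1⟩ := (bot_or_exists_ne_one _).resolve_left
      (P2Elem.omegaCenter_ne_bot (q := q) (Q := C) (S.isPGroup'.to_le inf_le_left)
        fun e => hy1 (mem_bot.mp (e ▸ hyC)))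
    have hzY : z ∈ Y := hAuY ▸ mem_inf.mpr
      ⟨hSy z (mem_inf.mp hz.1).1 hz.2.2 (mem_centralizer_iff.mp hz.2.1 y hyC).symm,
        (mem_inf.mp hz.1).2⟩
    have hzo : orderOf z = q := orderOf_eq_prime hz.2.2 hz1
    have hzY' : zpowers z = Y :=
      eq_of_le_of_card_ge (zpowers_le.mpr hzY) (by rw [hYc, Nat.card_zpowers, hzo])
    intro x hx hxq hxu
    refine hAuY ▸ mem_inf.mpr ⟨hSy x hx hxq ?_, hxu⟩
    obtain ⟨i, hi⟩ := mem_zpowers_iff.mp (show y ∈ zpowers z by rw [hzY']; exact mem_zpowers y)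
    rw [← hi]
    exact ((show Commute x z from mem_centralizer_iff.mp hz.2.1 x
      (mem_inf.mpr ⟨hx, hxu⟩)).zpow_right i).eq
  -- a prime moving `y`
  have hmove : E ⊓ centralizer ({u} : Set G) ≤ centralizer ({y} : Set G) := by
    rw [← subgroupOf_eq_top]
    refine Cores.eq_top_of_sylow_le fun t ht hd => ?_
    have := Fact.mk ht
    have htσ : t ∉ sigma M := Compl.not_sigma hG hM hE ht (hd.trans (card_dvd_of_le inf_le_left))
    obtain ⟨T₀⟩ : Nonempty (Sylow t ↥(E ⊓ centralizer ({u} : Set G))) := inferInstance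
    refine ⟨T₀, ?_⟩
    set T := (T₀ : Subgroup ↥(E ⊓ centralizer ({u} : Set G))).map
      (E ⊓ centralizer ({u} : Set G) : Subgroup G).subtype with hTdef
    have hTE : T ≤ E := (map_subtype_le _).trans inf_le_left
    have hTu : T ≤ centralizer ({u} : Set G) := (map_subtype_le _).trans inf_le_right
    have hTp : IsPGroup t T := T₀.isPGroup'.map _
    suffices hTy : T ≤ centralizer ({y} : Set G) from
      fun z hz => mem_subgroupOf.mpr (hTy (mem_map_of_mem _ hz))
    obtain ⟨w, hw⟩ := exists_prime_orderOf_dvd_card' t (show t ∣ Nat.card T by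
      rw [hTdef, card_map_of_injective (Subgroup.subtype_injective _)]
      exact T₀.dvd_card_of_dvd_card hd)
    have hwX : Nat.card (zpowers (w : G)) = t := by rw [Nat.card_zpowers, orderOf_coe, hw]
    have hwu : (w : G) * u = u * w := mem_centralizer_singleton_iff.mp (hTu w.2)
    have hwy : (w : G) * y = y * w := by
      have h1 := le_centralizer_of_tau1 hG hM hrM hrσ hr1 (zpowers_le.mpr hu) huX
        (zpowers_le.mpr (hE.1 (hTE w.2))) hwX htσ (zpowers_le.mpr (mem_centralizer_zpowers hwu))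
        (mem_inf.mpr ⟨hy, mem_centralizer_zpowers huy.symm⟩)
      exact mem_centralizer_iff.mp h1 _ (mem_zpowers (w : G))
    by_cases ht1 : PRankLE t 1 M
    · have h2 := le_centralizer_of_cyclic hG hM htσ ht1 hwX hTp
        (Compl.isCyclic_of_rankOne hG ht1 hTp (hTE.trans hE.1)) (zpowers_le.mpr w.2) (hTE.trans hE.1)
        (mem_inf.mpr ⟨hy, mem_centralizer_zpowers hwy.symm⟩)
      exact fun z hz => mem_centralizer_singleton_iff.mpr (mem_centralizer_iff.mp h2 z hz)
    have htτ : t ∈ tau2 M := ⟨ht, htσ, SigmaCompl.rank_le hG hM ht htσ, ht1⟩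
    by_contra hne'
    obtain ⟨τ, hτT, hτy⟩ := SetLike.not_le_iff_exists.mp hne'
    have hτY : ∀ z ∈ T, z * y * z⁻¹ ∈ Y := fun z hz => by
      refine hfix _ ((mem_normalizer_iff.mp (hES (hTE hz)) y).mp hyS)
        (by rw [conj_pow, pow_eq_one_of_order hyo]; group) (mem_centralizer_singleton_iff.mpr ?_)
      have h1 : Commute z u := mem_centralizer_singleton_iff.mp (hTu hz)
      exact ((h1.mul_left (show Commute y u from huy.symm)).mul_left h1.inv_left).eq
    have htq : t < q := by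
      have hTN : T ≤ normalizer (Y : Set G) := fun z hz => map_conj_eq_self_iff.mp
        (eq_of_le_of_card_ge (by
          rw [hY, MonoidHom.map_zpowers]; exact zpowers_le.mpr (hτY z hz)) (by rw [card_map_conj]))
      have hYcy : IsCyclic Y := isCyclic_of_prime_card hYc
      let φ : T →* MulAut Y := Y.normalizerMonoidHom.comp (inclusion hTN)
      obtain ⟨n, hn⟩ := (hTp.of_surjective φ.rangeRestrict φ.rangeRestrict_surjective).exists_card_eq
      have hn0 : n ≠ 0 := by
        rintro rfl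
        rw [pow_zero] at hn
        have h1 : φ ⟨τ, hτT⟩ = 1 := mem_bot.mp ((card_eq_one.mp hn) ▸ (⟨_, rfl⟩ :
          φ ⟨τ, hτT⟩ ∈ φ.range))
        exact hτy (mem_centralizer_singleton_iff.mpr (mul_inv_eq_iff_eq_mul.mp
          (show τ * y * τ⁻¹ = y from
            congrArg Subtype.val (DFunLike.congr_fun h1 (⟨y, mem_zpowers y⟩ : Y)))))
      have hd2 : t ∣ q - 1 := by
        rw [← Nat.totient_prime hqp, ← hYc, ← IsCyclic.card_mulAut]
        exact ((dvd_pow_self t hn0).trans hn.symm.dvd).trans (card_subgroup_dvd_card φ.range)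
      have := Nat.le_of_dvd (by have := hqp.two_le; omega) hd2
      have := hqp.two_le
      omega
    exact no_mixed_of hG hM (ih t htq ht) htτ hu huo hrσ hr1 (hE.1 (hTE w.2))
      (show orderOf (w : G) = t by rw [orderOf_coe, hw]) hwu.symm hy hy1 huy hwy
  -- so `y` is central in `E`
  have hyE : y ∈ centralizer (E : Set G) := mem_centralizer_iff.mpr fun e he => by
    obtain ⟨x, hx, hxe⟩ := exists_decomp huE huo hrE he
    have hc1 : Commute x y := (mem_centralizer_iff.mp (hE' hx) y hyS).symm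
    have hc2 : Commute (x * e) y := mem_centralizer_singleton_iff.mp
      (hmove (mem_inf.mpr ⟨mul_mem (commutator_le_self E hx) he, hxe⟩))
    have := hc1.inv_left.mul_left hc2
    rw [inv_mul_cancel_left] at this
    exact this.eq
  have hyK : y ∈ ⁅sigmaCore M, sigmaCore M⁆ :=
    (S1426.result hG M hM E hE).1 (mem_inf.mpr ⟨hy, hyE⟩)
  obtain ⟨⟨-, huniq⟩, -⟩ := SigmaElem.main hG hM hqσ (zpowers_le.mpr hyM) hYc
    (Or.inr (zpowers_le.mpr hyK))
  exact hHM (huniq H hH (by rwa [centralizer_zpowers]))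

/-- The centraliser of a fixed point in `M_σ` of an element of rank one outside `σ(M)` lies in `M`. -/
theorem centralizer_le (hG : IsMinSimpleOddOrder G) (hM : IsCoatom M) {u y : G} (hu : u ∈ M)
    (huo : orderOf u = r) (hrσ : r ∉ sigma M) (hr1 : PRankLE r 1 M) (hy : y ∈ sigmaCore M)
    (hyo : orderOf y = q) (huy : u * y = y * u) :
    normalizer ((zpowers y : Subgroup G) : Set G) ≤ M ∧ centralizer ({y} : Set G) ≤ M := by
  obtain ⟨H, hH, hNH⟩ := exists_normalizer_le hG (X := zpowers y)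
    (ne_bot_of_card (p := q) (by rw [Nat.card_zpowers, hyo]))
    (zpowers_le.mpr (Sigma.sigmaCore_le M hy)) hM
  have e := central hG q hq.out M hM r u y hr.out hu huo hrσ hr1 hy hyo huy H hH hNH
  subst e
  refine ⟨hNH, ?_⟩
  rw [← centralizer_zpowers]
  exact (centralizer_le_normalizer _).trans hNH

/-- No fixed point of a `τ₁`-element is also fixed by a commuting `τ₂`-element. -/
theorem no_mixed (hG : IsMinSimpleOddOrder G) (hM : IsCoatom M) (hτ : p ∈ tau2 M)
    {u v y : G} (hu : u ∈ M) (huo : orderOf u = r) (hrσ : r ∉ sigma M) (hr1 : PRankLE r 1 M)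
    (hv : v ∈ M) (hvo : orderOf v = p) (huv : u * v = v * u) (hy : y ∈ sigmaCore M) (hy1 : y ≠ 1)
    (huy : u * y = y * u) (hvy : v * y = y * v) : False :=
  no_mixed_of hG hM (central hG p hp.out) hτ hu huo hrσ hr1 hv hvo huv hy hy1 huy hvy

end Cfsg.Agent.OddLocal.KappaCentral
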