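import Cfsg.Agent.OddLocal.FittingStructure
import Cfsg.Agent.S1423
import Cfsg.Agent.S1432

/-! When `F(M)` is a TI-subset (BG 15.2, 15.7). -/

set_option autoImplicit false
set_option linter.unusedSectionVars false

namespace Cfsg.Agent.OddLocal.FittingTI

open Cfsg Subgroup SigmaParts FittingStructure

variable {G : Type*} [Group G] [Finite G] {M K U : Subgroup G}

theorem le_normalizer_fittingOf (M : Subgroup G) : M ≤ normalizer (fittingOf M : Set G) := by
  have h1 : (fittingOf M).subgroupOf M = fittingSubgroup M := by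
    rw [fittingOf, subgroupOf, comap_map_eq_self_of_injective M.subtype_injective]
  have : (fittingSubgroup M).Characteristic := Cores.fittingSubgroup_characteristic
  have hn : ((fittingOf M).subgroupOf M).Normal := by rw [h1]; infer_instance
  exact (normal_subgroupOf_iff_le_normalizer (map_subtype_le _)).mp hn

theorem fittingHallOf_le_fittingOf (hG : IsMinSimpleOddOrder G) (hM : IsCoatom M) :
    fittingHallOf M ≤ fittingOf M := by
  rw [fittingOf_eq hG hM]; exact le_sup_right

/-- The `σ'`-elements of prime order in `F(M)` determine `M`. -/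
theorem unique_of_not_sigma (hG : IsMinSimpleOddOrder G) (hM : IsCoatom M)
    (hKU : IsSigmaDecomposition M K U) {p : ℕ} [Fact p.Prime] {x : G} (hx : x ∈ fittingOf M)
    (hxo : orderOf x = p) (hp : p ∉ sigma M) :
    centralizer ({x} : Set G) ≤ M ∧ ∀ L : Subgroup G, IsCoatom L → centralizer ({x} : Set G) ≤ L → L = M := by
  have hp' : p.Prime := Fact.out
  obtain ⟨y, hy, hy1⟩ := (bot_or_exists_ne_one _).resolve_left (Fcore.fittingHallOf_ne_bot hG hM)
  have hyσ := fittingHallOf_le_sigmaCore hG hM hy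
  have hxy := CN.commute_of_mem (fittingOf_nilpotent M) (fittingHallOf_le_fittingOf hG hM hy) hx (by
    rw [hxo]
    exact (hp'.coprime_iff_not_dvd.mpr fun h => hp (mem_sigma_core hyσ p hp' h)).symm)
  rcases S1432.result hG M hM y hyσ hy1 x (mem_inf.mpr ⟨map_subtype_le _ hx,
    mem_centralizer_singleton_iff.mpr hxy.eq.symm⟩) (KappaCentral.ne_one_of_order hxo) (fun r hr hd => by
      rw [hxo] at hd
      exact (Nat.prime_dvd_prime_iff_eq hr hp').mp hd ▸ hp) with ⟨hκ, -⟩ | ⟨-, -, h1, h2⟩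
  · have hκp : p ∈ kappa M := hκ p hp' (hxo.symm ▸ dvd_rfl)
    have hK1 : K ≠ ⊥ := fun e => hKU.hall.2.2 p hp' hκp (by rw [e, relIndex_bot_left]; exact hκp.2.1)
    have hle := fittingOf_le_commutator hG hM ⟨p, hκp⟩ hx
    rw [PType.commutator_eq hG hM hKU hK1, sup_comm] at hle
    have hd : p ∣ Nat.card ↥(sigmaCore M ⊔ U) := hxo ▸ orderOf_dvd_natCard _ hle
    rcases hp'.dvd_mul.mp (hd.trans (RegularMain.card_sup_dvd
      (hKU.compl.1.trans (Sigma.le_normalizer_sigmaCore M)))) with h | h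
    · exact absurd (Transitivity.isPi_piCoreOf (sigma M) M p hp' h) hp
    · exact absurd hκp (KappaDecomp.not_kappa_of_dvd hKU hp' h)
  · exact ⟨h1, h2⟩

theorem isTI (hG : IsMinSimpleOddOrder G) (hM : IsCoatom M) (hKU : IsSigmaDecomposition M K U)
    (h : ∀ x ∈ fittingOf M, x ∈ sigmaCore M → (orderOf x).Prime → centralizer ({x} : Set G) ≤ M) :
    IsTISubset (fittingOf M : Set G) := by
  intro g hg a ha hga
  by_contra ha1
  refine hg (le_normalizer_fittingOf M ?_)
  obtain ⟨p, hp, hd⟩ := Nat.exists_prime_and_dvd (fun e => ha1 (orderOf_eq_one_iff.mp e))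
  have := Fact.mk hp
  set x := a ^ (orderOf a / p) with hx'
  have hxo : orderOf x = p := orderOf_pow_orderOf_div (orderOf_pos a).ne' hd
  have hx : x ∈ fittingOf M := pow_mem ha _
  have hgx : g * x * g⁻¹ ∈ fittingOf M := by
    rw [hx', ← conj_pow]; exact pow_mem hga _
  by_cases hpσ : p ∈ sigma M
  · have hxσ : x ∈ sigmaCore M := mem_core_of_piEl hG hM (map_subtype_le _ hx) fun r hr hd' => by
      rw [hxo] at hd'
      exact (Nat.prime_dvd_prime_iff_eq hr hp).mp hd' ▸ hpσ
    have hC := h x hx hxσ (hxo.symm ▸ hp)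
    obtain ⟨m, hm, he⟩ := Signalizer.fusion_core hG hM hxσ (g := g) (map_subtype_le _ hgx)
    have h1 : m⁻¹ * g ∈ centralizer ({x} : Set G) := mem_centralizer_singleton_iff.mpr (by
      calc m⁻¹ * g * x = m⁻¹ * (g * x * g⁻¹) * g := by group
        _ = m⁻¹ * (m * x * m⁻¹) * g := by rw [he]
        _ = x * (m⁻¹ * g) := by group)
    simpa using mul_mem hm (hC h1)
  · obtain ⟨h1, -⟩ := unique_of_not_sigma hG hM hKU hx hxo hpσ
    obtain ⟨-, h4⟩ := unique_of_not_sigma hG hM hKU hgx
      (((MulAut.conj g).orderOf_eq x).trans hxo) hpσ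
    rw [TauTwo.centralizer_map_conj] at h4
    exact (mem_iff_conj_eq hG hM).mpr (h4 _ (Unique.isCoatom_map_conj hM g) (map_mono h1))

theorem not_nilpotent (hG : IsMinSimpleOddOrder G) (hM : IsCoatom M) (hKU : IsSigmaDecomposition M K U)
    (hn : ¬ Group.IsNilpotent (sigmaCore M)) {x : G} (hx : x ∈ fittingOf M) (hxσ : x ∈ sigmaCore M)
    (hxp : (orderOf x).Prime) : centralizer ({x} : Set G) ≤ M := by
  obtain ⟨q, Q, c⟩ := NonNilpotent.exists_core hG hM hKU hn
  have := Fact.mk c.hq
  have := Fact.mk hxp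
  have hqσ : q ∈ sigma M := Transitivity.isPi_piCoreOf (sigma M) M q c.hq
    (c.hc ▸ card_dvd_of_le inf_le_left)
  by_cases hxq : orderOf x = q
  · obtain ⟨P⟩ : Nonempty (Sylow q (sigmaCore M)) := inferInstance
    have h := S1423.result hG M hM q hqσ (zpowers x) (zpowers_le.mpr (Sigma.sigmaCore_le M hxσ))
      (by rw [Nat.card_zpowers, hxq]) P (Or.inl c.beta)
    rw [TauTwo.centralizer_zpowers] at h
    exact h.1.1
  by_contra hC
  obtain ⟨N, hN⟩ := Signalizer.exists_sig hG hM hxσ (fun e => hxp.ne_one (by rw [e, orderOf_one])) hC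
  have hQC : Q ≤ centralizer ({x} : Set G) := fun a ha => mem_centralizer_singleton_iff.mpr
    (CN.commute_of_mem (fittingOf_nilpotent M) (fittingHallOf_le_fittingOf hG hM (c.le_F ha)) hx (by
      obtain ⟨k, hk⟩ := c.pgroup.exists_card_eq
      exact ((Nat.Coprime.pow_left k ((Nat.coprime_primes c.hq hxp).mpr (Ne.symm hxq)))).coprime_dvd_left
        (hk ▸ orderOf_dvd_natCard Q ha))).eq
  have hqN : q ∉ sigma N := not_sigma_of_ne hG hM hN.hN hN.hne hqσ
  have hr2 : PRankLE q 2 N := SigmaCompl.rank_le hG hN.hN c.hq hqN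
  refine c.beta.1.2 ?_
  have hQM : Q ≤ M := c.le.trans (Sigma.sigmaCore_le M)
  have hidx : ¬ q ∣ Q.relIndex M := fun hd => by
    rw [← relIndex_mul_relIndex Q (sigmaCore M) M c.le (Sigma.sigmaCore_le M)] at hd
    exact (c.hq.dvd_mul.mp hd).elim c.index ((Sigma.sigmaCore_hall hG hM).1.2.2 q c.hq hqσ)
  intro A hA hexp
  have hA' : IsElementaryAbelian q (A.map M.subtype) :=
    PLocal.ThompsonSubgroup.IsElementaryAbelian.map (⟨hA, hexp⟩ : IsElementaryAbelian q A) _
  have hle : A.map M.subtype ≤ Q := fun a ha => KappaDecomp.mem_of_normal_coprime c.normal hQM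
    (map_subtype_le _ ha) (by
      obtain ⟨k, hk⟩ := (Components.Hyperplane.isPGroup hA').exists_card_eq
      exact (Nat.Coprime.pow_left k (c.hq.coprime_iff_not_dvd.mpr hidx)).coprime_dvd_left
        (hk ▸ orderOf_dvd_natCard _ ha))
  have hAN : A.map M.subtype ≤ N := (hle.trans hQC).trans hN.hC
  have := hr2 ((A.map M.subtype).subgroupOf N)
    ⟨⟨fun a b => Subtype.ext (Subtype.ext (Components.Hyperplane.mem_comm hA' a.2 b.2))⟩⟩
    (fun a ha => Subtype.ext (by rw [SubgroupClass.coe_pow]; exact hA'.2 _ ha))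
  rwa [Nat.card_congr (subgroupOfEquivOfLe hAN).toEquiv, card_map_of_injective M.subtype_injective] at this

end Cfsg.Agent.OddLocal.FittingTI
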