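import Cfsg.Agent.OddLocal.PTypeConseq
import Cfsg.Agent.OddLocal.FrobeniusFixGroup

/-! A maximal subgroup of type `P₂`: the maximal subgroups over the normalisers of the Sylow subgroups
of `U` (BG 14.12). -/

set_option autoImplicit false
set_option linter.unusedSectionVars false

namespace Cfsg.Agent.OddLocal.PType

open Cfsg Subgroup KappaStructure SigmaParts
open TauTwo (centralizer_zpowers)
open Cfsg.Agent.Transfer.Fusion (map_conj_eq_self_iff card_map_conj)

variable {G : Type*} [Group G] [Finite G] {M L H K U S Y A : Subgroup G} {u v : G} {t : ℕ}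
  [ht : Fact t.Prime]

/-- The elements of an abelian group killed by `t`. -/
theorem exists_omega (hU : IsMulCommutative U) (t : ℕ) :
    ∃ Y : Subgroup G, ∀ x : G, x ∈ Y ↔ x ∈ U ∧ x ^ t = 1 := by
  have hcomm : ∀ a b : G, a ∈ U → b ∈ U → Commute a b := fun a b ha hb =>
    congrArg Subtype.val (hU.is_comm.comm ⟨a, ha⟩ ⟨b, hb⟩)
  exact ⟨{ carrier := {v | v ∈ U ∧ v ^ t = 1}
           mul_mem' := fun {a b} ha hb =>
             ⟨mul_mem ha.1 hb.1, by rw [(hcomm a b ha.1 hb.1).mul_pow, ha.2, hb.2, one_mul]⟩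
           one_mem' := ⟨one_mem _, one_pow _⟩
           inv_mem' := fun {a} ha => ⟨inv_mem ha.1, by rw [inv_pow, ha.2, inv_one]⟩ },
    fun _ => Iff.rfl⟩

theorem eq_of_dvd_pow_card {p : ℕ} (hp : p.Prime) {X : Subgroup G} (hX : IsPGroup t X)
    (hd : p ∣ Nat.card X) : p = t := by
  obtain ⟨n, hn⟩ := hX.exists_card_eq
  rw [hn] at hd
  exact (Nat.prime_dvd_prime_iff_eq hp ht.out).mp (hp.dvd_of_dvd_pow hd)

/-- Data of type `P₂` with a generator `u` of `K`; `S` is the partner. -/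
structure P2 (M K U S : Subgroup G) (u : G) : Prop where
  hG : IsMinSimpleOddOrder G
  h : Pair M K S
  hKU : IsSigmaDecomposition M K U
  hU1 : U ≠ ⊥
  hu : u ∈ K
  hup : (orderOf u).Prime
  hKu : zpowers u = K

theorem P2.exists_gen (hG : IsMinSimpleOddOrder G) (h : Pair M K S) (hKU : IsSigmaDecomposition M K U)
    (hU1 : U ≠ ⊥) : ∃ u : G, P2 M K U S u := by
  obtain ⟨hp, -⟩ := prime_of_notP1 hG h.hM h.hK h.hK1 ((notP1_iff hG h.hM hKU).mpr hU1)
  have := Fact.mk hp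
  obtain ⟨u, hu⟩ := exists_prime_orderOf_dvd_card' (G := K) (Nat.card K) dvd_rfl
  rw [← orderOf_coe] at hu
  exact ⟨u, hG, h, hKU, hU1, u.2, hu.symm ▸ hp, eq_of_le_of_card_ge (zpowers_le.mpr u.2)
    (by rw [Nat.card_zpowers, hu])⟩

variable (c : P2 M K U S u)
include c

theorem P2.data : Data M K (U ⊔ K) U := KappaDecomp.data_of c.hG c.h.hM c.hKU c.h.hK1

theorem P2.notP1 : NotP1 M := (notP1_iff c.hG c.h.hM c.hKU).mpr c.hU1

theorem P2.u_ne : u ≠ 1 := fun e => c.hup.ne_one (by rw [e, orderOf_one])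

theorem P2.fpf {x : G} (hx : x ∈ U) (hxu : u * x = x * u) : x = 1 :=
  mem_bot.mp ((c.data.fpf u c.hu c.u_ne).le
    (mem_inf.mpr ⟨hx, mem_centralizer_singleton_iff.mpr hxu.symm⟩))

theorem P2.u_core : u ∈ sigmaCore S := c.h.le_core c.hu

theorem P2.p_sigma : orderOf u ∈ sigma S := mem_sigma_core c.u_core _ c.hup dvd_rfl

theorem P2.u_part : u ∈ sigmaCore S ⊓ (K ⊔ star M K) :=
  mem_inf.mpr ⟨c.u_core, mem_sup_left c.hu⟩

theorem P2.centralizer_u_le : centralizer ({u} : Set G) ≤ S :=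
  (c.h.member_partner c.hG).centralizer_le c.hG c.u_part c.u_ne

theorem P2.u_el : ∀ p : ℕ, p.Prime → p ∣ orderOf u → p = orderOf u := fun _ hp hd =>
  (Nat.prime_dvd_prime_iff_eq hp c.hup).mp hd

theorem P2.kappa_partner (hκ : t ∈ kappa S) : t ∈ sigma M := by
  have hd : t ∣ Nat.card (star M K) := by
    have h1 : Nat.card (star M K) * (star M K).relIndex S = Nat.card S := by
      rw [← Nat.card_congr (subgroupOfEquivOfLe c.h.hKs.1).toEquiv]
      exact card_mul_index ((star M K).subgroupOf S)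
    exact (ht.out.dvd_mul.mp (h1 ▸ hκ.2.1)).resolve_right (c.h.hKs.2.2 t ht.out hκ)
  exact Transitivity.isPi_piCoreOf (sigma M) M t ht.out (hd.trans (card_dvd_of_le inf_le_left))

/-- No prime of `|U|` lies in `σ` of the partner. -/
theorem P2.not_sigma_U (hd : t ∣ Nat.card U) : t ∉ sigma S := fun hσ => by
  have h1 := (c.h.symm c.hG).hall_sigma c.hG
  rw [c.h.hKeq] at h1
  refine h1.2.2 t ht.out hσ (hd.trans ?_)
  have hE := KappaDecomp.isCompl c.hKU
  have h2 : Nat.card K * K.relIndex M = Nat.card M := by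
    rw [← Nat.card_congr (subgroupOfEquivOfLe c.hKU.hall.1).toEquiv]
    exact card_mul_index (K.subgroupOf M)
  refine Nat.dvd_of_mul_dvd_mul_left (Nat.card_pos : 0 < Nat.card K) ?_
  rw [h2, ← Compl.card_mul hE, KappaDecomp.card_compl c.hKU, mul_comm (Nat.card U)]
  exact Dvd.intro _ rfl

theorem P2.kappa_cases (hL : IsCoatom L) (hκ : (kappa L).Nonempty) :
    ∃ g : G, L = M.map (MulAut.conj g).toMonoidHom ∨ L = S.map (MulAut.conj g).toMonoidHom := by
  obtain ⟨K', hK', -⟩ := exists_hall_ge c.hG hL (π := kappa L) (V := ⊥) bot_le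
    fun p hp hd => absurd (Nat.dvd_one.mp (by rwa [card_bot] at hd)) hp.ne_one
  have hK'1 : K' ≠ ⊥ := by
    rintro rfl
    obtain ⟨p, hp⟩ := hκ
    exact hK'.2.2 p hp.1 hp (by rw [relIndex_bot_left]; exact hp.2.1)
  obtain ⟨H', h'⟩ := exists_pair c.hG hL hK' hK'1
  exact c.h.conj_cases c.hG h'

theorem P2.eq_partner (hL : IsCoatom L) (huL : u ∈ L) (hσ : orderOf u ∈ sigma L) : L = S := by
  obtain ⟨g, rfl⟩ := conj_of_common c.hG c.h.hH hL c.p_sigma hσ
  exact (mem_iff_conj_eq c.hG c.h.hH).mp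
    ((c.h.member_partner c.hG).mem_of_part c.hG c.u_part c.u_ne huL)

theorem P2.kappa_empty (hL : IsCoatom L) (hLM : ∀ g : G, L ≠ M.map (MulAut.conj g).toMonoidHom)
    (hσ : orderOf u ∉ sigma L) : kappa L = ∅ := by
  by_contra hne
  obtain ⟨g, hg | hg⟩ := c.kappa_cases hL (Set.nonempty_iff_ne_empty.mpr hne)
  · exact hLM g hg
  · exact hσ (by rw [hg, sigma_eq]; exact c.p_sigma)

/-- `u` acts regularly on `L_σ`. -/
theorem P2.regular (hL : IsCoatom L) (hLM : ∀ g : G, L ≠ M.map (MulAut.conj g).toMonoidHom)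
    (huL : u ∈ L) (hσ : orderOf u ∉ sigma L) : sigmaCore L ⊓ centralizer ({u} : Set G) = ⊥ := by
  by_contra hne
  obtain ⟨x, hx, hx1⟩ := (bot_or_exists_ne_one _).resolve_left hne
  obtain ⟨hxL, hxu⟩ := mem_inf.mp hx
  rcases S1432.result c.hG L hL x hxL hx1 u
    (mem_inf.mpr ⟨huL, mem_centralizer_singleton_iff.mpr (mem_centralizer_singleton_iff.mp hxu).symm⟩)
    c.u_ne (fun p hp hd => c.u_el p hp hd ▸ hσ) with ⟨hκ, -⟩ | ⟨-, -, -, hu⟩
  · exact (Set.eq_empty_iff_forall_notMem.mp (c.kappa_empty hL hLM hσ)) _ (hκ _ c.hup dvd_rfl)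
  · exact hσ (hu S c.h.hH c.centralizer_u_le ▸ c.p_sigma)

theorem P2.core_nilpotent (hL : IsCoatom L) (hLM : ∀ g : G, L ≠ M.map (MulAut.conj g).toMonoidHom)
    (huL : u ∈ L) (hσ : orderOf u ∉ sigma L) : Group.IsNilpotent (sigmaCore L) := by
  have := Fact.mk c.hup
  exact Kappa.isNilpotent_of_fpf (p := orderOf u) (Sigma.le_normalizer_sigmaCore L huL)
    (pow_orderOf_eq_one u) (c.regular hL hLM huL hσ)

/-- A group of `L` on which `u` acts fixed-point-freely centralises `L_σ`. -/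
theorem P2.centralizes (hL : IsCoatom L) (hLM : ∀ g : G, L ≠ M.map (MulAut.conj g).toMonoidHom)
    (huL : u ∈ L) (hσ : orderOf u ∉ sigma L) (hYL : Y ≤ L) (huY : u ∈ normalizer (Y : Set G))
    (hfpf : ∀ y ∈ Y, Commute u y → y = 1) (hY : IsPGroup t Y) (htσ : t ∉ sigma L) :
    Y ≤ centralizer (sigmaCore L : Set G) := by
  have := Fact.mk c.hup
  refine FrobeniusFixGroup.le_centralizer_of_fpf (r := orderOf u) (pow_orderOf_eq_one u) huY hfpf
    (Transitivity.isSolvable_of_ne_top c.hG fun e => hL.1 (top_le_iff.mp (e ▸ Sigma.sigmaCore_le L)))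
    ((c.hup.coprime_iff_not_dvd.mpr (Compl.not_dvd_sigmaCore c.hup hσ)).symm)
    (Nat.coprime_of_dvd fun p hp h1 h2 => Compl.not_dvd_sigmaCore ht.out htσ
      (eq_of_dvd_pow_card hp hY h2 ▸ h1))
    (Sigma.le_normalizer_sigmaCore L huL) (hYL.trans (Sigma.le_normalizer_sigmaCore L)) fun x hx hxu => ?_
  have h1 : x ∈ sigmaCore L ⊓ centralizer ({u} : Set G) :=
    mem_inf.mpr ⟨hx, mem_centralizer_singleton_iff.mpr hxu.symm.eq⟩
  rw [c.regular hL hLM huL hσ, mem_bot] at h1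
  subst h1
  exact fun y _ => Commute.one_right y

/-- An element of prime order of `L` centralising `L_σ` lies at a prime of rank two. -/
theorem P2.tau2_of_centralizes (hL : IsCoatom L) (hLM : ∀ g : G, L ≠ M.map (MulAut.conj g).toMonoidHom)
    (hσ : orderOf u ∉ sigma L) (hvL : v ∈ L) (hvo : orderOf v = t) (htσ : t ∉ sigma L)
    (hv : v ∈ centralizer (sigmaCore L : Set G)) : t ∈ tau2 L := by
  refine ⟨ht.out, htσ, SigmaCompl.rank_le c.hG hL ht.out htσ, fun h1 => ?_⟩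
  obtain ⟨y, hy, hy1⟩ := (bot_or_exists_ne_one _).resolve_left (Sigma.sigmaCore_ne_bot c.hG hL)
  exact (Set.eq_empty_iff_forall_notMem.mp (c.kappa_empty hL hLM hσ)) t
    (mem_kappa c.hG hvL hvo htσ h1 hy hy1 (mem_centralizer_iff.mp hv y hy).symm)

/-- The primes of `U` move to `σ(L)`. -/
theorem P2.sigma_of_U (hL : IsCoatom L) (hLM : ∀ g : G, L ≠ M.map (MulAut.conj g).toMonoidHom)
    (huL : u ∈ L) (hσ : orderOf u ∉ sigma L) (hd : t ∣ Nat.card U) (hUL : U ≤ L) : t ∈ sigma L := by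
  by_contra htσ
  obtain ⟨Y, hY⟩ := exists_omega c.data.hUc t
  have hYt : IsPGroup t Y := fun y => ⟨1, Subtype.ext (by simpa using ((hY y).mp y.2).2)⟩
  have huY : u ∈ normalizer (Y : Set G) := mem_normalizer_iff.mpr fun x => by
    have hn := mem_normalizer_iff.mp (c.hKU.normal c.hu) x
    rw [hY, hY, conj_pow]
    refine ⟨fun h => ⟨hn.mp h.1, by rw [h.2]; group⟩, fun h => ⟨hn.mpr h.1, conj_eq_one_iff.mp h.2⟩⟩
  obtain ⟨v, hv⟩ := exists_prime_orderOf_dvd_card' t hd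
  rw [← orderOf_coe] at hv
  have hv1 := KappaCentral.ne_one_of_order hv
  have hvY : (v : G) ∈ Y := (hY _).mpr ⟨v.2, hv ▸ pow_orderOf_eq_one _⟩
  have hYL : Y ≤ L := fun x hx => hUL ((hY x).mp hx).1
  have hYC := c.centralizes hL hLM huL hσ hYL huY (fun y hy e => c.fpf ((hY y).mp hy).1 e.eq) hYt htσ
  have hτ := c.tau2_of_centralizes hL hLM hσ (hYL hvY) hv htσ (hYC hvY)
  have hpow : ∀ p : ℕ, p.Prime → p ∣ Nat.card ↥(Y ⊔ zpowers u) → p ∉ sigma L := fun p hp hpd => by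
    have hpd' : p ∣ Nat.card Y * Nat.card (zpowers u) := by
      refine hpd.trans ?_
      rw [Coprime.card_sup_of_disjoint (zpowers_le.mpr huY) (disjoint_iff.mpr (eq_bot_iff.mpr fun x hx => ?_))]
      obtain ⟨hxY, hxu⟩ := mem_inf.mp hx
      obtain ⟨i, rfl⟩ := mem_zpowers_iff.mp hxu
      exact mem_bot.mpr (c.fpf ((hY _).mp hxY).1 ((Commute.refl u).zpow_right i).eq)
    rcases hp.dvd_mul.mp hpd' with h1 | h1
    · exact eq_of_dvd_pow_card hp hYt h1 ▸ htσ
    · rw [Nat.card_zpowers] at h1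
      exact c.u_el p hp h1 ▸ hσ
  obtain ⟨E, hE, hle⟩ := Compl.exists_compl_ge c.hG hL (sup_le hYL (zpowers_le.mpr huL)) hpow
  obtain ⟨A, hAE, hctx⟩ := SigmaCompl.exists_ctx c.hG hL hE hτ
  have hvA : (v : G) ∈ A := hctx.mem_of_pow hE hAE (hle (mem_sup_left hvY)) (hv ▸ pow_orderOf_eq_one _)
  have huA : u ∈ normalizer (A : Set G) :=
    hctx.le_normalizer_compl hE hAE (hle (mem_sup_right (mem_zpowers u)))
  obtain ⟨s, hs, hs1, hus⟩ : ∃ s ∈ A, s ≠ 1 ∧ Commute u s := by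
    by_contra hcon
    have hAC := c.centralizes hL hLM huL hσ hctx.hAM huA
      (fun y hy e => by_contra fun h1 => hcon ⟨y, hy, h1, e⟩) hctx.hA.isPGroup htσ
    refine Sigma.sigmaCore_ne_bot c.hG hL ?_
    rw [← (S1417.result c.hG L hL t hτ A ⟨hctx.hAM, hctx.hA.el, hctx.hA.card⟩).2.2.2.1, eq_comm,
      inf_eq_left]
    exact le_centralizer_iff.mp hAC
  have hso : orderOf s = t := orderOf_eq_prime (hctx.hA.el.2 s hs) hs1
  have hsC : s ∈ centralizer ({u} : Set G) := mem_centralizer_singleton_iff.mpr hus.symm.eq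
  rcases S1432.result c.hG S c.h.hH u c.u_core c.u_ne s (mem_inf.mpr ⟨c.centralizer_u_le hsC, hsC⟩) hs1
    (fun p hp hpd => by
      rw [hso] at hpd
      exact (Nat.prime_dvd_prime_iff_eq hp ht.out).mp hpd ▸ c.not_sigma_U hd) with ⟨hκ, -⟩ | ⟨-, -, hCs, -⟩
  · exact KappaDecomp.not_sigma_of_dvd c.hG c.h.hM c.hKU ht.out hd
      (c.kappa_partner (hκ t ht.out (hso.symm ▸ dvd_rfl)))
  · have hvS : (v : G) ∈ S := hCs (mem_centralizer_singleton_iff.mpr
      (Components.Hyperplane.mem_comm hctx.hA.el hvA hs))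
    have hvZ := c.h.inter.le (mem_inf.mpr ⟨c.hKU.compl.1 v.2, hvS⟩)
    exact hv1 (c.fpf v.2 (c.h.comm (mem_sup_left c.hu) hvZ))

/-- The maximal subgroup over the normaliser of a Sylow subgroup `R` of `U`. -/
theorem P2.over {R : Sylow t U} (hd : t ∣ Nat.card U) (hH : IsCoatom H)
    (hN : normalizer (((R : Subgroup U).map U.subtype : Subgroup G) : Set G) ≤ H) :
    (∀ g : G, H ≠ M.map (MulAut.conj g).toMonoidHom) ∧ orderOf u ∉ sigma H ∧ u ∈ H ∧
      kappa H = ∅ ∧ U ≤ sigmaCore H ∧ M ⊓ H = U ⊔ K ∧ ¬ H ⊓ normalizer (U : Set G) ≤ M := by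
  set P := (R : Subgroup U).map U.subtype with hP
  have hPU : P ≤ U := map_subtype_le _
  have hUc := c.data.hUc
  have hUP : U ≤ normalizer (P : Set G) := fun a ha => centralizer_le_normalizer _
    (mem_centralizer_iff.mpr fun b hb => congrArg Subtype.val (hUc.is_comm.comm ⟨b, hPU hb⟩ ⟨a, ha⟩))
  have hPp : IsPGroup t P := R.isPGroup'.map _
  have hPi : ¬ t ∣ P.relIndex U := by
    rw [relIndex, hP, subgroupOf, comap_map_eq_self_of_injective U.subtype_injective]
    have hRn : (R : Subgroup U).Normal := ⟨fun a ha b => by rwa [hUc.is_comm.comm b a, mul_inv_cancel_right]⟩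
    exact R.not_dvd_index
  have hKP : K ≤ normalizer (P : Set G) := fun k hk => map_conj_eq_self_iff.mp (by
    refine eq_of_le_of_card_ge ?_ (by rw [card_map_conj])
    rintro _ ⟨x, hx, rfl⟩
    refine KappaDecomp.mem_of_normal_coprime hUP hPU
      ((mem_normalizer_iff.mp (c.hKU.normal hk) x).mp (hPU hx))
      (Nat.coprime_of_dvd fun p hp h1 h2 => hPi ?_)
    have : p = t := eq_of_dvd_pow_card hp hPp
      ((((MulAut.conj k).orderOf_eq x).symm ▸ h1 : p ∣ orderOf x).trans (orderOf_dvd_natCard _ hx))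
    exact this ▸ h2)
  have huH : u ∈ H := hN (hKP c.hu)
  have hUH : U ≤ H := hUP.trans hN
  have hKH : K ≤ H := hKP.trans hN
  have hP1 : P ≠ ⊥ := fun e => hPi (by rw [e, relIndex_bot_left]; exact hd)
  have hHM : ∀ g : G, H ≠ M.map (MulAut.conj g).toMonoidHom := by
    intro g e
    have htσ := KappaDecomp.not_sigma_of_dvd c.hG c.h.hM c.hKU ht.out hd
    obtain ⟨S₀, hS₀⟩ := hPp.exists_le_sylow
    rcases eq_or_lt_of_le hS₀ with heq | hlt
    · refine htσ ?_
      rw [← sigma_eq (M := M) g, ← e]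
      exact OddLocal.mem_sigma c.hG S₀ (hd.trans (card_subgroup_dvd_card U)) (by rw [← heq]; exact hN)
    · have hgt := Transitivity.inf_normalizer_gt S₀.isPGroup' hlt
      set T := normalizer (P : Set G) ⊓ (S₀ : Subgroup G)
      have hTp : IsPGroup t T := S₀.isPGroup'.to_le inf_le_right
      have hTd : Nat.card T ∣ Nat.card M := by
        rw [← card_map_conj M g, ← e]
        exact card_dvd_of_le (inf_le_left.trans hN)
      have hE := KappaDecomp.isCompl c.hKU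
      rw [← Compl.card_mul hE, KappaDecomp.card_compl c.hKU,
        ← show Nat.card P * P.relIndex U = Nat.card U by
          rw [← Nat.card_congr (subgroupOfEquivOfLe hPU).toEquiv]
          exact card_mul_index (P.subgroupOf U)] at hTd
      obtain ⟨n, hn⟩ := hTp.exists_card_eq
      rw [hn, mul_assoc, mul_assoc] at hTd
      have hco : (t ^ n).Coprime (P.relIndex U * (Nat.card K * Nat.card (sigmaCore M))) := by
        refine Nat.Coprime.pow_left _ (ht.out.coprime_iff_not_dvd.mpr fun h1 => ?_)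
        rcases ht.out.dvd_mul.mp h1 with h2 | h2
        · exact hPi h2
        rcases ht.out.dvd_mul.mp h2 with h2 | h2
        · exact KappaDecomp.not_kappa_of_dvd c.hKU ht.out hd (c.hKU.hall.2.1 t ht.out h2)
        · exact htσ (Transitivity.isPi_piCoreOf (sigma M) M t ht.out h2)
      have := Nat.le_of_dvd Nat.card_pos (hco.dvd_of_dvd_mul_right hTd)
      omega
  have hpσ : orderOf u ∉ sigma H := fun hσ => by
    obtain rfl := c.eq_partner hH huH hσ
    obtain ⟨x, hx, hx1⟩ := (bot_or_exists_ne_one P).resolve_left hP1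
    have hxZ := c.h.inter.le (mem_inf.mpr ⟨c.hKU.compl.1 (hPU hx), hN (le_normalizer hx)⟩)
    exact hx1 (c.fpf (hPU hx) (c.h.comm (mem_sup_left c.hu) hxZ))
  have hUσ : U ≤ sigmaCore H := fun x hx => mem_core_of_piEl c.hG hH (hUH hx) fun p hp hpd => by
    have := Fact.mk hp
    exact c.sigma_of_U hH hHM huH hpσ (hpd.trans (orderOf_dvd_natCard U hx)) hUH
  have hnil := c.core_nilpotent hH hHM huH hpσ
  have hinter : M ⊓ H = U ⊔ K := by
    have hE := KappaDecomp.isCompl c.hKU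
    refine le_antisymm (fun m hm => ?_) (le_inf hE.1 (sup_le hUH hKH))
    obtain ⟨hmM, hmH⟩ := mem_inf.mp hm
    obtain ⟨e, he, s, hs, rfl⟩ := hE.2.2.2 m hmM
    have hsH : s ∈ H := by
      have := mul_mem (inv_mem ((sup_le hUH hKH) he)) hmH
      rwa [inv_mul_cancel_left] at this
    have hsC : s ∈ sigmaCore M ⊓ centralizer (U : Set G) := mem_inf.mpr ⟨hs,
      mem_centralizer_iff.mpr fun a ha => (KappaOver.inter_comm c.hG c.h.hM hH hHM hs hsH (hUσ ha)
        (c.hKU.compl.1 ha)).symm⟩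
    rw [(fixed_eq_bot c.hG c.h.hM c.h.hK c.data c.notP1).1, mem_bot] at hsC
    rwa [hsC, mul_one]
  refine ⟨hHM, hpσ, huH, c.kappa_empty hH hHM hpσ, hUσ, hinter, fun hle => ?_⟩
  have hlow : sigmaCore H ⊓ normalizer (U : Set G) ≤ U := fun x hx => by
    obtain ⟨hxH, hxN⟩ := mem_inf.mp hx
    have hxE := hinter.le (mem_inf.mpr ⟨hle (mem_inf.mpr ⟨Sigma.sigmaCore_le H hxH, hxN⟩),
      Sigma.sigmaCore_le H hxH⟩)
    obtain ⟨a, ha, k, hk, rfl⟩ := KappaDecomp.exists_mul_sup c.hKU.normal hxE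
    have hk1 : k ∈ sigmaCore H := by
      have := mul_mem (inv_mem (hUσ ha)) hxH
      rwa [inv_mul_cancel_left] at this
    have : k = 1 := eq_one_of_both (mem_sigma_core hk1) fun p hp hpd => by
      rw [← c.hKu] at hk
      rw [Set.mem_ofPred_eq,
        c.u_el p hp (hpd.trans ((orderOf_dvd_natCard _ hk).trans (Nat.card_zpowers u).dvd))]
      exact hpσ
    rwa [this, mul_one]
  rcases eq_or_lt_of_le hUσ with heq | hlt
  · refine hHM 1 ?_
    rw [Transfer.Fusion.map_conj_one]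
    refine (hH.le_iff.mp ((le_inf le_rfl ?_).trans hle)).resolve_left c.h.hM.1 |>.symm
    rw [heq]; exact Sigma.le_normalizer_sigmaCore H
  · have := hnil
    have hlt' := Group.normalizerCondition_of_isNilpotent (G := sigmaCore H) (U.subgroupOf (sigmaCore H))
      (lt_top_iff_ne_top.mpr fun htop => hlt.not_ge (subgroupOf_eq_top.mp htop))
    rw [← subgroupOf_normalizer_eq hlt.le] at hlt'
    exact hlt'.not_ge fun x hx => hlow (mem_inf.mpr ⟨x.2, hx⟩)

/-- No prime of `σ(M)` has rank two outside `σ`. -/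
theorem P2.not_tau2 (htM : t ∈ sigma M) (hL : IsCoatom L) (hτ : t ∈ tau2 L) : False := by
  obtain ⟨B, hBL, hBe, hBc⟩ := Unique.exists_elementary_of_not_pRankLE hτ.2.2.2
  have hB := TauTwo.max2 c.hG hL hτ hBL hBe hBc
  obtain ⟨T, hTM, -⟩ := Sigma.exists_sylow_normalizer_le htM
  obtain ⟨T', hBT⟩ := hB.isPGroup.exists_le_sylow
  obtain ⟨g, hg⟩ := MulAction.exists_smul_eq G T T'
  have hmemg : ∀ x : G, g * x * g⁻¹ ∈ (T' : Subgroup G) ↔ x ∈ (T : Subgroup G) := fun x => by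
    rw [← hg, Transfer.Fusion.coe_smul_eq_map, mem_conj_iff]
    simp [mul_assoc]
  obtain ⟨C, hC⟩ : ∃ C : Subgroup G, C = (T : Subgroup G) ⊓ centralizer ((T : Subgroup G) : Set G) :=
    ⟨_, rfl⟩
  obtain ⟨Z, hZ⟩ := exists_omega (U := C)
    ⟨⟨fun a b => Subtype.ext (by
      have ha := hC.le a.2
      have hb := hC.le b.2
      exact (mem_centralizer_iff.mp (mem_inf.mp hb).2 a (mem_inf.mp ha).1))⟩⟩ t
  have hTσ : (T : Subgroup G) ≤ sigmaCore M :=
    Sigma.sylow_le_sigmaCore c.hG c.h.hM htM T.isPGroup' hTM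
  obtain ⟨hCU, hnil⟩ := fixed_eq_bot c.hG c.h.hM c.h.hK c.data c.notP1
  set T₀ : Sylow t (sigmaCore M) := T.subtype hTσ with hT₀
  have hT₀n : (T₀ : Subgroup (sigmaCore M)).Normal :=
    (Group.isNilpotent_of_finite_tfae.out 0 3 rfl rfl).mp hnil t inferInstance T₀
  have hMT : M ≤ normalizer ((T : Subgroup G) : Set G) := fun m hm => map_conj_eq_self_iff.mp (by
    refine eq_of_le_of_card_ge ?_ (by rw [card_map_conj])
    rintro _ ⟨x, hx, rfl⟩
    have hxσ : m * x * m⁻¹ ∈ sigmaCore M :=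
      (mem_normalizer_iff.mp (Sigma.le_normalizer_sigmaCore M hm) x).mp (hTσ hx)
    have := KappaDecomp.mem_of_normal_coprime (N := (T₀ : Subgroup (sigmaCore M)))
      (H := ⊤) (le_top.trans (normalizer_eq_top_iff.mpr hT₀n).ge) le_top (x := ⟨_, hxσ⟩) (mem_top _)
      (by
        rw [relIndex_top_right]
        refine Nat.coprime_of_dvd fun p hp h1 h2 => T₀.not_dvd_index ?_
        have hpt : p = t := eq_of_dvd_pow_card hp T.isPGroup'
          (((((MulAut.conj m).orderOf_eq x).symm ▸ (by simpa [← orderOf_coe] using h1)) :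
            p ∣ orderOf x).trans (orderOf_dvd_natCard _ hx))
        exact hpt ▸ h2)
    exact this)
  have hMZ : M ≤ normalizer (Z : Set G) := fun m hm => map_conj_eq_self_iff.mp (by
    refine eq_of_le_of_card_ge ?_ (by rw [card_map_conj])
    rintro _ ⟨x, hx, rfl⟩
    obtain ⟨hxC, hxp⟩ := (hZ x).mp hx
    rw [hC] at hxC
    refine (hZ _).mpr ⟨hC.ge (mem_inf.mpr ⟨(mem_normalizer_iff.mp (hMT hm) x).mp (mem_inf.mp hxC).1,
      Sigma.centralizer_conj (hMT hm) (mem_inf.mp hxC).2⟩), ?_⟩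
    show (m * x * m⁻¹) ^ t = 1
    rw [conj_pow, hxp]; group)
  have hZσ : Z ≤ sigmaCore M := fun x hx => hTσ (mem_inf.mp (hC ▸ ((hZ x).mp hx).1)).1
  have hZcard : Nat.card Z ≤ t ^ 2 := by
    rw [← hB.card, ← card_map_conj Z g]
    refine Subgroup.card_le_of_le ?_
    rintro _ ⟨x, hx, rfl⟩
    obtain ⟨hxC, hxp⟩ := (hZ x).mp hx
    rw [hC] at hxC
    refine hB.omega _ (mem_centralizer_iff.mpr fun b hb => ?_) ?_
    · have hbT : g⁻¹ * b * g ∈ (T : Subgroup G) := (hmemg _).mp (by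
        simpa [mul_assoc] using hBT hb)
      have h1 := mem_centralizer_iff.mp (mem_inf.mp hxC).2 _ hbT
      show b * (g * x * g⁻¹) = g * x * g⁻¹ * b
      calc b * (g * x * g⁻¹) = g * ((g⁻¹ * b * g) * x) * g⁻¹ := by group
        _ = g * (x * (g⁻¹ * b * g)) * g⁻¹ := by rw [h1]
        _ = g * x * g⁻¹ * b := by group
    · show (g * x * g⁻¹) ^ t = 1
      rw [conj_pow, hxp]; group
  have hZ1 : Z ≠ ⊥ := by
    intro e
    have hTnt : Nontrivial (T : Subgroup G) := by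
      rw [nontrivial_iff_ne_bot]
      exact T.ne_bot_of_dvd_card (htM.2.1.trans (card_subgroup_dvd_card M))
    have hcn := T.isPGroup'.center_nontrivial
    obtain ⟨n, hn⟩ := (T.isPGroup'.to_subgroup (center (T : Subgroup G))).exists_card_eq
    have hn0 : n ≠ 0 := fun e' => by
      rw [e', pow_zero] at hn
      exact absurd hn ((Subgroup.one_lt_card_iff_ne_bot _).mpr ((nontrivial_iff_ne_bot _).mp hcn)).ne'
    obtain ⟨z, hz⟩ := exists_prime_orderOf_dvd_card' t (hn ▸ dvd_pow_self t hn0)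
    rw [← orderOf_coe, ← orderOf_coe] at hz
    have hzZ : ((z : (T : Subgroup G)) : G) ∈ Z := (hZ _).mpr ⟨hC.ge (mem_inf.mpr
      ⟨(z : (T : Subgroup G)).2, mem_centralizer_iff.mpr fun b hb =>
        congrArg Subtype.val (mem_center_iff.mp z.2 ⟨b, hb⟩)⟩), orderOf_dvd_iff_pow_eq_one.mp hz.dvd⟩
    exact KappaCentral.ne_one_of_order hz (mem_bot.mp (e ▸ hzZ))
  have hd := c.data
  have hE := KappaDecomp.isCompl c.hKU
  have hZn : Group.IsNilpotent Z := Cores.isNilpotent_to_le hZσ hnil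
  have hfix : ∀ k ∈ K, k ≠ 1 → Z ⊓ centralizer ({k} : Set G) = Z ⊓ centralizer (K : Set G) :=
    fun k hk hk1 => le_antisymm (le_inf inf_le_left ((le_inf (inf_le_left.trans hZσ) inf_le_right).trans
      ((hd.fixed k hk hk1).le.trans inf_le_right)))
      (inf_le_inf_left _ (Subgroup.centralizer_le (Set.singleton_subset_iff.mpr hk)))
  obtain ⟨hKp, hcard, -⟩ := S1446.result U K Z c.hU1 c.h.hK1 (KappaDecomp.inf_kappa_eq_bot c.hKU)
    c.hKU.normal hd.fpf
    (Transitivity.isSolvable_of_ne_top c.hG fun e => c.h.hM.1 (top_le_iff.mp (e ▸ hE.1)))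
    (Sigma.odd_card c.hG _) hZ1 hZn (c.hKU.compl.1.trans hMZ) (c.hKU.hall.1.trans hMZ)
    ((SigmaMeet.coprime_card c.hG c.h.hM hE).coprime_dvd_right (card_dvd_of_le hZσ))
    (le_bot_iff.mp ((inf_le_inf_right _ hZσ).trans hCU.le)) hfix
  set a := Nat.card ↥(Z ⊓ centralizer (K : Set G))
  have hKodd := Sigma.odd_card c.hG K
  have h3 : 3 ≤ Nat.card K := by
    obtain ⟨i, hi⟩ := hKodd
    have := hKp.two_le
    omega
  have hat : t ≤ a := by
    have hZp : IsPGroup t ↥(Z ⊓ centralizer (K : Set G)) := fun x => ⟨1, Subtype.ext (by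
      simpa using ((hZ x).mp (mem_inf.mp x.2).1).2)⟩
    obtain ⟨n, hn⟩ := hZp.exists_card_eq
    have hn0 : n ≠ 0 := fun e => hZ1 (card_eq_one.mp (by
      rw [hcard, show a = t ^ n from hn, e, pow_zero, one_pow]))
    rw [show a = t ^ n from hn]
    exact Nat.le_self_pow hn0 t
  have h2 : t ^ 3 ≤ t ^ 2 :=
    calc t ^ 3 ≤ a ^ 3 := Nat.pow_le_pow_left hat 3
      _ ≤ a ^ Nat.card K := Nat.pow_le_pow_right (ht.out.pos.trans_le hat) h3
      _ ≤ t ^ 2 := hcard ▸ hZcard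
  exact absurd h2 (Nat.not_le.mpr (Nat.pow_lt_pow_right ht.out.one_lt (by norm_num)))

end Cfsg.Agent.OddLocal.PType
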