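import Cfsg.Agent.OddLocal.TypeOneTwo
import Cfsg.Agent.S1362
import Cfsg.Agent.S1371
import Cfsg.Agent.S1372

/-!
# The sets attached to a maximal subgroup of type II are TI
-/

set_option autoImplicit false
set_option linter.unusedSectionVars false

namespace Cfsg.Agent.OddLocal.TypeTwo

open Cfsg Subgroup

variable {G : Type*} [Group G] [Finite G] {M K U : Subgroup G}

/-- A nonempty set of nonidentity elements of `M` stable under `M` has normaliser `M`. -/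
theorem normalizer_eq (hG : IsMinSimpleOddOrder G) (hM : IsCoatom M) {X : Set G}
    (hst : ∀ m ∈ M, ∀ a ∈ X, m * a * m⁻¹ ∈ X) (hsub : X ⊆ (M : Set G)) {x : G} (hx : x ∈ X) (hx1 : x ≠ 1) :
    normalizer X = M := by
  rcases lt_or_eq_of_le (PType.mem_normalizer_of_stable hst) with h | h
  · exfalso
    have htop := hM.2 _ h
    have hn : (closure X).Normal := by
      refine ⟨fun n hn g => ?_⟩
      have : (closure X).map (MulAut.conj g).toMonoidHom ≤ closure X := by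
        rw [MonoidHom.map_closure, closure_le]
        rintro _ ⟨y, hy, rfl⟩
        exact subset_closure ((mem_set_normalizer_iff.mp (htop ▸ mem_top g : g ∈ normalizer X) y).1 hy)
      exact this ⟨n, hn, rfl⟩
    have : IsSimpleGroup G := hG.2.1
    rcases hn.eq_bot_or_eq_top with e | e
    · exact hx1 (mem_bot.mp (e ▸ subset_closure hx))
    · exact hM.1 (top_le_iff.mp (e ▸ (closure_le M).mpr hsub))
  · exact h.symm

theorem orderOf_conj (g x : G) : orderOf (g * x * g⁻¹) = orderOf x := (MulAut.conj g).orderOf_eq x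

/-- Type `P` data are conjugate to `K` and `K*`. -/
theorem data_conj (hG : IsMinSimpleOddOrder G) (hM : IsCoatom M) (hKU : IsSigmaDecomposition M K U) (hK1 : K ≠ ⊥)
    {W₁ V W₂ : Subgroup G} (hP : IsTypePWith M W₁ V W₂) : ∃ m ∈ M, W₁ = K.map (MulAut.conj m).toMonoidHom ∧
      W₂ = (sigmaCore M ⊓ centralizer (K : Set G)).map (MulAut.conj m).toMonoidHom := by
  have hc : Nat.card W₁ = Nat.card K := by
    obtain ⟨a1, a2, a3, a4⟩ := hP.W₁_compl
    obtain ⟨b1, b2, b3, b4⟩ := Types.compl_commutator hG hM hKU hK1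
    exact Nat.eq_of_mul_eq_mul_left Nat.card_pos ((Basics.card_eq_of_isCompl' a1 a2 a3 a4).symm.trans
      (Basics.card_eq_of_isCompl' b1 b2 b3 b4))
  obtain ⟨m, hm, hle⟩ := PType.exists_conj_le_hall hG hM hKU.hall hP.W₁_compl.2.1
    (fun p hp hd => hKU.hall.2.1 p hp (hc ▸ hd))
  have hW : W₁ = K.map (MulAut.conj m).toMonoidHom :=
    eq_of_le_of_card_ge hle (by rw [card_map_of_injective (MulAut.conj m).injective, hc])
  refine ⟨m, hm, hW, ?_⟩
  obtain ⟨k, hk, hk1⟩ := (bot_or_exists_ne_one K).resolve_left hK1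
  have hx : m * k * m⁻¹ ∈ W₁ := hW ▸ ⟨k, hk, rfl⟩
  have hx1 : m * k * m⁻¹ ≠ 1 := fun e => hk1 (conj_eq_one_iff.mp e)
  have hMn : ∀ y : G, y ∈ ⁅M, M⁆ ↔ m⁻¹ * y * m ∈ ⁅M, M⁆ := by
    have hn : M ≤ normalizer ((⁅M, M⁆ : Subgroup G) : Set G) :=
      OddLocal.Coprime.le_normalizer_commutator_self le_normalizer
    intro y
    have := mem_normalizer_iff.mp (hn (inv_mem hm)) y
    rwa [inv_inv] at this
  rw [← hP.W₂_centralizer _ hx hx1, ← Types.centralizer_commutator hG hM hKU hK1 hk hk1]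
  ext y
  rw [mem_map_equiv, MulAut.conj_symm_apply, mem_inf, mem_inf, mem_centralizer_singleton_iff,
    mem_centralizer_singleton_iff, ← hMn y]
  refine and_congr_right fun _ => ⟨fun h => ?_, fun h => ?_⟩
  · calc m⁻¹ * y * m * k = m⁻¹ * (y * (m * k * m⁻¹)) * m := by group
      _ = m⁻¹ * (m * k * m⁻¹ * y) * m := by rw [h]
      _ = k * (m⁻¹ * y * m) := by group
  · calc y * (m * k * m⁻¹) = m * (m⁻¹ * y * m * k) * m⁻¹ := by group
      _ = m * (k * (m⁻¹ * y * m)) * m⁻¹ := by rw [h]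
      _ = m * k * m⁻¹ * y := by group

/-- Everything about a maximal subgroup of type II in terms of a standard factorisation. -/
theorem ti (hG : IsMinSimpleOddOrder G) (hM : IsCoatom M) (hII : IsOfTypeII M) :
    (IsTISubset (typeA0 M) ∧ normalizer (typeA0 M) = M) ∧ (IsTISubset (typeA M) ∧ normalizer (typeA M) = M) ∧
      (IsTISubset (typeA1 M) ∧ normalizer (typeA1 M) = M) := by
  obtain ⟨K, U, hKU⟩ := Fcore.exists_decomp hG hM
  obtain ⟨hK1, hU1⟩ := Types.of_typeII hG hM hKU hII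
  obtain ⟨hσ, -⟩ := Types.sigmaCore_eq_of_U_ne hG hM hKU hU1
  have hI : ¬ IsOfTypeI M := fun h => hK1 (Types.of_typeI hG hM hKU h).1
  set S := sigmaCore M with hS
  have hSM : S ≤ M := Sigma.sigmaCore_le M
  have hcomm : ⁅M, M⁆ = U ⊔ S := PType.commutator_eq hG hM hKU hK1
  have hcore : typeCore M = S := Types.typeCore_eq hG hM
  have hA1 : typeA1 M = (S : Set G) \ {1} := by rw [typeA1, hcore]
  have hA : typeA M = {a | a ∈ U ⊔ S ∧ a ≠ 1 ∧ ∃ x ∈ S, x ≠ 1 ∧ a * x = x * a} := by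
    rw [typeA, if_neg hI, hcore, hcomm]
  have hB := Types.typeA_diff_eq hG hM hKU hσ.symm (Or.inr ⟨hI, hK1⟩)
  have h1sub : typeA1 M ⊆ typeA M := by
    rw [hA1, hA]
    rintro a ⟨ha, ha1⟩
    exact ⟨mem_sup_right ha, ha1, a, ha, ha1, rfl⟩
  set Ks := S ⊓ centralizer (K : Set G) with hKs
  set Z := {a : G | ∃ m ∈ M, ∃ z ∈ ((↑(K ⊔ Ks) : Set G) \ ((K : Set G) ∪ ↑Ks)), a = m * z * m⁻¹} with hZ
  have hdata := fun W₁ V W₂ (hP : IsTypePWith M W₁ V W₂) => data_conj hG hM hKU hK1 hP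
  rw [← hS, ← hKs] at hdata
  obtain ⟨hZeq, hZti⟩ := S1371.result hG M hM K U hKU hK1
  rw [← hS, ← hKs, ← hZ] at hZeq
  have hA0 : typeA0 M = typeA M ∪ Z := by
    rw [typeA0]
    refine congrArg (typeA M ∪ ·) (Set.ext fun v => ⟨?_, ?_⟩)
    · rintro ⟨-, W₁, V, W₂, hP, n, hn, w, hw, hw1, hw2, rfl⟩
      obtain ⟨m, hm, rfl, rfl⟩ := hdata W₁ V W₂ hP
      rw [← Subgroup.map_sup] at hw
      obtain ⟨z, hz, rfl⟩ := hw
      refine ⟨n * m, mul_mem hn hm, z, ⟨hz, ?_⟩, ?_⟩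
      · rintro (h | h)
        exacts [hw1 ⟨z, h, rfl⟩, hw2 ⟨z, h, rfl⟩]
      · show n * (m * z * m⁻¹) * n⁻¹ = _
        group
    · rintro ⟨n, hn, z, ⟨hz, hzn⟩, rfl⟩
      obtain ⟨W₁, V, W₂, hP, -⟩ := id hII
      obtain ⟨m, hm, rfl, rfl⟩ := hdata W₁ V W₂ hP
      refine ⟨hI, _, _, _, hP, n * m⁻¹, mul_mem hn (inv_mem hm), m * z * m⁻¹, ?_, ?_, ?_, by group⟩
      · rw [← Subgroup.map_sup]; exact ⟨z, hz, rfl⟩
      · rintro ⟨y, hy, e⟩
        exact hzn (Or.inl ((MulAut.conj m).injective e ▸ hy))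
      · rintro ⟨y, hy, e⟩
        exact hzn (Or.inr ((MulAut.conj m).injective e ▸ hy))
  -- the three pieces by the primes dividing the order
  have hSn : M ≤ normalizer (S : Set G) := Sigma.le_normalizer_sigmaCore M
  have hAM : typeA M ⊆ (M : Set G) := by
    rw [hA]; exact fun a ha => KappaDecomp.sup_le' hKU ha.1
  have memS : ∀ a ∈ M, ((∀ p : ℕ, p.Prime → p ∣ orderOf a → p ∈ sigma M) ↔ a ∈ S) := fun a ha => by
    refine ⟨fun h => KappaDecomp.mem_of_normal_coprime hSn hSM ha (Nat.coprime_of_dvd fun p hp h1 h2 =>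
      (Sigma.sigmaCore_hall hG hM).1.2.2 p hp (h p hp h1) h2), fun h p hp hd => ?_⟩
    exact Transitivity.isPi_piCoreOf (sigma M) M p hp (hd.trans (orderOf_dvd_natCard S h))
  have notκ : ∀ a ∈ typeA M, ∀ p : ℕ, p.Prime → p ∣ orderOf a → p ∉ kappa M := by
    rw [hA]
    intro a ha p hp hd hκ
    have h1 : p ∣ Nat.card ↥(U ⊔ S) := hd.trans (orderOf_dvd_natCard _ ha.1)
    rw [sup_comm] at h1
    rcases hp.dvd_mul.mp (h1.trans (RegularMain.card_sup_dvd (hKU.compl.1.trans hSn))) with h2 | h2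
    · exact KappaDecomp.kappa_not_sigma hκ (Transitivity.isPi_piCoreOf (sigma M) M p hp h2)
    · exact KappaDecomp.not_kappa_of_dvd hKU hp h2 hκ
  have hasκ : ∀ a ∈ Z, a ∈ M ∧ a ≠ 1 ∧ ∃ p : ℕ, p.Prime ∧ p ∣ orderOf a ∧ p ∈ kappa M := by
    rintro _ ⟨m, hm, z, ⟨hz, hzn⟩, rfl⟩
    have hzM : z ∈ M := (sup_le hKU.hall.1 (inf_le_left.trans hSM)) hz
    refine ⟨mul_mem (mul_mem hm hzM) (inv_mem hm), fun e => hzn (Or.inl ?_), ?_⟩
    · rw [conj_eq_one_iff.mp e]; exact one_mem K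
    by_contra hcon
    push Not at hcon
    refine hzn (Or.inr ?_)
    obtain ⟨k, hk, c, hc, rfl⟩ := KappaDecomp.exists_mul_sup
      ((inf_le_right : Ks ≤ _).trans (centralizer_le_normalizer _)) hz
    have hks : Commute k c := mem_centralizer_iff.mp hc.2 k hk
    have hkκ : ∀ p : ℕ, p.Prime → p ∣ orderOf k → p ∈ kappa M := fun p hp hd =>
      hKU.hall.2.1 p hp (hd.trans (orderOf_dvd_natCard K hk))
    have hco : (orderOf k).Coprime (orderOf c) := Nat.coprime_of_dvd fun p hp h1 h2 =>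
      KappaDecomp.kappa_not_sigma (hkκ p hp h1)
        (Transitivity.isPi_piCoreOf (sigma M) M p hp (h2.trans (orderOf_dvd_natCard S hc.1)))
    obtain hk1 : k = 1 := orderOf_eq_one_iff.mp (Nat.eq_one_iff_not_exists_prime_dvd.mpr fun p hp hd =>
      hcon p hp (by
        rw [orderOf_conj, hks.orderOf_mul_eq_mul_orderOf_of_coprime hco]
        exact hd.mul_right _) (hkκ p hp hd))
    rw [hk1, one_mul]; exact hc
  -- stability
  have hst1 : ∀ m ∈ M, ∀ a ∈ typeA1 M, m * a * m⁻¹ ∈ typeA1 M := by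
    rw [hA1]
    exact fun m hm a ha => ⟨(mem_normalizer_iff.mp (hSn hm) a).mp ha.1, fun e => ha.2 (conj_eq_one_iff.mp e)⟩
  have hstA : ∀ m ∈ M, ∀ a ∈ typeA M, m * a * m⁻¹ ∈ typeA M := by
    rw [hA]
    rintro m hm a ⟨ha, ha1, x, hx, hx1, hax⟩
    refine ⟨?_, fun e => ha1 (conj_eq_one_iff.mp e), m * x * m⁻¹, (mem_normalizer_iff.mp (hSn hm) x).mp hx,
      fun e => hx1 (conj_eq_one_iff.mp e), ?_⟩
    · rw [← hcomm] at ha ⊢
      have hn : M ≤ normalizer ((⁅M, M⁆ : Subgroup G) : Set G) :=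
        OddLocal.Coprime.le_normalizer_commutator_self le_normalizer
      exact (mem_normalizer_iff.mp (hn hm) a).mp ha
    · calc m * a * m⁻¹ * (m * x * m⁻¹) = m * (a * x) * m⁻¹ := by group
        _ = m * (x * a) * m⁻¹ := by rw [hax]
        _ = m * x * m⁻¹ * (m * a * m⁻¹) := by group
  have hstZ : ∀ m ∈ M, ∀ a ∈ Z, m * a * m⁻¹ ∈ Z := by
    rintro m hm _ ⟨n, hn, z, hz, rfl⟩
    exact ⟨m * n, mul_mem hm hn, z, hz, by group⟩
  have hstB : ∀ m ∈ M, ∀ a ∈ typeA M \ typeA1 M, m * a * m⁻¹ ∈ typeA M \ typeA1 M := fun m hm a ha =>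
    ⟨hstA m hm a ha.1, fun h => ha.2 (by
      have := hst1 m⁻¹ (inv_mem hm) _ h
      simpa [mul_assoc] using this)⟩
  -- TI pieces
  have tiPiece : ∀ X : Set G, IsTISubset X → (∀ m ∈ M, ∀ a ∈ X, m * a * m⁻¹ ∈ X) → X ⊆ (M : Set G) →
      ∀ g : G, ∀ x ∈ X, g * x * g⁻¹ ∈ X → x ≠ 1 → g ∈ M := by
    intro X hX hst hsub g x hx hgx hx1
    rw [← normalizer_eq hG hM hst hsub hx hx1]
    by_contra hg
    exact hx1 (hX g hg x hx hgx)
  obtain ⟨y, hy, hy1⟩ := (bot_or_exists_ne_one S).resolve_left (Sigma.sigmaCore_ne_bot hG hM)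
  have hyA1 : y ∈ typeA1 M := by rw [hA1]; exact ⟨hy, hy1⟩
  have hFTI := (S1372.result hG M hM K U hKU hK1 hU1).2
  have case1 : ∀ g : G, ∀ x ∈ typeA1 M, g * x * g⁻¹ ∈ typeA1 M → g ∈ M := by
    rw [hA1]
    intro g x hx hgx
    refine tiPiece _ hFTI.1 (fun m hm a ha => (mem_normalizer_iff.mp (FittingTI.le_normalizer_fittingOf M hm) a).mp ha)
      (fun a ha => map_subtype_le _ ha) g x (hFTI.2 hx.1) (hFTI.2 hgx.1) hx.2
  have caseA : ∀ g : G, ∀ x ∈ typeA M, g * x * g⁻¹ ∈ typeA M → g ∈ M := by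
    intro g x hx hgx
    by_cases h : x ∈ typeA1 M
    · refine case1 g x h ?_
      rw [hA1] at h ⊢
      refine ⟨(memS _ (hAM hgx)).mp ?_, fun e => h.2 (conj_eq_one_iff.mp e)⟩
      rw [orderOf_conj]
      exact (memS x (hAM hx)).mpr h.1
    · have hx1 : x ≠ 1 := by rw [hA] at hx; exact hx.2.1
      refine tiPiece _ (by rw [hB]; exact S1362.result hG M hM K U hKU) hstB (fun a ha => hAM ha.1) g x ⟨hx, h⟩
        ⟨hgx, fun h' => h ?_⟩ hx1
      rw [hA1] at h' ⊢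
      refine ⟨(memS x (hAM hx)).mp ?_, hx1⟩
      rw [← orderOf_conj g]
      exact (memS _ (hAM hgx)).mpr h'.1
  have case0 : ∀ g : G, ∀ x ∈ typeA0 M, g * x * g⁻¹ ∈ typeA0 M → g ∈ M := by
    rw [hA0]
    intro g x hx hgx
    by_cases h : x ∈ typeA M
    · refine caseA g x h (hgx.resolve_right fun h' => ?_)
      obtain ⟨p, hp, hd, hκ⟩ := (hasκ _ h').2.2
      exact notκ x h p hp (orderOf_conj g x ▸ hd) hκ
    · have hxZ := hx.resolve_left h
      refine tiPiece _ (hZeq ▸ hZti) hstZ (fun a ha => (hasκ a ha).1) g x hxZ (hgx.resolve_left fun h' => ?_)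
        (hasκ x hxZ).2.1
      obtain ⟨p, hp, hd, hκ⟩ := (hasκ _ hxZ).2.2
      exact notκ _ h' p hp ((orderOf_conj g x).symm ▸ hd) hκ
  have hst0 : ∀ m ∈ M, ∀ a ∈ typeA0 M, m * a * m⁻¹ ∈ typeA0 M := by
    rw [hA0]
    rintro m hm a (ha | ha)
    exacts [Or.inl (hstA m hm a ha), Or.inr (hstZ m hm a ha)]
  have h0M : typeA0 M ⊆ (M : Set G) := by
    rw [hA0]; exact Set.union_subset hAM fun a ha => (hasκ a ha).1
  have n0 := normalizer_eq hG hM hst0 h0M (Set.mem_union_left _ (h1sub hyA1)) hy1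
  have nA := normalizer_eq hG hM hstA hAM (h1sub hyA1) hy1
  have n1 := normalizer_eq hG hM hst1 (h1sub.trans hAM) hyA1 hy1
  refine ⟨⟨?_, n0⟩, ⟨?_, nA⟩, ⟨?_, n1⟩⟩
  · exact fun g hg x hx hgx => absurd (n0.symm ▸ case0 g x hx hgx) hg
  · exact fun g hg x hx hgx => absurd (nA.symm ▸ caseA g x hx hgx) hg
  · exact fun g hg x hx hgx => absurd (n1.symm ▸ case1 g x hx hgx) hg

end Cfsg.Agent.OddLocal.TypeTwo
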