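import Cfsg.Agent.OddLocal.SigmaParts

/-! The standard factorisation `M = K U M_σ`. -/

set_option autoImplicit false
set_option linter.unusedSectionVars false

namespace Cfsg.Agent.OddLocal.KappaDecomp

open Cfsg Subgroup KappaStructure SigmaParts

variable {G : Type*} [Group G] [Finite G] {M E K U : Subgroup G}

/-- An element of order prime to the index of a normalised subgroup lies in it. -/
theorem mem_of_normal_coprime {N H : Subgroup G} (hn : H ≤ normalizer (N : Set G)) (hNH : N ≤ H) {x : G}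
    (hx : x ∈ H) (hc : (orderOf x).Coprime (N.relIndex H)) : x ∈ N := by
  have : (N.subgroupOf H).Normal := (normal_subgroupOf_iff_le_normalizer hNH).mpr hn
  have h1 : orderOf ((QuotientGroup.mk' (N.subgroupOf H)) ⟨x, hx⟩) = 1 := by
    refine Nat.eq_one_of_dvd_coprimes hc ((orderOf_map_dvd _ _).trans ?_) (orderOf_dvd_natCard _)
    rw [← orderOf_coe]
  exact mem_subgroupOf.mp ((QuotientGroup.eq_one_iff _).mp (orderOf_eq_one_iff.mp h1))

theorem exists_mul_sup {A B : Subgroup G} (h : B ≤ normalizer (A : Set G)) {x : G} (hx : x ∈ A ⊔ B) :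
    ∃ a ∈ A, ∃ b ∈ B, x = a * b := by
  rw [← SetLike.mem_coe, coe_mul_of_right_le_normalizer_left A B h] at hx
  obtain ⟨a, ha, b, hb, rfl⟩ := Set.mem_mul.mp hx
  exact ⟨a, ha, b, hb, rfl⟩

theorem kappa_not_sigma {t : ℕ} (h : t ∈ kappa M) : t ∉ sigma M := h.2.2.1

theorem inf_core_eq_bot (hK : IsPiHallOf (kappa M) K M) : K ⊓ sigmaCore M = ⊥ :=
  inf_eq_bot_of_coprime (Nat.coprime_of_dvd fun p hp h1 h2 =>
    kappa_not_sigma (hK.2.1 p hp h1) (Transitivity.isPi_piCoreOf (sigma M) M p hp h2))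

/-- `U ⊔ K` complements `M_σ`. -/
theorem isCompl (hKU : IsSigmaDecomposition M K U) : IsComplIn (U ⊔ K) (sigmaCore M) M := by
  obtain ⟨hUM, -, hd, hsplit⟩ := hKU.compl
  have hKM := hKU.hall.1
  refine ⟨sup_le hUM hKM, Sigma.sigmaCore_le M, ?_, fun m hm => ?_⟩
  · rw [eq_bot_iff]
    intro x hx
    obtain ⟨hx1, hx2⟩ := mem_inf.mp hx
    obtain ⟨u, hu, k, hk, rfl⟩ := exists_mul_sup hKU.normal hx1
    have hu1 : u ∈ U ⊓ (K ⊔ sigmaCore M) := mem_inf.mpr ⟨hu, by
      have := mul_mem (mem_sup_right (S := K) hx2) (inv_mem (mem_sup_left (T := sigmaCore M) hk))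
      rwa [mul_inv_cancel_right] at this⟩
    rw [hd, mem_bot] at hu1
    rw [hu1, one_mul] at hx2 ⊢
    exact (inf_core_eq_bot hKU.hall).le (mem_inf.mpr ⟨hk, hx2⟩)
  · obtain ⟨u, hu, b, hb, rfl⟩ := hsplit m hm
    rw [sup_comm] at hb
    obtain ⟨s, hs, k, hk, rfl⟩ := exists_mul_sup (hKM.trans (Sigma.le_normalizer_sigmaCore M)) hb
    exact ⟨u * k, mul_mem_sup hu hk, k⁻¹ * s * k,
      (mem_normalizer_iff''.mp (Sigma.le_normalizer_sigmaCore M (hKM hk)) s).mp hs, by group⟩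

theorem inf_kappa_eq_bot (hKU : IsSigmaDecomposition M K U) : U ⊓ K = ⊥ :=
  le_bot_iff.mp (le_trans (inf_le_inf_left U le_sup_left) hKU.compl.2.2.1.le)

theorem card_compl (hKU : IsSigmaDecomposition M K U) :
    Nat.card ↥(U ⊔ K) = Nat.card U * Nat.card K :=
  Coprime.card_sup_of_disjoint hKU.normal (disjoint_iff.mpr (inf_kappa_eq_bot hKU))

theorem not_kappa_of_dvd (hKU : IsSigmaDecomposition M K U) {t : ℕ} (ht : t.Prime)
    (hd : t ∣ Nat.card U) : t ∉ kappa M := fun hκ => by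
  refine hKU.hall.2.2 t ht hκ (hd.trans ?_)
  have hE := isCompl hKU
  have h1 : Nat.card K * K.relIndex M = Nat.card M := by
    rw [← Nat.card_congr (subgroupOfEquivOfLe hKU.hall.1).toEquiv]
    exact card_mul_index (K.subgroupOf M)
  refine Nat.dvd_of_mul_dvd_mul_left (Nat.card_pos : 0 < Nat.card K) ?_
  rw [h1, ← Compl.card_mul hE, card_compl hKU, mul_comm (Nat.card U)]
  exact Dvd.intro _ rfl

theorem not_sigma_of_dvd (hG : IsMinSimpleOddOrder G) (hM : IsCoatom M)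
    (hKU : IsSigmaDecomposition M K U) {t : ℕ} (ht : t.Prime) (hd : t ∣ Nat.card U) : t ∉ sigma M :=
  Compl.not_sigma hG hM (isCompl hKU) ht (hd.trans (card_dvd_of_le le_sup_left))

theorem dvd_of_not (hKU : IsSigmaDecomposition M K U) {t : ℕ} (ht : t.Prime)
    (hd : t ∣ Nat.card M) (hσ : t ∉ sigma M) (hκ : t ∉ kappa M) : t ∣ Nat.card U := by
  have h1 := Compl.dvd_of_dvd (isCompl hKU) ht hσ hd
  rw [card_compl hKU] at h1
  exact (ht.dvd_mul.mp h1).resolve_right fun h => hκ (hKU.hall.2.1 t ht h)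

/-- The given decomposition carries the data of BG 14.2. -/
theorem data_of (hG : IsMinSimpleOddOrder G) (hM : IsCoatom M) (hKU : IsSigmaDecomposition M K U)
    (hK1 : K ≠ ⊥) : Data M K (U ⊔ K) U := by
  obtain ⟨U', hd⟩ := exists_data_on hG hM hKU.hall hK1 (isCompl hKU) le_sup_right
  have hU'K : U' ⊔ K = U ⊔ K := le_antisymm (sup_le hd.hUE le_sup_right) fun e he => by
    obtain ⟨a, ha, k, hk, rfl⟩ := hd.split e he
    exact mul_mem_sup ha hk
  have hc : Nat.card ↥(U ⊔ K) = Nat.card U' * Nat.card K := by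
    rw [← Coprime.card_sup_of_disjoint (hd.hKE.trans hd.hUn) (disjoint_iff.mpr hd.hUK), hU'K]
  have hrel : U'.relIndex (U ⊔ K) = Nat.card K := by
    refine Nat.eq_of_mul_eq_mul_left (Nat.card_pos : 0 < Nat.card U') ?_
    rw [← hc, ← Nat.card_congr (subgroupOfEquivOfLe hd.hUE).toEquiv]
    exact card_mul_index (U'.subgroupOf (U ⊔ K))
  have hle : U ≤ U' := fun u hu => mem_of_normal_coprime hd.hUn hd.hUE (mem_sup_left hu)
    (Nat.coprime_of_dvd fun p hp h1 h2 => not_kappa_of_dvd hKU hp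
      (h1.trans (orderOf_dvd_natCard U hu)) (hKU.hall.2.1 p hp (hrel ▸ h2)))
  have heq : U = U' := eq_of_le_of_card_ge hle (le_of_eq (Nat.eq_of_mul_eq_mul_right
    (Nat.card_pos : 0 < Nat.card K) (by rw [← hc, card_compl hKU])))
  exact heq.symm ▸ hd

theorem le_normalizer_U (hG : IsMinSimpleOddOrder G) (hM : IsCoatom M)
    (hKU : IsSigmaDecomposition M K U) : U ⊔ K ≤ normalizer (U : Set G) := by
  by_cases hK1 : K = ⊥
  · rw [hK1, sup_bot_eq]
    exact le_normalizer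
  · exact (data_of hG hM hKU hK1).hUn

/-- `U M_σ` is normal in `M`. -/
theorem normal_sup (hG : IsMinSimpleOddOrder G) (hM : IsCoatom M) (hKU : IsSigmaDecomposition M K U) :
    M ≤ normalizer ((U ⊔ sigmaCore M : Subgroup G) : Set G) := by
  intro m hm
  obtain ⟨e, he, s, hs, rfl⟩ := (isCompl hKU).2.2.2 m hm
  refine mul_mem ?_ (le_normalizer (mem_sup_right hs))
  refine Transfer.Fusion.map_conj_eq_self_iff.mp ?_
  have h1 : U.map (MulAut.conj e).toMonoidHom = U :=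
    Transfer.Fusion.map_conj_eq_self_iff.mpr (le_normalizer_U hG hM hKU he)
  have h2 : (sigmaCore M).map (MulAut.conj e).toMonoidHom = sigmaCore M :=
    Transfer.Fusion.map_conj_eq_self_iff.mpr (Sigma.le_normalizer_sigmaCore M ((isCompl hKU).1 he))
  rw [Subgroup.map_sup, h1, h2]

theorem sup_le' (hKU : IsSigmaDecomposition M K U) : U ⊔ sigmaCore M ≤ M :=
  sup_le hKU.compl.1 (Sigma.sigmaCore_le M)

/-- Elements of `M` without `κ(M)`-part lie in `U M_σ`. -/
theorem mem_sup_of_not_kappa (hG : IsMinSimpleOddOrder G) (hM : IsCoatom M)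
    (hKU : IsSigmaDecomposition M K U) {x : G} (hx : x ∈ M) (h : IsPiEl {p | p ∉ kappa M} x) :
    x ∈ U ⊔ sigmaCore M := by
  refine mem_of_normal_coprime (normal_sup hG hM hKU) (sup_le' hKU) hx
    (Nat.coprime_of_dvd fun p hp h1 h2 => h p hp h1 (hKU.hall.2.1 p hp ?_))
  have hE := isCompl hKU
  have hd : Disjoint U (sigmaCore M) := disjoint_iff.mpr
    (le_bot_iff.mp (le_trans (inf_le_inf_right _ le_sup_left) hE.2.2.1.le))
  have hcard : Nat.card ↥(U ⊔ sigmaCore M) = Nat.card U * Nat.card (sigmaCore M) := by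
    rw [sup_comm, Coprime.card_sup_of_disjoint (hKU.compl.1.trans (Sigma.le_normalizer_sigmaCore M))
      hd.symm, mul_comm]
  have hm : Nat.card ↥(U ⊔ sigmaCore M) * (U ⊔ sigmaCore M).relIndex M = Nat.card M := by
    rw [← Nat.card_congr (subgroupOfEquivOfLe (sup_le' hKU)).toEquiv]
    exact card_mul_index ((U ⊔ sigmaCore M).subgroupOf M)
  rw [hcard, ← Compl.card_mul hE, card_compl hKU, mul_right_comm (Nat.card U)] at hm
  rw [Nat.eq_of_mul_eq_mul_left (Nat.mul_pos (Nat.card_pos : 0 < Nat.card U) Nat.card_pos)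
    (by rw [mul_right_comm _ (Nat.card ↥(sigmaCore M)), hm, mul_right_comm] :
      Nat.card U * Nat.card (sigmaCore M) * (U ⊔ sigmaCore M).relIndex M =
        Nat.card U * Nat.card (sigmaCore M) * Nat.card K)] at h2
  exact h2

theorem exists_decomposition (hG : IsMinSimpleOddOrder G) (hM : IsCoatom M)
    (hK : IsPiHallOf (kappa M) K M) (hKc : IsCyclic K) : ∃ U : Subgroup G, IsSigmaDecomposition M K U := by
  by_cases hK1 : K = ⊥
  · obtain ⟨E, hE⟩ := Compl.exists_compl hG hM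
    refine ⟨E, ⟨hKc, hK, ?_, hK1 ▸ bot_le⟩⟩
    rwa [hK1, bot_sup_eq]
  · obtain ⟨E, U, hd⟩ := exists_data hG hM hK hK1
    refine ⟨U, ⟨hKc, hK, ⟨hd.hUE.trans hd.hE.1, sup_le hK.1 (Sigma.sigmaCore_le M), ?_, fun m hm => ?_⟩,
      hd.hKE.trans hd.hUn⟩⟩
    · rw [eq_bot_iff]
      intro x hx
      obtain ⟨hxU, hxs⟩ := mem_inf.mp hx
      rw [sup_comm] at hxs
      obtain ⟨s, hs, k, hk, rfl⟩ := exists_mul_sup (hK.1.trans (Sigma.le_normalizer_sigmaCore M)) hxs
      have hsE : s ∈ E ⊓ sigmaCore M := mem_inf.mpr ⟨by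
        have := mul_mem (hd.hUE hxU) (inv_mem (hd.hKE hk))
        rwa [mul_inv_cancel_right] at this, hs⟩
      rw [hd.hE.2.2.1, mem_bot] at hsE
      rw [hsE, one_mul] at hxU ⊢
      exact hd.hUK.le (mem_inf.mpr ⟨hxU, hk⟩)
    · obtain ⟨e, he, s, hs, rfl⟩ := hd.hE.2.2.2 m hm
      obtain ⟨a, ha, k, hk, rfl⟩ := hd.split e he
      exact ⟨a, ha, k * s, mul_mem_sup hk hs, mul_assoc _ _ _⟩

end Cfsg.Agent.OddLocal.KappaDecomp
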