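import Cfsg.Agent.OddLocal.Narrow
import Cfsg.Agent.OddLocal.PLength
import Cfsg.Agent.OddLocal.RankTwoSolvable

/-! Solvable groups of odd order with a narrow Sylow `p`-subgroup. -/

set_option autoImplicit false
set_option linter.unusedSectionVars false

namespace Cfsg.Agent.OddLocal.NarrowSolvable

open Cfsg Subgroup
open scoped commutatorElement

variable {G : Type*} [Group G] [Finite G] {p : ℕ} [hp : Fact p.Prime]

theorem pRankLE_of_sylow {k : ℕ} (S : Sylow p G) (h : PRankLE p k (S : Subgroup G)) : PRankLE p k G := by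
  intro A hA hA'
  have hAp : IsPGroup p A := fun a => ⟨1, Subtype.ext (by rw [pow_one]; exact hA' a a.2)⟩
  obtain ⟨T, hT⟩ := hAp.exists_le_sylow
  set e : (T : Subgroup G) →* (S : Subgroup G) := (Sylow.equiv T S).toMonoidHom
  have := map_isMulCommutative (A.subgroupOf (T : Subgroup G)) e
  refine le_trans ?_ (h ((A.subgroupOf (T : Subgroup G)).map e) inferInstance ?_)
  · rw [card_map_of_injective (f := e) (Sylow.equiv T S).injective,
      Nat.card_congr (subgroupOfEquivOfLe hT).toEquiv]
  · rintro _ ⟨u, hu, rfl⟩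
    rw [← map_pow, show u ^ p = 1 from Subtype.ext (hA' _ hu), map_one]

theorem structure_narrow [Group.IsSolvable G] (hodd : Odd (Nat.card G)) (hd : p ∣ Nat.card G)
    (S : Sylow p G) (hS : IsNarrow p (S : Subgroup G)) (hr : ¬ PRankLE p 2 (S : Subgroup G))
    (hpl : PLengthLE p 1 G) :
    commutator G ≤ pPrimePCore p G ∧ (pPrimePCore p G).index.Coprime p ∧
      ∀ q : ℕ, q.Prime → q ∣ (pPrimeCore p G).index → q ≤ p := by
  have hp2 := RankTwoSolvable.odd_prime_of_dvd hodd hd
  obtain ⟨K, hKp, hKc, hKe⟩ := Narrow.exists_kernel_of_narrow hp2 S.isPGroup' hS hr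
  set N := pPrimeCore p G with hN
  set π := QuotientGroup.mk' N with hπ
  set R := pCore p (G ⧸ N) with hR
  have hRp : IsPGroup p R := Cores.pCore_isPGroup p
  have hmap : (S : Subgroup G).map π = R := by
    have h1 : (pPrimePCore p G).map π = R :=
      map_comap_eq_self_of_surjective (QuotientGroup.mk'_surjective N) R
    rw [← pPrimeCore_sup_sylow hpl S, Subgroup.map_sup, hπ, QuotientGroup.map_mk'_self, bot_sup_eq] at h1
    exact h1
  let f : (S : Subgroup G) →* R :=
    { toFun := fun s => ⟨π s, hmap ▸ ⟨s, s.2, rfl⟩⟩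
      map_one' := Subtype.ext (map_one π)
      map_mul' := fun s t => Subtype.ext (map_mul π _ _) }
  have hfb : Function.Bijective f := by
    refine ⟨(injective_iff_map_eq_one f).mpr fun s hs => ?_, fun r => ?_⟩
    · have h1 : (s : G) ∈ N := (QuotientGroup.eq_one_iff (s : G)).mp (congrArg Subtype.val hs)
      have h2 : (s : G) ∈ (S : Subgroup G) ⊓ N := ⟨s.2, h1⟩
      rw [PLocal.Cores.inf_eq_bot_of_isPGroup_of_coprime S.isPGroup' PLocal.Cores.coprime_card_pPrimeCore,
        mem_bot] at h2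
      exact Subtype.ext h2
    · obtain ⟨s, hs, he⟩ := (hmap.symm ▸ r.2 : (r : G ⧸ N) ∈ (S : Subgroup G).map π)
      exact ⟨⟨s, hs⟩, Subtype.ext he⟩
  have hCR : centralizer (R : Set (G ⧸ N)) ≤ R :=
    Solvable.Fitting.centralizer_pCore_le p (Cores.pPrimeCore_quotient_self p)
  let ψ : G ⧸ N →* MulAut (S : Subgroup G) :=
    (MulAut.congr (MulEquiv.ofBijective f hfb).symm).toMonoidHom.comp MulAut.conjNormal
  have hker : ∀ x, ψ x = 1 → x ∈ R := fun x hx => hCR (mem_centralizer_iff.mpr fun r hr' => by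
    have hx' : MulAut.conjNormal x = (1 : MulAut R) :=
      (MulAut.congr (MulEquiv.ofBijective f hfb).symm).injective (hx.trans (map_one _).symm)
    have h := congrArg Subtype.val (DFunLike.congr_fun hx' ⟨r, hr'⟩)
    rw [MulAut.conjNormal_apply] at h
    exact (mul_inv_eq_iff_eq_mul.mp h).symm)
  set M := K.comap ψ with hM
  have hMp : IsPGroup p M := fun x => by
    obtain ⟨k, hk⟩ := hKp ⟨ψ x, x.2⟩
    have hk' : ψ ((x : G ⧸ N) ^ p ^ k) = 1 := by
      rw [map_pow]; exact congrArg Subtype.val hk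
    obtain ⟨l, hl⟩ := hRp ⟨_, hker _ hk'⟩
    refine ⟨k + l, Subtype.ext ?_⟩
    rw [SubmonoidClass.coe_pow, pow_add, pow_mul]
    exact congrArg Subtype.val hl
  have hder : commutator (G ⧸ N) ≤ R := by
    refine Cores.le_pCore (hN := inferInstance) (hMp.to_le ?_)
    rw [_root_.commutator_def, commutator_le]
    intro a _ b _
    rw [hM, mem_comap, map_commutatorElement]
    exact hKc _ _
  refine ⟨fun x hx => hder ?_, pLengthLE_one_iff.mp hpl, fun q hq hdvd => ?_⟩
  · have h : (commutator G).map π ≤ commutator (G ⧸ N) := by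
      rw [_root_.commutator_def, Subgroup.map_commutator, _root_.commutator_def]
      exact commutator_mono le_top le_top
    exact h ⟨x, hx, rfl⟩
  by_cases hqp : q = p
  · exact hqp.le
  have := Fact.mk hq
  obtain ⟨x, hx⟩ := exists_prime_orderOf_dvd_card' (G := G ⧸ N) q hdvd
  obtain ⟨k, hk⟩ := hMp ⟨x ^ (p - 1), by rw [hM, mem_comap, map_pow]; exact hKe _⟩
  have h1 : q ∣ (p - 1) * p ^ k := by
    rw [← hx]
    refine orderOf_dvd_of_pow_eq_one ?_
    rw [pow_mul]
    exact congrArg Subtype.val hk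
  have h2 := Nat.le_of_dvd (by have := hp.out.two_le; omega)
    ((hq.dvd_mul.mp h1).resolve_right fun h =>
      hqp ((Nat.prime_dvd_prime_iff_eq hq hp.out).mp (hq.dvd_of_dvd_pow h)))
  omega

end Cfsg.Agent.OddLocal.NarrowSolvable
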