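import Cfsg.Agent.OddLocal.TauTwoCore
import Cfsg.Agent.OddLocal.RankTwoFitting
import Cfsg.Agent.OddLocal.NarrowSolvable
import Cfsg.Agent.OddLocal.HallFusion
import Cfsg.Agent.S1409
import Cfsg.Agent.S1414
import Cfsg.Agent.S1410

/-! At a prime of `τ₂(M)` the subgroup `A` is normal in a complement of `M_σ` (BG 12.5). -/

set_option autoImplicit false
set_option linter.unusedSectionVars false

namespace Cfsg.Agent.OddLocal.TauTwo

open Cfsg Subgroup MaxStruct
open scoped commutatorElement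
open Cfsg.Agent.Transfer.Fusion (map_conj_eq_self_iff)

variable {G : Type*} [Group G] [Finite G] {p : ℕ} [hp : Fact p.Prime] {A M : Subgroup G}

/-- All `p`-subgroups of `M` are abelian. -/
theorem Ctx.pgroup_comm (h : Ctx p A M) {X : Subgroup G} (hX : IsPGroup p X) (hXM : X ≤ M) :
    IsMulCommutative X := by
  obtain ⟨S, hS⟩ := (hX.comap_subtype (K := M)).exists_le_sylow
  obtain ⟨S₀, hAS₀⟩ := exists_sylow_ge h.hA h.hAM
  have hab := (sylow_structure h.hG h.hM h.hτ h.hA S₀ hAS₀).1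
  refine ⟨⟨fun x y => Subtype.ext ?_⟩⟩
  set x' : (S : Subgroup M) := ⟨⟨x, hXM x.2⟩, hS x.2⟩
  set y' : (S : Subgroup M) := ⟨⟨y, hXM y.2⟩, hS y.2⟩
  set e := S.equiv S₀
  have h1 : e x' * e y' = e y' * e x' := Subtype.ext (Subtype.ext (setLike_mul_comm
    (s := (S₀ : Subgroup M).map M.subtype)
    (mem_map_of_mem M.subtype (e x').2) (mem_map_of_mem M.subtype (e y').2)))
  rw [← map_mul, ← map_mul] at h1
  exact congrArg (fun z : (S : Subgroup M) => ((z : M) : G)) (e.injective h1)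

theorem Ctx.rank_le (h : Ctx p A M) {q : ℕ} (hq : q.Prime) (hqσ : q ∉ sigma M) : PRankLE q 2 M := by
  by_contra hr
  exact hqσ (Sigma.alpha_subset_sigma h.hG h.hM ⟨hq, hr⟩)

/-- In a cyclic group the elements of order dividing `r` are powers of any element of order `r`. -/
theorem mem_zpowers_of_cyclic {r : ℕ} [hr : Fact r.Prime] {Z : Subgroup G} (hZ : IsCyclic Z) {x y : G}
    (hx : x ∈ Z) (hy : y ∈ Z) (hxo : orderOf x = r) (hyr : y ^ r = 1) : y ∈ zpowers x := by
  rcases eq_or_ne y 1 with rfl | hy1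
  · exact one_mem _
  have h1 : zpowers (⟨y, hy⟩ : Z) = zpowers ⟨x, hx⟩ := Basics.subgroup_eq_of_card_eq_of_isCyclic (by
    rw [Nat.card_zpowers, Nat.card_zpowers, orderOf_mk, orderOf_mk, hxo, orderOf_eq_prime hyr hy1])
  obtain ⟨i, hi⟩ := mem_zpowers_iff.mp (h1 ▸ mem_zpowers (⟨y, hy⟩ : Z))
  exact mem_zpowers_iff.mpr ⟨i, congrArg Subtype.val hi⟩

/-- An element of order `p` acting faithfully on a cyclic `r`-group forces `p < r`. -/
theorem lt_of_move {r : ℕ} [hr : Fact r.Prime] (hrp : r ≠ p) {T : Subgroup G} (hT : IsPGroup r T)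
    (hc : IsCyclic T) {a : G} (ha : a ^ p = 1) (haN : a ∈ normalizer (T : Set G))
    (hmove : ∃ t ∈ T, a * t ≠ t * a) : p < r := by
  set f := T.normalizerMonoidHom ⟨a, haN⟩ with hf
  obtain ⟨t, ht, hne⟩ := hmove
  have hf1 : f ≠ 1 := fun e => hne (mul_inv_eq_iff_eq_mul.mp
    (show a * t * a⁻¹ = t from congrArg Subtype.val (DFunLike.congr_fun e (⟨t, ht⟩ : T))))
  have hfp : f ^ p = 1 := by
    rw [hf, ← map_pow]
    exact (congrArg _ (Subtype.ext ha)).trans (map_one _)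
  have hd : p ∣ Nat.card (MulAut T) := (orderOf_eq_prime hfp hf1) ▸ _root_.orderOf_dvd_natCard f
  obtain ⟨n, hn⟩ := hT.exists_card_eq
  rcases n.eq_zero_or_pos with rfl | hn0
  · rw [card_eq_one.mp (by simpa using hn : Nat.card T = 1), mem_bot] at ht
    exact absurd (by simp [ht]) hne
  rw [IsCyclic.card_mulAut, hn, Nat.totient_prime_pow hr.out hn0] at hd
  rcases hp.out.dvd_mul.mp hd with h1 | h1
  · exact absurd ((Nat.prime_dvd_prime_iff_eq hp.out hr.out).mp (hp.out.dvd_of_dvd_pow h1)).symm hrp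
  · have := Nat.le_of_dvd (by have := hr.out.two_le; omega) h1
    omega

section
variable {r : ℕ} [hr : Fact r.Prime]

/-- The normal `r`-subgroup case: `r ∈ τ₂(M)` and the subgroup is cyclic. -/
theorem Ctx.qcore_cases (h : Ctx p A M) (hrσ : r ∉ sigma M) {Z : Subgroup G} (hZr : IsPGroup r Z)
    (hZM : Z ≤ M) (hMZ : M ≤ normalizer (Z : Set G)) (hZ1 : Z ≠ ⊥) :
    r ∈ tau2 M ∧ IsCyclic Z := by
  obtain ⟨z, hz, hz1⟩ := (bot_or_exists_ne_one Z).resolve_left hZ1
  have hrd : r ∣ Nat.card Z := by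
    obtain ⟨n, hn⟩ := hZr.exists_card_eq
    rcases n.eq_zero_or_pos with rfl | hn0
    · exact absurd (card_eq_one.mp (by simpa using hn)) hZ1
    · exact hn ▸ dvd_pow_self r hn0.ne'
  obtain ⟨x, hx⟩ := exists_prime_orderOf_dvd_card' r hrd
  rw [← orderOf_coe] at hx
  have hr2 := h.rank_le hr.out hrσ
  have hX1 : zpowers (x : G) ≠ ⊥ := fun e => hr.out.ne_one (by
    rw [← hx, ← Nat.card_zpowers, e, card_bot])
  have hXM : zpowers (x : G) ≤ M := zpowers_le.mpr (hZM x.2)
  have htop : ∀ X : Subgroup G, X ≤ M → X ≠ ⊤ := fun X hX e => h.hM.1 (top_le_iff.mp (e ▸ hX))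
  have hnorm : IsCyclic Z → normalizer (zpowers (x : G) : Set G) = M := fun hc => by
    refine (h.hM.le_iff.mp ?_).resolve_left (Transitivity.normalizer_ne_top h.hG hX1 (htop _ hXM))
    rw [le_normalizer_iff]
    intro m hm y hy
    refine mem_zpowers_of_cyclic hc x.2 ((mem_normalizer_iff.mp (hMZ hm) y).mp
      ((zpowers_le.mpr x.2) hy)) hx ?_
    rw [conj_pow, orderOf_dvd_iff_pow_eq_one.mp
      ((orderOf_dvd_natCard _ hy).trans (by rw [Nat.card_zpowers, hx]))]
    group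
  have hr1 : ¬ PRankLE r 1 M := fun hr1 =>
    (S1409.result h.hG M h.hM r hrσ _ (by rw [Nat.card_zpowers, hx])
      (hnorm (Compl.isCyclic_of_rankOne h.hG hr1 hZr hZM)).le).1.2 hr1
  have hτ : r ∈ tau2 M := ⟨hr.out, hrσ, hr2, hr1⟩
  refine ⟨hτ, ?_⟩
  by_contra hc
  obtain ⟨B, hBZ, hBe, hBc⟩ := Unique.exists_elementary_of_not_pRankLE
    (Unique.not_pRankLE_one_of_not_isCyclic
      (Unique.ne_two h.hG (hrd.trans (card_dvd_of_le le_rfl))) hZr hc)
  have hB := max2 h.hG h.hM hτ (hBZ.trans hZM) hBe (by rw [hBc])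
  obtain ⟨P, hP⟩ := (hZr.comap_subtype (K := M)).exists_le_sylow
  have hZP : Z ≤ (P : Subgroup M).map M.subtype := fun y hy => ⟨⟨y, hZM hy⟩, hP hy, rfl⟩
  have hΩ := (sylow_structure h.hG h.hM hτ hB P (hBZ.trans hZP)).2.1
  have hMB : M ≤ normalizer (B : Set G) := by
    rw [le_normalizer_iff]
    intro m hm y hy
    refine (hΩ _ (hZP ((mem_normalizer_iff.mp (hMZ hm) y).mp (hBZ hy)))).mp ?_
    rw [conj_pow, hBe.2 y hy]; group
  obtain ⟨n, hn, hnM⟩ := exists_not_mem h.hG h.hM hτ hB (hBZ.trans hZM)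
  exact hnM ((h.hM.le_iff.mp hMB).resolve_left
    (Transitivity.normalizer_ne_top h.hG hB.ne_bot (hB.ne_top h.hG)) ▸ hn)

/-- An `A`-invariant Sylow `r`-subgroup of `M` over a given one, for `r > p`. -/
theorem Ctx.exists_invariant_sylow (h : Ctx p A M) (hrσ : r ∉ sigma M) (hlt : p < r) {T : Subgroup G}
    (hT : IsPGroup r T) (hTM : T ≤ M) (hAT : A ≤ normalizer (T : Set G)) :
    ∃ P : Sylow r M, T ≤ (P : Subgroup M).map M.subtype ∧
      A ≤ normalizer ((P : Subgroup M).map M.subtype : Set G) := by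
  have hrp : r ≠ p := hlt.ne'
  have hcT := h.hA.coprime_of_isPGroup hrp hT
  obtain ⟨E, hE, hle⟩ := Compl.exists_compl_ge h.hG h.hM (sup_le hTM h.hAM) fun q hq hd => by
    rw [Coprime.card_sup_of_coprime hAT hcT.symm] at hd
    rcases hq.dvd_mul.mp hd with h1 | h1
    · exact (show q = r from (Cores.isPi_iff_isPGroup T).mpr hT q hq h1) ▸ hrσ
    · exact (show q = p from (Cores.isPi_iff_isPGroup A).mpr h.hA.isPGroup q hq h1) ▸ h.hσ
  have hEtop : E ≠ ⊤ := fun e => h.hM.1 (top_le_iff.mp (e ▸ hE.1))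
  have : Group.IsSolvable E := Transitivity.isSolvable_of_ne_top h.hG hEtop
  have hrank : ∀ q : ℕ, q.Prime → PRankLE q 2 (fittingSubgroup E) := fun q hq => by
    have := Fact.mk hq
    by_cases hd : q ∣ Nat.card E
    · exact RankTwoFitting.pRankLE_of_le (Compl.pRankLE hE
        (h.rank_le hq (Compl.not_sigma h.hG h.hM hE hq hd)))
    · exact RankTwoFitting.pRankLE_of_le (Sigma.pRankLE_of_not_dvd hd)
  obtain ⟨N, hN, hNπ⟩ := RankTwoFitting.exists_char_hall (Sigma.odd_card h.hG E) hrank p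
  set K := N.map E.subtype with hK
  have hAE : A ≤ E := le_sup_right.trans hle
  have hTE : T ≤ E := le_sup_left.trans hle
  have hAK : A ≤ normalizer (K : Set G) :=
    hAE.trans (le_normalizer.trans (Coprime.OmegaDetect.normalizer_le_normalizer_char E N))
  have hcard : Nat.card K = Nat.card N := card_map_of_injective E.subtype_injective
  have hcK : (Nat.card A).Coprime (Nat.card K) := (h.hA.coprime_iff K).mpr fun hd =>
    (hNπ.1 p hp.out (hcard ▸ hd)).2.false
  have hTK : T ≤ K := fun t ht => by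
    refine ⟨⟨t, hTE ht⟩, (QuotientGroup.eq_one_iff _).mp (orderOf_eq_one_iff.mp ?_), rfl⟩
    obtain ⟨k, hk⟩ := hT ⟨t, ht⟩
    refine Nat.eq_one_of_dvd_coprimes
      ((hr.out.coprime_iff_not_dvd.mpr (hNπ.2 r hr.out ⟨hr.out, hlt⟩)).pow_left k) ?_
      (_root_.orderOf_dvd_natCard _)
    refine orderOf_dvd_of_pow_eq_one ?_
    rw [← QuotientGroup.mk_pow, show (⟨t, hTE ht⟩ : E) ^ r ^ k = 1 from
      Subtype.ext (by simpa using congrArg Subtype.val hk)]
    rfl
  obtain ⟨P₀, hTP, hAP⟩ := Coprime.exists_invariant_sylow_ge hAK hcK (Or.inl h.solvable) hTK hT hAT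
  obtain ⟨P, hP⟩ := HallFusion.subgroupOf_sylow (L := M)
    ((map_subtype_le (P₀ : Subgroup K)).trans ((map_subtype_le N).trans hE.1))
    (P₀.isPGroup'.map K.subtype) fun hd => by
      rw [← relIndex_mul_relIndex _ _ _ (map_subtype_le (P₀ : Subgroup K))
          ((map_subtype_le N).trans hE.1),
        ← relIndex_mul_relIndex _ _ _ (map_subtype_le N) hE.1] at hd
      rcases hr.out.dvd_mul.mp hd with h1 | h1
      · rw [relIndex, subgroupOf, comap_map_eq_self_of_injective K.subtype_injective] at h1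
        exact P₀.not_dvd_index h1
      rcases hr.out.dvd_mul.mp h1 with h2 | h2
      · rw [relIndex, subgroupOf, comap_map_eq_self_of_injective E.subtype_injective] at h2
        exact hNπ.2 r hr.out ⟨hr.out, hlt⟩ h2
      · exact Compl.not_dvd_sigmaCore hr.out hrσ (Compl.relIndex_eq hE ▸ h2)
  exact ⟨P, hP ▸ hTP, hP ▸ hAP⟩

/-- `A` centralises the `A`-invariant `r`-subgroups of `M`. -/
theorem Ctx.le_centralizer (h : Ctx p A M) (hrσ : r ∉ sigma M) (hrp : r ≠ p) {R : Subgroup G}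
    (hR : IsPGroup r R) (hRM : R ≤ M) (hAR : A ≤ normalizer (R : Set G)) :
    A ≤ centralizer (R : Set G) := by
  by_contra hnc
  obtain ⟨a, ha, ha1, hC⟩ := h.hA.exists_fixed hAR (h.hA.coprime_of_isPGroup hrp hR)
    (X := centralizer (A : Set G)) fun h' => hnc (le_centralizer_iff.mp h')
  set C := R ⊓ centralizer ({a} : Set G) with hCdef
  have hAC : A ≤ normalizer (C : Set G) := h.hA.le_normalizer_inf_centralizer hAR ha
  have hCr : IsPGroup r C := hR.to_le inf_le_left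
  set T := ⁅C, A⁆ with hT
  have hTA : ⁅T, A⁆ = T := h.hA.commutator_commutator_eq hAC (h.hA.coprime_of_isPGroup hrp hCr)
  have hTC : T ≤ C := Coprime.commutator_le_of_le_normalizer hAC
  have hTr : IsPGroup r T := hCr.to_le hTC
  have hAT : A ≤ normalizer (T : Set G) := normalizer_commutator_ge_right C A
  have hT1 : T ≠ ⊥ := fun e => hC (commutator_eq_bot_iff_le_centralizer.mp e)
  have hTM' : T ≤ ⁅M, M⁆ := commutator_mono (inf_le_left.trans hRM) h.hAM
  have hTM : T ≤ M := hTM'.trans (commutator_le_self M)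
  have haT : zpowers a ≤ centralizer (T : Set G) := zpowers_le.mpr (mem_centralizer_iff.mpr fun t ht =>
    mem_centralizer_singleton_iff.mp (mem_inf.mp (hTC ht)).2)
  obtain ⟨n₀, hn₀, hn₀M⟩ := exists_not_mem h.hG h.hM h.hτ h.hA h.hAM
  have hTσ : T ≤ centralizer (sigmaCore M : Set G) := by
    by_contra hTσ
    exact hn₀M (Max2.orbit h.hG h.hA h.hM h.hAM h.hCA h.hσ hrp hrσ hTr hTM hAT (zpowers_le.mpr ha)
      (h.hA.card_zpowers ha ha1) haT hTA hTσ hn₀)
  set Z := piCoreOf {r} M with hZ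
  have hTZ : T ≤ Z := le_qcore h.hG h.hM hTr hTM' hTσ
  have hZr : IsPGroup r Z := (Cores.isPi_iff_isPGroup Z).mp (Transitivity.isPi_piCoreOf {r} M)
  have hMZ : M ≤ normalizer (Z : Set G) := by
    have : (piCore ({r} : Set ℕ) M).Characteristic := Cores.piCore_characteristic _
    exact le_normalizer.trans (Coprime.OmegaDetect.normalizer_le_normalizer_char M _)
  obtain ⟨hrτ, hZc⟩ := h.qcore_cases hrσ hZr (map_subtype_le _) hMZ
    fun e => hT1 (le_bot_iff.mp (e ▸ hTZ))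
  obtain ⟨b, hb, hbT⟩ : ∃ b ∈ A, ∃ t ∈ T, b * t ≠ t * b := by
    by_contra hcon
    push Not at hcon
    refine hT1 ?_
    rw [← hTA]
    exact commutator_eq_bot_iff_le_centralizer.mpr fun t ht =>
      mem_centralizer_iff.mpr fun b hb => hcon b hb t ht
  have hTc : IsCyclic T := isCyclic_of_injective (inclusion hTZ) (inclusion_injective hTZ)
  have hlt : p < r := lt_of_move hrp hTr hTc (h.hA.el.2 b hb) (hAT hb) hbT
  obtain ⟨P, hTP, hAP⟩ := h.exists_invariant_sylow hrσ hlt hTr hTM hAT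
  obtain ⟨B₀, hB₀P, hB₀e, hB₀c⟩ := Unique.exists_elementary_of_not_pRankLE (Z := (P : Subgroup M))
    fun h' => hrτ.2.2.2 (NarrowSolvable.pRankLE_of_sylow P h')
  set B := B₀.map M.subtype with hBdef
  have hBP : B ≤ (P : Subgroup M).map M.subtype := map_mono hB₀P
  have hBM : B ≤ M := map_subtype_le _
  have hB : Max2 r B := max2 h.hG h.hM hrτ hBM (PLocal.ThompsonSubgroup.IsElementaryAbelian.map hB₀e _)
    (by rw [card_map_of_injective M.subtype_injective, hB₀c])
  obtain ⟨hPab, hΩ, -⟩ := sylow_structure h.hG h.hM hrτ hB P hBP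
  have hAB : A ≤ normalizer (B : Set G) := by
    rw [le_normalizer_iff]
    intro x hx y hy
    refine (hΩ _ ((mem_normalizer_iff.mp (hAP hx) y).mp (hBP hy))).mp ?_
    rw [conj_pow, hB.el.2 y hy]; group
  have hTB : T ≤ normalizer (B : Set G) := le_trans (fun t ht => mem_centralizer_iff.mpr fun y hy =>
    setLike_mul_comm (hBP hy) (hTP ht)) (centralizer_le_normalizer _)
  obtain ⟨H, hH, hNH⟩ := (eq_top_or_exists_le_coatom (normalizer (B : Set G))).resolve_left
    (Transitivity.normalizer_ne_top h.hG hB.ne_bot (hB.ne_top h.hG))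
  have hBH : B ≤ H := le_normalizer.trans hNH
  have hAH : A ≤ H := hAB.trans hNH
  have hTH : T ≤ H := hTB.trans hNH
  have hne : H ≠ M := fun e => by
    obtain ⟨n, hn, hnM⟩ := exists_not_mem h.hG h.hM hrτ hB hBM
    exact hnM (e ▸ hNH hn)
  have hrσH : r ∈ sigma H := by
    rcases Max2.sigma_or_nonabelian h.hG hB hNH with h1 | ⟨P₁, hP₁H, hP₁, hP₁ab⟩
    · exact h1
    by_contra hσ
    refine hP₁ab (Ctx.pgroup_comm (M := H) (A := B) ⟨h.hG, hH, ?_, hB, hBH⟩ hP₁ hP₁H)
    exact ⟨hr.out, hσ, by_contra fun hr3 => hσ (Sigma.alpha_subset_sigma h.hG hH ⟨hr.out, hr3⟩),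
      Unique.not_pRankLE_of_elementary hBH hB.el hB.card.ge⟩
  by_cases hpσH : p ∈ sigma H
  · have hrβ : r ∉ beta H := fun hb =>
      (S1408.result h.hG M h.hM r hrσ hrτ.2.2.1 hrτ.2.2.2).1 hb.2
    obtain ⟨P', N, hN, hNP⟩ := ((S1414.result h.hG H hH).2.2.2.2 r hr.out
      (hB.dvd_card.trans (card_dvd_of_le hBH)) hrβ).1
    have hAH' : A ≤ ⁅H, H⁆ := (Sigma.sylow_le_sigmaCore h.hG hH hpσH h.hA.isPGroup hAH).trans
      (Sigma.sigmaCore_le_commutator h.hG hH)
    have hTH' : T ≤ ⁅H, H⁆ := hTA ▸ commutator_mono hTH hAH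
    have hNc : (Nat.card N).Coprime r := by
      rw [← hNP.index_eq_card]
      exact (hr.out.coprime_iff_not_dvd.mpr P'.not_dvd_index).symm
    obtain ⟨k, hk⟩ := P'.isPGroup'.exists_card_eq
    have hNi : N.index = r ^ k := hNP.symm.index_eq_card.trans hk
    have hmemN : ∀ x (hx : x ∈ A), (⟨x, hAH' hx⟩ : ↥⁅H, H⁆) ∈ N := fun x hx => by
      refine (QuotientGroup.eq_one_iff _).mp (orderOf_eq_one_iff.mp ?_)
      refine Nat.eq_one_of_dvd_coprimes (((Nat.coprime_primes hp.out hr.out).mpr hrp.symm).pow 1 k)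
        (orderOf_dvd_of_pow_eq_one ?_) (hNi ▸ _root_.orderOf_dvd_natCard _)
      rw [pow_one, ← QuotientGroup.mk_pow,
        show (⟨x, hAH' hx⟩ : ↥⁅H, H⁆) ^ p = 1 from Subtype.ext (h.hA.el.2 x hx)]
      rfl
    refine hT1 ?_
    rw [← hTA, eq_bot_iff, commutator_le]
    intro t ht x hx
    obtain ⟨j, hj⟩ := hTr ⟨⁅t, x⁆, Coprime.commutator_le_of_le_normalizer hAT
      (commutator_mem_commutator ht hx)⟩
    have hmem : ⁅(⟨t, hTH' ht⟩ : ↥⁅H, H⁆), ⟨x, hAH' hx⟩⁆ ∈ N :=
      commutator_le_right ⊤ N (commutator_mem_commutator (mem_top _) (hmemN x hx))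
    refine mem_bot.mpr (orderOf_eq_one_iff.mp (Nat.eq_one_of_dvd_coprimes (hNc.pow_right j) ?_
      (orderOf_dvd_of_pow_eq_one (congrArg Subtype.val hj))))
    rw [show ⁅t, x⁆ = ((⁅(⟨t, hTH' ht⟩ : ↥⁅H, H⁆), ⟨x, hAH' hx⟩⁆ : ↥⁅H, H⁆) : G) from rfl,
      orderOf_coe]
    exact N.orderOf_dvd_natCard hmem
  · have h' : Ctx p A H := by
      refine ⟨h.hG, hH, ⟨hp.out, hpσH, ?_, ?_⟩, h.hA, hAH⟩
      · exact by_contra fun hr3 => hpσH (Sigma.alpha_subset_sigma h.hG hH ⟨hp.out, hr3⟩)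
      · exact Unique.not_pRankLE_of_elementary hAH h.hA.el h.hA.card.ge
    refine hT1 (le_bot_iff.mp ?_)
    rw [← h'.sigma_inf h.hM hne.symm h.hAM]
    exact le_inf (Sigma.sylow_le_sigmaCore h.hG hH hrσH hTr hTH) hTM

end

/-- A normal subgroup of a complement, centralised by `A` and containing its `p`-elements. -/
theorem Ctx.exists_normal_cover (h : Ctx p A M) {E : Subgroup G} (hE : IsComplIn E (sigmaCore M) M)
    (hAE : A ≤ E) : ∃ W : Subgroup G, W ≤ centralizer (A : Set G) ∧ E ≤ normalizer (W : Set G) ∧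
      ∀ X : Subgroup G, IsPGroup p X → X ≤ E → X ≤ W := by
  have hpl : PLengthLE p 1 E := S1410.result h.hG p E fun e => h.hM.1 (top_le_iff.mp (e ▸ hE.1))
  obtain ⟨S, hS⟩ := (h.hA.isPGroup.comap_subtype (K := E)).exists_le_sylow
  set K := (pPrimeCore p E).map E.subtype with hK
  have hAK : A ≤ normalizer (K : Set G) := by
    have : (pPrimeCore p E).Characteristic := PLocal.Cores.pPrimeCore_characteristic
    exact hAE.trans (le_normalizer.trans (Coprime.OmegaDetect.normalizer_le_normalizer_char E _))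
  have hKp : ¬ p ∣ Nat.card K := by
    rw [card_map_of_injective E.subtype_injective]
    exact hp.out.coprime_iff_not_dvd.mp (PLocal.Cores.coprime_card_pPrimeCore (p := p)).symm
  have hKC : K ≤ centralizer (A : Set G) := by
    rw [← subgroupOf_eq_top]
    refine Cores.eq_top_of_sylow_le fun r hr hd => ?_
    have := Fact.mk hr
    obtain ⟨R, hR⟩ := Coprime.exists_invariant_sylow r hAK ((h.hA.coprime_iff K).mpr hKp)
      (Or.inl h.solvable)
    have hrp : r ≠ p := fun e => hKp (e ▸ hd)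
    have hrσ : r ∉ sigma M := Compl.not_sigma h.hG h.hM hE hr (hd.trans (card_dvd_of_le (map_subtype_le _)))
    have hle := h.le_centralizer hrσ hrp (R.isPGroup'.map K.subtype)
      ((map_subtype_le _).trans ((map_subtype_le _).trans hE.1)) hR
    exact ⟨R, fun y hy => mem_subgroupOf.mpr (le_centralizer_iff.mp hle (mem_map_of_mem _ hy))⟩
  have hSC : (S : Subgroup E).map E.subtype ≤ centralizer (A : Set G) := by
    have := h.pgroup_comm (S.isPGroup'.map E.subtype) ((map_subtype_le _).trans hE.1)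
    exact fun y hy => mem_centralizer_iff.mpr fun x hx =>
      setLike_mul_comm (⟨⟨x, hAE hx⟩, hS hx, rfl⟩ : x ∈ (S : Subgroup E).map E.subtype) hy
  refine ⟨(pPrimePCore p E).map E.subtype, ?_, ?_, fun X hX hXE => ?_⟩
  · rw [← OddLocal.pPrimeCore_sup_sylow hpl S, Subgroup.map_sup]
    exact sup_le hKC hSC
  · have : (pPrimePCore p E).Characteristic :=
      characteristic_iff_map_eq.mpr fun φ => PLocal.Cores.map_pPrimePCore_equiv φ
    exact le_normalizer.trans (Coprime.OmegaDetect.normalizer_le_normalizer_char E _)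
  · obtain ⟨S', hS'⟩ := (hX.comap_subtype (K := E)).exists_le_sylow
    exact fun x hx => ⟨⟨x, hXE hx⟩, OddLocal.sylow_le_pPrimePCore hpl S' (hS' hx), rfl⟩

/-- Elements of order `p` of a complement lie in `A`. -/
theorem Ctx.mem_of_pow (h : Ctx p A M) {E : Subgroup G} (hE : IsComplIn E (sigmaCore M) M) (hAE : A ≤ E)
    {x : G} (hx : x ∈ E) (hxp : x ^ p = 1) : x ∈ A := by
  obtain ⟨W, hWC, -, hWp⟩ := h.exists_normal_cover hE hAE
  refine h.hA.omega x (hWC (hWp (zpowers x) ?_ (zpowers_le.mpr hx) (mem_zpowers x))) hxp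
  rintro ⟨y, hy⟩
  obtain ⟨i, rfl⟩ := mem_zpowers_iff.mp hy
  refine ⟨1, Subtype.ext ?_⟩
  show (x ^ i) ^ (p ^ 1) = 1
  rw [pow_one, ← zpow_natCast, ← zpow_mul, mul_comm, zpow_mul, zpow_natCast, hxp, one_zpow]

/-- `A` is normal in a complement containing it. -/
theorem Ctx.le_normalizer_compl (h : Ctx p A M) {E : Subgroup G} (hE : IsComplIn E (sigmaCore M) M)
    (hAE : A ≤ E) : E ≤ normalizer (A : Set G) := by
  rw [le_normalizer_iff]
  intro e he a ha
  refine h.mem_of_pow hE hAE (mul_mem (mul_mem he (hAE ha)) (inv_mem he)) ?_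
  rw [conj_pow, h.hA.el.2 a ha]; group

theorem Ctx.inf_normalizer (h : Ctx p A M) {E : Subgroup G} (hE : IsComplIn E (sigmaCore M) M)
    (hAE : A ≤ E) : M ⊓ normalizer (A : Set G) = E := by
  refine le_antisymm ?_ (le_inf hE.1 (h.le_normalizer_compl hE hAE))
  intro m hm
  obtain ⟨hmM, hmN⟩ := mem_inf.mp hm
  obtain ⟨e, he, s, hs, rfl⟩ := hE.2.2.2 m hmM
  have hsN : s ∈ normalizer (A : Set G) :=
    (mul_mem_cancel_left (h.le_normalizer_compl hE hAE he)).mp hmN
  have hsC : s ∈ centralizer (A : Set G) := mem_centralizer_iff.mpr fun a ha => by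
    have h1 : a * s * a⁻¹ * s⁻¹ ∈ sigmaCore M ⊓ E := mem_inf.mpr
      ⟨mul_mem ((mem_normalizer_iff.mp (Sigma.le_normalizer_sigmaCore M (h.hAM ha)) s).mp hs) (inv_mem hs),
        hAE (by
          have := mul_mem ha ((mem_normalizer_iff.mp hsN a⁻¹).mp (inv_mem ha))
          simpa [mul_assoc] using this)⟩
    rw [Compl.sigmaCore_inf hE, mem_bot, mul_inv_eq_one, mul_inv_eq_iff_eq_mul] at h1
    exact h1
  have h2 : s ∈ (⊥ : Subgroup G) := h.inf_centralizer ▸ mem_inf.mpr ⟨hs, hsC⟩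
  rw [mem_bot.mp h2, mul_one]
  exact he

end Cfsg.Agent.OddLocal.TauTwo
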