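import Cfsg.Agent.OddLocal.SigmaParts
import Cfsg.Agent.S1417
import Cfsg.Agent.S1418
import Cfsg.Agent.S1420
import Cfsg.Agent.S1424
import Cfsg.Agent.S1432

/-! The signalizer subgroups `R(x)`, `x ∈ M_σ` (BG 14.4). -/

set_option autoImplicit false
set_option linter.unusedSectionVars false

namespace Cfsg.Agent.OddLocal.Signalizer

open Cfsg Subgroup SigmaParts
open TauTwo (centralizer_zpowers centralizer_map_conj)
open Cfsg.Agent.Transfer.Fusion (map_conj_mul card_map_conj map_conj_inv_cancel)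

variable {G : Type*} [Group G] [Finite G] {M N L : Subgroup G} {q : ℕ} [hq : Fact q.Prime] {x y : G}

theorem exists_prime_pow (hx : x ≠ 1) : ∃ n : ℕ, (orderOf (x ^ n)).Prime :=
  KappaStructure.exists_prime_power hx

theorem centralizer_le_normalizer_zpowers (y : G) :
    centralizer ({y} : Set G) ≤ normalizer ((zpowers y : Subgroup G) : Set G) :=
  centralizer_zpowers y ▸ centralizer_le_normalizer _

/-- The maximal subgroup over the normaliser of `⟨y⟩`, `y ∈ M_σ` of prime order with `C(y) ⊄ M`. -/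
theorem prime_case (hG : IsMinSimpleOddOrder G) (hM : IsCoatom M) (hy : y ∈ sigmaCore M)
    (hyo : orderOf y = q) (hC : ¬ centralizer ({y} : Set G) ≤ M) :
    ∃ N : Subgroup G, IsCoatom N ∧ centralizer ({y} : Set G) ≤ N ∧ q ∈ tau2 N ∧
      Group.IsNilpotent (sigmaCore N) ∧ (∀ g : G, N ≠ M.map (MulAut.conj g).toMonoidHom) ∧
      IsComplIn (M ⊓ N) (sigmaCore N) N := by
  have hyM := Sigma.sigmaCore_le M hy
  have hqσ : q ∈ sigma M := mem_sigma_core hy q hq.out (hyo ▸ dvd_rfl)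
  have hX : Nat.card (zpowers y) = q := by rw [Nat.card_zpowers, hyo]
  have hX1 := PrimeAction.ne_bot_of_card hX
  obtain ⟨N, hN, hNy⟩ := PrimeAction.exists_normalizer_le hG hX1 (zpowers_le.mpr hyM) hM
  have hCN : centralizer ({y} : Set G) ≤ N := (centralizer_le_normalizer_zpowers y).trans hNy
  have hne : N ≠ M := fun e => hC (e ▸ hCN)
  have hyN : y ∈ N := hNy (le_normalizer (mem_zpowers y))
  obtain ⟨S, hS⟩ := ((PrimeAction.isPGroup_of_card hX).comap_subtype (K := M ⊓ N)).exists_le_sylow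
  have hyS : y ∈ (S : Subgroup ↥(M ⊓ N)).map (M ⊓ N).subtype :=
    ⟨⟨y, mem_inf.mpr ⟨hyM, hyN⟩⟩, hS (mem_subgroupOf.mpr (mem_zpowers y)), rfl⟩
  obtain ⟨hnc, -, hSN⟩ := S1424.result hG M hM q hqσ (zpowers y) (PrimeAction.isPGroup_of_card hX) hX1
    (zpowers_le.mpr hyM) N hN hne hNy S (zpowers_le.mpr hyS)
  have hqN := not_sigma_of_ne hG hM hN hnc hqσ
  obtain ⟨⟨hr2, hr1⟩, -, A, hAe, hAc, hXA⟩ := S1409.result hG N hN q hqN _ hX hNy
  have hτ : q ∈ tau2 N := ⟨hq.out, hqN, hr2, hr1⟩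
  set T := (S : Subgroup ↥(M ⊓ N)).map (M ⊓ N).subtype with hTdef
  have hTle : T ≤ M ⊓ N := map_subtype_le _
  have hTN : T ≤ N := hTle.trans inf_le_right
  have hTp : IsPGroup q (T.subgroupOf N) := by
    have h1 : IsPGroup q T := S.isPGroup'.map _
    exact h1.comap_subtype
  have hSN' : ¬ q ∣ (T.subgroupOf N).index := hSN
  obtain ⟨P, hPdef⟩ : ∃ P : Sylow q N, (P : Subgroup N) = T.subgroupOf N :=
    ⟨hTp.toSylow hSN', IsPGroup.toSylow_coe _ _⟩
  have hPT : (P : Subgroup N).map N.subtype = T := by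
    rw [hPdef, map_subgroupOf_eq_of_le hTN]
  -- a conjugate of `A` lies in `T`
  have hAN : A ≤ N := fun a ha => hCN (mem_centralizer_singleton_iff.mpr
    (Components.Hyperplane.mem_comm hAe ha (hXA (mem_zpowers y))))
  obtain ⟨P', hP'⟩ := ((Components.Hyperplane.isPGroup hAe).comap_subtype (K := N)).exists_le_sylow
  obtain ⟨n, hn⟩ := MulAction.exists_smul_eq N P' P
  set B := A.map (MulAut.conj (n : G)).toMonoidHom with hB
  have hBT : B ≤ T := by
    rintro _ ⟨a, ha, rfl⟩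
    refine hPT ▸ ⟨n * ⟨a, hAN ha⟩ * n⁻¹, ?_, rfl⟩
    rw [← hn, Transfer.Fusion.coe_smul_eq_map]
    exact ⟨_, hP' (mem_subgroupOf.mpr ha), rfl⟩
  have hBe : IsElementaryAbelian q B := PLocal.ThompsonSubgroup.IsElementaryAbelian.map hAe _
  have hBc : Nat.card B = q ^ 2 := by rw [hB, card_map_conj, hAc]
  have hBN : B ≤ N := hBT.trans hTN
  have hBM : B ≤ M := hBT.trans (hTle.trans inf_le_left)
  obtain ⟨hnil, -, -, -, hinf, -⟩ := S1417.result hG N hN q hτ B ⟨hBN, hBe, hBc⟩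
  refine ⟨N, hN, hCN, hτ, hnil, hnc, ?_⟩
  obtain ⟨E, hE, hBE⟩ := Compl.exists_compl_ge hG hN hBN fun p hp hd => by
    rw [hBc] at hd
    rw [(Nat.prime_dvd_prime_iff_eq hp hq.out).mp (hp.dvd_of_dvd_pow hd)]
    exact hqN
  have hEB : E ≤ normalizer (B : Set G) := (S1418.result hG N hN E hE q hτ B ⟨hBE, hBe, hBc⟩).1.1
  obtain ⟨F, hF⟩ := Compl.exists_compl hG hM
  have hBnc : ¬ IsCyclic B := Components.Hyperplane.not_isCyclic hBe hBc.ge
  have hEM : E ≤ M := hEB.trans ((S1420.result hG M hM F hF).2.2.1 q B hqσ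
    (Components.Hyperplane.isPGroup hBe) hBM hBnc)
  refine ⟨inf_le_right, Sigma.sigmaCore_le N, ?_, fun m hm => ?_⟩
  · rw [← le_bot_iff, ← hinf M hM hne.symm hBM]
    exact le_inf inf_le_right (inf_le_left.trans inf_le_left)
  · obtain ⟨e, he, s, hs, rfl⟩ := hE.2.2.2 m hm
    exact ⟨e, mem_inf.mpr ⟨hEM he, hE.1 he⟩, s, hs, rfl⟩

theorem compl_split (hN : IsCoatom N) (hcompl : IsComplIn (M ⊓ N) (sigmaCore N) N) {z c : G}
    (hz : z ∈ M ⊓ N) (hc : c ∈ N) (hzc : Commute c z) :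
    ∃ e ∈ M ⊓ N, ∃ s ∈ sigmaCore N, c = e * s ∧ Commute e z ∧ Commute s z := by
  obtain ⟨e, he, s, hs, rfl⟩ := hcompl.2.2.2 c hc
  obtain ⟨h1, h2⟩ := split_commute hcompl.2.2.1
    (inf_le_right.trans (Sigma.le_normalizer_sigmaCore N)) hz he hs hzc
  exact ⟨e, he, s, hs, rfl, h1, h2⟩

/-- `M` controls the fusion of the elements of `M_σ` into `M`. -/
theorem fusion_core (hG : IsMinSimpleOddOrder G) (hM : IsCoatom M) (hx : x ∈ sigmaCore M) {g : G}
    (hgx : g * x * g⁻¹ ∈ M) : ∃ m ∈ M, m * x * m⁻¹ = g * x * g⁻¹ := by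
  rcases eq_or_ne x 1 with rfl | hx1
  · exact ⟨1, one_mem _, by simp⟩
  obtain ⟨n, hn⟩ := exists_prime_pow hx1
  set y := x ^ n with hy
  have := Fact.mk hn
  have hyσ : y ∈ sigmaCore M := pow_mem hx n
  have hgy : (zpowers y).map (MulAut.conj g).toMonoidHom ≤ M := by
    rw [MonoidHom.map_zpowers]
    refine zpowers_le.mpr ?_
    show g * x ^ n * g⁻¹ ∈ M
    rw [← conj_pow]
    exact pow_mem hgx n
  have hX : Nat.card (zpowers y) = orderOf y := Nat.card_zpowers y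
  obtain ⟨m, hm, c, hc, rfl⟩ := Sigma.sigma_conj hG hM (mem_sigma_core hyσ _ hn dvd_rfl)
    (PrimeAction.isPGroup_of_card hX) (PrimeAction.ne_bot_of_card hX)
    (zpowers_le.mpr (Sigma.sigmaCore_le M hyσ)) hgy
  rw [centralizer_zpowers] at hc
  by_cases hC : centralizer ({y} : Set G) ≤ M
  · exact ⟨m * c, mul_mem hm (hC hc), rfl⟩
  obtain ⟨N, hN, hCN, -, -, -, hcompl⟩ := prime_case hG hM hyσ rfl hC
  have hyMN : y ∈ M ⊓ N :=
    mem_inf.mpr ⟨Sigma.sigmaCore_le M hyσ, hCN (mem_centralizer_singleton_iff.mpr rfl)⟩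
  obtain ⟨e, he, s, hs, rfl, -, -⟩ := compl_split hN hcompl hyMN (hCN hc)
    (mem_centralizer_singleton_iff.mp hc)
  have hxMN : x ∈ M ⊓ N := mem_inf.mpr ⟨Sigma.sigmaCore_le M hx,
    hCN (mem_centralizer_singleton_iff.mpr ((Commute.refl x).pow_right n).eq)⟩
  have heM := (mem_inf.mp he).1
  have hsx : s * x * s⁻¹ ∈ M ⊓ N := by
    refine mem_inf.mpr ⟨?_, mul_mem (mul_mem (hcompl.2.1 hs) (mem_inf.mp hxMN).2)
      (inv_mem (hcompl.2.1 hs))⟩
    have : s * x * s⁻¹ = (m * e)⁻¹ * (m * (e * s) * x * (m * (e * s))⁻¹) * (m * e) := by group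
    rw [this]
    exact mul_mem (mul_mem (inv_mem (mul_mem hm heM)) hgx) (mul_mem hm heM)
  have h1 : x⁻¹ * (s * x * s⁻¹) ∈ (M ⊓ N) ⊓ sigmaCore N := by
    refine mem_inf.mpr ⟨mul_mem (inv_mem hxMN) hsx, ?_⟩
    rw [show x⁻¹ * (s * x * s⁻¹) = x⁻¹ * s * x * s⁻¹ by group]
    exact mul_mem ((mem_normalizer_iff''.mp
      (Sigma.le_normalizer_sigmaCore N (mem_inf.mp hxMN).2) s).mp hs) (inv_mem hs)
  rw [hcompl.2.2.1, mem_bot, inv_mul_eq_one] at h1
  refine ⟨m * e, mul_mem hm heM, ?_⟩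
  conv_lhs => rw [h1]
  group

/-- The data attached to `x ∈ M_σ` with `C(x) ⊄ M` and the maximal subgroup `N` over `C(x)`. -/
structure Sig (M N : Subgroup G) (x : G) : Prop where
  hN : IsCoatom N
  hC : centralizer ({x} : Set G) ≤ N
  uniq : ∀ L : Subgroup G, IsCoatom L → centralizer ({x} : Set G) ≤ L → L = N
  nil : Group.IsNilpotent (sigmaCore N)
  hne : ∀ g : G, N ≠ M.map (MulAut.conj g).toMonoidHom
  htau : ∀ p : ℕ, p.Prime → p ∣ orderOf x → p ∈ tau2 N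
  compl : IsComplIn (M ⊓ N) (sigmaCore N) N
  fixed : ∃ c ∈ sigmaCore N, c ≠ 1 ∧ x * c = c * x
  split : ∀ c ∈ centralizer ({x} : Set G), ∃ e ∈ M ⊓ centralizer ({x} : Set G),
    ∃ r ∈ sigmaCore N ⊓ centralizer ({x} : Set G), c = e * r

theorem exists_sig (hG : IsMinSimpleOddOrder G) (hM : IsCoatom M) (hx : x ∈ sigmaCore M) (hx1 : x ≠ 1)
    (hxM : ¬ centralizer ({x} : Set G) ≤ M) : ∃ N : Subgroup G, Sig M N x := by
  obtain ⟨n, hn⟩ := exists_prime_pow hx1
  set y := x ^ n with hy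
  have := Fact.mk hn
  have hyσ : y ∈ sigmaCore M := pow_mem hx n
  have hle := KappaStructure.centralizer_pow_le x n
  obtain ⟨N, hN, hCN, hqτ, hnil, hne, hcompl⟩ :=
    prime_case hG hM hyσ rfl fun h => hxM (hle.trans h)
  have hC : centralizer ({x} : Set G) ≤ N := hle.trans hCN
  have hxMN : x ∈ M ⊓ N :=
    mem_inf.mpr ⟨Sigma.sigmaCore_le M hx, hC (mem_centralizer_singleton_iff.mpr rfl)⟩
  have hsplit : ∀ c ∈ centralizer ({x} : Set G), ∃ e ∈ M ⊓ centralizer ({x} : Set G),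
      ∃ r ∈ sigmaCore N ⊓ centralizer ({x} : Set G), c = e * r := fun c hc => by
    obtain ⟨e, he, s, hs, rfl, hex, hsx⟩ :=
      compl_split hN hcompl hxMN (hC hc) (mem_centralizer_singleton_iff.mp hc)
    exact ⟨e, mem_inf.mpr ⟨(mem_inf.mp he).1, mem_centralizer_singleton_iff.mpr hex.eq⟩, s,
      mem_inf.mpr ⟨hs, mem_centralizer_singleton_iff.mpr hsx.eq⟩, rfl⟩
  obtain ⟨c, hc, hcM⟩ := SetLike.not_le_iff_exists.mp hxM
  obtain ⟨e, he, r, hr, rfl⟩ := hsplit c hc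
  obtain ⟨hrN, hrx⟩ := mem_inf.mp hr
  have hr1 : r ≠ 1 := fun e' => hcM (by rw [e', mul_one]; exact (mem_inf.mp he).1)
  have hxr := (mem_centralizer_singleton_iff.mp hrx).symm
  have hσ : ∀ p : ℕ, p.Prime → p ∣ orderOf x → p ∉ sigma N := fun p hp hd =>
    not_sigma_of_ne hG hM hN hne (mem_sigma_core hx p hp hd)
  rcases S1432.result hG N hN r hrN hr1 x
    (mem_inf.mpr ⟨(mem_inf.mp hxMN).2, mem_centralizer_singleton_iff.mpr hxr⟩) hx1 hσ with
    ⟨hκ, -⟩ | ⟨hτ, -, -, hu⟩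
  · exact absurd (KappaStructure.rank_of_kappa
      (hκ _ hn (orderOf_pow_dvd n))) hqτ.2.2.2
  · exact ⟨N, hN, hC, hu, hnil, hne, hτ, hcompl, ⟨r, hrN, hr1, hxr⟩, hsplit⟩

variable (h : Sig M N x)
include h

theorem Sig.not_le (hM : IsCoatom M) : ¬ centralizer ({x} : Set G) ≤ M := fun hle => by
  have e := h.uniq M hM hle
  exact h.hne 1 (by rw [Transfer.Fusion.map_conj_one, e])

theorem Sig.mem_inf (hx : x ∈ sigmaCore M) : x ∈ M ⊓ N :=
  Subgroup.mem_inf.mpr ⟨Sigma.sigmaCore_le M hx, h.hC (mem_centralizer_singleton_iff.mpr rfl)⟩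

theorem Sig.piEl_not (hG : IsMinSimpleOddOrder G) (hM : IsCoatom M) {r : G} (hr : r ∈ sigmaCore N) :
    IsPiEl {p | p ∉ sigma M} r :=
  piEl_of_sigma_ne hG hM h.hN h.hne (mem_sigma_core hr)

theorem Sig.normal : centralizer ({x} : Set G) ≤
    normalizer ((sigmaCore N ⊓ centralizer ({x} : Set G) : Subgroup G) : Set G) :=
  (le_inf (h.hC.trans (Sigma.le_normalizer_sigmaCore N)) le_normalizer).trans inf_normalizer_le_normalizer_inf

theorem Sig.compl_centralizer : IsComplIn (M ⊓ centralizer ({x} : Set G))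
    (sigmaCore N ⊓ centralizer ({x} : Set G)) (centralizer ({x} : Set G)) := by
  refine ⟨inf_le_right, inf_le_right, ?_, fun c hc => h.split c hc⟩
  rw [← le_bot_iff, ← h.compl.2.2.1]
  exact le_inf (le_inf (inf_le_left.trans inf_le_left) ((inf_le_left.trans inf_le_right).trans h.hC))
    (inf_le_right.trans inf_le_left)

theorem Sig.supportR_eq (hG : IsMinSimpleOddOrder G) (hM : IsCoatom M) :
    supportR M x = sigmaCore N ⊓ centralizer ({x} : Set G) := by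
  have hex : ¬ centralizer ({x} : Set G) ≤ M ∧
      ∃! L : Subgroup G, IsCoatom L ∧ centralizer ({x} : Set G) ≤ L :=
    ⟨h.not_le hM, N, ⟨h.hN, h.hC⟩, fun L hL => h.uniq L hL.1 hL.2⟩
  unfold supportR
  rw [dif_pos hex, h.uniq _ (Classical.choose_spec hex.2.exists).1 (Classical.choose_spec hex.2.exists).2,
    sigmaCore_eq_fittingHallOf hG h.hN h.nil]

/-- A conjugate of `M` containing `x` has the same data. -/
theorem Sig.of_conj (hG : IsMinSimpleOddOrder G) (hM : IsCoatom M) (hx : x ∈ sigmaCore M) (hx1 : x ≠ 1)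
    {g : G} (hg : x ∈ M.map (MulAut.conj g).toMonoidHom) :
    Sig (M.map (MulAut.conj g).toMonoidHom) N x := by
  obtain ⟨m, hm, he⟩ := fusion_core hG hM hx (g := g⁻¹)
    (by simpa using mem_conj_iff.mp hg)
  have hM' := Unique.isCoatom_map_conj hM g
  have hxσ : x ∈ sigmaCore (M.map (MulAut.conj g).toMonoidHom) :=
    mem_core_of_piEl hG hM' hg (sigma_eq (M := M) g ▸ mem_sigma_core hx)
  have hgm : g * m ∈ centralizer ({x} : Set G) := mem_centralizer_singleton_iff.mpr (by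
    calc g * m * x = g * (m * x * m⁻¹) * m := by group
      _ = g * (g⁻¹ * x * g⁻¹⁻¹) * m := by rw [he]
      _ = x * (g * m) := by group)
  have hC' : ¬ centralizer ({x} : Set G) ≤ M.map (MulAut.conj g).toMonoidHom := fun hle =>
    h.not_le hM fun c hc => by
      have h1 := mem_conj_iff.mp (hle (mul_mem (mul_mem hgm hc) (inv_mem hgm)))
      have h2 : c = m⁻¹ * (g⁻¹ * (g * m * c * (g * m)⁻¹) * g) * m := by group
      rw [h2]
      exact mul_mem (mul_mem (inv_mem hm) h1) hm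
  obtain ⟨N', h'⟩ := exists_sig hG hM' hxσ hx1 hC'
  rwa [← h'.uniq N h.hN h.hC] at h'

end Cfsg.Agent.OddLocal.Signalizer
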