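import Cfsg.Agent.OddLocal.PTypeU

/-! A small normal subgroup of `M_σ` at a prime of `τ₂` elsewhere, and the primes acting on it
(BG 14.13). -/

set_option autoImplicit false
set_option linter.unusedSectionVars false

namespace Cfsg.Agent.OddLocal.SmallNormal

open Cfsg Subgroup SigmaParts
open Cfsg.Agent.Transfer.Fusion (map_conj_eq_self_iff card_map_conj)

variable {G : Type*} [Group G] [Finite G] {M L Z : Subgroup G} {t : ℕ} [ht : Fact t.Prime]

/-- For `t ∈ σ(M) ∩ τ₂(L)` with `M_σ` nilpotent: a normal elementary subgroup of `M`, of order `≤ t²`. -/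
theorem exists_small (hG : IsMinSimpleOddOrder G) (hM : IsCoatom M)
    (hnil : Group.IsNilpotent (sigmaCore M)) (htM : t ∈ sigma M) (hL : IsCoatom L) (hτ : t ∈ tau2 L) :
    ∃ Z : Subgroup G, Z ≤ sigmaCore M ∧ Z ≠ ⊥ ∧ M ≤ normalizer (Z : Set G) ∧
      IsElementaryAbelian t Z ∧ Nat.card Z ≤ t ^ 2 := by
  obtain ⟨B, hBL, hBe, hBc⟩ := Unique.exists_elementary_of_not_pRankLE hτ.2.2.2
  have hB := TauTwo.max2 hG hL hτ hBL hBe hBc
  obtain ⟨T, hTM, -⟩ := Sigma.exists_sylow_normalizer_le htM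
  obtain ⟨T', hBT⟩ := hB.isPGroup.exists_le_sylow
  obtain ⟨g, hg⟩ := MulAction.exists_smul_eq G T T'
  have hmemg : ∀ x : G, g * x * g⁻¹ ∈ (T' : Subgroup G) ↔ x ∈ (T : Subgroup G) := fun x => by
    rw [← hg, Transfer.Fusion.coe_smul_eq_map, mem_conj_iff]
    simp [mul_assoc]
  obtain ⟨C, hC⟩ : ∃ C : Subgroup G, C = (T : Subgroup G) ⊓ centralizer ((T : Subgroup G) : Set G) :=
    ⟨_, rfl⟩
  obtain ⟨Z, hZ⟩ := PType.exists_omega (U := C)
    ⟨⟨fun a b => Subtype.ext (by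
      exact (mem_centralizer_iff.mp (mem_inf.mp (hC.le b.2)).2 a (mem_inf.mp (hC.le a.2)).1))⟩⟩ t
  have hTσ : (T : Subgroup G) ≤ sigmaCore M := Sigma.sylow_le_sigmaCore hG hM htM T.isPGroup' hTM
  set T₀ : Sylow t (sigmaCore M) := T.subtype hTσ with hT₀
  have hT₀n : (T₀ : Subgroup (sigmaCore M)).Normal :=
    (Group.isNilpotent_of_finite_tfae.out 0 3 rfl rfl).mp hnil t inferInstance T₀
  have hMT : M ≤ normalizer ((T : Subgroup G) : Set G) := fun m hm => map_conj_eq_self_iff.mp (by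
    refine eq_of_le_of_card_ge ?_ (by rw [card_map_conj])
    rintro _ ⟨x, hx, rfl⟩
    have hxσ : m * x * m⁻¹ ∈ sigmaCore M :=
      (mem_normalizer_iff.mp (Sigma.le_normalizer_sigmaCore M hm) x).mp (hTσ hx)
    exact KappaDecomp.mem_of_normal_coprime (N := (T₀ : Subgroup (sigmaCore M)))
      (H := ⊤) (le_top.trans (normalizer_eq_top_iff.mpr hT₀n).ge) le_top (x := ⟨_, hxσ⟩) (mem_top _)
      (by
        rw [relIndex_top_right]
        refine Nat.coprime_of_dvd fun p hp h1 h2 => T₀.not_dvd_index ?_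
        have hpt : p = t := PType.eq_of_dvd_pow_card hp T.isPGroup'
          (((((MulAut.conj m).orderOf_eq x).symm ▸ (by simpa [← orderOf_coe] using h1)) :
            p ∣ orderOf x).trans (orderOf_dvd_natCard _ hx))
        exact hpt ▸ h2))
  have hMZ : M ≤ normalizer (Z : Set G) := fun m hm => map_conj_eq_self_iff.mp (by
    refine eq_of_le_of_card_ge ?_ (by rw [card_map_conj])
    rintro _ ⟨x, hx, rfl⟩
    obtain ⟨hxC, hxp⟩ := (hZ x).mp hx
    rw [hC] at hxC
    refine (hZ _).mpr ⟨hC.ge (mem_inf.mpr ⟨(mem_normalizer_iff.mp (hMT hm) x).mp (mem_inf.mp hxC).1,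
      Sigma.centralizer_conj (hMT hm) (mem_inf.mp hxC).2⟩), ?_⟩
    show (m * x * m⁻¹) ^ t = 1
    rw [conj_pow, hxp]; group)
  have hZσ : Z ≤ sigmaCore M := fun x hx => hTσ (mem_inf.mp (hC ▸ ((hZ x).mp hx).1)).1
  have hZe : IsElementaryAbelian t Z := ⟨⟨⟨fun ⟨a, ha⟩ ⟨b, hb⟩ => Subtype.ext (by
      have ha' := hC.le ((hZ a).mp ha).1
      have hb' := hC.le ((hZ b).mp hb).1
      exact (mem_centralizer_iff.mp (mem_inf.mp hb').2 a (mem_inf.mp ha').1))⟩⟩,
    fun a ha => ((hZ a).mp ha).2⟩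
  refine ⟨Z, hZσ, ?_, hMZ, hZe, ?_⟩
  · intro e
    have hTnt : Nontrivial (T : Subgroup G) := by
      rw [nontrivial_iff_ne_bot]
      exact T.ne_bot_of_dvd_card (htM.2.1.trans (card_subgroup_dvd_card M))
    have hcn := T.isPGroup'.center_nontrivial
    obtain ⟨n, hn⟩ := (T.isPGroup'.to_subgroup (center (T : Subgroup G))).exists_card_eq
    have hn0 : n ≠ 0 := fun e' => by
      rw [e', pow_zero] at hn
      exact absurd hn ((Subgroup.one_lt_card_iff_ne_bot _).mpr ((nontrivial_iff_ne_bot _).mp hcn)).ne'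
    obtain ⟨z, hz⟩ := exists_prime_orderOf_dvd_card' t (hn ▸ dvd_pow_self t hn0)
    rw [← orderOf_coe, ← orderOf_coe] at hz
    have hzZ : ((z : (T : Subgroup G)) : G) ∈ Z := (hZ _).mpr ⟨hC.ge (mem_inf.mpr
      ⟨(z : (T : Subgroup G)).2, mem_centralizer_iff.mpr fun b hb =>
        congrArg Subtype.val (mem_center_iff.mp z.2 ⟨b, hb⟩)⟩), orderOf_dvd_iff_pow_eq_one.mp hz.dvd⟩
    exact KappaCentral.ne_one_of_order hz (mem_bot.mp (e ▸ hzZ))
  · rw [← hB.card, ← card_map_conj Z g]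
    refine Subgroup.card_le_of_le ?_
    rintro _ ⟨x, hx, rfl⟩
    obtain ⟨hxC, hxp⟩ := (hZ x).mp hx
    rw [hC] at hxC
    refine hB.omega _ (mem_centralizer_iff.mpr fun b hb => ?_) ?_
    · have hbT : g⁻¹ * b * g ∈ (T : Subgroup G) := (hmemg _).mp (by
        simpa [mul_assoc] using hBT hb)
      have h1 := mem_centralizer_iff.mp (mem_inf.mp hxC).2 _ hbT
      show b * (g * x * g⁻¹) = g * x * g⁻¹ * b
      calc b * (g * x * g⁻¹) = g * ((g⁻¹ * b * g) * x) * g⁻¹ := by group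
        _ = g * (x * (g⁻¹ * b * g)) * g⁻¹ := by rw [h1]
        _ = g * x * g⁻¹ * b := by group
    · show (g * x * g⁻¹) ^ t = 1
      rw [conj_pow, hxp]; group

/-- A prime acting nontrivially on an elementary abelian group of order `≤ t²` is smaller than `t`. -/
theorem lt_of_moves (hG : IsMinSimpleOddOrder G) {s : ℕ} [hs : Fact s.Prime] (hst : s ≠ t)
    (hel : IsElementaryAbelian t Z) (hcard : Nat.card Z ≤ t ^ 2) {v : G} (hv : IsPGroup s (zpowers v))
    (hvZ : v ∈ normalizer (Z : Set G)) (hmove : v ∉ centralizer (Z : Set G)) : s < t := by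
  refine lt_of_le_of_ne ?_ hst
  by_contra hlt
  push Not at hlt
  refine hmove ?_
  have hZ1 : Z ≠ ⊥ := by
    rintro rfl
    exact hmove (mem_centralizer_iff.mpr fun a ha => by
      rw [mem_bot.mp ha, one_mul, mul_one])
  have ht2 : t ≠ 2 := by
    rintro rfl
    obtain ⟨n, hn⟩ := (Components.Hyperplane.isPGroup hel).exists_card_eq
    have h1 := Sigma.odd_card hG Z
    rw [hn] at h1
    rcases n.eq_zero_or_pos with rfl | h0
    · exact hZ1 (card_eq_one.mp (by rw [hn, pow_zero]))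
    · exact (Nat.not_even_iff_odd.mpr h1) (Nat.even_pow.mpr ⟨even_two, h0.ne'⟩)
  let _ : CommGroup Z := { (inferInstance : Group Z) with
    mul_comm := fun a b => Subtype.ext (Components.Hyperplane.mem_comm hel a.2 b.2) }
  let φ : zpowers v →* MulAut Z := Z.normalizerMonoidHom.comp (inclusion (zpowers_le.mpr hvZ))
  have hdvd : Nat.card Z ∣ t ^ 2 := by
    obtain ⟨n, hn⟩ := (Components.Hyperplane.isPGroup hel).exists_card_eq
    rw [hn] at hcard ⊢
    exact pow_dvd_pow t ((Nat.pow_le_pow_iff_right ht.out.one_lt).mp hcard)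
  have h1 := (AutRankTwo.elementary_aut ht2 (fun w : Z => Subtype.ext (hel.2 _ w.2))
    hdvd (Sigma.odd_card hG (zpowers v)) φ).2
  have hφ : φ.range = ⊥ := by
    by_contra hne
    obtain ⟨n, hn⟩ := (hv.of_surjective φ.rangeRestrict φ.rangeRestrict_surjective).exists_card_eq
    have hn0 : n ≠ 0 := by
      rintro rfl
      exact hne (card_eq_one.mp (by simpa using hn))
    have ht' := ht.out.two_le
    rcases h1 s hs.out (hn ▸ dvd_pow_self s hn0) hlt.ne' with h2 | h2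
    · have := Nat.le_of_dvd (by omega) h2; omega
    · have h3 := Nat.le_of_dvd (by omega) h2
      have hs1 : s = t + 1 := by omega
      have h4 : t % 2 = 1 := (Nat.Prime.eq_two_or_odd ht.out).resolve_left ht2
      have h5 : s % 2 = 1 := (Nat.Prime.eq_two_or_odd hs.out).resolve_left (by omega)
      omega
  refine mem_centralizer_iff.mpr fun a ha => ?_
  have h2 : φ ⟨v, mem_zpowers v⟩ = 1 := mem_bot.mp (hφ ▸ ⟨_, rfl⟩ :
    φ ⟨v, mem_zpowers v⟩ ∈ (⊥ : Subgroup (MulAut Z)))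
  exact (mul_inv_eq_iff_eq_mul.mp (show v * a * v⁻¹ = a from
    congrArg Subtype.val (DFunLike.congr_fun h2 (⟨a, ha⟩ : Z)))).symm

/-- The prime inequality for `t ∈ σ(M) ∩ τ₂(L)` and an element moving the fixed points. -/
theorem lt_of_regular (hG : IsMinSimpleOddOrder G) (hM : IsCoatom M)
    (hnil : Group.IsNilpotent (sigmaCore M)) (htM : t ∈ sigma M) (hL : IsCoatom L) (hτ : t ∈ tau2 L)
    {s : ℕ} [hs : Fact s.Prime] (hst : s ≠ t) {A : Subgroup G} (hAp : IsPGroup s A) (hAM : A ≤ M)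
    (hfix : sigmaCore M ⊓ centralizer (A : Set G) = ⊥) : s < t := by
  obtain ⟨Z, hZσ, hZ1, hMZ, hZe, hZc⟩ := exists_small hG hM hnil htM hL hτ
  by_contra hns
  refine hZ1 (le_bot_iff.mp (hfix ▸ le_inf hZσ (le_centralizer_iff.mp fun a ha => ?_)))
  by_contra hmove
  exact hns (lt_of_moves hG hst hZe hZc (hAp.to_le (zpowers_le.mpr ha)) (hMZ (hAM ha)) hmove)

end Cfsg.Agent.OddLocal.SmallNormal
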