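import Cfsg.Agent.OddLocal.PTypeU2
import Cfsg.Agent.OddLocal.SmallNormal
import Cfsg.Agent.S1425
import Cfsg.Agent.OddLocal.RegularMain

/-! When `σ(N)` meets `π(M)` (BG 14.13). -/

set_option autoImplicit false
set_option linter.unusedSectionVars false

namespace Cfsg.Agent.OddLocal.SigDisjoint

open Cfsg Subgroup KappaStructure SigmaParts Signalizer SmallNormal
open TauTwo (centralizer_zpowers)
open Cfsg.Agent.Transfer.Fusion (card_map_conj)

variable {G : Type*} [Group G] [Finite G] {M N : Subgroup G} {x : G} {p : ℕ}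

theorem kappa_empty (hG : IsMinSimpleOddOrder G) (hM : IsCoatom M) (hx : x ∈ sigmaCore M) (hx1 : x ≠ 1)
    (h : Sig M N x) (hpσ : p ∈ sigma N) (hpM : p ∣ Nat.card M) : kappa M = ∅ := by
  by_contra hne
  obtain ⟨r, hr⟩ := Set.nonempty_iff_ne_empty.mpr hne
  obtain ⟨K, hK, -⟩ := PType.exists_hall_ge hG hM (π := kappa M) (V := ⊥) bot_le
    fun q hq hd => absurd (Nat.dvd_one.mp (by rwa [card_bot] at hd)) hq.ne_one
  have hK1 : K ≠ ⊥ := by
    rintro rfl
    exact hK.2.2 r hr.1 hr (by rw [relIndex_bot_left]; exact hr.2.1)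
  obtain ⟨S, hP⟩ := PType.exists_pair hG hM hK hK1
  have := hP.cyclic
  have hKc : IsCyclic K :=
    isCyclic_of_injective (inclusion (le_sup_left : K ≤ K ⊔ PType.star M K)) (inclusion_injective _)
  obtain ⟨U, hKU⟩ := KappaDecomp.exists_decomposition hG hM hK hKc
  obtain ⟨q, hq, hqd⟩ := Nat.exists_prime_and_dvd (fun e => hx1 (orderOf_eq_one_iff.mp e))
  have := Fact.mk hq
  have hqσ : q ∈ sigma M := mem_sigma_core hx q hq hqd
  have hqτ := h.htau q hq hqd
  by_cases hU : U = ⊥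
  swap
  · obtain ⟨u, P⟩ := PType.P2.exists_gen hG hP hKU hU
    exact P.not_tau2 hqσ h.hN hqτ
  have hp : p.Prime := hpσ.1
  have hpnσ : p ∉ sigma M := fun hσ => not_sigma_of_ne hG hM h.hN h.hne hσ hpσ
  have hpκ : p ∈ kappa M := by
    by_contra hκ
    have h1 := KappaDecomp.dvd_of_not hKU hp hpM hpnσ hκ
    rw [hU, card_bot] at h1
    exact hp.ne_one (Nat.dvd_one.mp h1)
  have hpK : p ∣ Nat.card K := by
    have h1 : Nat.card K * K.relIndex M = Nat.card M := by
      rw [← Nat.card_congr (subgroupOfEquivOfLe hK.1).toEquiv]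
      exact card_mul_index (K.subgroupOf M)
    exact (hp.dvd_mul.mp (h1 ▸ hpM)).resolve_right (hK.2.2 p hp hpκ)
  have hpS : p ∈ sigma S :=
    Transitivity.isPi_piCoreOf (sigma S) S p hp (hpK.trans (card_dvd_of_le hP.le_core))
  obtain ⟨g, hg⟩ := conj_of_common hG h.hN hP.hH hpσ hpS
  obtain ⟨B, hBN, hBe, hBc⟩ := Unique.exists_elementary_of_not_pRankLE hqτ.2.2.2
  set B' := B.map (MulAut.conj g).toMonoidHom
  have hB'e : IsElementaryAbelian q B' := PLocal.ThompsonSubgroup.IsElementaryAbelian.map hBe _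
  have hB'c : Nat.card B' = q ^ 2 := by rw [card_map_conj, hBc]
  have hB'S : B' ≤ S := hg ▸ map_mono hBN
  obtain ⟨m, -, hle⟩ := PType.exists_conj_le_hall hG hP.hH (hP.hall_sigma hG) hB'S fun s hs hd => by
    rw [hB'c] at hd
    rw [(Nat.prime_dvd_prime_iff_eq hs hq).mp (hs.dvd_of_dvd_pow hd)]
    exact hqσ
  have hstar : IsCyclic (PType.star M K) :=
    isCyclic_of_injective (inclusion (le_sup_right : PType.star M K ≤ K ⊔ PType.star M K))
      (inclusion_injective _)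
  have : IsCyclic ((PType.star M K).map (MulAut.conj m).toMonoidHom : Subgroup G) :=
    isCyclic_of_surjective _ ((PType.star M K).equivMapOfInjective _ (MulAut.conj m).injective).surjective
  exact Components.Hyperplane.not_isCyclic hB'e hB'c.ge
    (isCyclic_of_injective (inclusion hle) (inclusion_injective _))

theorem tau2_empty (hG : IsMinSimpleOddOrder G) (hM : IsCoatom M) (hx : x ∈ sigmaCore M) (hx1 : x ≠ 1)
    (h : Sig M N x) (hpσ : p ∈ sigma N) (hpM : p ∣ Nat.card M) : tau2 M = ∅ := by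
  by_contra hne
  obtain ⟨t, hτ⟩ := Set.nonempty_iff_ne_empty.mpr hne
  have hκ := kappa_empty hG hM hx hx1 h hpσ hpM
  have := Fact.mk hτ.1
  have hp : p.Prime := hpσ.1
  have := Fact.mk hp
  obtain ⟨q, hq, hqd⟩ := Nat.exists_prime_and_dvd (fun e => hx1 (orderOf_eq_one_iff.mp e))
  have := Fact.mk hq
  have hqσ : q ∈ sigma M := mem_sigma_core hx q hq hqd
  have hqτ := h.htau q hq hqd
  obtain ⟨A₀, hA₀M, hA₀e, hA₀c⟩ := Unique.exists_elementary_of_not_pRankLE hτ.2.2.2
  have hnilM := (S1417.result hG M hM t hτ A₀ ⟨hA₀M, hA₀e, hA₀c⟩).1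
  have hne' : ∀ g : G, N ≠ M.map (MulAut.conj g).toMonoidHom := h.hne
  have hpnσ : p ∉ sigma M := fun hσ => not_sigma_of_ne hG hM h.hN hne' hσ hpσ
  -- `p` exceeds `q` when it has rank two somewhere
  have hqp : ∀ L : Subgroup G, IsCoatom L → p ∈ tau2 L → q < p := fun L hL hpτ => by
    obtain ⟨B, hBN, hBe, hBc⟩ := Unique.exists_elementary_of_not_pRankLE hqτ.2.2.2
    exact lt_of_regular hG h.hN h.nil hpσ hL hpτ (fun e => hqτ.2.1 (by rw [e]; exact hpσ))
      (Components.Hyperplane.isPGroup hBe) hBN (S1417.result hG N h.hN q hqτ B ⟨hBN, hBe, hBc⟩).2.2.2.1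
  obtain ⟨E, hE⟩ := Compl.exists_compl hG hM
  obtain ⟨⟨w₀, hw₀⟩, hw₀o⟩ := exists_prime_orderOf_dvd_card' p (Compl.dvd_of_dvd hE hp hpnσ hpM)
  rw [orderOf_mk] at hw₀o
  have hp1 : PRankLE p 1 M := by
    by_contra hp2
    have hpτ : p ∈ tau2 M := ⟨hp, hpnσ, SigmaCompl.rank_le hG hM hp hpnσ, hp2⟩
    obtain ⟨B, hBM, hBe, hBc⟩ := Unique.exists_elementary_of_not_pRankLE hp2
    have h1 := lt_of_regular hG hM hnilM hqσ h.hN hqτ (fun e => hpnσ (by rw [e]; exact hqσ))
      (Components.Hyperplane.isPGroup hBe) hBM (S1417.result hG M hM p hpτ B ⟨hBM, hBe, hBc⟩).2.2.2.1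
    exact (h1.trans (hqp M hM hpτ)).false
  have hreg : sigmaCore M ⊓ centralizer (zpowers w₀ : Set G) = ⊥ := by
    by_contra hc
    obtain ⟨y, hy, hy1⟩ := (bot_or_exists_ne_one _).resolve_left hc
    have := mem_kappa hG (hE.1 hw₀) hw₀o hpnσ hp1 (mem_inf.mp hy).1 hy1
      (mem_centralizer_iff.mp (mem_inf.mp hy).2 w₀ (mem_zpowers _))
    rw [hκ] at this
    exact this
  have hwp : IsPGroup p (zpowers w₀) := IsPGroup.of_card (n := 1) (by rw [Nat.card_zpowers, hw₀o, pow_one])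
  have hpq : p < q := lt_of_regular hG hM hnilM hqσ h.hN hqτ (fun e => hpnσ (by rw [e]; exact hqσ))
    hwp (zpowers_le.mpr (hE.1 hw₀)) hreg
  -- a conjugate of `w₀` in `N_σ`, with centraliser in `N`
  obtain ⟨g, hg⟩ := S1425.result hG N h.hN (zpowers w₀)
    (fun e => KappaCentral.ne_one_of_order hw₀o (zpowers_eq_bot.mp e))
    (fun s hs hd => by
      rw [Nat.card_zpowers, hw₀o] at hd
      rw [(Nat.prime_dvd_prime_iff_eq hs hp).mp hd]
      exact hpσ)
  set w := g * w₀ * g⁻¹ with hw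
  have hwN : w ∈ sigmaCore N := hg ⟨w₀, mem_zpowers _, rfl⟩
  have hwo : orderOf w = p := by rw [hw]; exact ((MulAut.conj g).orderOf_eq w₀).trans hw₀o
  have hCw : centralizer ({w} : Set G) ≤ N := by
    by_contra hle
    obtain ⟨N', h'⟩ := exists_sig hG h.hN hwN (KappaCentral.ne_one_of_order hwo) hle
    exact (hpq.trans (hqp N' h'.hN (h'.htau p hp (hwo ▸ dvd_rfl)))).false
  have hconj : ∀ a : G, Commute w₀ a → g * a * g⁻¹ ∈ centralizer ({w} : Set G) := fun a ha =>
    mem_centralizer_singleton_iff.mpr (by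
      rw [hw]
      calc g * a * g⁻¹ * (g * w₀ * g⁻¹) = g * (a * w₀) * g⁻¹ := by group
        _ = g * (w₀ * a) * g⁻¹ := by rw [ha.eq]
        _ = g * w₀ * g⁻¹ * (g * a * g⁻¹) := by group)
  -- `t` has rank one in `N`
  have htN : t ∉ sigma N := fun htσ => by
    obtain ⟨B, hBN, hBe, hBc⟩ := Unique.exists_elementary_of_not_pRankLE hqτ.2.2.2
    have h1 := lt_of_regular hG h.hN h.nil htσ hM hτ (fun e => hqτ.2.1 (by rw [e]; exact htσ))
      (Components.Hyperplane.isPGroup hBe) hBN (S1417.result hG N h.hN q hqτ B ⟨hBN, hBe, hBc⟩).2.2.2.1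
    have h2 := lt_of_regular hG hM hnilM hqσ h.hN hqτ (fun e => hτ.2.1 (by rw [e]; exact hqσ))
      (Components.Hyperplane.isPGroup hA₀e) hA₀M (S1417.result hG M hM t hτ A₀ ⟨hA₀M, hA₀e, hA₀c⟩).2.2.2.1
    exact (h1.trans h2).false
  have ht1 : PRankLE t 1 N := by
    by_contra h2
    obtain ⟨A', hA', h''⟩ := SigmaCompl.exists_ctx hG h.hN h.compl
      ⟨hτ.1, htN, SigmaCompl.rank_le hG h.hN hτ.1 htN, h2⟩
    obtain ⟨-, -, -, -, hinf, -⟩ := S1417.result hG M hM t hτ A' ⟨hA'.trans inf_le_left, h''.hA.el, h''.hA.card⟩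
    refine hx1 (mem_bot.mp (hinf N h.hN (fun e => hne' 1 ?_) (hA'.trans inf_le_right) ▸ mem_inf.mpr
      ⟨hx, h.hC (mem_centralizer_singleton_iff.mpr rfl)⟩))
    rw [Transfer.Fusion.map_conj_one, e]
  -- `w₀` acts on `A`
  obtain ⟨A, hAE, hA⟩ := SigmaCompl.exists_ctx hG hM hE hτ
  have hwA : zpowers w₀ ≤ normalizer (A : Set G) := zpowers_le.mpr (hA.le_normalizer_compl hE hAE hw₀)
  have hpt : p ≠ t := fun e => by subst e; exact hτ.2.2.2 hp1
  have hAc : IsMulCommutative A := hA.hA.comm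
  have hco : (Nat.card (zpowers w₀)).Coprime (Nat.card A) := by
    rw [Nat.card_zpowers, hw₀o, hA.hA.card]
    exact Nat.Coprime.pow_right _ ((Nat.coprime_primes hp hτ.1).mpr hpt)
  set W := ⁅A, zpowers w₀⁆ with hWdef
  have hWA : W ≤ A := Cfsg.Agent.Coprime.commutator_le_of_le_normalizer hwA
  have hW1 : W ≠ ⊥ := fun e => by
    have h1 := Cfsg.Agent.Coprime.commutator_eq_bot_iff_le_centralizer'.mp e (mem_zpowers w₀)
    refine (Components.Hyperplane.not_isCyclic hA.hA.el hA.hA.card.ge) ?_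
    have hle : A.map (MulAut.conj g).toMonoidHom ≤ N := by
      rintro _ ⟨a, ha, rfl⟩
      exact hCw (hconj a ((mem_centralizer_iff.mp h1) a ha).symm)
    have := Compl.isCyclic_of_rankOne hG ht1 (hA.hA.isPGroup.map (MulAut.conj g).toMonoidHom) hle
    exact isCyclic_of_surjective _ (A.equivMapOfInjective (MulAut.conj g).toMonoidHom (MulAut.conj g).injective).symm.surjective
  have hfpf : ∀ a ∈ W, Commute w₀ a → a = 1 := fun a ha e => mem_bot.mp
    ((Cfsg.Agent.Coprime.inf_centralizer_inf_commutator hwA hco).le (mem_inf.mpr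
      ⟨mem_inf.mpr ⟨hWA ha, centralizer_zpowers w₀ ▸ mem_centralizer_singleton_iff.mpr e.symm.eq⟩, ha⟩))
  have hwW : w₀ ∈ normalizer (W : Set G) :=
    mem_normalizer_iff_map_conj_eq.mpr (by
      rw [hWdef, map_commutator, mem_normalizer_iff_map_conj_eq.mp (hwA (mem_zpowers w₀)),
        mem_normalizer_iff_map_conj_eq.mp (le_normalizer (mem_zpowers w₀))])
  have hcpr : ∀ {s : ℕ}, s.Prime → s ∉ sigma M → (Nat.card (sigmaCore M)).Coprime s := fun {s} hs hsσ =>
    ((hs.coprime_iff_not_dvd.mpr fun hd => hsσ (Transitivity.isPi_piCoreOf (sigma M) M s hs hd))).symm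
  have hWC : W ≤ centralizer (sigmaCore M : Set G) :=
    FrobeniusFixGroup.le_centralizer_of_fpf (r := p) (hw₀o ▸ pow_orderOf_eq_one w₀) hwW hfpf
      (Transitivity.isSolvable_of_ne_top hG fun e => hM.1 (top_le_iff.mp (e ▸ Sigma.sigmaCore_le M)))
      (hcpr hp hpnσ)
      (Nat.coprime_of_dvd fun s hs h1 h2 => by
        have := PType.eq_of_dvd_pow_card hs (hA.hA.isPGroup.to_le hWA) h2
        exact hτ.2.1 (this ▸ Transitivity.isPi_piCoreOf (sigma M) M s hs h1))
      (Sigma.le_normalizer_sigmaCore M (hE.1 hw₀))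
      ((hWA.trans hA.hAM).trans (Sigma.le_normalizer_sigmaCore M))
      (fun y hy e a _ => by
        have hy1 : y = 1 := mem_bot.mp (hreg ▸ mem_inf.mpr ⟨hy, centralizer_zpowers w₀ ▸
          mem_centralizer_singleton_iff.mpr e.symm.eq⟩)
        rw [hy1]; exact Commute.one_right a)
  -- a fixed point of `w₀` on `A` makes `t` a `κ`-prime of `N`
  obtain ⟨a, ha, ha1, hwa⟩ : ∃ a ∈ A, a ≠ 1 ∧ Commute w₀ a := by
    by_contra hcon
    obtain ⟨-, -, -, hCA, -⟩ := S1417.result hG M hM t hτ A ⟨hA.hAM, hA.hA.el, hA.hA.card⟩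
    have hA' : A ≤ W := by
      refine (Cfsg.Agent.Coprime.commutator_sup_inf_centralizer hwA hco (Or.inr (Transitivity.isSolvable_of_ne_top hG fun e => hM.1 (top_le_iff.mp (e ▸ hA.hAM))))).ge.trans (sup_le le_rfl ?_)
      intro a ha
      obtain ⟨haA, hac⟩ := mem_inf.mp ha
      by_contra haW
      exact hcon ⟨a, haA, fun e => haW (e ▸ one_mem _), mem_centralizer_iff.mp hac _ (mem_zpowers _)⟩
    exact Sigma.sigmaCore_ne_bot hG hM (by
      rw [← hCA, eq_comm, inf_eq_left]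
      exact le_centralizer_iff.mp (hA'.trans hWC))
  have hto : ∀ b ∈ A, b ≠ 1 → orderOf b = t := fun b hb hb1 => orderOf_eq_prime (hA.hA.el.2 b hb) hb1
  have htκ : t ∈ kappa N := mem_kappa hG (hCw (hconj a hwa))
    (((MulAut.conj g).orderOf_eq a).trans (hto a ha ha1)) htN ht1 hwN (KappaCentral.ne_one_of_order hwo)
    (mem_centralizer_singleton_iff.mp (hconj a hwa))
  obtain ⟨v, hv, hv1⟩ := (bot_or_exists_ne_one W).resolve_left hW1
  have hvx : v * x = x * v := (mem_centralizer_iff.mp (hWC hv) x hx).symm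
  have hvN : v ∈ N := h.hC (mem_centralizer_singleton_iff.mpr hvx)
  obtain ⟨K, hK, hK'⟩ := PType.exists_hall_ge hG h.hN (π := kappa N) (V := zpowers v) (zpowers_le.mpr hvN)
    fun s hs hd => by
      rw [Nat.card_zpowers, hto v (hWA hv) hv1] at hd
      rw [(Nat.prime_dvd_prime_iff_eq hs hτ.1).mp hd]
      exact htκ
  obtain ⟨S, hP⟩ := PType.exists_pair hG h.hN hK (fun e => hv1 (mem_bot.mp (e ▸ hK' (mem_zpowers v))))
  have hxN : x ∈ N := h.hC (mem_centralizer_singleton_iff.mpr rfl)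
  have hmem : x ∈ K ⊔ PType.star N K := (hP.centralizer_kappa hG (hK' (mem_zpowers v)) hv1).le
    (mem_inf.mpr ⟨hxN, mem_centralizer_singleton_iff.mpr hvx.symm⟩)
  have hd : q ∣ Nat.card ↥(K ⊔ PType.star N K) := hqd.trans (orderOf_dvd_natCard _ hmem)
  have hd' : q ∣ Nat.card K * Nat.card (PType.star N K) := by
    rw [sup_comm] at hd
    rw [mul_comm]
    exact hd.trans (RegularMain.card_sup_dvd (le_centralizer_iff.mp inf_le_right |>.trans
      (centralizer_le_normalizer _)))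
  rcases hq.dvd_mul.mp hd' with h1 | h1
  · exact hqτ.2.2.2 (rank_of_kappa (hK.2.1 q hq h1))
  · exact hqτ.2.1 (Transitivity.isPi_piCoreOf (sigma N) N q hq (h1.trans (card_dvd_of_le inf_le_left)))

end Cfsg.Agent.OddLocal.SigDisjoint
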