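import Cfsg.Prelude.Def_OddOrderChar
import Cfsg.Agent.OddLocal.TypeTwoTI
import Cfsg.Agent.OddLocal.SupportR
import Cfsg.Agent.S1375
import Cfsg.Agent.S1374
import Cfsg.Agent.S1436
import Cfsg.Agent.S1432

/-!
# The Dade hypothesis for the sets attached to a maximal subgroup
-/

set_option autoImplicit false
set_option linter.unusedSectionVars false

namespace Cfsg.Agent.OddLocal.DadeSets

open Cfsg Subgroup

variable {G : Type*} [Group G] [Finite G] {M K U : Subgroup G}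

/-- Membership of an element of `M` in `M_σ` is read off from its order. -/
theorem mem_core_iff (hG : IsMinSimpleOddOrder G) (hM : IsCoatom M) {a : G} (ha : a ∈ M) :
    (∀ p : ℕ, p.Prime → p ∣ orderOf a → p ∈ sigma M) ↔ a ∈ sigmaCore M :=
  ⟨fun h => KappaDecomp.mem_of_normal_coprime (Sigma.le_normalizer_sigmaCore M) (Sigma.sigmaCore_le M) ha
      (Nat.coprime_of_dvd fun p hp h1 h2 => (Sigma.sigmaCore_hall hG hM).1.2.2 p hp (h p hp h1) h2),
    fun h p hp hd => Transitivity.isPi_piCoreOf (sigma M) M p hp (hd.trans (orderOf_dvd_natCard (sigmaCore M) h))⟩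

/-- Membership of an element of `M̂_σ` in `A(M)` is read off from its order. -/
theorem mem_sigmaA_iff (hG : IsMinSimpleOddOrder G) (hM : IsCoatom M) (hKU : IsSigmaDecomposition M K U) {a : G}
    (ha : a ∈ sigmaHat M) : (∀ p : ℕ, p.Prime → p ∣ orderOf a → p ∉ kappa M) ↔ a ∈ sigmaA M U := by
  refine ⟨fun h => ⟨ha, KappaDecomp.mem_sup_of_not_kappa hG hM hKU ha.1 h⟩, fun h p hp hd hκ => ?_⟩
  have h1 : p ∣ Nat.card ↥(U ⊔ sigmaCore M) := hd.trans (orderOf_dvd_natCard _ h.2)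
  rw [sup_comm] at h1
  rcases hp.dvd_mul.mp (h1.trans (RegularMain.card_sup_dvd
      (hKU.compl.1.trans (Sigma.le_normalizer_sigmaCore M)))) with h2 | h2
  · exact KappaDecomp.kappa_not_sigma hκ (Transitivity.isPi_piCoreOf (sigma M) M p hp h2)
  · exact KappaDecomp.not_kappa_of_dvd hKU hp h2 hκ

/-- An element carried back into a nonempty TI-set of nonidentity elements of `M` lies in `M`. -/
theorem mem_of_ti (hG : IsMinSimpleOddOrder G) (hM : IsCoatom M) {X : Set G} (hti : IsTISubset X)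
    (hst : ∀ m ∈ M, ∀ a ∈ X, m * a * m⁻¹ ∈ X) (hsub : X ⊆ (M : Set G)) {g x : G} (hx : x ∈ X) (hx1 : x ≠ 1)
    (hgx : g * x * g⁻¹ ∈ X) : g ∈ M := by
  rw [← TypeTwo.normalizer_eq hG hM hst hsub hx hx1]
  by_contra hg
  exact hx1 (hti g hg x hx hgx)

theorem sigmaA0_stable {m a : G} (hm : m ∈ M) (ha : a ∈ sigmaA0 M K) : m * a * m⁻¹ ∈ sigmaA0 M K := by
  refine ⟨PType.sigmaHat_conj hm ha.1, fun ⟨k, hk, hk1, n, hn, e⟩ => ha.2 ⟨k, hk, hk1, m⁻¹ * n,
    mul_mem (inv_mem hm) hn, ?_⟩⟩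
  calc a = m⁻¹ * (m * a * m⁻¹) * m := by group
    _ = m⁻¹ * (n * k * n⁻¹) * m := by rw [e]
    _ = m⁻¹ * n * k * (m⁻¹ * n)⁻¹ := by group

theorem sigmaA0_diff_empty (hKU : IsSigmaDecomposition M K U)
    (hK : K = ⊥) {a : G} (ha : a ∈ sigmaA0 M K) : a ∈ sigmaA M U := by
  refine ⟨ha.1, ?_⟩
  obtain ⟨u, hu, v, hv, rfl⟩ := hKU.compl.2.2.2 a ha.1.1
  rw [hK, bot_sup_eq] at hv
  exact mul_mem (mem_sup_left hu) (mem_sup_right hv)

/-- Fusion and centralizers in `A₀(M)`. -/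
theorem fusion_centralizer (hG : IsMinSimpleOddOrder G) (hM : IsCoatom M) (hKU : IsSigmaDecomposition M K U)
    {a : G} (ha : a ∈ sigmaA0 M K) (ha1 : a ≠ 1) :
    (∀ g : G, g * a * g⁻¹ ∈ sigmaA0 M K → ∃ m ∈ M, m * a * m⁻¹ = g * a * g⁻¹) ∧
      (¬ centralizer ({a} : Set G) ≤ M → a ∈ sigmaCore M) := by
  have horder : ∀ g : G, orderOf (g * a * g⁻¹) = orderOf a := fun g => TypeTwo.orderOf_conj g a
  by_cases hcore : a ∈ sigmaCore M
  · refine ⟨fun g hg => ?_, fun _ => hcore⟩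
    have hgM : g * a * g⁻¹ ∈ sigmaCore M := (mem_core_iff hG hM hg.1.1).mp fun p hp hd =>
      (mem_core_iff hG hM (Sigma.sigmaCore_le M hcore)).mpr hcore p hp (horder g ▸ hd)
    obtain ⟨-, R, -, hRc, hR⟩ := S1374.result hG M hM a hcore ha1
    obtain ⟨r, ⟨hr, e⟩, -⟩ := hR g⁻¹ ⟨g * a * g⁻¹, Sigma.sigmaCore_le M hgM, by
      show g⁻¹ * (g * a * g⁻¹) * g⁻¹⁻¹ = a
      group⟩
    have hrC : r * a = a * r := mem_centralizer_singleton_iff.mp (hRc.2.1 hr)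
    refine ⟨g * r, ?_, ?_⟩
    · rw [SigmaParts.mem_iff_conj_eq hG hM, map_mul]
      change M.map ((MulAut.conj g).toMonoidHom.comp (MulAut.conj r).toMonoidHom) = M
      rw [← map_map, e, map_map]
      ext z
      simp [mem_map, mul_assoc]
    · calc g * r * a * (g * r)⁻¹ = g * (r * a) * r⁻¹ * g⁻¹ := by group
        _ = g * (a * r) * r⁻¹ * g⁻¹ := by rw [hrC]
        _ = g * a * g⁻¹ := by group
  · by_cases hA : a ∈ sigmaA M U
    · have hst : ∀ m ∈ M, ∀ b ∈ sigmaA M U \ (sigmaCore M : Set G), m * b * m⁻¹ ∈ sigmaA M U \ (sigmaCore M : Set G) := by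
        intro m hm b hb
        have hh : m * b * m⁻¹ ∈ sigmaHat M := PType.sigmaHat_conj hm hb.1.1
        refine ⟨(mem_sigmaA_iff hG hM hKU hh).mp fun p hp hd => (mem_sigmaA_iff hG hM hKU hb.1.1).mpr hb.1 p hp
          (TypeTwo.orderOf_conj m b ▸ hd), fun h => hb.2 ?_⟩
        exact (mem_core_iff hG hM hb.1.1.1).mp fun p hp hd =>
          (mem_core_iff hG hM hh.1).mpr h p hp ((TypeTwo.orderOf_conj m b).symm ▸ hd)
      have hti := S1362.result hG M hM K U hKU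
      have hsub : sigmaA M U \ (sigmaCore M : Set G) ⊆ (M : Set G) := fun b hb => hb.1.1.1
      refine ⟨fun g hg => ⟨g, mem_of_ti hG hM hti hst hsub ⟨hA, hcore⟩ ha1 ⟨?_, fun h => hcore ?_⟩, rfl⟩,
        fun hC => absurd (fun c hc => ?_) hC⟩
      · exact (mem_sigmaA_iff hG hM hKU hg.1).mp fun p hp hd =>
          (mem_sigmaA_iff hG hM hKU hA.1).mpr hA p hp (horder g ▸ hd)
      · exact (mem_core_iff hG hM hA.1.1).mp fun p hp hd =>
          (mem_core_iff hG hM hg.1.1).mpr h p hp ((horder g).symm ▸ hd)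
      · refine mem_of_ti hG hM hti hst hsub ⟨hA, hcore⟩ ha1 ?_
        rw [mem_centralizer_singleton_iff.mp hc, mul_inv_cancel_right]
        exact ⟨hA, hcore⟩
    · have hK1 : K ≠ ⊥ := fun hK => hA (sigmaA0_diff_empty hKU hK ha)
      have hti := (S1371.result hG M hM K U hKU hK1).2
      have hst : ∀ m ∈ M, ∀ b ∈ sigmaA0 M K \ sigmaA M U, m * b * m⁻¹ ∈ sigmaA0 M K \ sigmaA M U :=
        fun m hm b hb => ⟨sigmaA0_stable hm hb.1, fun h => hb.2 ((mem_sigmaA_iff hG hM hKU hb.1.1).mp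
          fun p hp hd => (mem_sigmaA_iff hG hM hKU h.1).mpr h p hp ((TypeTwo.orderOf_conj m b).symm ▸ hd))⟩
      have hsub : sigmaA0 M K \ sigmaA M U ⊆ (M : Set G) := fun b hb => hb.1.1.1
      refine ⟨fun g hg => ⟨g, mem_of_ti hG hM hti hst hsub ⟨ha, hA⟩ ha1 ⟨hg, fun h => hA ?_⟩, rfl⟩,
        fun hC => absurd (fun c hc => ?_) hC⟩
      · exact (mem_sigmaA_iff hG hM hKU ha.1).mp fun p hp hd =>
          (mem_sigmaA_iff hG hM hKU h.1).mpr h p hp ((horder g).symm ▸ hd)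
      · refine mem_of_ti hG hM hti hst hsub ⟨ha, hA⟩ ha1 ?_
        rw [mem_centralizer_singleton_iff.mp hc, mul_inv_cancel_right]
        exact ⟨ha, hA⟩

/-- `|R(a)|` is prime to `|C_M(b)|`. -/
theorem coprime_support (hG : IsMinSimpleOddOrder G) (hM : IsCoatom M) {a b : G} (ha : a ∈ sigmaCore M)
    (ha1 : a ≠ 1) (hb : b ∈ sigmaHat M) (hb1 : b ≠ 1) :
    Nat.Coprime (Nat.card (supportR M a)) (Nat.card ↥(M ⊓ centralizer ({b} : Set G))) := by
  rcases SupportR.cases hG hM ha ha1 with ⟨-, he⟩ | ⟨N, h, he⟩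
  · rw [he, card_bot]; exact Nat.coprime_one_left _
  rw [he]
  refine Nat.coprime_of_dvd fun p hp h1 h2 => ?_
  have hσN : p ∈ sigma N := Transitivity.isPi_piCoreOf (sigma N) N p hp (h1.trans (card_dvd_of_le inf_le_left))
  have hpM : p ∣ Nat.card M := h2.trans (card_dvd_of_le inf_le_left)
  have hle : ¬ centralizer ({a} : Set G) ≤ M := fun hle => by
    have hd : p ∣ Nat.card ↥(sigmaCore N ⊓ centralizer ({a} : Set G)) := h1
    have hbot : sigmaCore N ⊓ centralizer ({a} : Set G) = ⊥ := eq_bot_iff.mpr fun z hz =>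
      h.compl_centralizer.2.2.1.le (mem_inf.mpr ⟨mem_inf.mpr ⟨hle (mem_inf.mp hz).2, (mem_inf.mp hz).2⟩, hz⟩)
    rw [hbot, card_bot] at hd
    exact hp.not_dvd_one hd
  obtain ⟨hκ, hτ⟩ := (S1436.result hG M hM a ha ha1 hle N h.hN h.hC).1 ⟨p, hσN, hpM⟩
  -- no element outside the core centralizes a nonidentity element of the core
  have key : ∀ x ∈ sigmaCore M, x ≠ 1 → ∀ c ∈ M, c * x = x * c → c ∈ sigmaCore M := by
    intro x hx hx1 c hc hcx
    obtain ⟨s, t, e, -, hs, ht, hsc, htc⟩ := SigmaParts.exists_parts (sigma M) c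
    have hsM : s ∈ M := (zpowers_le.mpr hc) hsc
    have htM : t ∈ M := (zpowers_le.mpr hc) htc
    by_cases ht1 : t = 1
    · rw [e, ht1, mul_one]
      exact (mem_core_iff hG hM hsM).mp hs
    exfalso
    obtain ⟨q, hq, hqd⟩ := Nat.exists_prime_and_dvd (fun e' => ht1 (orderOf_eq_one_iff.mp e'))
    have htx : t ∈ M ⊓ centralizer ({x} : Set G) := mem_inf.mpr ⟨htM, mem_centralizer_singleton_iff.mpr (by
      obtain ⟨i, rfl⟩ := htc
      exact ((show Commute c x from hcx).zpow_left i).eq)⟩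
    rcases S1432.result hG M hM x hx hx1 t htx ht1 ht with ⟨h', -⟩ | ⟨h', -⟩
    · exact Set.eq_empty_iff_forall_notMem.mp hκ q (h' q hq hqd)
    · exact Set.eq_empty_iff_forall_notMem.mp hτ q (h' q hq hqd)
  obtain ⟨hbM, y, hy, hy1, hby⟩ := hb
  have hbσ : b ∈ sigmaCore M := key y hy hy1 b hbM hby
  have hall : M ⊓ centralizer ({b} : Set G) ≤ sigmaCore M := fun c hc =>
    key b hbσ hb1 c (mem_inf.mp hc).1 (mem_centralizer_singleton_iff.mp (mem_inf.mp hc).2)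
  have hσM : p ∈ sigma M := Transitivity.isPi_piCoreOf (sigma M) M p hp (h2.trans (card_dvd_of_le hall))
  obtain ⟨q, hq, hqd⟩ := Nat.exists_prime_and_dvd (fun e' => ha1 (orderOf_eq_one_iff.mp e'))
  obtain ⟨g, hg⟩ := (S1378.result hG).2 M N hM h.hN ⟨p, hσM, hσN⟩
  refine (h.htau q hq hqd).2.1 ?_
  rw [hg, SigmaParts.sigma_eq]
  exact SigmaParts.mem_sigma_core ha q hq hqd

/-- The Dade hypothesis for every stable subset of `A₀(M)`. -/
theorem dade (hG : IsMinSimpleOddOrder G) (hM : IsCoatom M) (hKU : IsSigmaDecomposition M K U) {A : Set G}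
    (hsub : ∀ a ∈ A, a ∈ sigmaA0 M K ∧ a ≠ 1) (hst : ∀ m ∈ M, ∀ a ∈ A, m * a * m⁻¹ ∈ A) :
    DadeHypothesis A M (supportR M) := by
  have hcases : ∀ a ∈ A, (centralizer ({a} : Set G) ≤ M ∧ supportR M a = ⊥) ∨
      (a ∈ sigmaCore M ∧ a ≠ 1 ∧ ∃ N, Signalizer.Sig M N a ∧
        supportR M a = sigmaCore N ⊓ centralizer ({a} : Set G)) := fun a ha => by
    obtain ⟨h0, h1⟩ := hsub a ha
    by_cases hle : centralizer ({a} : Set G) ≤ M
    · exact Or.inl ⟨hle, SupportR.supportR_of_le hle⟩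
    · have hc := (fusion_centralizer hG hM hKU h0 h1).2 hle
      rcases SupportR.cases hG hM hc h1 with ⟨h', -⟩ | h'
      · exact absurd h' hle
      · exact Or.inr ⟨hc, h1, h'⟩
  refine ⟨fun h => (hsub 1 h).2 rfl, fun a ha => (hsub a ha).1.1.1, hst, fun a ha g hg => ?_, fun a ha => ?_,
    fun a ha c hc u hu => ?_, fun a ha => ?_, fun a ha => ?_, fun a ha b hb => ?_⟩
  · exact (fusion_centralizer hG hM hKU (hsub a ha).1 (hsub a ha).2).1 g (hsub _ hg).1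
  · rcases hcases a ha with ⟨-, e⟩ | ⟨-, -, N, -, e⟩ <;> rw [e]
    exacts [bot_le, inf_le_right]
  · rcases hcases a ha with ⟨-, e⟩ | ⟨-, -, N, h, e⟩ <;> rw [e] at hu ⊢
    · rw [mem_bot.mp hu, mul_one, mul_inv_cancel]; exact one_mem _
    · exact (mem_normalizer_iff.mp (h.normal hc) u).mp hu
  · rcases hcases a ha with ⟨-, e⟩ | ⟨-, -, N, h, e⟩ <;> rw [e]
    · exact bot_inf_eq _
    · rw [inf_comm]; exact h.compl_centralizer.2.2.1
  · rcases hcases a ha with ⟨hle, e⟩ | ⟨-, -, N, h, e⟩ <;> rw [e]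
    · rw [bot_sup_eq]; exact inf_eq_right.mpr hle
    · refine le_antisymm (sup_le inf_le_right inf_le_right) fun c hc => ?_
      obtain ⟨x, hx, r, hr, rfl⟩ := h.compl_centralizer.2.2.2 c hc
      exact mul_mem (mem_sup_right hx) (mem_sup_left hr)
  · rcases hcases a ha with ⟨-, e⟩ | ⟨hc, h1, -⟩
    · rw [e, card_bot]; exact Nat.coprime_one_left _
    · exact coprime_support hG hM hc h1 (hsub b hb).1.1 (hsub b hb).2

/-- The three sets inside `A₀` of the standard factorisation. -/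
theorem three_sets (hG : IsMinSimpleOddOrder G) (hM : IsCoatom M) (hKU : IsSigmaDecomposition M K U) (A : Set G)
    (hA : A = typeA1 M ∨ A = typeA M ∨ A = typeA0 M) :
    (∀ a ∈ A, a ∈ sigmaA0 M K ∧ a ≠ 1) ∧ (∀ m ∈ M, ∀ a ∈ A, m * a * m⁻¹ ∈ A) ∧ ∃ y ∈ A, y ≠ 1 := by
  have hcore : typeCore M = sigmaCore M := Types.typeCore_eq hG hM
  have hSn : M ≤ normalizer (sigmaCore M : Set G) := Sigma.le_normalizer_sigmaCore M
  have hIcore : IsOfTypeI M → fittingHallOf M = sigmaCore M := fun hI =>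
    (Types.sigmaCore_eq_of_U_ne hG hM hKU (Types.of_typeI hG hM hKU hI).2).1.symm
  have hconj : ∀ m a x : G, a * x = x * a → m * a * m⁻¹ * (m * x * m⁻¹) = m * x * m⁻¹ * (m * a * m⁻¹) := by
    intro m a x h
    calc m * a * m⁻¹ * (m * x * m⁻¹) = m * (a * x) * m⁻¹ := by group
      _ = m * (x * a) * m⁻¹ := by rw [h]
      _ = m * x * m⁻¹ * (m * a * m⁻¹) := by group
  have hsub1 : ∀ a ∈ typeA1 M, a ∈ sigmaA0 M K ∧ a ≠ 1 := by
    rw [typeA1, hcore]
    rintro a ⟨ha, ha1⟩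
    refine ⟨⟨⟨Sigma.sigmaCore_le M ha, a, ha, ha1, rfl⟩, fun ⟨k, hk, hk1, m, hm, e⟩ => hk1 ?_⟩, ha1⟩
    refine orderOf_eq_one_iff.mp (Nat.eq_one_iff_not_exists_prime_dvd.mpr fun p hp hd => ?_)
    exact KappaDecomp.kappa_not_sigma (hKU.hall.2.1 p hp (hd.trans (orderOf_dvd_natCard K hk)))
      (SigmaParts.mem_sigma_core ha p hp (by rwa [e, TypeTwo.orderOf_conj]))
  have hst1 : ∀ m ∈ M, ∀ a ∈ typeA1 M, m * a * m⁻¹ ∈ typeA1 M := by
    rw [typeA1, hcore]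
    exact fun m hm a ha => ⟨(mem_normalizer_iff.mp (hSn hm) a).mp ha.1, fun e => ha.2 (conj_eq_one_iff.mp e)⟩
  have hDn : M ≤ normalizer ((⁅M, M⁆ : Subgroup G) : Set G) :=
    OddLocal.Coprime.le_normalizer_commutator_self le_normalizer
  have hstA : ∀ m ∈ M, ∀ a ∈ typeA M, m * a * m⁻¹ ∈ typeA M := by
    by_cases hI : IsOfTypeI M
    · rw [typeA, if_pos hI, hIcore hI]
      rintro m hm a ⟨ha, ha1, x, hx, hx1, hax⟩
      exact ⟨mul_mem (mul_mem hm ha) (inv_mem hm), fun e => ha1 (conj_eq_one_iff.mp e), _,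
        (mem_normalizer_iff.mp (hSn hm) x).mp hx, fun e => hx1 (conj_eq_one_iff.mp e), hconj m a x hax⟩
    · rw [typeA, if_neg hI, hcore]
      rintro m hm a ⟨ha, ha1, x, hx, hx1, hax⟩
      exact ⟨(mem_normalizer_iff.mp (hDn hm) a).mp ha, fun e => ha1 (conj_eq_one_iff.mp e), _,
        (mem_normalizer_iff.mp (hSn hm) x).mp hx, fun e => hx1 (conj_eq_one_iff.mp e), hconj m a x hax⟩
  have hsubA : ∀ a ∈ typeA M, a ∈ sigmaA0 M K ∧ a ≠ 1 := by
    by_cases hI : IsOfTypeI M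
    · rw [typeA, if_pos hI, hIcore hI]
      rintro a ⟨ha, ha1, x, hx, hx1, hax⟩
      refine ⟨⟨⟨ha, x, hx, hx1, hax⟩, fun ⟨k, hk, hk1, _h⟩ => hk1 ?_⟩, ha1⟩
      exact mem_bot.mp ((Types.of_typeI hG hM hKU hI).1 ▸ hk)
    · rw [typeA, if_neg hI, hcore]
      rintro a ⟨ha, ha1, x, hx, hx1, hax⟩
      have haM : a ∈ M := commutator_le_self M ha
      refine ⟨⟨⟨haM, x, hx, hx1, hax⟩, fun ⟨k, hk, hk1, m, hm, e⟩ => hk1 ?_⟩, ha1⟩
      have hK1 : K ≠ ⊥ := fun e' => hk1 (mem_bot.mp (e' ▸ hk))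
      have : k ∈ ⁅M, M⁆ ⊓ K := mem_inf.mpr ⟨(mem_normalizer_iff.mp (hDn hm) k).mpr (e ▸ ha), hk⟩
      rwa [(Types.compl_commutator hG hM hKU hK1).2.2.1, mem_bot] at this
  have hstZ : ∀ m ∈ M, ∀ a ∈ typeA0 M, m * a * m⁻¹ ∈ typeA0 M := by
    rintro m hm a (ha | ⟨hI, W₁, V, W₂, hP, n, hn, w, hw, hw1, hw2, rfl⟩)
    · exact Or.inl (hstA m hm a ha)
    · exact Or.inr ⟨hI, W₁, V, W₂, hP, m * n, mul_mem hm hn, w, hw, hw1, hw2, by group⟩
  have hsub0 : ∀ a ∈ typeA0 M, a ∈ sigmaA0 M K ∧ a ≠ 1 := by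
    rintro a (ha | ⟨-, W₁, V, W₂, hP, n, hn, w, hw, hw1, hw2, rfl⟩)
    · exact hsubA a ha
    have hK1 := Types.K_ne_bot_of_typeP hG hM hKU hP
    obtain ⟨m, hm, rfl, rfl⟩ := TypeTwo.data_conj hG hM hKU hK1 hP
    rw [← Subgroup.map_sup] at hw
    obtain ⟨z, hz, rfl⟩ := hw
    refine ⟨((S1371.result hG M hM K U hKU hK1).1.le ⟨n * m, mul_mem hn hm, z, ⟨hz, ?_⟩, ?_⟩).1, fun e => ?_⟩
    · rintro (h | h)
      exacts [hw1 ⟨z, h, rfl⟩, hw2 ⟨z, h, rfl⟩]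
    · show n * (m * z * m⁻¹) * n⁻¹ = _
      group
    · exact hw1 (by rw [conj_eq_one_iff.mp e]; exact one_mem _)
  obtain ⟨y, hy, hy1⟩ := (bot_or_exists_ne_one (sigmaCore M)).resolve_left (Sigma.sigmaCore_ne_bot hG hM)
  have hy1' : y ∈ typeA1 M := by rw [typeA1, hcore]; exact ⟨hy, hy1⟩
  have hyA : y ∈ typeA M := by
    by_cases hI : IsOfTypeI M
    · rw [typeA, if_pos hI, hIcore hI]
      exact ⟨Sigma.sigmaCore_le M hy, hy1, y, hy, hy1, rfl⟩
    · rw [typeA, if_neg hI, hcore]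
      exact ⟨Sigma.sigmaCore_le_commutator hG hM hy, hy1, y, hy, hy1, rfl⟩
  rcases hA with rfl | rfl | rfl
  · exact ⟨hsub1, hst1, y, hy1', hy1⟩
  · exact ⟨hsubA, hstA, y, hyA, hy1⟩
  · exact ⟨hsub0, hstZ, y, Or.inl hyA, hy1⟩

/-- The three sets. -/
theorem main (hG : IsMinSimpleOddOrder G) (hM : IsCoatom M) (A : Set G)
    (hA : A = typeA1 M ∨ A = typeA M ∨ A = typeA0 M) : normalizer A = M ∧ DadeHypothesis A M (supportR M) := by
  obtain ⟨K, U, hKU⟩ := Fcore.exists_decomp hG hM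
  obtain ⟨hsub, hst, y, hy, hy1⟩ := three_sets hG hM hKU A hA
  exact ⟨TypeTwo.normalizer_eq hG hM hst (fun a ha => (hsub a ha).1.1.1) hy hy1, dade hG hM hKU hsub hst⟩

end Cfsg.Agent.OddLocal.DadeSets
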