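import Cfsg.Prelude.Def_LieExceptional
import Cfsg.Agent.Lib.Cores.Fitting
import Cfsg.Agent.Lib.Components.Local
import Cfsg.Agent.Lib.Coprime.Action
import Cfsg.Agent.OddLocal.Coprime

/-! Groups in which the centralizer of every nontrivial element is nilpotent. -/

set_option autoImplicit false
set_option linter.unusedSectionVars false

namespace Cfsg.Agent.OddLocal.CN

open Cfsg Subgroup

universe u

variable {G : Type u} [Group G] [Finite G]

/-- In a finite nilpotent group elements of coprime orders commute. -/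
theorem commute_of_coprime [Group.IsNilpotent G] {a b : G} (h : (orderOf a).Coprime (orderOf b)) :
    Commute a b := by
  set π : Set ℕ := {r | r ∣ orderOf a} with hπ
  have key : ∀ (σ : Set ℕ) (c : G), (∀ r : ℕ, r.Prime → r ∣ orderOf c → r ∈ σ) → c ∈ piCore σ G := by
    intro σ c hc
    have h1 : orderOf (c : G ⧸ piCore σ G) = 1 := by
      by_contra hne
      obtain ⟨r, hr, hd⟩ := Nat.exists_prime_and_dvd hne
      have := Fact.mk hr
      have hrc : r ∣ orderOf c := hd.trans (orderOf_map_dvd (QuotientGroup.mk' (piCore σ G)) c)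
      obtain ⟨R⟩ := (inferInstance : Nonempty (Sylow r G))
      have hRσ : (R : Subgroup G) ≤ piCore σ G := by
        refine Cores.le_piCore fun t ht htd => ?_
        obtain ⟨k, hk⟩ := R.isPGroup'.exists_card_eq
        rw [(Nat.prime_dvd_prime_iff_eq ht hr).mp (ht.dvd_of_dvd_pow (hk ▸ htd))]
        exact hc r hr hrc
      have hidx : r ∣ (piCore σ G).index := hd.trans (_root_.orderOf_dvd_natCard _)
      exact R.not_dvd_index (hidx.trans (index_dvd_of_le hRσ))
    exact (QuotientGroup.eq_one_iff c).mp (orderOf_eq_one_iff.mp h1)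
  refine commute_of_normal_of_disjoint _ _ inferInstance inferInstance
    (disjoint_of_coprime_natCard ?_) a b (key π a fun r _ hr => hr)
    (key {r | r ∣ orderOf b} b fun r _ hr => hr)
  refine Nat.coprime_of_dvd fun r hr h1 h2 => ?_
  exact Nat.not_coprime_of_dvd_of_dvd hr.one_lt (Cores.piCore_isPi π r hr h1)
    (Cores.piCore_isPi _ r hr h2) h

/-- In a nilpotent subgroup elements of coprime orders commute. -/
theorem commute_of_mem {N : Subgroup G} (hN : Group.IsNilpotent N) {a b : G} (ha : a ∈ N)
    (hb : b ∈ N) (h : (orderOf a).Coprime (orderOf b)) : Commute a b := by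
  have h' := commute_of_coprime (G := N) (a := ⟨a, ha⟩) (b := ⟨b, hb⟩)
    (by rwa [orderOf_mk, orderOf_mk])
  exact congrArg Subtype.val h'

/-- In a CN-group, elements of coprime order commuting with one nontrivial element commute. -/
theorem commute_of_commute (hCN : IsCNGroup G) {z a b : G} (hz : z ≠ 1) (ha : Commute a z)
    (hb : Commute b z) (h : (orderOf a).Coprime (orderOf b)) : Commute a b :=
  commute_of_mem (hCN z hz) (mem_centralizer_singleton_iff.mpr ha.eq)
    (mem_centralizer_singleton_iff.mpr hb.eq) h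

theorem isCNGroup_of_equiv {K : Type u} [Group K] (e : G ≃* K) (h : IsCNGroup G) : IsCNGroup K := by
  intro k hk
  have h1 := h (e.symm k) (fun h1 => hk (by simpa using congrArg e h1))
  have hle : centralizer ({k} : Set K) ≤
      (centralizer ({e.symm k} : Set G)).map e.toMonoidHom := by
    intro x hx
    refine ⟨e.symm x, mem_centralizer_singleton_iff.mpr ?_, e.apply_symm_apply x⟩
    rw [← map_mul, ← map_mul, mem_centralizer_singleton_iff.mp hx]
  have h2 : Group.IsNilpotent ((centralizer ({e.symm k} : Set G)).map e.toMonoidHom) :=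
    Cores.isNilpotent_map _ _ h1
  exact Cores.isNilpotent_to_le hle h2

/-- The quotient of a CN-group by a nontrivial normal abelian `p`-subgroup is a CN-group. -/
theorem quotient_step (hCN : IsCNGroup G) {p : ℕ} [hp : Fact p.Prime] (H : Subgroup G) [H.Normal]
    (hH : IsPGroup p H) (hHc : IsMulCommutative H) (hH1 : H ≠ ⊥) : IsCNGroup (G ⧸ H) := by
  set f := QuotientGroup.mk' H with hf
  have hfs : Function.Surjective f := QuotientGroup.mk'_surjective H
  intro xb hxb
  obtain ⟨q, hq, hqd⟩ := Nat.exists_prime_and_dvd (mt orderOf_eq_one_iff.mp hxb)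
  have := Fact.mk hq
  set xb' := xb ^ (orderOf xb / q) with hxb'
  have hord : orderOf xb' = q := orderOf_pow_orderOf_div (orderOf_pos _).ne' hqd
  have hle : centralizer ({xb} : Set (G ⧸ H)) ≤ centralizer ({xb'} : Set (G ⧸ H)) := by
    intro c hc
    rw [mem_centralizer_singleton_iff] at hc ⊢
    exact (Commute.pow_right hc _).eq
  refine Cores.isNilpotent_to_le hle ?_
  obtain ⟨x, hx⟩ := hfs xb'
  have hxb1 : xb' ≠ 1 := fun h => by
    rw [h, orderOf_one] at hord
    exact hq.ne_one hord.symm
  rcases eq_or_ne q p with rfl | hqp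
  · -- the preimage itself is nilpotent
    set K := (centralizer ({xb'} : Set (G ⧸ H))).comap f with hK
    suffices hKn : Group.IsNilpotent K by
      rw [← map_comap_eq_self_of_surjective hfs (centralizer ({xb'} : Set (G ⧸ H)))]
      exact Cores.isNilpotent_map K f hKn
    have hKx : ∀ k ∈ K, k * x * k⁻¹ * x⁻¹ ∈ H := by
      intro k hk
      refine (QuotientGroup.eq_one_iff _).mp ?_
      show f (k * x * k⁻¹ * x⁻¹) = 1
      simp only [map_mul, map_inv, hx]
      rw [mem_centralizer_singleton_iff.mp hk]
      group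
    have hxK : x ∈ K := by
      rw [hK, mem_comap, hx]; exact mem_centralizer_singleton_iff.mpr rfl
    have hHK : H ≤ K := fun h hh => by
      rw [hK, mem_comap, show f h = 1 from (QuotientGroup.eq_one_iff h).mpr hh]
      exact one_mem _
    set L := H ⊔ zpowers x with hL
    have hLp : IsPGroup q L := by
      have h1 : IsPGroup q ((zpowers xb').comap f) := by
        refine IsPGroup.comap_of_ker_isPGroup (IsPGroup.of_card (n := 1) ?_) f ?_
        · rw [Nat.card_zpowers, hord, pow_one]
        · rwa [QuotientGroup.ker_mk']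
      refine h1.to_le (sup_le (fun h hh => ?_) (zpowers_le.mpr ?_))
      · rw [mem_comap, show f h = 1 from (QuotientGroup.eq_one_iff h).mpr hh]
        exact one_mem _
      · rw [mem_comap, hx]; exact mem_zpowers _
    set Z₁ := H ⊓ centralizer ({x} : Set G) with hZ₁
    have hHcomm : ∀ a ∈ H, ∀ b ∈ H, a * b = b * a := fun a ha b hb => setLike_mul_comm (s := H) ha hb
    have hKZ : K ≤ normalizer (Z₁ : Set G) := by
      intro k hk
      apply mem_normalizer_fintype (S := (Z₁ : Set G))
      intro z hz
      have hn : k * z * k⁻¹ ∈ H := (inferInstance : H.Normal).conj_mem _ hz.1 k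
      refine ⟨hn, mem_centralizer_singleton_iff.mpr ?_⟩
      have h1 : k⁻¹ * x * k * x⁻¹ ∈ H := by simpa using hKx k⁻¹ (inv_mem hk)
      have hzc : Commute z x := mem_centralizer_singleton_iff.mp hz.2
      have h2 : Commute z (k⁻¹ * x * k) := by
        have h3 : Commute z (k⁻¹ * x * k * x⁻¹) := hHcomm z hz.1 _ h1
        simpa [mul_assoc] using h3.mul_right hzc
      calc k * z * k⁻¹ * x = k * (z * (k⁻¹ * x * k)) * k⁻¹ := by group
        _ = k * ((k⁻¹ * x * k) * z) * k⁻¹ := by rw [h2.eq]
        _ = x * (k * z * k⁻¹) := by group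
    have hZ1ne : Z₁ ≠ ⊥ := by
      have := hLp.isNilpotent
      have hne : (H.subgroupOf L) ≠ ⊥ := fun h => hH1 (by
        rw [← map_subgroupOf_eq_of_le (le_sup_left : H ≤ L), h, Subgroup.map_bot])
      obtain ⟨w, hw, hw1⟩ := (bot_or_exists_ne_one _).resolve_left
        (OddLocal.Coprime.inf_center_ne_bot (G := L) inferInstance hne)
      intro h
      refine hw1 (Subtype.ext (Subgroup.mem_bot.mp (h ▸ ⟨hw.1, mem_centralizer_singleton_iff.mpr ?_⟩)))
      exact (congrArg Subtype.val
        (mem_center_iff.mp hw.2 ⟨x, mem_sup_right (mem_zpowers x)⟩)).symm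
    obtain ⟨P⟩ := (inferInstance : Nonempty (Sylow q K))
    have : (Z₁.subgroupOf K).Normal :=
      (normal_subgroupOf_iff_le_normalizer (inf_le_left.trans hHK)).mpr hKZ
    have hZp : IsPGroup q (Z₁.subgroupOf K) :=
      (hH.to_le inf_le_left).comap_of_injective K.subtype K.subtype_injective
    have hZP : Z₁.subgroupOf K ≤ (P : Subgroup K) := hZp.le_sylow_of_normal P
    have hne : (Z₁.subgroupOf K).subgroupOf (P : Subgroup K) ≠ ⊥ := fun h => hZ1ne (by
      rw [← map_subgroupOf_eq_of_le (show Z₁ ≤ K from inf_le_left.trans hHK),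
        ← map_subgroupOf_eq_of_le hZP, h, Subgroup.map_bot, Subgroup.map_bot])
    have := P.isPGroup'.isNilpotent
    obtain ⟨z', hz', hz'1⟩ := (bot_or_exists_ne_one _).resolve_left
      (OddLocal.Coprime.inf_center_ne_bot (G := (P : Subgroup K)) inferInstance hne)
    set z : G := ((z' : K) : G) with hz
    have hzZ : z ∈ Z₁ := hz'.1
    have hz1 : z ≠ 1 := fun h => hz'1 (Subtype.ext (Subtype.ext h))
    have hzx : Commute z x := mem_centralizer_singleton_iff.mp hzZ.2
    have hp' : ∀ k : K, (orderOf k).Coprime q → Commute (k : G) z := by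
      intro k hk
      have hkL : zpowers (k : G) ≤ normalizer (L : Set G) := by
        refine zpowers_le.mpr ?_
        apply mem_normalizer_fintype (S := (L : Set G))
        intro l hl
        obtain ⟨h, hh, y, hy, rfl⟩ := mem_sup_of_normal_left.mp hl
        obtain ⟨m, rfl⟩ := mem_zpowers_iff.mp hy
        have e : (k : G) * (h * x ^ m) * (k : G)⁻¹ =
            ((k : G) * h * (k : G)⁻¹) * ((k : G) * x * (k : G)⁻¹) ^ m := by
          rw [conj_zpow]; group
        show (k : G) * (h * x ^ m) * (k : G)⁻¹ ∈ L
        rw [e]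
        refine mul_mem (mem_sup_left ((inferInstance : H.Normal).conj_mem _ hh _))
          (zpow_mem ?_ m)
        have e2 : (k : G) * x * (k : G)⁻¹ = ((k : G) * x * (k : G)⁻¹ * x⁻¹) * x := by group
        rw [e2]
        exact mul_mem_sup (hKx _ k.2) (mem_zpowers x)
      obtain ⟨c, hc, hcH⟩ := Coprime.exists_fixed_mod (A := zpowers (k : G)) (K := L) (N := H) (by
          obtain ⟨j, hj⟩ := hLp.exists_card_eq
          rw [Nat.card_zpowers, hj, orderOf_coe]
          exact hk.pow_right j)
        (Or.inl inferInstance) le_sup_left le_normalizer_of_normal le_normalizer_of_normal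
        (mem_sup_right (mem_zpowers x))
        (fun a ha => hKx a (zpowers_le.mpr k.2 ha))
      have hc1 : c ≠ 1 := fun h => hxb1 (by
        rw [← hx]
        refine (QuotientGroup.eq_one_iff x).mpr ?_
        have := inv_mem hcH
        rw [h, mul_one, inv_inv] at this
        exact this)
      have hkc : Commute (k : G) c := mem_centralizer_iff.mp hc.2 _ (mem_zpowers _)
      have hzcom : Commute z c := by
        have h3 : Commute z (x * (x⁻¹ * c)) := hzx.mul_right (hHcomm z hzZ.1 _ hcH)
        simpa using h3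
      refine commute_of_commute hCN hc1 hkc hzcom ?_
      obtain ⟨j, hj⟩ := IsPGroup.iff_orderOf.mp hH ⟨z, hzZ.1⟩
      rw [orderOf_mk] at hj
      rw [hj, orderOf_coe]
      exact hk.pow_right j
    have htop : centralizer ({(z' : K)} : Set K) = ⊤ := by
      refine Cores.eq_top_of_sylow_le fun r hr _ => ?_
      have := Fact.mk hr
      rcases eq_or_ne r q with rfl | hrq
      · exact ⟨P, fun g hg => mem_centralizer_singleton_iff.mpr
          (congrArg Subtype.val (mem_center_iff.mp hz'.2 ⟨g, hg⟩))⟩
      · obtain ⟨R⟩ := (inferInstance : Nonempty (Sylow r K))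
        refine ⟨R, fun g hg => mem_centralizer_singleton_iff.mpr (Subtype.ext (hp' g ?_).eq)⟩
        obtain ⟨j, hj⟩ := IsPGroup.iff_orderOf.mp R.isPGroup' ⟨g, hg⟩
        rw [orderOf_mk] at hj
        rw [hj]
        exact ((Nat.coprime_primes hr hq).mpr hrq).pow_left j
    refine Cores.isNilpotent_to_le (L := centralizer ({z} : Set G)) (fun k hk => ?_) (hCN z hz1)
    have := (htop ▸ mem_top (⟨k, hk⟩ : K) : (⟨k, hk⟩ : K) ∈ centralizer ({(z' : K)} : Set K))
    exact mem_centralizer_singleton_iff.mpr
      (congrArg Subtype.val (mem_centralizer_singleton_iff.mp this))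
  · set x₀ := x ^ Nat.card H with hx₀
    obtain ⟨j, hj⟩ := hH.exists_card_eq
    have hx₀q : x₀ ^ q = 1 := by
      have hxq : x ^ q ∈ H := by
        refine (QuotientGroup.eq_one_iff _).mp ?_
        show f (x ^ q) = 1
        rw [map_pow, hx, ← hord, pow_orderOf_eq_one]
      rw [hx₀, ← pow_mul, mul_comm, pow_mul]
      exact congrArg Subtype.val (pow_card_eq_one' (x := (⟨x ^ q, hxq⟩ : H)))
    have hfx₀ : f x₀ = xb' ^ Nat.card H := by rw [hx₀, map_pow, hx]
    have hx₀1 : x₀ ≠ 1 := fun h => by
      rw [h, map_one, eq_comm, ← orderOf_dvd_iff_pow_eq_one, hord, hj] at hfx₀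
      exact hqp ((Nat.prime_dvd_prime_iff_eq hq hp.out).mp (hq.dvd_of_dvd_pow hfx₀))
    have hzp : IsPGroup q (zpowers x₀) :=
      IsPGroup.of_card (n := 1) (by rw [Nat.card_zpowers, orderOf_eq_prime hx₀q hx₀1, pow_one])
    have hmap := Components.Local.map_centralizer_eq (R := H) hzp (by
      rw [hj]; exact ((Nat.coprime_primes hp.out hq).mpr hqp.symm).pow_left j)
    have hle' : centralizer ({xb'} : Set (G ⧸ H)) ≤ (centralizer (zpowers x₀ : Set G)).map f := by
      rw [hmap]
      intro c hc
      rw [mem_centralizer_iff]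
      rintro _ ⟨_, ⟨m, rfl⟩, rfl⟩
      have h1 : Commute c xb' := mem_centralizer_singleton_iff.mp hc
      show f (x₀ ^ m) * c = c * f (x₀ ^ m)
      rw [map_zpow, hfx₀]
      exact ((h1.pow_right _).zpow_right m).eq.symm
    refine Cores.isNilpotent_to_le hle' (Cores.isNilpotent_map _ _ ?_)
    exact Cores.isNilpotent_to_le (centralizer_le (Set.singleton_subset_iff.mpr (mem_zpowers x₀)))
      (hCN x₀ hx₀1)

end Cfsg.Agent.OddLocal.CN
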