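import Cfsg.Agent.OddLocal.FrobeniusModule
import Cfsg.Agent.Lib.Components.Hyperplane
import Cfsg.Agent.Lib.Coprime.FixedPointFree
import Cfsg.Agent.Lib.CharP.PReduced

/-! A Frobenius group acting on an elementary abelian group of coprime order. -/

set_option autoImplicit false

namespace Cfsg.Agent.OddLocal.FrobeniusCoprime

open Cfsg Subgroup
open scoped commutatorElement TensorProduct

variable {G : Type*} [Group G] [Finite G]

/-- The elementary abelian case, with an abelian kernel. -/
theorem core_abelian {p : ℕ} (hp : p.Prime) {V Z E : Subgroup G} (hV : IsElementaryAbelian p V)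
    (hZV : Z ≤ normalizer (V : Set G)) (hEV : E ≤ normalizer (V : Set G))
    (hEZ : E ≤ normalizer (Z : Set G)) (hZc : ∀ x ∈ Z, ∀ y ∈ Z, x * y = y * x)
    (hfpf : ∀ a ∈ E, a ≠ 1 → ∀ z ∈ Z, a * z = z * a → z = 1)
    (hC : V ⊓ centralizer (Z : Set G) = ⊥) (hpZ : ¬ p ∣ Nat.card Z) (hpE : ¬ p ∣ Nat.card E) :
    Nat.card V = Nat.card ↥(V ⊓ centralizer (E : Set G)) ^ Nat.card E ∧
      (Nat.card ↥(V ⊓ centralizer (E : Set G)) ≤ p → ∀ u ∈ normalizer (V : Set G),
        ∀ v ∈ normalizer (V : Set G), (∀ z ∈ Z, u * z = z * u) → (∀ z ∈ Z, v * z = z * v) →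
          ⁅u, v⁆ ∈ centralizer (V : Set G)) := by
  classical
  have := Fact.mk hp
  let : CommGroup V := { (inferInstance : Group V) with mul_comm := hV.1.is_comm.comm }
  have hpV : ∀ v : Additive V, p • v = 0 := fun v => by
    apply Additive.toMul.injective
    rw [toMul_nsmul, toMul_zero]
    exact Subtype.ext (by simpa using hV.2 _ (Additive.toMul v).2)
  have : Module (ZMod p) (Additive V) := AddCommGroup.zmodModule hpV
  have : Module.Finite (ZMod p) (Additive V) := Module.Finite.of_finite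
  set N := normalizer (V : Set G) with hN
  let φ : N →* MulAut V := V.normalizerMonoidHom
  have hφ : ∀ (h : N) (v : V), (φ h v : G) = h * v * (h : G)⁻¹ := fun h v => rfl
  let f₀ : N → Module.End (ZMod p) (Additive V) := fun h =>
    (MonoidHom.toAdditive (φ h).toMonoidHom).toZModLinearMap p
  have hf1 : f₀ 1 = 1 := LinearMap.ext fun v => by
    apply Additive.toMul.injective
    show φ 1 (Additive.toMul v) = Additive.toMul v
    rw [map_one, MulAut.one_apply]
  have hf2 : ∀ a b, f₀ (a * b) = f₀ a * f₀ b := fun a b => LinearMap.ext fun v => by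
    apply Additive.toMul.injective
    show φ (a * b) (Additive.toMul v) = φ a (φ b (Additive.toMul v))
    rw [map_mul, MulAut.mul_apply]
  let ρ₀ : N →* Module.End (ZMod p) (Additive V) := { toFun := f₀, map_one' := hf1, map_mul' := hf2 }
  let k := AlgebraicClosure (ZMod p)
  have hchar : CharP k p := charP_of_injective_algebraMap (algebraMap (ZMod p) k).injective p
  let β : Module.End (ZMod p) (Additive V) →ₐ[ZMod p] Module.End k (k ⊗[ZMod p] Additive V) :=
    Module.End.baseChangeHom (ZMod p) k (Additive V)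
  let ρ : N →* Module.End k (k ⊗[ZMod p] Additive V) := β.toMonoidHom.comp ρ₀
  let Z' := Z.subgroupOf N
  let E' := E.subgroupOf N
  have := Fintype.ofFinite Z'
  have := Fintype.ofFinite E'
  have hcZ : Fintype.card Z' = Nat.card Z := by
    rw [← Nat.card_eq_fintype_card, Nat.card_congr (subgroupOfEquivOfLe hZV).toEquiv]
  have hcE : Fintype.card E' = Nat.card E := by
    rw [← Nat.card_eq_fintype_card, Nat.card_congr (subgroupOfEquivOfLe hEV).toEquiv]
  have hcast : ∀ n : ℕ, ¬ p ∣ n → (n : k) ≠ 0 := fun n hn e => hn ((CharP.cast_eq_zero_iff k p n).mp e)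
  -- fixed vectors
  have hfix : ∀ (S : Subgroup G) (hS : S ≤ N) (v : Additive V),
      (∀ s : S.subgroupOf N, ρ₀ s v = v) ↔ ((Additive.toMul v : V) : G) ∈ centralizer (S : Set G) := by
    intro S hS v
    constructor
    · intro h
      refine mem_centralizer_iff.mpr fun s hs => ?_
      have h1 : φ ⟨s, hS hs⟩ (Additive.toMul v) = Additive.toMul v :=
        congrArg Additive.toMul (h ⟨⟨s, hS hs⟩, hs⟩)
      have h2 := congrArg Subtype.val h1
      rw [hφ] at h2
      exact mul_inv_eq_iff_eq_mul.mp h2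
    · intro h s
      apply Additive.toMul.injective
      show φ s.1 (Additive.toMul v) = Additive.toMul v
      refine Subtype.ext ?_
      rw [hφ]
      exact mul_inv_eq_iff_eq_mul.mpr (mem_centralizer_iff.mp h _ s.2)
  have hinvariant : ∀ (S : Subgroup G) [Fintype (S.subgroupOf N)] (w : Additive V) (s : S.subgroupOf N),
      ρ₀ s ((∑ t : S.subgroupOf N, ρ₀ t) w) = (∑ t : S.subgroupOf N, ρ₀ t) w := by
    intro S _ w s
    rw [LinearMap.sum_apply, map_sum]
    exact Fintype.sum_equiv (Equiv.mulLeft s) _ _ fun t => by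
      rw [Equiv.coe_mulLeft, Subgroup.coe_mul, map_mul, Module.End.mul_apply]
  have hsum0 : ∑ z : Z', ρ₀ z = 0 := LinearMap.ext fun w => by
    have h1 := (hfix Z hZV ((∑ z : Z', ρ₀ z) w)).mp (hinvariant Z w)
    have h2 : ((Additive.toMul ((∑ z : Z', ρ₀ z) w) : V) : G) ∈ V ⊓ centralizer (Z : Set G) :=
      mem_inf.mpr ⟨(Additive.toMul ((∑ z : Z', ρ₀ z) w)).2, h1⟩
    rw [hC, mem_bot] at h2
    exact Additive.toMul.injective (Subtype.ext h2)
  have hρ : ∀ (S : Subgroup G) [Fintype (S.subgroupOf N)],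
      ∑ s : S.subgroupOf N, ρ s = β (∑ s : S.subgroupOf N, ρ₀ s) := fun S _ => by
    rw [map_sum]; rfl
  have hroots : HasEnoughRootsOfUnity k (Monoid.exponent Z') := by
    have : NeZero ((Monoid.exponent Z' : ℕ) : k) := ⟨hcast _ fun hd => hpZ (hd.trans
      (Group.exponent_dvd_nat_card.trans (dvd_of_eq (Nat.card_congr (subgroupOfEquivOfLe hZV).toEquiv))))⟩
    infer_instance
  have h : FrobeniusModule.Hyp Z' E' ρ :=
    { comm := fun x hx y hy => Subtype.ext (hZc x hx y hy)
      norm := fun a ha z hz => (mem_normalizer_iff.mp (hEZ ha) z).mp hz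
      fpf := fun a ha ha1 z hz e => Subtype.ext (hfpf a ha (fun e1 => ha1 (Subtype.ext e1)) z hz
        (congrArg Subtype.val e))
      sum0 := by rw [hρ Z, hsum0, map_zero]
      hn := by rw [hcZ]; exact hcast _ hpZ
      he := by rw [hcE]; exact hcast _ hpE
      hasRoots := hroots }
  obtain ⟨hdim, hcomm⟩ := FrobeniusModule.main h
  -- the fixed points of `E`
  set P₀ := ∑ a : E', ρ₀ a with hP₀
  have hrange : Module.finrank k (LinearMap.range (∑ a : E', ρ a)) =
      Module.finrank (ZMod p) (LinearMap.range P₀) := by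
    rw [hρ E]
    show Module.finrank k (LinearMap.range (P₀.baseChange k)) = _
    have e : P₀.baseChange k = (LinearMap.range P₀).subtype.baseChange k ∘ₗ P₀.rangeRestrict.baseChange k := by
      rw [← LinearMap.baseChange_comp]
      congr 1
    rw [e, LinearMap.range_comp_of_range_eq_top _
      (LinearMap.range_eq_top.mpr (LinearMap.baseChange_surjective k P₀.surjective_rangeRestrict)),
      LinearMap.finrank_range_of_inj (by
        rw [LinearMap.baseChange_eq_ltensor]
        exact Module.Flat.lTensor_preserves_injective_linearMap _ (LinearMap.range P₀).injective_subtype),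
      Module.finrank_baseChange]
  have hcW : p ^ Module.finrank (ZMod p) (LinearMap.range P₀) = Nat.card ↥(V ⊓ centralizer (E : Set G)) := by
    have h1 := Module.natCard_eq_pow_finrank (K := ZMod p) (V := LinearMap.range P₀)
    rw [Nat.card_zmod] at h1
    rw [← h1]
    refine Nat.card_congr
      { toFun := fun w => ⟨((Additive.toMul (w : Additive V) : V) : G), mem_inf.mpr ⟨(Additive.toMul (w : Additive V)).2,
          (hfix E hEV w).mp fun a => by
            obtain ⟨v, hv⟩ := w.2
            rw [← hv]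
            exact hinvariant E v a⟩⟩
        invFun := fun x => ⟨Additive.ofMul ⟨x, (mem_inf.mp x.2).1⟩, ?_⟩
        left_inv := fun w => rfl
        right_inv := fun x => rfl }
    have hx := (hfix E hEV (Additive.ofMul ⟨x, (mem_inf.mp x.2).1⟩)).mpr (mem_inf.mp x.2).2
    refine ⟨((Fintype.card E' : ZMod p))⁻¹ • Additive.ofMul ⟨x, (mem_inf.mp x.2).1⟩, ?_⟩
    rw [map_smul, hP₀, LinearMap.sum_apply, Finset.sum_congr rfl fun a _ => hx a, Finset.sum_const,
      Finset.card_univ, ← Nat.cast_smul_eq_nsmul (ZMod p), inv_smul_smul₀]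
    rw [hcE, Ne, ZMod.natCast_eq_zero_iff]
    exact hpE
  refine ⟨?_, fun hle u hu v hv hzu hzv => ?_⟩
  · rw [Module.finrank_baseChange, hrange, hcE] at hdim
    rw [← hcW, ← pow_mul, mul_comm, ← hdim]
    have h1 := Module.natCard_eq_pow_finrank (K := ZMod p) (V := Additive V)
    rw [Nat.card_zmod] at h1
    rw [← h1]
    exact Nat.card_congr Additive.toMul.symm
  have hle' : Module.finrank k (LinearMap.range (∑ a : E', ρ a)) ≤ 1 := by
    rw [hrange]
    refine (Nat.pow_le_pow_iff_right hp.one_lt).mp ?_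
    rwa [hcW, pow_one]
  have e := hcomm hle' ⟨u, hu⟩ ⟨v, hv⟩ (fun z hz => Subtype.ext (hzu z hz)) (fun z hz => Subtype.ext (hzv z hz))
  have e' : ρ₀ ⟨u, hu⟩ * ρ₀ ⟨v, hv⟩ = ρ₀ ⟨v, hv⟩ * ρ₀ ⟨u, hu⟩ := by
    have hβ : Function.Injective β := fun a b h => LinearMap.baseChangeHom_injective (ZMod p) _ (M := Additive V) h
    refine hβ ?_
    rw [map_mul, map_mul]
    exact e
  refine mem_centralizer_iff.mpr fun x hx => ?_
  have hx' : φ ⁅(⟨u, hu⟩ : N), ⟨v, hv⟩⁆ ⟨x, hx⟩ = ⟨x, hx⟩ := by
    have h1 : φ ⟨u, hu⟩ * φ ⟨v, hv⟩ = φ ⟨v, hv⟩ * φ ⟨u, hu⟩ := MulEquiv.ext fun y =>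
      congrArg Additive.toMul (LinearMap.congr_fun e' (Additive.ofMul y))
    rw [map_commutatorElement, commutatorElement_eq_one_iff_mul_comm.mpr h1, MulAut.one_apply]
  have h2 := congrArg Subtype.val hx'
  rw [hφ] at h2
  exact (mul_inv_eq_iff_eq_mul.mp h2).symm

end Cfsg.Agent.OddLocal.FrobeniusCoprime
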