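import Cfsg.Agent.Lib.PGroups.ClassThree
import Cfsg.Agent.Lib.Coprime.PGroup
import Cfsg.Agent.Lib.Cores.Nilpotent
import Cfsg.Agent.Solvable.Basics
import Cfsg.Prelude.Def_OddOrderLocal

/-! Coprime actions on metacyclic `p`-groups, `p` odd. -/

set_option autoImplicit false
set_option linter.unusedSectionVars false

namespace Cfsg.Agent.OddLocal.MetacyclicAction

open Cfsg Subgroup
open scoped commutatorElement IsMulCommutative

variable {p : ℕ} [hp : Fact p.Prime] {Y : Type*} [Group Y] [Finite Y]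

theorem isMetacyclic_of_injective {R X : Type*} [Group R] [Group X] (h : IsMetacyclic R) (e : X →* R)
    (he : Function.Injective e) : IsMetacyclic X := by
  obtain ⟨N, hN, hNc, hQc⟩ := h
  refine ⟨N.comap e, inferInstance, ?_, ?_⟩
  · let f : N.comap e →* N :=
      { toFun := fun x => ⟨e x, x.2⟩
        map_one' := Subtype.ext (map_one e)
        map_mul' := fun _ _ => Subtype.ext (map_mul e _ _) }
    exact isCyclic_of_injective f fun a b hab =>
      Subtype.ext (he (congrArg (fun n : N => (n : R)) hab))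
  · let g : X →* R ⧸ N := (QuotientGroup.mk' N).comp e
    have hg : g.ker = N.comap e := by
      ext x
      exact QuotientGroup.eq_one_iff _
    exact isCyclic_of_injective
      ((QuotientGroup.kerLift g).comp (QuotientGroup.quotientMulEquivOfEq hg).symm.toMonoidHom)
      ((QuotientGroup.kerLift_injective g).comp (MulEquiv.injective _))

/-- The averaged image of a generating displacement is trivial, so no coset modulo a subgroup with abelian
quotient is fixed by all automorphisms. -/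
theorem mem_of_fixed_coset {A : Type*} [Group A] [Finite A] (hY : IsPGroup p Y) (φ : A →* MulAut Y)
    (hA : (Nat.card A).Coprime p) (hgen : closure {y : Y | ∃ a x, y = φ a x * x⁻¹} = ⊤)
    (P : Subgroup Y) [P.Normal] (hder : commutator Y ≤ P) (hinv : ∀ a, ∀ x ∈ P, φ a x ∈ P)
    {l : Y} (hl : ∀ a, φ a l * l⁻¹ ∈ P) : l ∈ P := by
  classical
  have : Fintype A := Fintype.ofFinite A
  set π := QuotientGroup.mk' P with hπ
  have hab : IsMulCommutative (Y ⧸ P) := ⟨⟨fun x y => by
    obtain ⟨x, rfl⟩ := QuotientGroup.mk'_surjective P x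
    obtain ⟨y, rfl⟩ := QuotientGroup.mk'_surjective P y
    rw [← commutatorElement_eq_one_iff_mul_comm, ← map_commutatorElement]
    exact (QuotientGroup.eq_one_iff _).mpr
      (hder (commutator_mem_commutator (mem_top x) (mem_top y)))⟩⟩
  let τ : Y →* Y ⧸ P :=
    { toFun := fun x => ∏ a : A, π (φ a x)
      map_one' := Finset.prod_eq_one fun a _ => by rw [map_one, map_one]
      map_mul' := fun x y => by
        rw [← Finset.prod_mul_distrib]
        exact Finset.prod_congr rfl fun a _ => by rw [map_mul, map_mul] }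
  have hτ : ∀ x, τ x = 1 := by
    intro x
    have hx : x ∈ τ.ker := by
      refine (closure_le τ.ker).mpr ?_ (hgen ▸ mem_top x)
      rintro _ ⟨b, z, rfl⟩
      show τ (φ b z * z⁻¹) = 1
      rw [map_mul, map_inv, mul_inv_eq_one]
      show ∏ a : A, π (φ a (φ b z)) = ∏ a : A, π (φ a z)
      refine Fintype.prod_equiv (Equiv.mulRight b) _ _ fun a => ?_
      simp [map_mul]
    exact hx
  have h1 : π l ^ Nat.card A = 1 := by
    rw [← hτ l]
    show π l ^ Nat.card A = ∏ a : A, π (φ a l)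
    rw [Finset.prod_congr rfl (fun a _ => show π (φ a l) = π l from ?_), Finset.prod_const,
      Finset.card_univ, Nat.card_eq_fintype_card]
    refine mul_inv_eq_one.mp ?_
    rw [← map_inv, ← map_mul]
    exact (QuotientGroup.eq_one_iff _).mpr (hl a)
  obtain ⟨j, hj⟩ := (hY.to_quotient P) (π l)
  refine (QuotientGroup.eq_one_iff l).mp ?_
  exact orderOf_eq_one_iff.mp (Nat.eq_one_of_dvd_coprimes (hA.pow_right j)
    (orderOf_dvd_of_pow_eq_one h1) (orderOf_dvd_of_pow_eq_one hj))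

/-- The class two case. -/
theorem false_of_card_commutator (hp2 : p ≠ 2) (hY : IsPGroup p Y) (hc : commutator Y ≤ center Y)
    (hcard : Nat.card (commutator Y) = p) (hm : IsMetacyclic Y) {A : Type*} [Group A] [Finite A]
    (φ : A →* MulAut Y) (hA : (Nat.card A).Coprime p)
    (hgen : closure {y : Y | ∃ a x, y = φ a x * x⁻¹} = ⊤) : False := by
  classical
  set D := commutator Y with hD
  have hDexp : ∀ z ∈ D, z ^ p = 1 := fun z hz =>
    orderOf_dvd_iff_pow_eq_one.mp ((D.orderOf_dvd_natCard hz).trans hcard.dvd)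
  have hsc : PGroups.ClassThree.SmallClass p Y := PGroups.ClassThree.smallClass_of_commutator
    (Or.inl ⟨hp2, by
      rw [commutator_eq_bot_iff_le_centralizer]
      exact fun u hu => center_le_centralizer _ (hc hu)⟩)
  have hcom : ∀ x y : Y, (y⁻¹ * x⁻¹ * y * x) ^ p = 1 := fun x y => hDexp _ (by
    have h := commutator_mem_commutator (mem_top y⁻¹) (mem_top x⁻¹)
    rw [hD, _root_.commutator_def]
    simpa [commutatorElement_def, mul_assoc] using h)
  let f : Y →* Y :=
    { toFun := fun x => x ^ p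
      map_one' := one_pow p
      map_mul' := fun x y => PGroups.ClassThree.mul_pow_prime hp2 hsc (hcom x y) }
  set P := f.range with hP
  have hPn : P.Normal := ⟨fun x hx g => by
    obtain ⟨y, rfl⟩ := hx
    exact ⟨g * y * g⁻¹, show (g * y * g⁻¹) ^ p = _ from conj_pow⟩⟩
  have hPinv : ∀ a, ∀ x ∈ P, φ a x ∈ P := by
    rintro a _ ⟨y, rfl⟩
    exact ⟨φ a y, show (φ a y) ^ p = _ from (map_pow _ _ _).symm⟩
  have hmap : ∀ (a : A) (x : Y), x ∈ D → φ a x ∈ D := fun a x hx =>
    characteristic_iff_map_le.mp inferInstance (φ a) ⟨x, hx, rfl⟩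
  -- the quotient by `P` has order at most `p ^ 2`
  obtain ⟨C, hCn, hCc, hQc⟩ := hm
  obtain ⟨c₀, hc₀⟩ := hCc.exists_generator
  obtain ⟨bb, hbb⟩ := hQc.exists_generator
  obtain ⟨b₀, rfl⟩ := QuotientGroup.mk'_surjective C bb
  set π := QuotientGroup.mk' P with hπ
  have hdec : ∀ x : Y, ∃ i j : ℤ, π x = π b₀ ^ i * π (c₀ : Y) ^ j := by
    intro x
    obtain ⟨i, hi⟩ := mem_zpowers_iff.mp (hbb (QuotientGroup.mk' C x))
    rw [← map_zpow] at hi
    obtain ⟨j, hj⟩ := mem_zpowers_iff.mp (hc₀ ⟨(b₀ ^ i)⁻¹ * x, QuotientGroup.eq.mp hi⟩)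
    refine ⟨i, j, ?_⟩
    have hj' := congrArg Subtype.val hj
    rw [coe_zpow] at hj'
    rw [← map_zpow, ← map_zpow, hj', ← map_mul]
    congr 1
    group
  have hexpP : ∀ q : Y ⧸ P, q ^ p = 1 := fun q => by
    obtain ⟨y, rfl⟩ := QuotientGroup.mk'_surjective P q
    rw [← map_pow]
    exact (QuotientGroup.eq_one_iff _).mpr ⟨y, rfl⟩
  have hcyc2 : Nat.card (Y ⧸ P) ≤ p ^ 2 := by
    have hb : ∀ q : Y ⧸ P, Nat.card (zpowers q) ≤ p := fun q => by
      rw [Nat.card_zpowers]
      exact Nat.le_of_dvd hp.out.pos (orderOf_dvd_of_pow_eq_one (hexpP q))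
    refine le_trans (Nat.card_le_card_of_surjective
      (fun w : zpowers (π b₀) × zpowers (π (c₀ : Y)) => (w.1 : Y ⧸ P) * w.2) fun q => ?_) ?_
    · obtain ⟨x, rfl⟩ := QuotientGroup.mk'_surjective P q
      obtain ⟨i, j, hx⟩ := hdec x
      exact ⟨(⟨_, mem_zpowers_iff.mpr ⟨i, rfl⟩⟩, ⟨_, mem_zpowers_iff.mpr ⟨j, rfl⟩⟩), hx.symm⟩
    · rw [Nat.card_prod, pow_two]
      exact Nat.mul_le_mul (hb _) (hb _)
  have hDP : D ≤ P := by
    obtain ⟨e, he⟩ := (hY.to_quotient P).exists_card_eq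
    have he2 : e ≤ 2 := (Nat.pow_le_pow_iff_right hp.out.one_lt).mp (he ▸ hcyc2)
    have hcomm : IsMulCommutative (Y ⧸ P) := by
      interval_cases e
      · have : Subsingleton (Y ⧸ P) := (Nat.card_eq_one_iff_unique.mp (by simpa using he)).1
        exact ⟨⟨fun _ _ => Subsingleton.elim _ _⟩⟩
      · have := isCyclic_of_prime_card (p := p) (by simpa using he)
        exact this.isMulCommutative
      · exact IsPGroup.isMulCommutative_of_card_eq_prime_sq he
    rw [hD, _root_.commutator_def, commutator_le]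
    intro x _ y _
    rw [← QuotientGroup.eq_one_iff, ← QuotientGroup.mk'_apply, map_commutatorElement,
      commutatorElement_eq_one_iff_mul_comm]
    exact hcomm.is_comm.comm _ _
  -- `P` is central
  have hcomm_mul : ∀ u v w : Y, ⁅u * v, w⁆ = ⁅u, w⁆ * ⁅v, w⁆ := by
    intro u v w
    have hv : ⁅v, w⁆ ∈ center Y := hc (commutator_mem_commutator (mem_top v) (mem_top w))
    calc ⁅u * v, w⁆ = u * ⁅v, w⁆ * u⁻¹ * ⁅u, w⁆ := by simp only [commutatorElement_def]; group
      _ = ⁅v, w⁆ * ⁅u, w⁆ := by rw [mem_center_iff.mp hv u, mul_inv_cancel_right]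
      _ = _ := (mem_center_iff.mp hv _).symm
  have hzpow : ∀ (u w : Y) (i : ℤ), ⁅u ^ i, w⁆ = ⁅u, w⁆ ^ i := by
    intro u w i
    let θ : Y →* Y :=
      { toFun := fun u => ⁅u, w⁆
        map_one' := commutatorElement_one_left w
        map_mul' := fun u v => hcomm_mul u v w }
    exact map_zpow θ u i
  have hPc : P ≤ center Y := by
    rintro _ ⟨x, rfl⟩
    refine mem_center_iff.mpr fun g => ?_
    have : ⁅x ^ (p : ℤ), g⁆ = 1 := by
      rw [hzpow, zpow_natCast]
      exact hDexp _ (commutator_mem_commutator (mem_top x) (mem_top g))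
    rw [zpow_natCast] at this
    exact (commutatorElement_eq_one_iff_mul_comm.mp this).symm
  have hzpow' : ∀ (u w : Y) (i : ℤ), ⁅u, w ^ i⁆ = ⁅u, w⁆ ^ i := fun u w i => by
    rw [← commutatorElement_inv, hzpow, ← inv_zpow, commutatorElement_inv]
  have hcP : ∀ (u w : Y), ∀ z ∈ P, ⁅u * z, w⁆ = ⁅u, w⁆ ∧ ⁅u, w * z⁆ = ⁅u, w⁆ := by
    intro u w z hz
    have h1 : ∀ g : Y, ⁅z, g⁆ = 1 := fun g =>
      commutatorElement_eq_one_iff_mul_comm.mpr (mem_center_iff.mp (hPc hz) g).symm
    refine ⟨by rw [hcomm_mul, h1, mul_one], ?_⟩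
    rw [← commutatorElement_inv, hcomm_mul, h1, mul_one, commutatorElement_inv]
  -- deepest `p`-power root of the derived group
  have hne : D ≠ ⊥ := fun e => by rw [e, card_bot] at hcard; exact hp.out.one_lt.ne hcard
  obtain ⟨n, hn, hn1⟩ := (bot_or_exists_ne_one D).resolve_left hne
  let fk : ℕ → (Y →* Y) := fun k => Nat.rec (MonoidHom.id Y) (fun _ g => f.comp g) k
  have hfk : ∀ k x, fk k x = x ^ p ^ k := by
    intro k
    induction k with
    | zero => intro x; rw [pow_zero, pow_one]; rfl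
    | succ k ih =>
      intro x
      show (fk k x) ^ p = _
      rw [ih, ← pow_mul, ← pow_succ]
  obtain ⟨e, he⟩ := hY.exists_card_eq
  obtain ⟨k, ⟨h₀, hk⟩, hkmax⟩ : ∃ k : ℕ, (∃ h, fk k h = n) ∧ ¬ ∃ h, fk (k + 1) h = n := by
    by_contra hcon
    push Not at hcon
    have : ∀ k, ∃ h, fk k h = n := by
      intro k
      induction k with
      | zero => exact ⟨n, rfl⟩
      | succ k ih => exact hcon k ih
    obtain ⟨h, hh⟩ := this e
    exact hn1 (by rw [← hh, hfk, ← he, pow_card_eq_one'])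
  have hDgen : zpowers n = D := eq_of_le_of_card_ge (zpowers_le.mpr hn) (by
    rw [Nat.card_zpowers, hcard, orderOf_eq_prime (hDexp n hn) hn1])
  have horder : orderOf n = p := orderOf_eq_prime (hDexp n hn) hn1
  set g := fk k with hg
  set S := D.comap g with hS
  have hnorm : ∀ z ∈ P, g z ∈ D → g z = 1 := by
    rintro _ ⟨y, rfl⟩ hz
    by_contra h1
    obtain ⟨i, hi⟩ := mem_zpowers_iff.mp (hDgen.symm ▸ hz : g (f y) ∈ zpowers n)
    have hgy : g (f y) = fk (k + 1) y := by
      rw [hg, hfk k (f y), hfk (k + 1) y]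
      show (y ^ p) ^ p ^ k = _
      rw [← pow_mul, ← pow_succ']
    have hcop : (i.natAbs).Coprime p := by
      refine (hp.out.coprime_iff_not_dvd.mpr fun hd => h1 ?_).symm
      rw [← hi]
      obtain ⟨t, ht⟩ := Int.natCast_dvd.mpr hd
      rw [ht, zpow_mul, zpow_natCast, hDexp n hn, one_zpow]
    refine hkmax ⟨y ^ (i.gcdA p), ?_⟩
    rw [map_zpow, ← hgy, ← hi, ← zpow_mul]
    have hb := Int.gcd_eq_gcd_ab i p
    rw [Int.gcd_def, Int.natAbs_natCast, hcop.gcd_eq_one] at hb
    push_cast at hb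
    rw [show i * i.gcdA p = 1 + (p : ℤ) * (-(i.gcdB p)) by linarith, zpow_add, zpow_one, zpow_mul,
      zpow_natCast, hDexp n hn, one_zpow, mul_one]
  have hh0S : h₀ ∈ S := by rw [hS, mem_comap, hk]; exact hn
  have hh0P : h₀ ∉ P := fun h => hn1 (hk ▸ hnorm h₀ h (hk.symm ▸ hn))
  have hginv : ∀ a x, g (φ a x) = φ a (g x) := fun a x => by rw [hg, hfk, hfk, map_pow]
  have hSinv : ∀ a, ∀ x ∈ S, φ a x ∈ S := fun a x hx => by
    rw [hS, mem_comap, hginv]; exact hmap a _ hx
  set SP := S ⊔ P with hSP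
  have hSPinv : ∀ a, ∀ x ∈ SP, φ a x ∈ SP := by
    intro a x hx
    obtain ⟨s, hs, z, hz, rfl⟩ := mem_sup_of_normal_right.mp hx
    rw [map_mul]
    exact mul_mem (mem_sup_left (hSinv a s hs)) (mem_sup_right (hPinv a z hz))
  have hndvd : ∀ {m : ℤ}, n ^ m ≠ 1 → ¬ (p : ℤ) ∣ m := by
    rintro m hm ⟨t, rfl⟩
    exact hm (by rw [zpow_mul, zpow_natCast, hDexp n hn, one_zpow])
  have hcancel : ∀ {m : ℤ}, ¬ (p : ℤ) ∣ m → ∀ {q : Y ⧸ P}, q ^ m = 1 → q = 1 := by
    intro m hm q hq
    rw [← orderOf_eq_one_iff]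
    have h1 : (orderOf q : ℤ) ∣ m := orderOf_dvd_iff_zpow_eq_one.mpr hq
    rcases (Nat.dvd_prime hp.out).mp (orderOf_dvd_of_pow_eq_one (hexpP q)) with h | h
    · exact h
    · exact absurd (h ▸ h1) hm
  -- a line `P < L` with `L / P` of order `p` and index `p`
  have hline : ∀ {L : Subgroup Y}, P ≤ L → ∀ {x : Y}, x ∈ L → x ∉ P → L ≠ ⊤ →
      ∀ y ∈ L, ∃ i : ℤ, (x ^ i)⁻¹ * y ∈ P := by
    intro L hPL x hx hxP hLtop y hy
    have hxo : Nat.card (zpowers (π x)) = p := by
      rw [Nat.card_zpowers]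
      exact orderOf_eq_prime (hexpP _) fun h => hxP ((QuotientGroup.eq_one_iff x).mp h)
    have hlt : Nat.card (L.map π) < Nat.card (Y ⧸ P) := lt_of_not_ge fun hge => hLtop (by
      have h1 := eq_top_of_card_eq _ (le_antisymm (card_le_card_group (L.map π)) hge)
      have h2 := congrArg (Subgroup.comap π) h1
      rwa [comap_map_eq_self (by rw [hπ, QuotientGroup.ker_mk']; exact hPL), comap_top] at h2)
    have heq : zpowers (π x) = L.map π := by
      refine eq_of_le_of_card_ge (zpowers_le.mpr ⟨x, hx, rfl⟩) ?_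
      obtain ⟨u, hu⟩ := ((hY.to_quotient P).to_subgroup (L.map π)).exists_card_eq
      have h3 := hlt.trans_le hcyc2
      rw [hu, Nat.pow_lt_pow_iff_right hp.out.one_lt] at h3
      rw [hu, hxo]
      exact (Nat.pow_le_pow_right hp.out.pos (by omega : u ≤ 1)).trans (pow_one p).le
    obtain ⟨i, hi⟩ := mem_zpowers_iff.mp (show π y ∈ zpowers (π x) by rw [heq]; exact ⟨y, hy, rfl⟩)
    rw [← map_zpow] at hi
    exact ⟨i, QuotientGroup.eq.mp hi⟩
  -- `Y` is generated by two elements modulo `P`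
  have hnonab : ∀ {L : Subgroup Y}, P ≤ L → ∀ {x : Y}, x ∈ L → x ∉ P → L ≠ ⊤ →
      ∀ y ∉ L, ⁅x, y⁆ ≠ 1 := by
    intro L hPL x hx hxP hLtop y hy hxy
    have hL2 : L ⊔ zpowers y = ⊤ := by
      by_contra hne'
      have hlt : ¬ L ⊔ zpowers y ≤ L := fun h => hy (h (mem_sup_right (mem_zpowers y)))
      obtain ⟨i, hi⟩ := hline (hPL.trans le_sup_left) (mem_sup_left hx) hxP hne' y
        (mem_sup_right (mem_zpowers y))
      have e : y = x ^ i * ((x ^ i)⁻¹ * y) := by group
      exact hy (e ▸ mul_mem (zpow_mem hx i) (hPL hi))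
    have hbot : D = ⊥ := by
      rw [eq_bot_iff, hD, _root_.commutator_def, commutator_le]
      have key : ∀ u : Y, ∃ (i j : ℤ) (z : Y), z ∈ P ∧ u = x ^ i * y ^ j * z := by
        intro u
        have hLn : L.Normal := Normal.of_commutator_le Y (hDP.trans hPL)
        obtain ⟨l, hl, w, hw, rfl⟩ := mem_sup_of_normal_left.mp (hL2 ▸ mem_top u : u ∈ L ⊔ zpowers y)
        obtain ⟨j, rfl⟩ := mem_zpowers_iff.mp hw
        obtain ⟨i, hi⟩ := hline hPL hx hxP hLtop l hl
        refine ⟨i, j, (x ^ i)⁻¹ * l, hi, ?_⟩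
        rw [mul_assoc, mem_center_iff.mp (hPc hi) (y ^ j)]
        group
      intro u _ v _
      obtain ⟨i, j, z, hz, rfl⟩ := key u
      obtain ⟨i', j', z', hz', rfl⟩ := key v
      rw [mem_bot, (hcP _ _ z hz).1, (hcP _ _ z' hz').2, commutatorElement_eq_one_iff_commute]
      have hxy' : Commute x y := commutatorElement_eq_one_iff_commute.mp hxy
      exact ((Commute.zpow_zpow_self x i i').mul_right (hxy'.zpow_zpow i j')).mul_left
        (((hxy'.symm).zpow_zpow j i').mul_right (Commute.zpow_zpow_self y j j'))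
    exact hne hbot
  by_cases htop : SP = ⊤
  · -- `L = ker g · P` is a line fixed pointwise modulo `P`
    set L := g.ker ⊔ P with hL
    have hh0L : h₀ ∉ L := by
      intro h
      obtain ⟨l, hl, z, hz, hlz⟩ := mem_sup_of_normal_right.mp h
      have hh : g z = g h₀ := by rw [← hlz, map_mul, MonoidHom.mem_ker.mp hl, one_mul]
      rw [hk] at hh
      exact hn1 (hh ▸ hnorm z hz (hh ▸ hn))
    have hLtop : L ≠ ⊤ := fun e => hh0L (e ▸ mem_top _)
    have hLdec : ∀ x : Y, ∃ i : ℤ, (h₀ ^ i)⁻¹ * x ∈ L := by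
      intro x
      obtain ⟨s, hs, z, hz, rfl⟩ := mem_sup_of_normal_right.mp (show x ∈ S ⊔ P by rw [← hSP, htop]; exact mem_top x)
      obtain ⟨i, hi⟩ := mem_zpowers_iff.mp (hDgen.symm ▸ hs : g s ∈ zpowers n)
      refine ⟨i, ?_⟩
      rw [← mul_assoc]
      refine mul_mem (mem_sup_left ?_) (mem_sup_right hz)
      rw [MonoidHom.mem_ker, map_mul, map_inv, map_zpow, hk, hi, inv_mul_cancel]
    obtain ⟨l, hlL, hlP⟩ : ∃ l ∈ L, l ∉ P := SetLike.not_le_iff_exists.mp fun hle => by
      -- otherwise `Y` would be cyclic modulo `P`, hence abelian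
      refine hne ?_
      rw [eq_bot_iff, hD, _root_.commutator_def, commutator_le]
      intro u _ v _
      obtain ⟨i, hi⟩ := hLdec u
      obtain ⟨j, hj⟩ := hLdec v
      have eu : u = h₀ ^ i * ((h₀ ^ i)⁻¹ * u) := by group
      have ev : v = h₀ ^ j * ((h₀ ^ j)⁻¹ * v) := by group
      rw [mem_bot, eu, ev, (hcP _ _ _ (hle hi)).1, (hcP _ _ _ (hle hj)).2,
        commutatorElement_eq_one_iff_commute]
      exact Commute.zpow_zpow_self h₀ i j
    refine hlP (mem_of_fixed_coset hY φ hA hgen P hDP hPinv fun a => ?_)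
    have hLinv : φ a l ∈ L := by
      obtain ⟨l₁, hl₁, z, hz, rfl⟩ := mem_sup_of_normal_right.mp hlL
      rw [map_mul]
      refine mul_mem (mem_sup_left ?_) (mem_sup_right (hPinv a z hz))
      rw [MonoidHom.mem_ker, hginv, MonoidHom.mem_ker.mp hl₁, map_one]
    obtain ⟨i, hi⟩ := hline le_sup_right hlL hlP hLtop _ hLinv
    obtain ⟨c, hc'⟩ := hLdec (φ a h₀)
    set kk := (h₀ ^ c)⁻¹ * φ a h₀
    set z₁ := (l ^ i)⁻¹ * φ a l
    have eh : φ a h₀ = h₀ ^ c * kk := by simp [kk]
    have el : φ a l = l ^ i * z₁ := by simp [z₁]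
    have hgc : φ a n = n ^ c := by
      obtain ⟨u, hu, z, hz, huz⟩ := mem_sup_of_normal_right.mp hc'
      have h1 : g kk = g z := by rw [← huz, map_mul, MonoidHom.mem_ker.mp hu, one_mul]
      have h2 : φ a n = n ^ c * g z := by rw [← hk, ← hginv, eh, map_mul, map_zpow, hk, h1]
      have h3 : g z = 1 := hnorm z hz (by
        rw [show g z = (n ^ c)⁻¹ * φ a n by rw [h2, inv_mul_cancel_left]]
        exact mul_mem (inv_mem (zpow_mem hn c)) (hmap a n hn))
      rw [h2, h3, mul_one]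
    have hm1 : ⁅l, h₀⁆ ≠ 1 := hnonab le_sup_right hlL hlP hLtop h₀ hh0L
    obtain ⟨m, hm⟩ := mem_zpowers_iff.mp
      (hDgen.symm ▸ commutator_mem_commutator (mem_top l) (mem_top h₀) : ⁅l, h₀⁆ ∈ zpowers n)
    have hlk : ⁅l, kk⁆ = 1 := by
      obtain ⟨j, hj⟩ := hline le_sup_right hlL hlP hLtop kk hc'
      rw [show kk = l ^ j * ((l ^ j)⁻¹ * kk) by group, (hcP l _ _ hj).2, hzpow']
      rw [commutatorElement_self, one_zpow]
    have e1 : n ^ (c * m) = n ^ (m * (i * c)) := by
      have h1 : ⁅φ a l, φ a h₀⁆ = φ a ⁅l, h₀⁆ := (map_commutatorElement (φ a) l h₀).symm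
      rw [← hm, map_zpow, hgc, el, eh, (hcP _ _ _ hi).1, hzpow] at h1
      have h2 : ⁅l, h₀ ^ c * kk⁆ = ⁅l, h₀⁆ ^ c := by
        rw [← commutatorElement_inv, hcomm_mul, ← commutatorElement_inv l kk, hlk, inv_one, mul_one,
          commutatorElement_inv, hzpow']
      rw [h2, ← hm, ← zpow_mul, ← zpow_mul, ← zpow_mul] at h1
      rw [← h1]
      ring_nf
    have hcm : ¬ (p : ℤ) ∣ c * m := by
      intro hd
      rcases (Nat.prime_iff_prime_int.mp hp.out).dvd_mul.mp hd with hd | hd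
      · have : φ a n = 1 := by
          obtain ⟨t, rfl⟩ := hd
          rw [hgc, zpow_mul, zpow_natCast, hDexp n hn, one_zpow]
        exact hn1 ((φ a).injective (this.trans (map_one _).symm))
      · exact hndvd (hm.symm ▸ hm1) hd
    have hd : (p : ℤ) ∣ i - 1 := by
      have h2 := (zpow_eq_zpow_iff_modEq.mp e1)
      rw [horder] at h2
      have h3 : (p : ℤ) ∣ (c * m) * (i - 1) := by
        have := Int.modEq_iff_dvd.mp h2
        rwa [show m * (i * c) - c * m = c * m * (i - 1) by ring] at this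
      exact ((Nat.prime_iff_prime_int.mp hp.out).dvd_mul.mp h3).resolve_left hcm
    obtain ⟨t, ht⟩ := hd
    rw [el, show i = 1 + (p : ℤ) * t by linarith, zpow_add, zpow_one, zpow_mul, zpow_natCast]
    have : l * (l ^ p) ^ t * z₁ * l⁻¹ = l * ((l ^ p) ^ t * z₁) * l⁻¹ := by group
    rw [this]
    exact hPn.conj_mem _ (mul_mem (zpow_mem (show l ^ p ∈ P from ⟨l, rfl⟩) t) hi) l
  · -- everything is fixed modulo `S P`
    obtain ⟨y, hy⟩ := SetLike.not_le_iff_exists.mp fun hle : (⊤ : Subgroup Y) ≤ SP => htop (top_le_iff.mp hle)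
    have hy := hy.2
    have hSPn : SP.Normal := Normal.of_commutator_le Y (hDP.trans le_sup_right)
    refine hy (mem_of_fixed_coset hY φ hA hgen SP (hDP.trans le_sup_right) hSPinv fun a => ?_)
    obtain ⟨i, hi⟩ := hline le_sup_right (mem_sup_left hh0S) hh0P htop _ (hSPinv a h₀ (mem_sup_left hh0S))
    set z₁ := (h₀ ^ i)⁻¹ * φ a h₀
    have eh : φ a h₀ = h₀ ^ i * z₁ := by simp [z₁]
    have hgi : φ a n = n ^ i := by
      have h2 : φ a n = n ^ i * g z₁ := by rw [← hk, ← hginv, eh, map_mul, map_zpow, hk]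
      have h3 : g z₁ = 1 := hnorm z₁ hi (by
        rw [show g z₁ = (n ^ i)⁻¹ * φ a n by rw [h2, inv_mul_cancel_left]]
        exact mul_mem (inv_mem (zpow_mem hn i)) (hmap a n hn))
      rw [h2, h3, mul_one]
    -- write `φ a y` modulo `S P` as a power of `y`
    have hYdec : ∀ u : Y, ∃ j : ℤ, (y ^ j)⁻¹ * u ∈ SP := by
      intro u
      have hL2 : SP ⊔ zpowers y = ⊤ := by
        by_contra hne'
        obtain ⟨j, hj⟩ := hline (le_sup_right.trans le_sup_left) (mem_sup_left (mem_sup_left hh0S))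
          hh0P hne' y (mem_sup_right (mem_zpowers y))
        have e : y = h₀ ^ j * ((h₀ ^ j)⁻¹ * y) := by group
        exact hy (e ▸ mul_mem (zpow_mem (mem_sup_left hh0S) j) (mem_sup_right hj))
      obtain ⟨w, hw, s, hs, rfl⟩ := mem_sup_of_normal_right.mp
        (by rw [sup_comm, hL2]; exact mem_top u : u ∈ zpowers y ⊔ SP)
      obtain ⟨j, rfl⟩ := mem_zpowers_iff.mp hw
      exact ⟨j, by rwa [inv_mul_cancel_left]⟩
    obtain ⟨j, hj⟩ := hYdec (φ a y)
    set s₁ := (y ^ j)⁻¹ * φ a y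
    have ey : φ a y = y ^ j * s₁ := by simp [s₁]
    have hm1 : ⁅h₀, y⁆ ≠ 1 := hnonab le_sup_right (mem_sup_left hh0S) hh0P htop y hy
    obtain ⟨m, hm⟩ := mem_zpowers_iff.mp
      (hDgen.symm ▸ commutator_mem_commutator (mem_top h₀) (mem_top y) : ⁅h₀, y⁆ ∈ zpowers n)
    have e1 : n ^ (i * m) = n ^ (m * (i * j)) := by
      have h1 : ⁅φ a h₀, φ a y⁆ = φ a ⁅h₀, y⁆ := (map_commutatorElement (φ a) h₀ y).symm
      rw [← hm, map_zpow, hgi, eh, ey, (hcP _ _ _ hi).1, hzpow] at h1
      obtain ⟨v, hv⟩ := hline le_sup_right (mem_sup_left hh0S) hh0P htop s₁ hj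
      have h2 : ⁅h₀, y ^ j * s₁⁆ = ⁅h₀, y⁆ ^ j := by
        have hs : ⁅h₀, s₁⁆ = 1 := by
          rw [show s₁ = h₀ ^ v * ((h₀ ^ v)⁻¹ * s₁) by group, (hcP h₀ _ _ hv).2, hzpow',
            commutatorElement_self, one_zpow]
        rw [← commutatorElement_inv, hcomm_mul, ← commutatorElement_inv h₀ s₁, hs, inv_one, mul_one,
          commutatorElement_inv, hzpow']
      rw [h2, ← hm, ← zpow_mul, ← zpow_mul, ← zpow_mul] at h1
      rw [← h1]
      ring_nf
    have him : ¬ (p : ℤ) ∣ i * m := by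
      intro hd
      rcases (Nat.prime_iff_prime_int.mp hp.out).dvd_mul.mp hd with hd | hd
      · have : φ a n = 1 := by
          obtain ⟨t, rfl⟩ := hd
          rw [hgi, zpow_mul, zpow_natCast, hDexp n hn, one_zpow]
        exact hn1 ((φ a).injective (this.trans (map_one _).symm))
      · exact hndvd (hm.symm ▸ hm1) hd
    have hd : (p : ℤ) ∣ j - 1 := by
      have h2 := (zpow_eq_zpow_iff_modEq.mp e1)
      rw [horder] at h2
      have h3 : (p : ℤ) ∣ (i * m) * (j - 1) := by
        have := Int.modEq_iff_dvd.mp h2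
        rwa [show m * (i * j) - i * m = i * m * (j - 1) by ring] at this
      exact ((Nat.prime_iff_prime_int.mp hp.out).dvd_mul.mp h3).resolve_left him
    obtain ⟨t, ht⟩ := hd
    rw [ey, show j = 1 + (p : ℤ) * t by linarith, zpow_add, zpow_one, zpow_mul, zpow_natCast]
    have : y * (y ^ p) ^ t * s₁ * y⁻¹ = y * ((y ^ p) ^ t * s₁) * y⁻¹ := by group
    rw [this]
    exact hSPn.conj_mem _ (mul_mem (mem_sup_right (zpow_mem (show y ^ p ∈ P from ⟨y, rfl⟩) t)) hj) y

/-- A metacyclic `p`-group, `p` odd, generated by the displacements of a coprime action is abelian. -/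
theorem abelian_of_generates (hp2 : p ≠ 2) (hY : IsPGroup p Y) (hm : IsMetacyclic Y)
    {A : Type*} [Group A] [Finite A] (φ : A →* MulAut Y) (hA : (Nat.card A).Coprime p)
    (hgen : closure {y : Y | ∃ a x, y = φ a x * x⁻¹} = ⊤) : IsMulCommutative Y := by
  obtain ⟨C, hCn, hCc, hQc⟩ := id hm
  set D := commutator Y with hD
  rcases eq_or_ne D ⊥ with hb | hb
  · exact ⟨⟨fun a b => commutatorElement_eq_one_iff_mul_comm.mp (mem_bot.mp
      (hb ▸ commutator_mem_commutator (mem_top a) (mem_top b)))⟩⟩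
  exfalso
  have hDC : D ≤ C := by
    rw [hD, _root_.commutator_def, commutator_le]
    intro x _ y _
    rw [← QuotientGroup.eq_one_iff, ← QuotientGroup.mk'_apply, map_commutatorElement,
      commutatorElement_eq_one_iff_mul_comm]
    exact hQc.isMulCommutative.is_comm.comm _ _
  have hDcyc : IsCyclic D := isCyclic_of_injective (inclusion hDC) (inclusion_injective hDC)
  obtain ⟨⟨n, hn⟩, hgenD⟩ := hDcyc.exists_generator
  have hDn : zpowers n = D := le_antisymm (zpowers_le.mpr hn) fun x hx => by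
    obtain ⟨i, hi⟩ := mem_zpowers_iff.mp (hgenD ⟨x, hx⟩)
    exact mem_zpowers_iff.mpr ⟨i, congrArg Subtype.val hi⟩
  set K := zpowers (n ^ p) with hK
  have hKD : K ≤ D := zpowers_le.mpr (pow_mem hn p)
  have hKchar : ∀ (e : MulAut Y) (x : Y), x ∈ K → e x ∈ K := by
    intro e x hx
    obtain ⟨i, rfl⟩ := mem_zpowers_iff.mp hx
    obtain ⟨j, hj⟩ := mem_zpowers_iff.mp (hDn.symm ▸
      characteristic_iff_map_le.mp (inferInstance : D.Characteristic) e ⟨n, hn, rfl⟩ :
      e n ∈ zpowers n)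
    rw [map_zpow, map_pow, ← hj]
    exact zpow_mem (mem_zpowers_iff.mpr ⟨j, by
      rw [← zpow_natCast, ← zpow_natCast, ← zpow_mul, ← zpow_mul, mul_comm]⟩) i
  have hKn : K.Normal := ⟨fun x hx g => hKchar (MulAut.conj g) x hx⟩
  have hKinv : ∀ a, K.map (φ a).toMonoidHom = K := by
    intro a
    refine le_antisymm ?_ fun x hx => ⟨(φ a).symm x, hKchar _ x hx, (φ a).apply_symm_apply x⟩
    rintro _ ⟨x, hx, rfl⟩
    exact hKchar _ x hx
  set π := QuotientGroup.mk' K with hπ
  let φb : A →* MulAut (Y ⧸ K) :=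
    { toFun := fun a => QuotientGroup.congr K K (φ a) (hKinv a)
      map_one' := MulEquiv.ext fun x => by
        obtain ⟨x, rfl⟩ := QuotientGroup.mk'_surjective K x
        show π (φ 1 x) = π x
        rw [map_one]; rfl
      map_mul' := fun a b => MulEquiv.ext fun x => by
        obtain ⟨x, rfl⟩ := QuotientGroup.mk'_surjective K x
        show π (φ (a * b) x) = π (φ a (φ b x))
        rw [map_mul]; rfl }
  have hder : commutator (Y ⧸ K) = D.map π := by
    rw [hD, _root_.commutator_def, _root_.commutator_def, Subgroup.map_commutator,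
      Subgroup.map_top_of_surjective π (QuotientGroup.mk'_surjective K)]
  have hnp : n ^ p ≠ n := by
    intro h
    have hn1 : n ≠ 1 := fun e => hb (by rw [← hDn, e]; exact zpowers_one_eq_bot)
    obtain ⟨k, hk⟩ := IsPGroup.iff_orderOf.mp hY n
    have h1 : n ^ (p - 1) = 1 := by
      have h2 : n ^ (p - 1) * n = 1 * n := by
        rw [one_mul, ← pow_succ, show p - 1 + 1 = p by have := hp.out.one_le; omega, h]
      exact mul_right_cancel h2
    have hcop : (p ^ k).Coprime (p - 1) := Nat.Coprime.pow_left k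
      (hp.out.coprime_iff_not_dvd.mpr fun hd => by
        have := hp.out.two_le
        have := Nat.le_of_dvd (by omega) hd
        omega)
    exact hn1 (orderOf_eq_one_iff.mp (Nat.eq_one_of_dvd_coprimes hcop hk.dvd (orderOf_dvd_of_pow_eq_one h1)))
  have hnK : n ∉ K := by
    intro h
    obtain ⟨i, hi⟩ := mem_zpowers_iff.mp h
    obtain ⟨k, hk⟩ := IsPGroup.iff_orderOf.mp hY n
    have hd : (orderOf n : ℤ) ∣ (p : ℤ) * i - 1 := by
      rw [orderOf_dvd_iff_zpow_eq_one, zpow_sub, zpow_one, zpow_mul, zpow_natCast, hi, mul_inv_cancel]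
    rcases k with _ | k
    · exact hnp (by rw [show n = 1 from orderOf_eq_one_iff.mp (by simpa using hk), one_pow])
    · have h2 : (p : ℤ) ∣ (p : ℤ) * i - 1 := (Int.natCast_dvd_natCast.mpr (hk ▸ dvd_pow_self p k.succ_ne_zero)).trans hd
      have h3 : (p : ℤ) ∣ 1 := by simpa using dvd_sub (dvd_mul_right (p : ℤ) i) h2
      exact hp.out.ne_one (Nat.dvd_one.mp (Int.natCast_dvd_natCast.mp (by exact_mod_cast h3)))
  have hcard : Nat.card (commutator (Y ⧸ K)) = p := by
    rw [hder, ← hDn, MonoidHom.map_zpowers, Nat.card_zpowers]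
    refine orderOf_eq_prime ?_ fun h => hnK ((QuotientGroup.eq_one_iff n).mp h)
    rw [← map_pow]
    exact (QuotientGroup.eq_one_iff _).mpr (mem_zpowers _)
  have hcen : commutator (Y ⧸ K) ≤ center (Y ⧸ K) := by
    have := (hY.to_quotient K).isNilpotent
    refine inf_eq_left.mp (eq_of_le_of_card_ge inf_le_left ?_)
    have hne : commutator (Y ⧸ K) ⊓ center (Y ⧸ K) ≠ ⊥ := Cfsg.Agent.Cores.inf_center_ne_bot fun h => by
      rw [h, card_bot] at hcard
      exact hp.out.one_lt.ne hcard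
    rcases (Nat.dvd_prime hp.out).mp (hcard ▸ card_dvd_of_le (inf_le_left : commutator (Y ⧸ K) ⊓ center (Y ⧸ K) ≤ _)) with h | h
    · exact absurd (eq_bot_of_card_eq _ h) hne
    · rw [hcard, h]
  have hmQ : IsMetacyclic (Y ⧸ K) := by
    refine ⟨C.map π, Normal.map hCn π (QuotientGroup.mk'_surjective K),
      isCyclic_of_surjective (π.subgroupMap C) (π.subgroupMap_surjective C), ?_⟩
    haveI := Normal.map hCn π (QuotientGroup.mk'_surjective K)
    exact isCyclic_of_surjective (QuotientGroup.map C (C.map π) π (le_comap_map π C))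
      (QuotientGroup.map_surjective_of_surjective C _ π
        ((QuotientGroup.mk'_surjective _).comp (QuotientGroup.mk'_surjective K)) (le_comap_map π C))
  refine false_of_card_commutator hp2 (hY.to_quotient K) hcen hcard hmQ φb hA ?_
  rw [eq_top_iff, ← Subgroup.map_top_of_surjective π (QuotientGroup.mk'_surjective K), ← hgen,
    MonoidHom.map_closure]
  refine closure_mono ?_
  rintro _ ⟨_, ⟨a, x, rfl⟩, rfl⟩
  exact ⟨a, π x, by rw [map_mul, map_inv]; rfl⟩

end Cfsg.Agent.OddLocal.MetacyclicAction
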