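import Mathlib

/-! A group `E R` with `R` fixed point free on `E` cannot act fixed point freely on a coprime abelian group. -/

set_option autoImplicit false

namespace Cfsg.Agent.OddLocal.Frobenius

variable {G : Type*} [Group G]

/-- The product over a subgroup acting without fixed points is trivial. -/
theorem prod_eq_one_of_fixedPointFree {F V : Type*} [Group F] [Fintype F] [CommGroup V]
    (ρ : F →* MulAut V) (H : Subgroup F) [Fintype H] (hfix : ∀ v : V, (∀ h ∈ H, ρ h v = v) → v = 1)
    (v : V) : ∏ h : H, ρ h v = 1 := by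
  refine hfix _ fun k hk => ?_
  rw [map_prod]
  refine (Fintype.prod_equiv (Equiv.mulLeft (⟨k, hk⟩ : H)) _ _ fun h => ?_)
  simp [map_mul]

/-- If `R` acts fixed point freely on `E`, and no nontrivial element of `E` or of `R` fixes a nontrivial
element of the abelian group `V`, then `v ^ |E| = 1` on `V`. -/
theorem pow_card_eq_one [Finite G] {V E R : Subgroup G} [IsMulCommutative V]
    (hEV : E ≤ Subgroup.normalizer (V : Set G)) (hRV : R ≤ Subgroup.normalizer (V : Set G))
    (hRE : R ≤ Subgroup.normalizer (E : Set G)) (hR : R ≠ ⊥) (hE : E ≠ ⊥)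
    (hER : ∀ r ∈ R, r ≠ 1 → E ⊓ Subgroup.centralizer ({r} : Set G) = ⊥)
    (hEfix : ∀ x ∈ E, x ≠ 1 → V ⊓ Subgroup.centralizer ({x} : Set G) = ⊥)
    (hRfix : ∀ x ∈ R, x ≠ 1 → V ⊓ Subgroup.centralizer ({x} : Set G) = ⊥)
    {v : G} (hv : v ∈ V) : v ^ Nat.card E = 1 := by
  classical
  set N := Subgroup.normalizer (V : Set G)
  let ρ : N →* MulAut V := Subgroup.normalizerMonoidHom V
  haveI := Fintype.ofFinite G
  haveI : Fintype N := Fintype.ofFinite _
  let E' := E.subgroupOf N
  let R' := R.subgroupOf N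
  haveI : Fintype E' := Fintype.ofFinite _
  haveI : Fintype R' := Fintype.ofFinite _
  letI : CommGroup V := { (inferInstance : Group V) with mul_comm := fun a b => mul_comm' a b }
  have hfix : ∀ (X : Subgroup G), X ≤ N → X ≠ ⊥ →
      (∀ x ∈ X, x ≠ 1 → V ⊓ Subgroup.centralizer ({x} : Set G) = ⊥) →
      ∀ w : V, (∀ h ∈ X.subgroupOf N, ρ h w = w) → w = 1 := by
    intro X hXN hX hXf w hw
    obtain ⟨x, hx, hx1⟩ := (Subgroup.bot_or_exists_ne_one X).resolve_left hX
    have h1 : (w : G) ∈ V ⊓ Subgroup.centralizer ({x} : Set G) := by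
      refine ⟨w.2, Subgroup.mem_centralizer_singleton_iff.mpr ?_⟩
      have h2 := congrArg Subtype.val (hw ⟨x, hXN hx⟩ hx)
      have h3 : x * (w : G) * x⁻¹ = w := h2
      exact (mul_inv_eq_iff_eq_mul.mp h3).symm
    rw [hXf x hx hx1, Subgroup.mem_bot] at h1
    exact Subtype.ext h1
  have hEsum : ∀ w : V, ∏ e : E', ρ e w = 1 :=
    prod_eq_one_of_fixedPointFree ρ E' (hfix E hEV hE hEfix)
  have hRsum : ∀ w : V, ∏ r : R', ρ r w = 1 :=
    prod_eq_one_of_fixedPointFree ρ R' (hfix R hRV hR hRfix)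
  set w : V := ⟨v, hv⟩
  -- conjugating a nontrivial element of R by E runs through the coset
  have key : ∀ r : R', (r : N) ≠ 1 → ∏ e : E', ρ ((e : N) * r * (e : N)⁻¹) w = 1 := by
    intro r hr
    let ψ : E' → E' := fun e => ⟨(e : N) * ((r : N) * (e : N)⁻¹ * (r : N)⁻¹),
      mul_mem e.2 (by
        show ((r : N) : G) * ((e : N) : G)⁻¹ * ((r : N) : G)⁻¹ ∈ E
        exact (Subgroup.mem_normalizer_iff.mp (hRE r.2) _).mp (inv_mem e.2))⟩
    have hinj : Function.Injective ψ := by
      intro a b hab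
      have h1 : ((a : N) : G) * (((r : N) : G) * ((a : N) : G)⁻¹ * ((r : N) : G)⁻¹)
          = ((b : N) : G) * (((r : N) : G) * ((b : N) : G)⁻¹ * ((r : N) : G)⁻¹) :=
        congrArg (fun z : E' => ((z : N) : G)) hab
      set x : G := ((a : N) : G)
      set y : G := ((b : N) : G)
      set t : G := ((r : N) : G)
      have h2 : y⁻¹ * x ∈ E ⊓ Subgroup.centralizer ({t} : Set G) := by
        refine ⟨Subgroup.mul_mem E (inv_mem b.2) a.2, Subgroup.mem_centralizer_singleton_iff.mpr ?_⟩
        have h1' : x * (t * x⁻¹) = y * (t * y⁻¹) := by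
          have := congrArg (fun z => z * t) h1
          simpa [mul_assoc] using this
        calc y⁻¹ * x * t = y⁻¹ * (x * (t * x⁻¹)) * x := by group
          _ = t * (y⁻¹ * x) := by rw [h1']; group
      rw [hER t r.2 (fun h => hr (Subtype.ext h)), Subgroup.mem_bot] at h2
      exact Subtype.ext (Subtype.ext (inv_mul_eq_one.mp h2).symm)
    calc ∏ e : E', ρ ((e : N) * r * (e : N)⁻¹) w = ∏ e : E', ρ (ψ e : N) (ρ (r : N) w) := by
          refine Finset.prod_congr rfl fun e _ => ?_
          show _ = (ρ (ψ e : N) * ρ (r : N)) w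
          rw [← map_mul]
          congr 2
          simp [ψ, mul_assoc]
      _ = ∏ e : E', ρ (e : N) (ρ (r : N) w) :=
          Fintype.prod_bijective ψ (Finite.injective_iff_bijective.mp hinj) _ _ (fun _ => rfl)
      _ = 1 := hEsum _
  have hall : ∀ e : E', ∏ r : R', ρ ((e : N) * r * (e : N)⁻¹) w = 1 := by
    intro e
    simp only [map_mul, MulAut.mul_apply, ← map_prod, hRsum, map_one]
  have h2 : ∏ r : R', ∏ e : E', ρ ((e : N) * r * (e : N)⁻¹) w = 1 := by
    rw [Finset.prod_comm]
    exact Finset.prod_eq_one fun e _ => hall e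
  rw [Finset.prod_eq_single (1 : R') (fun r _ hr => key r (fun h => hr (Subtype.ext h)))
    (fun h => absurd (Finset.mem_univ _) h)] at h2
  simp only [OneMemClass.coe_one, mul_one, mul_inv_cancel, map_one, MulAut.one_apply,
    Finset.prod_const, Finset.card_univ] at h2
  have h3 := congrArg Subtype.val h2
  rw [Fintype.card_eq_nat_card, Nat.card_congr (Subgroup.subgroupOfEquivOfLe hEV).toEquiv] at h3
  simpa [w] using h3

end Cfsg.Agent.OddLocal.Frobenius
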