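import Cfsg.Agent.OddLocal.ZGroupCore
import Cfsg.Agent.OddLocal.PLength
import Cfsg.Agent.Lib.Coprime.Sylow
import Cfsg.Agent.Lib.Transfer.CenterInf
import Cfsg.Agent.Lib.PLocal.Offender.Section
import Cfsg.Agent.Lib.PLocal.SolvableSeparable
import Cfsg.Agent.Solvable.Fitting
import Mathlib.GroupTheory.SpecificGroups.ZGroup

/-! `p`-length one of `[H,R]` when a prime order operator has metacyclic fixed points (BG 3.6). -/

set_option autoImplicit false

namespace Cfsg.Agent.OddLocal.PLengthZGroup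

open Cfsg Subgroup
open Cfsg.Agent.Coprime.FrobeniusPGroup (conj_mem_of_mem_normalizer mem_normalizer_commutator)
open scoped commutatorElement Pointwise

universe u

section abstract

variable {H H' : Type*} [Group H] [Group H'] [Finite H] [Finite H'] {p : ℕ} [Fact p.Prime]

theorem plOne_congr (e : H ≃* H') (h : PLengthLE p 1 H) : PLengthLE p 1 H' := by
  rw [pLengthLE_one_iff] at h ⊢
  rw [← PLocal.Cores.map_pPrimePCore_equiv e]
  exact h.coprime_dvd_left (index_map_dvd _ e.surjective)

theorem pPrimePCore_eq_pCore (h : pPrimeCore p H = ⊥) : pPrimePCore p H = pCore p H := by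
  refine le_antisymm (PLocal.Cores.le_pCore ?_) PLocal.Cores.pCore_le_pPrimePCore
  obtain ⟨k, hk⟩ := PLocal.Cores.relIndex_pPrimePCore (p := p) (G := H)
  rw [h, relIndex_bot_left] at hk
  exact IsPGroup.of_card hk

theorem plOne_of_coprime_ker {f : H →* H'} (hf : Function.Surjective f)
    (hker : (Nat.card f.ker).Coprime p) (h : PLengthLE p 1 H') : PLengthLE p 1 H := by
  rw [pLengthLE_one_iff] at h ⊢
  refine h.coprime_dvd_left ?_
  rw [← index_comap_of_surjective (pPrimePCore p H') hf]
  refine index_dvd_of_le (PLocal.Cores.le_pPrimePCore ?_)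
  obtain ⟨k, hk⟩ := PLocal.Cores.relIndex_pPrimePCore (p := p) (G := H')
  refine IsPGroup.of_card (n := k) ?_
  rw [← relIndex_ker, QuotientGroup.ker_mk', ← hk,
    ← PLocal.Cores.map_pPrimeCore_of_ker_coprime hf hker]
  conv_lhs => rw [← comap_map_eq_self (PLocal.Cores.le_pPrimeCore hker : f.ker ≤ pPrimeCore p H)]
  rw [relIndex_comap, map_comap_eq_self_of_surjective hf]

theorem plOne_of_pGroup_ker {f : H →* H'} (hf : Function.Surjective f) (hker : IsPGroup p f.ker)
    (hO : pPrimeCore p H' = ⊥) (h : PLengthLE p 1 H') : PLengthLE p 1 H := by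
  rw [pLengthLE_one_iff] at h ⊢
  refine h.coprime_dvd_left ?_
  rw [pPrimePCore_eq_pCore hO, ← index_comap_of_surjective (pCore p H') hf]
  exact index_dvd_of_le ((PLocal.Cores.comap_pCore_le hf hker).trans PLocal.Cores.pCore_le_pPrimePCore)

theorem pgroup_le_pPrimePCore (h : PLengthLE p 1 H) {P : Subgroup H} (hP : IsPGroup p P) :
    P ≤ pPrimePCore p H := by
  obtain ⟨S, hS⟩ := hP.exists_le_sylow
  exact hS.trans (sylow_le_pPrimePCore h S)

theorem le_pPrimeCore_of_le {A : Subgroup H} (hA : (Nat.card A).Coprime p) (hle : A ≤ pPrimePCore p H) :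
    A ≤ pPrimeCore p H := by
  rw [← relIndex_eq_one]
  obtain ⟨k, hk⟩ := PLocal.Cores.relIndex_pPrimePCore (p := p) (G := H)
  exact Nat.eq_one_of_dvd_coprimes (hA.pow_right k) (relIndex_dvd_card _ _)
    (hk ▸ PLocal.PSolvable.relIndex_dvd_of_le_right hle)

theorem commutator_le_centralizer_pCore (h : PLengthLE p 1 H) {P Q : Subgroup H} (hP : IsPGroup p P)
    (hQ : (Nat.card Q).Coprime p) (hPQ : P ≤ normalizer (Q : Set H)) :
    ⁅Q, P⁆ ≤ centralizer (pCore p H : Set H) := by
  have h1 : ⁅Q, P⁆ ≤ pPrimePCore p H :=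
    (commutator_mono le_rfl (pgroup_le_pPrimePCore h hP)).trans
      (commutator_le_right Q (pPrimePCore p H))
  have h2 : ⁅Q, P⁆ ≤ Q := Coprime.commutator_le_of_le_normalizer hPQ
  exact (le_pPrimeCore_of_le (hQ.coprime_dvd_left (card_dvd_of_le h2)) h1).trans
    (le_centralizer_iff.mp PLocal.Cores.pCore_le_centralizer_pPrimeCore)

end abstract

variable {p : ℕ}

/-- The hypotheses: `R` acts coprimely on `H` and the fixed points of `R₀` form a `Z`-group. -/
structure Hyp {G : Type u} [Group G] (H R R₀ : Subgroup G) : Prop where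
  odd : Odd (Nat.card G)
  solv : Group.IsSolvable G
  norm : R ≤ normalizer (H : Set G)
  cop : (Nat.card H).Coprime (Nat.card R)
  le : R₀ ≤ R
  prime : (Nat.card R₀).Prime
  zgroup : IsZGroup ↥(H ⊓ centralizer (R₀ : Set G))

/-- The induction hypothesis. -/
def IH (p n : ℕ) : Prop :=
  ∀ {G : Type u} [Group G] [Finite G] (H R R₀ : Subgroup G), Hyp H R R₀ →
    Nat.card H * Nat.card R < n → PLengthLE p 1 ↥⁅H, R⁆

variable {G : Type u} [Group G] [Finite G] {H R R₀ : Subgroup G}

theorem card_lt {A B : Subgroup G} (h : A ≤ B) (hne : A ≠ B) : Nat.card A < Nat.card B :=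
  lt_of_le_of_ne (card_le_of_le h) fun e => hne (eq_of_le_of_card_ge h e.ge)

theorem card_sup_dvd {A B : Subgroup G} (hB : B ≤ normalizer (A : Set G)) :
    Nat.card ↥(A ⊔ B) ∣ Nat.card A * Nat.card B := by
  have hn : (A.subgroupOf (A ⊔ B)).Normal :=
    normal_subgroupOf_of_le_normalizer (sup_le le_normalizer hB)
  have h := PLocal.Cores.card_sup_dvd_of_normal' (A.subgroupOf (A ⊔ B)) (B.subgroupOf (A ⊔ B))
  rwa [← subgroupOf_sup le_sup_left le_sup_right, subgroupOf_self, card_top,
    Nat.card_congr (subgroupOfEquivOfLe (le_sup_left : A ≤ A ⊔ B)).toEquiv,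
    Nat.card_congr (subgroupOfEquivOfLe (le_sup_right : B ≤ A ⊔ B)).toEquiv] at h

theorem sup_le_normalizer {X A B : Subgroup G} (hA : X ≤ normalizer (A : Set G))
    (hB : X ≤ normalizer (B : Set G)) : X ≤ normalizer ((A ⊔ B : Subgroup G) : Set G) := by
  intro x hx
  rw [mem_normalizer_iff_map_conj_eq, Subgroup.map_sup, mem_normalizer_iff_map_conj_eq.mp (hA hx),
    mem_normalizer_iff_map_conj_eq.mp (hB hx)]

theorem inf_centralizer_normalizer {X A B : Subgroup G} (hA : X ≤ normalizer (A : Set G))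
    (hB : X ≤ normalizer (B : Set G)) :
    X ≤ normalizer ((A ⊓ centralizer (B : Set G) : Subgroup G) : Set G) :=
  le_trans (le_inf hA (hB.trans (CharP.normalizer_le_normalizer_centralizer B))) inf_normalizer_le_normalizer_inf

theorem sub_step {n : ℕ} (ih : IH.{u} p n) (h : Hyp H R R₀) (hn : Nat.card H * Nat.card R ≤ n)
    {H₁ : Subgroup G} (hle : H₁ ≤ H) (hne : H₁ ≠ H) (hR : R ≤ normalizer (H₁ : Set G)) :
    PLengthLE p 1 ↥⁅H₁, R⁆ := by
  refine ih H₁ R R₀ ⟨h.odd, h.solv, hR, h.cop.coprime_dvd_left (card_dvd_of_le hle), h.le, h.prime, ?_⟩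
    (lt_of_lt_of_le (Nat.mul_lt_mul_of_pos_right (card_lt hle hne) Nat.card_pos) hn)
  have := h.zgroup
  exact IsZGroup.of_injective
    (inclusion_injective (inf_le_inf_right (centralizer (R₀ : Set G)) hle))

theorem quotient_step {n : ℕ} (ih : IH.{u} p n) [Fact p.Prime] (h : Hyp H R R₀)
    (hn : Nat.card H * Nat.card R ≤ n) (hH : ⁅H, R⁆ = H) {N : Subgroup G} (hN0 : N ≠ ⊥) (hNH : N ≤ H)
    (hHN : H ≤ normalizer (N : Set G)) (hRN : R ≤ normalizer (N : Set G)) [(N.subgroupOf H).Normal] :
    PLengthLE p 1 (↥H ⧸ N.subgroupOf H) := by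
  have := h.solv
  set Nn := normalizer (N : Set G) with hNn
  set f := QuotientGroup.mk' (N.subgroupOf Nn) with hf
  set H' := (H.subgroupOf Nn).map f with hH'
  set R' := (R.subgroupOf Nn).map f with hR'
  set R₀' := (R₀.subgroupOf Nn).map f with hR₀'
  have hcardR : Nat.card R' ∣ Nat.card R :=
    (card_map_dvd _ _).trans (Nat.card_congr (subgroupOfEquivOfLe hRN).toEquiv).dvd
  have hcardH : Nat.card H' = N.relIndex H := by
    rw [hH', ← relIndex_ker, hf, QuotientGroup.ker_mk', relIndex_subgroupOf hHN]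
  have hHlt : Nat.card H' < Nat.card H := by
    rw [hcardH, ← relIndex_bot_left (H := H), ← relIndex_mul_relIndex ⊥ N H bot_le hNH, relIndex_bot_left]
    refine lt_mul_of_one_lt_left (Nat.pos_of_ne_zero ?_) (one_lt_card_iff_ne_bot N |>.mpr hN0)
    exact fun e => (Nat.card_pos (α := H')).ne' (hcardH ▸ e)
  have hcomm : ⁅H', R'⁆ = H' := by
    have : ⁅H.subgroupOf Nn, R.subgroupOf Nn⁆ = H.subgroupOf Nn := by
      refine map_injective Nn.subtype_injective ?_
      rw [map_commutator, map_subgroupOf_eq_of_le hHN, map_subgroupOf_eq_of_le hRN, hH]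
    rw [hH', hR', ← map_commutator, this]
  have hnorm : R.subgroupOf Nn ≤ normalizer (H.subgroupOf Nn : Set Nn) := fun x hx => by
    rw [mem_normalizer_iff]
    exact fun y => mem_normalizer_iff.mp (h.norm hx) y
  have hcop0 : (Nat.card (R₀.subgroupOf Nn)).Coprime (Nat.card (H.subgroupOf Nn)) := by
    rw [Nat.card_congr (subgroupOfEquivOfLe (h.le.trans hRN)).toEquiv,
      Nat.card_congr (subgroupOfEquivOfLe hHN).toEquiv]
    exact h.cop.symm.coprime_dvd_left (card_dvd_of_le h.le)
  have hhyp : Hyp H' R' R₀' := by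
    refine ⟨h.odd.of_dvd_nat ((card_quotient_dvd_card _).trans (card_subgroup_dvd_card _)), inferInstance,
      (map_mono hnorm).trans (le_normalizer_map f), ?_, map_mono ((comap_mono h.le)), ?_, ?_⟩
    · refine (h.cop.coprime_dvd_right hcardR).coprime_dvd_left ?_
      rw [hcardH]
      exact relIndex_dvd_card _ _
    · have hd : Nat.card R₀' = N.relIndex R₀ := by
        rw [hR₀', ← relIndex_ker, hf, QuotientGroup.ker_mk', relIndex_subgroupOf (h.le.trans hRN)]
      rcases (Nat.dvd_prime h.prime).mp (hd ▸ relIndex_dvd_card N R₀) with h1 | h1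
      · exfalso
        have hle' : R₀ ≤ N := relIndex_eq_one.mp (hd.symm.trans h1)
        exact h.prime.ne_one (Nat.eq_one_of_dvd_coprimes h.cop (card_dvd_of_le (hle'.trans hNH))
          (card_dvd_of_le h.le))
      · exact h1.symm ▸ h.prime
    · rw [hH', hR₀', ← Coprime.map_inf_centralizer f (A := R₀.subgroupOf Nn) (K := H.subgroupOf Nn) ((comap_mono h.le).trans hnorm) hcop0 (Or.inl inferInstance)]
      have := h.zgroup
      set A := H.subgroupOf Nn ⊓ centralizer (R₀.subgroupOf Nn : Set Nn) with hA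
      have hmem : ∀ x : A, ((x : Nn) : G) ∈ H ⊓ centralizer (R₀ : Set G) := fun x =>
        mem_inf.mpr ⟨(mem_inf.mp x.2).1, mem_centralizer_iff.mpr fun y hy => congrArg Subtype.val
          (mem_centralizer_iff.mp (mem_inf.mp x.2).2 ⟨y, hRN (h.le hy)⟩ hy)⟩
      have : IsZGroup A := IsZGroup.of_injective
        (f := ((Nn.subtype.comp A.subtype).codRestrict (H ⊓ centralizer (R₀ : Set G)) hmem))
        (fun x y e => Subtype.ext (Subtype.ext (congrArg Subtype.val e :)))
      exact IsZGroup.of_surjective (f.subgroupMap_surjective A)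
  have hres := ih H' R' R₀' hhyp (lt_of_lt_of_le
    ((Nat.mul_le_mul_left _ (Nat.le_of_dvd Nat.card_pos hcardR)).trans_lt
      (Nat.mul_lt_mul_of_pos_right hHlt Nat.card_pos)) hn)
  rw [hcomm] at hres
  let g : H →* Nn ⧸ N.subgroupOf Nn := f.comp (inclusion hHN)
  have hgr : g.range = H' := by
    rw [hH', MonoidHom.range_comp, inclusion_range]
  have hgk : g.ker = N.subgroupOf H := by
    ext x
    exact QuotientGroup.eq_one_iff _
  exact plOne_congr ((MulEquiv.subgroupCongr hgr.symm).trans ((QuotientGroup.quotientKerEquivRange g).symm.trans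
    (QuotientGroup.quotientMulEquivOfEq hgk))) hres

set_option maxHeartbeats 800000 in
theorem comm_le_centralizer {n : ℕ} (ih : IH.{u} p n) [Fact p.Prime] (h : Hyp H R R₀)
    (hn : Nat.card H * Nat.card R ≤ n) {V Q P : Subgroup G} (hVH : V ≤ H) (hV : IsPGroup p V)
    (hHV : H ≤ normalizer (V : Set G)) (hRV : R ≤ normalizer (V : Set G))
    (hCV : H ⊓ centralizer (V : Set G) ≤ V) (hQH : Q ≤ H) (hQ : (Nat.card Q).Coprime p) (hPH : P ≤ H)
    (hP : IsPGroup p P) (hPQ : P ≤ normalizer (Q : Set G)) (hRQ : R ≤ normalizer (Q : Set G))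
    (hRP : R ≤ normalizer (P : Set G)) (hne : V ⊔ Q ⊔ P ≠ H) : ⁅P, R⁆ ≤ centralizer (Q : Set G) := by
  set W := V ⊔ Q ⊔ P with hW
  have hWH : W ≤ H := sup_le (sup_le hVH hQH) hPH
  have hRW : R ≤ normalizer (W : Set G) := sup_le_normalizer (sup_le_normalizer hRV hRQ) hRP
  have hpl := sub_step ih h hn hWH hne hRW
  set K := ⁅W, R⁆ with hK
  have hKW : K ≤ W := Coprime.commutator_le_of_le_normalizer hRW
  have hWK : W ≤ normalizer (K : Set G) := normalizer_commutator_ge_left W R
  have hchar : ∀ X : Subgroup K, X.Characteristic →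
      W ≤ normalizer ((X.map K.subtype : Subgroup G) : Set G) := fun X hX =>
    hWK.trans (Coprime.OmegaDetect.normalizer_le_normalizer_char K X)
  have hO : pPrimeCore p K = ⊥ := by
    rw [← Subgroup.map_eq_bot_iff_of_injective _ K.subtype_injective]
    set O := (pPrimeCore p K).map K.subtype with hOdef
    have hOW : W ≤ normalizer (O : Set G) := hchar _ PLocal.Cores.pPrimeCore_characteristic
    have hcop : (Nat.card O).Coprime p := by
      rw [hOdef, card_map_of_injective K.subtype_injective]; exact PLocal.Cores.coprime_card_pPrimeCore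
    have hOV : O ⊓ V = ⊥ := by
      rw [inf_comm]
      exact PLocal.Cores.inf_eq_bot_of_isPGroup_of_coprime hV hcop
    have hOH : O ≤ H := ((map_subtype_le _).trans hKW).trans hWH
    have hOC : O ≤ centralizer (V : Set G) := by
      rw [← commutator_eq_bot_iff_le_centralizer, eq_bot_iff, ← hOV]
      refine le_inf (Coprime.commutator_le_of_le_normalizer ((le_sup_left.trans le_sup_left).trans hOW)) ?_
      rw [commutator_comm]
      exact Coprime.commutator_le_of_le_normalizer (hOH.trans hHV)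
    exact le_bot_iff.mp (hOV ▸ le_inf le_rfl ((le_inf hOH hOC).trans hCV))
  set Op := (pCore p K).map K.subtype with hOpdef
  have hOpW : W ≤ normalizer (Op : Set G) := hchar _ inferInstance
  have hPR : ⁅P, R⁆ ≤ P := Coprime.commutator_le_of_le_normalizer hRP
  have hPROp : ⁅P, R⁆ ≤ Op := by
    have hle : ⁅P, R⁆ ≤ K := commutator_mono le_sup_right le_rfl
    rw [← map_subgroupOf_eq_of_le hle, hOpdef, ← pPrimePCore_eq_pCore hO]
    exact map_mono (pgroup_le_pPrimePCore hpl (hP.to_le hPR).comap_subtype)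
  have hdisj : Op ⊓ Q = ⊥ :=
    PLocal.Cores.inf_eq_bot_of_isPGroup_of_coprime (PLocal.Cores.isPGroup_pCore.map _) hQ
  rw [← commutator_eq_bot_iff_le_centralizer, eq_bot_iff, ← hdisj]
  refine le_inf ((commutator_mono hPROp le_rfl).trans
    (Coprime.commutator_le_of_le_normalizer ((le_sup_right.trans le_sup_left).trans hOpW))) ?_
  rw [commutator_comm]
  exact Coprime.commutator_le_of_le_normalizer (hPR.trans hPQ)

theorem isCyclic_of_le_zgroup [Fact p.Prime] (h : Hyp H R R₀) {T : Subgroup G} (hT : IsPGroup p T)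
    (hTH : T ≤ H) (hTC : T ≤ centralizer (R₀ : Set G)) : IsCyclic T := by
  have := h.zgroup
  have h1 : IsPGroup p (T.subgroupOf (H ⊓ centralizer (R₀ : Set G))) := hT.comap_subtype
  have h2 := h1.isCyclic_of_isZGroup
  exact (subgroupOfEquivOfLe (le_inf hTH hTC)).isCyclic.mp h2

theorem exists_frattini {K : Subgroup G} (hKH : K ≤ H) (hHK : H ≤ normalizer (K : Set G)) {q : ℕ}
    [Fact q.Prime] (Q : Sylow q K) :
    ∀ x ∈ H, ∃ k ∈ K, k⁻¹ * x ∈ H ⊓ normalizer (((Q : Subgroup K).map K.subtype : Subgroup G) : Set G) := by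
  intro x hx
  obtain ⟨k, hk, hke⟩ := Coprime.exists_conj_sylow_map
    (H := ((Q : Subgroup K).map K.subtype).map (MulAut.conj x).toMonoidHom)
    ((map_mono (map_subtype_le _)).trans (mem_normalizer_iff_map_conj_eq.mp (hHK hx)).le) Q (by
      rw [card_map_of_injective (MulAut.conj x).injective, card_map_of_injective K.subtype_injective])
  refine ⟨k, hk, mem_inf.mpr ⟨mul_mem (inv_mem (hKH hk)) hx, ?_⟩⟩
  rw [← Transfer.Fusion.map_conj_eq_self_iff, Transfer.Fusion.map_conj_mul, hke,
    Coprime.conj_smul_eq_map, Transfer.Fusion.map_conj_inv_cancel]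

set_option maxHeartbeats 800000 in
/-- If `[P,R]` centralizes `Q`, so does `P`. -/
theorem proper_case [hpf : Fact p.Prime] (h : Hyp H R R₀) (hH : ⁅H, R⁆ = H) {V K U Qg Pg : Subgroup G}
    (hVH : V ≤ H) (hVp : IsPGroup p V) (hHV : H ≤ normalizer (V : Set G))
    (hKH : K ≤ H) (hHK : H ≤ normalizer (K : Set G)) (hRK : R ≤ normalizer (K : Set G))
    (hVKidx : (V.relIndex K).Coprime p) (hUH : U ≤ H) (hHU : H ≤ normalizer (U : Set G))
    (hKU : ∃ k, K.relIndex U = p ^ k) (hPU : Pg ≤ U)
    (hfrat : ∀ x ∈ H, ∃ k ∈ K, k⁻¹ * x ∈ H ⊓ normalizer (Qg : Set G))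
    (hQgH : Qg ≤ H) (hQc : (Nat.card Qg).Coprime p) (hRQ : R ≤ normalizer (Qg : Set G))
    (hPp : IsPGroup p Pg) (hPN' : Pg ≤ H ⊓ normalizer (Qg : Set G)) (hRP : R ≤ normalizer (Pg : Set G))
    (hPidx : (Pg.relIndex (H ⊓ normalizer (Qg : Set G))).Coprime p)
    (hPR : ⁅Pg, R⁆ ≤ centralizer (Qg : Set G)) : Pg ≤ centralizer (Qg : Set G) := by
  have hp := hpf.out
  have := h.solv
  set N' := H ⊓ normalizer (Qg : Set G) with hN'
  have hPgH : Pg ≤ H := hPN'.trans inf_le_left
  set C := H ⊓ centralizer (Qg : Set G) with hC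
  have hCN : C ≤ N' := inf_le_inf_left _ (centralizer_le_normalizer (Qg : Set G))
  have hNC : N' ≤ normalizer (C : Set G) := inf_centralizer_normalizer
    (inf_le_left.trans le_normalizer) inf_le_right
  set L := K ⊔ C with hL
  have hLH : L ≤ H := sup_le hKH inf_le_left
  have hHL : H ≤ normalizer (L : Set G) := by
    intro x hx
    obtain ⟨k, hk, hkx⟩ := hfrat x hx
    rw [← mul_inv_cancel_left k x]
    refine mul_mem (le_normalizer (mem_sup_left hk : k ∈ L)) ?_
    exact sup_le_normalizer ((inf_le_left : N' ≤ H).trans hHK) hNC hkx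
  have hRL : R ≤ normalizer (L : Set G) := sup_le_normalizer hRK (inf_centralizer_normalizer h.norm hRQ)
  set Nn := normalizer (L : Set G) with hNn
  set π := QuotientGroup.mk' (L.subgroupOf Nn) with hπ
  set H' := (H.subgroupOf Nn).map π with hH'
  set R' := (R.subgroupOf Nn).map π with hR'
  set S := (Pg.subgroupOf Nn).map π with hS
  have hPN : Pg ≤ Nn := hPgH.trans hHL
  have hHR : ⁅H', R'⁆ = H' := by
    have : ⁅H.subgroupOf Nn, R.subgroupOf Nn⁆ = H.subgroupOf Nn := by
      refine map_injective Nn.subtype_injective ?_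
      rw [map_commutator, map_subgroupOf_eq_of_le hHL, map_subgroupOf_eq_of_le hRL, hH]
    rw [hH', hR', ← map_commutator, this]
  have hRS : ⁅S, R'⁆ = ⊥ := by
    rw [hS, hR', ← map_commutator, Subgroup.map_eq_bot_iff, hπ, QuotientGroup.ker_mk',
      ← map_subtype_le_map_subtype, map_commutator, map_subgroupOf_eq_of_le hPN,
      map_subgroupOf_eq_of_le hRL, map_subgroupOf_eq_of_le le_normalizer]
    exact (le_inf ((Coprime.commutator_le_of_le_normalizer hRP).trans hPgH) hPR).trans le_sup_right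
  have hSH : S ≤ H' := map_mono (comap_mono hPgH)
  set U' := (U.subgroupOf Nn).map π with hU'
  have hSU : S ≤ U' := map_mono (comap_mono hPU)
  have hU'p : IsPGroup p U' := by
    obtain ⟨k, hKidx⟩ := hKU
    have hd : Nat.card U' ∣ p ^ k := by
      rw [hU', ← relIndex_ker, hπ, QuotientGroup.ker_mk', relIndex_subgroupOf (hUH.trans hHL), ← hKidx]
      exact relIndex_dvd_of_le_left U le_sup_left
    obtain ⟨j, -, hj⟩ := (Nat.dvd_prime_pow hp).mp hd
    exact IsPGroup.of_card hj
  have hNH : (N'.subgroupOf Nn).map π = H' := by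
    refine le_antisymm (map_mono (comap_mono inf_le_left)) ?_
    rintro _ ⟨⟨x, hxN⟩, hx, rfl⟩
    obtain ⟨k, hk, hkx⟩ := hfrat x hx
    refine ⟨⟨k⁻¹ * x, mul_mem (inv_mem (le_normalizer (mem_sup_left hk : k ∈ L))) hxN⟩, hkx, ?_⟩
    rw [hπ, QuotientGroup.mk'_apply, QuotientGroup.mk'_apply, QuotientGroup.eq, mem_subgroupOf]
    simpa using (mem_normalizer_iff.mp (inv_mem hxN) k).mp (mem_sup_left hk : k ∈ L)
  have hSidx : (S.relIndex H').Coprime p := by
    have hd : S.relIndex H' ∣ Pg.relIndex N' := by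
      rw [← hNH, hS]
      refine (PLocal.PSolvable.relIndex_map_dvd π (comap_mono hPN')).trans (dvd_of_eq ?_)
      exact relIndex_subgroupOf (inf_le_left.trans hHL)
    exact hPidx.coprime_dvd_left hd
  have hSeq : S = U' := by
    refine le_antisymm hSU (relIndex_eq_one.mp ?_)
    obtain ⟨j, hj⟩ := hU'p.exists_card_eq
    have h1 : S.relIndex U' ∣ p ^ j := hj ▸ relIndex_dvd_card _ _
    have h2 : S.relIndex U' ∣ S.relIndex H' := by
      rw [← relIndex_mul_relIndex S U' H' hSU (map_mono (comap_mono hUH))]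
      exact dvd_mul_right _ _
    exact Nat.eq_one_of_dvd_coprimes ((hSidx.pow_right j).coprime_dvd_left h2) dvd_rfl h1
  have hH'S : H' ≤ normalizer (S : Set (Nn ⧸ L.subgroupOf Nn)) := by
    rw [hSeq]
    refine (map_mono ?_).trans (le_normalizer_map π)
    intro x hx
    rw [mem_normalizer_iff]
    exact fun y => mem_normalizer_iff.mp (hHU hx) y
  have hcent : ⁅⁅H', R'⁆, S⁆ = ⊥ := by
    refine commutator_commutator_eq_bot_of_rotate ?_ ?_
    · rw [commutator_comm R', hRS, commutator_bot_left]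
    · exact le_bot_iff.mp ((commutator_mono (Coprime.commutator_le_of_le_normalizer hH'S) le_rfl).trans hRS.le)
  rw [hHR, commutator_eq_bot_iff_le_centralizer] at hcent
  -- transfer
  have hR'H : R' ≤ normalizer (H' : Set (Nn ⧸ L.subgroupOf Nn)) := by
    refine (map_mono ?_).trans (le_normalizer_map π)
    intro x hx
    rw [mem_normalizer_iff]
    exact fun y => mem_normalizer_iff.mp (h.norm hx) y
  have hcR : Nat.card R' ∣ Nat.card R :=
    (card_map_dvd _ _).trans (Nat.card_congr (subgroupOfEquivOfLe hRL).toEquiv).dvd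
  have hcH : Nat.card H' ∣ Nat.card H :=
    (card_map_dvd _ _).trans (Nat.card_congr (subgroupOfEquivOfLe hHL).toEquiv).dvd
  have hcop' : (Nat.card H').Coprime (Nat.card R') :=
    (h.cop.coprime_dvd_left hcH).coprime_dvd_right hcR
  set J := H' ⊔ R' with hJ
  set S' := S.subgroupOf J with hS'
  have hSJ : S ≤ J := hSH.trans le_sup_left
  have hSc : J ≤ centralizer (S : Set (Nn ⧸ L.subgroupOf Nn)) :=
    sup_le hcent (Coprime.commutator_eq_bot_iff_le_centralizer'.mp hRS)
  have : IsMulCommutative S' := ⟨⟨fun a b => Subtype.ext (Subtype.ext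
    (mem_centralizer_iff.mp (hSc (hSJ b.2)) a a.2))⟩⟩
  have hcS : Nat.card S' = Nat.card S := Nat.card_congr (subgroupOfEquivOfLe hSJ).toEquiv
  have hHall : (Nat.card S').Coprime S'.index := by
    have hidx : S'.index = S.relIndex H' * Nat.card R' := by
      show S.relIndex J = _
      have e1 := relIndex_mul_relIndex ⊥ S J bot_le hSJ
      have e2 := relIndex_mul_relIndex ⊥ S H' bot_le hSH
      rw [relIndex_bot_left, relIndex_bot_left] at e1 e2
      refine Nat.eq_of_mul_eq_mul_left (Nat.card_pos (α := S)) ?_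
      rw [e1, hJ, Coprime.card_sup_of_coprime hR'H hcop', ← e2, mul_assoc]
    obtain ⟨j, hj⟩ := (hU'p.to_le hSU).exists_card_eq
    rw [hcS, hidx]
    refine Nat.Coprime.mul_right ?_ (hcop'.coprime_dvd_left (card_dvd_of_le hSH))
    rw [hj]
    exact (hSidx.pow_right j).symm
  have hS0 : S = ⊥ := by
    have h1 := Transfer.CenterInf.inf_commutator_inf_center S' hHall
    have h2 : S' ≤ commutator J ⊓ center J := by
      refine le_inf ?_ fun s hs => mem_center_iff.mpr fun j => Subtype.ext
        (mem_centralizer_iff.mp (hSc j.2) _ hs).symm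
      intro s hs
      have h3 : (s : Nn ⧸ L.subgroupOf Nn) ∈ ⁅J, J⁆ :=
        (hHR.ge.trans (commutator_mono le_sup_left le_sup_right)) (hSH hs)
      rw [← map_subtype_commutator] at h3
      obtain ⟨t, ht, hts⟩ := h3
      exact Subtype.ext hts ▸ ht
    rw [inf_assoc, inf_eq_left.mpr h2] at h1
    rw [← map_subgroupOf_eq_of_le hSJ]
    exact (congrArg (map J.subtype) h1).trans (Subgroup.map_bot _)
  rw [hS, Subgroup.map_eq_bot_iff, hπ, QuotientGroup.ker_mk'] at hS0
  have hPL : Pg ≤ L := fun g hg => mem_subgroupOf.mp (hS0 (mem_subgroupOf.mpr hg : (⟨g, hPN hg⟩ : Nn) ∈ _))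
  -- hence `P` centralizes `Q`
  intro g hg
  obtain ⟨k, hk, c, hc, rfl⟩ :=
    (Coprime.mem_sup_of_le_normalizer (inf_le_left.trans hHK : C ≤ normalizer (K : Set G))).mp (hPL hg)
  have hkN : k ∈ N' := by
    have := mul_mem (hPN' hg) (inv_mem (hCN hc))
    simpa using this
  set m := V.relIndex K with hm
  have hkN2 := (mem_inf.mp hkN).2
  have hkm : k ^ m ∈ C := by
    have hn1 : (V.subgroupOf K).Normal := normal_subgroupOf_of_le_normalizer (hKH.trans hHV)
    have h1 : k ^ m ∈ V := by
      have := (V.subgroupOf K).pow_index_mem (⟨k, hk⟩ : K)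
      exact this
    refine mem_inf.mpr ⟨hVH h1, mem_centralizer_iff.mpr fun y hy => ?_⟩
    have hd := Coprime.disjoint_of_coprime (N := V) (H := Qg) (by
      obtain ⟨j, hj⟩ := hVp.exists_card_eq
      rw [hj]
      exact hQc.symm.pow_left j)
    have h2 : y * k ^ m * y⁻¹ * (k ^ m)⁻¹ = 1 := by
      refine disjoint_def.mp hd (mul_mem (conj_mem_of_mem_normalizer (hHV (hQgH hy)) h1) (inv_mem h1)) ?_
      rw [show y * k ^ m * y⁻¹ * (k ^ m)⁻¹ = y * (k ^ m * y⁻¹ * (k ^ m)⁻¹) by group]
      exact mul_mem hy (conj_mem_of_mem_normalizer (pow_mem (mem_inf.mp hkN).2 m) (inv_mem hy))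
    exact mul_inv_eq_iff_eq_mul.mp (mul_inv_eq_one.mp h2)
  have hpow : ∀ i : ℕ, (k ^ i)⁻¹ * (k * c) ^ i ∈ C := by
    intro i
    induction i with
    | zero => simp
    | succ i ih' =>
      rw [show (k ^ (i + 1))⁻¹ * (k * c) ^ (i + 1) = k⁻¹ * ((k ^ i)⁻¹ * (k * c) ^ i) * k⁻¹⁻¹ * c by
        rw [pow_succ (k * c) i, pow_succ k i]; group]
      exact mul_mem (conj_mem_of_mem_normalizer (inv_mem (hNC hkN)) ih') hc
  have hgm : (k * c) ^ m ∈ C := by
    have := mul_mem hkm (hpow m)
    simpa using this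
  obtain ⟨i, hi⟩ := exists_pow_eq_self_of_coprime (x := k * c) (n := m) (by
    obtain ⟨j, hj⟩ := IsPGroup.iff_orderOf.mp hPp ⟨_, hg⟩
    rw [orderOf_mk] at hj
    rw [hj]
    exact hVKidx.pow_right j)
  exact hi ▸ (mem_inf.mp (pow_mem hgm i)).2

set_option maxHeartbeats 800000 in
/-- The case `H = V Q P`. -/
theorem config_case {n : ℕ} (ih : IH.{u} p n) [hpf : Fact p.Prime] (h : Hyp H R R₀)
    (hn : Nat.card H * Nat.card R ≤ n) (hH : ⁅H, R⁆ = H) (hd : p ∣ Nat.card H) {V Qg Pg : Subgroup G}
    {q : ℕ} [hq : Fact q.Prime] (hqp : q ≠ p) (hVH : V ≤ H) (hVel : IsElementaryAbelian p V)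
    (hVeq : V.subgroupOf H = pCore p H) (hHV : H ≤ normalizer (V : Set G))
    (hRV : R ≤ normalizer (V : Set G)) (hCV : H ⊓ centralizer (V : Set G) ≤ V)
    (hQgH : Qg ≤ H) (hQp : IsPGroup q Qg) (hPgH : Pg ≤ H) (hPp : IsPGroup p Pg)
    (hPQ : Pg ≤ normalizer (Qg : Set G)) (hRQ : R ≤ normalizer (Qg : Set G))
    (hRP : R ≤ normalizer (Pg : Set G)) (hW : V ⊔ Qg ⊔ Pg = H)
    (hnot : ¬ Pg ≤ centralizer (Qg : Set G)) : False := by
  classical
  have hp := hpf.out
  have := h.solv
  have hVp : IsPGroup p V := Components.Hyperplane.isPGroup hVel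
  have hQc : (Nat.card Qg).Coprime p := by
    obtain ⟨m, hm⟩ := hQp.exists_card_eq
    rw [hm]
    exact ((Nat.coprime_primes hq.out hp).mpr hqp).pow_left m
  have hQsol : Group.IsSolvable Qg := inferInstance
  have hQ0 : Qg ≠ ⊥ := fun e => hnot fun g _ => by
    rw [e, mem_centralizer_iff]
    intro y hy
    rw [SetLike.mem_coe, mem_bot] at hy
    simp [hy]
  -- the configuration case: `H = V Q P`
  set Kq := V ⊔ Qg with hKq
  have hKqH : Kq ≤ H := sup_le hVH hQgH
  have hcVQ : (Nat.card V).Coprime (Nat.card Qg) := by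
    obtain ⟨j, hj⟩ := hVp.exists_card_eq
    rw [hj]
    exact hQc.symm.pow_left j
  have hHKq : H ≤ normalizer (Kq : Set G) := by
    conv_lhs => rw [← hW]
    exact sup_le le_normalizer (sup_le_normalizer (hPgH.trans hHV) hPQ)
  have hRKq : R ≤ normalizer (Kq : Set G) := sup_le_normalizer hRV hRQ
  -- `C_V(Q) = 1`
  have hquot : ∀ N : Subgroup G, N ≤ V → N ≠ ⊥ → H ≤ normalizer (N : Set G) → R ≤ normalizer (N : Set G) →
      ⁅⁅Qg, Pg⁆, V⁆ ≤ N := by
    intro N hNV hN0 hHN hRN
    have hn1 : (N.subgroupOf H).Normal := normal_subgroupOf_of_le_normalizer hHN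
    have hres := quotient_step ih h hn hH hN0 (hNV.trans hVH) hHN hRN
    set π := QuotientGroup.mk' (N.subgroupOf H) with hπ
    have hπQ : (Nat.card ((Qg.subgroupOf H).map π)).Coprime p :=
      hQc.coprime_dvd_left ((card_map_dvd _ _).trans (Nat.card_congr (subgroupOfEquivOfLe hQgH).toEquiv).dvd)
    have hπPQ : (Pg.subgroupOf H).map π ≤ normalizer ((Qg.subgroupOf H).map π : Set (H ⧸ N.subgroupOf H)) := by
      refine (map_mono ?_).trans (le_normalizer_map π)
      intro x hx
      rw [mem_normalizer_iff]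
      exact fun y => mem_normalizer_iff.mp (hPQ hx) y
    have h1 := commutator_le_centralizer_pCore hres (hPp.comap_subtype.map π) hπQ hπPQ
    have hVc : (V.subgroupOf H).map π ≤ pCore p (H ⧸ N.subgroupOf H) := by
      rw [hVeq]
      exact PLocal.Cores.map_pCore_le (QuotientGroup.mk'_surjective _)
    have h2 : ⁅⁅(Qg.subgroupOf H).map π, (Pg.subgroupOf H).map π⁆, (V.subgroupOf H).map π⁆ = ⊥ :=
      commutator_eq_bot_iff_le_centralizer.mpr (h1.trans (centralizer_le hVc))
    rw [← map_commutator, ← map_commutator, Subgroup.map_eq_bot_iff, hπ, QuotientGroup.ker_mk',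
      ← map_subtype_le_map_subtype, map_commutator, map_commutator, map_subgroupOf_eq_of_le hQgH,
      map_subgroupOf_eq_of_le hPgH, map_subgroupOf_eq_of_le hVH, map_subgroupOf_eq_of_le (hNV.trans hVH)] at h2
    exact h2
  have := hVel.1
  have hCQ : V ⊓ centralizer (Qg : Set G) = ⊥ := by
    by_contra hC0
    have hnC : ∀ {X : Subgroup G}, X ≤ normalizer (V : Set G) → X ≤ normalizer (Qg : Set G) →
        X ≤ normalizer ((V ⊓ centralizer (Qg : Set G) : Subgroup G) : Set G) ∧
        X ≤ normalizer ((⁅V, Qg⁆ : Subgroup G) : Set G) := fun h1 h2 =>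
      ⟨inf_centralizer_normalizer h1 h2, fun x hx => mem_normalizer_commutator (h1 hx) (h2 hx)⟩
    have hVC : V ≤ normalizer ((V ⊓ centralizer (Qg : Set G) : Subgroup G) : Set G) := fun v hv => by
      refine centralizer_le_normalizer _ (mem_centralizer_iff.mpr fun w hw => ?_)
      exact Components.Hyperplane.mem_comm hVel (mem_inf.mp hw).1 hv
    have hVD : V ≤ normalizer ((⁅V, Qg⁆ : Subgroup G) : Set G) := normalizer_commutator_ge_left V Qg
    have hHC : H ≤ normalizer ((V ⊓ centralizer (Qg : Set G) : Subgroup G) : Set G) := by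
      conv_lhs => rw [← hW]
      exact sup_le (sup_le hVC (hnC (hQgH.trans hHV) le_normalizer).1) (hnC (hPgH.trans hHV) hPQ).1
    have h1 := hquot _ inf_le_left hC0 hHC (hnC hRV hRQ).1
    by_cases hD0 : ⁅V, Qg⁆ = ⊥
    · rw [Coprime.commutator_eq_bot_iff_le_centralizer'] at hD0
      have hQV : Qg ≤ V := (le_inf hQgH hD0).trans hCV
      exact hQ0 (le_bot_iff.mp (disjoint_iff.mp (Coprime.disjoint_of_coprime hcVQ) ▸ le_inf hQV le_rfl))
    have hHD : H ≤ normalizer ((⁅V, Qg⁆ : Subgroup G) : Set G) := by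
      conv_lhs => rw [← hW]
      exact sup_le (sup_le hVD (hnC (hQgH.trans hHV) le_normalizer).2) (hnC (hPgH.trans hHV) hPQ).2
    have h2 := hquot _ (Coprime.commutator_le_of_le_normalizer (hQgH.trans hHV)) hD0 hHD (hnC hRV hRQ).2
    have h3 : ⁅⁅Qg, Pg⁆, V⁆ = ⊥ := le_bot_iff.mp ((le_inf h1 h2).trans
      (Coprime.inf_centralizer_inf_commutator (hQgH.trans hHV) hcVQ.symm).le)
    rw [commutator_eq_bot_iff_le_centralizer] at h3
    have hQPQ : ⁅Qg, Pg⁆ ≤ Qg := Coprime.commutator_le_of_le_normalizer hPQ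
    have h4 : ⁅Qg, Pg⁆ = ⊥ := le_bot_iff.mp (disjoint_iff.mp (Coprime.disjoint_of_coprime hcVQ) ▸
      le_inf ((le_inf (hQPQ.trans hQgH) h3).trans hCV) hQPQ)
    exact hnot (Coprime.commutator_eq_bot_iff_le_centralizer'.mp h4)
  have hCV' : Qg ⊓ centralizer (V : Set G) = ⊥ := le_bot_iff.mp
    ((le_inf ((inf_le_inf_right _ hQgH).trans hCV) inf_le_left).trans
      (disjoint_iff.mp (Coprime.disjoint_of_coprime hcVQ)).le)
  -- `P = [P,R]`
  have hPR : ⁅Pg, R⁆ = Pg := by
    refine le_antisymm (Coprime.commutator_le_of_le_normalizer hRP) ?_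
    set T := ⁅Pg, R⁆ ⊔ Kq with hT
    have hTK : ⁅Pg, R⁆ ≤ normalizer (Kq : Set G) :=
      (Coprime.commutator_le_of_le_normalizer hRP).trans (hPgH.trans hHKq)
    have hHT : ⁅H, R⁆ ≤ T := by
      rw [commutator_le]
      intro g hg x hx
      rw [← hW] at hg
      obtain ⟨k, hk, w, hw, rfl⟩ := (Coprime.mem_sup_of_le_normalizer (hPgH.trans hHKq)).mp hg
      rw [commutatorElement_mul_left_eq_conj_mul]
      have hkT : k ∈ T := mem_sup_right hk
      refine mul_mem (mul_mem (mul_mem hkT (mem_sup_left (commutator_mem_commutator hw hx))) (inv_mem hkT))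
        (mem_sup_right (Coprime.commutator_le_of_le_normalizer hRKq (commutator_mem_commutator hk hx)))
    rw [hH] at hHT
    intro g hg
    have hgT := hHT (hPgH hg)
    rw [hT, sup_comm] at hgT
    obtain ⟨k, hk, t, ht, hkt⟩ := (Coprime.mem_sup_of_le_normalizer hTK).mp hgT
    have hkP : k ∈ Pg := by
      rw [show k = g * t⁻¹ by rw [← hkt]; group]
      exact mul_mem hg (inv_mem (Coprime.commutator_le_of_le_normalizer hRP ht))
    set T₁ := Pg ⊓ Kq with hT₁
    have hT₁V : T₁ ≤ V := by
      have hTV : T₁ ≤ normalizer (V : Set G) := inf_le_left.trans (hPgH.trans hHV)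
      obtain ⟨j, hj⟩ := (hVp.to_sup_of_normal_left' (hPp.to_le inf_le_left : IsPGroup p T₁) hTV).exists_card_eq
      have hd : Nat.card (V ⊔ T₁ : Subgroup G) ∣ Nat.card V * Nat.card Qg := by
        rw [← Coprime.card_sup_of_coprime (hQgH.trans hHV) hcVQ]
        exact card_dvd_of_le (sup_le le_sup_left inf_le_right)
      have hd' : Nat.card (V ⊔ T₁ : Subgroup G) ∣ Nat.card V :=
        Nat.Coprime.dvd_of_dvd_mul_right (hj ▸ (hQc.symm.pow_left j)) hd
      exact le_sup_right.trans (eq_of_le_of_card_ge le_sup_left (Nat.le_of_dvd Nat.card_pos hd')).ge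
    have hk1 : k ∈ V ⊓ centralizer (Qg : Set G) := by
      have hkV : k ∈ V := hT₁V (mem_inf.mpr ⟨hkP, hk⟩)
      refine mem_inf.mpr ⟨hkV, mem_centralizer_iff.mpr fun y hy => ?_⟩
      have h2 : y * k * y⁻¹ * k⁻¹ = 1 := by
        refine disjoint_def.mp (Coprime.disjoint_of_coprime hcVQ)
          (mul_mem (conj_mem_of_mem_normalizer (hHV (hQgH hy)) hkV) (inv_mem hkV)) ?_
        rw [show y * k * y⁻¹ * k⁻¹ = y * (k * y⁻¹ * k⁻¹) by group]
        exact mul_mem hy (conj_mem_of_mem_normalizer (hPQ hkP) (inv_mem hy))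
      exact mul_inv_eq_iff_eq_mul.mp (mul_inv_eq_one.mp h2)
    rw [hCQ, mem_bot] at hk1
    rw [← hkt, hk1, one_mul]
    exact ht
  -- every proper invariant subgroup of `Q` is centralized by `P`
  have hsmall : ∀ T : Subgroup G, T ≤ Qg → T ≠ Qg → Pg ≤ normalizer (T : Set G) →
      R ≤ normalizer (T : Set G) → Pg ≤ centralizer (T : Set G) := by
    intro T hTQ hne hPT hRT
    have hTc : (Nat.card T).Coprime p := hQc.coprime_dvd_left (card_dvd_of_le hTQ)
    have hW₁ : V ⊔ T ⊔ Pg ≠ H := by
      intro e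
      refine hne (eq_of_le_of_card_ge hTQ (Nat.le_of_dvd Nat.card_pos ?_))
      have hTV : T ≤ normalizer (V : Set G) := (hTQ.trans hQgH).trans hHV
      have hP' : Pg ≤ normalizer ((V ⊔ T : Subgroup G) : Set G) := sup_le_normalizer (hPgH.trans hHV) hPT
      have hd : Nat.card Qg ∣ Nat.card (V ⊔ T : Subgroup G) * Nat.card Pg := by
        refine (card_dvd_of_le (hQgH.trans e.ge)).trans ?_
        exact card_sup_dvd hP'
      obtain ⟨i, hi⟩ := hPp.exists_card_eq
      obtain ⟨j, hj⟩ := hVp.exists_card_eq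
      rw [Coprime.card_sup_of_coprime hTV (hj ▸ hTc.symm.pow_left j), hi, hj, mul_comm (p ^ j), mul_assoc,
        ← pow_add] at hd
      exact (hQc.pow_right _).dvd_of_dvd_mul_right hd
    have h1 := comm_le_centralizer ih h hn hVH hVp hHV hRV hCV (hTQ.trans hQgH) hTc hPgH hPp hPT hRT hRP hW₁
    rwa [hPR] at h1
  have hcPQ : (Nat.card Pg).Coprime (Nat.card Qg) := by
    obtain ⟨i, hi⟩ := hPp.exists_card_eq
    rw [hi]
    exact hQc.symm.pow_left i
  have hcomm : ⁅Qg, Pg⁆ = Qg := by
    by_contra hne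
    have hle' : ⁅Qg, Pg⁆ ≤ Qg := Coprime.commutator_le_of_le_normalizer hPQ
    have h1 := hsmall _ hle' hne (normalizer_commutator_ge_right Qg Pg)
      (fun x hx => mem_normalizer_commutator (hRQ hx) (hRP hx))
    exact hnot (Coprime.le_centralizer_of_series hPQ hcPQ (Or.inr hQsol) h1 le_rfl)
  have hchar : ∀ T : Subgroup Qg, T.Characteristic → T ≠ ⊤ →
      Pg ≤ centralizer ((T.map Qg.subtype : Subgroup G) : Set G) := by
    intro T hT hne
    have hnT := Coprime.OmegaDetect.normalizer_le_normalizer_char Qg T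
    refine hsmall _ (map_subtype_le T) (fun e => hne ?_) (hPQ.trans hnT) (hRQ.trans hnT)
    exact map_injective Qg.subtype_injective (e.trans (by rw [← MonoidHom.range_eq_map, range_subtype]))
  have hQnc : ¬ IsCyclic Qg := by
    intro hcyc
    have h1 := ZGroupCore.commute_action_of_cyclic hPQ hRQ
    rw [hPR] at h1
    exact hnot h1
  -- the operator
  set X := R₀ with hX
  have hr := h.prime
  set r := Nat.card R₀ with hr'
  have hodd2 : ∀ {a : ℕ}, a ∣ Nat.card G → a ≠ 2 := fun ha e => by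
    have := h.odd.of_dvd_nat (e ▸ ha)
    exact absurd this (by decide)
  have hqH : q ∣ Nat.card H := by
    obtain ⟨m, hm⟩ := hQp.exists_card_eq
    have hm0 : m ≠ 0 := fun e => hQ0 (card_eq_one.mp (by rw [hm, e, pow_zero]))
    exact ((dvd_pow_self q hm0).trans (dvd_of_eq hm.symm)).trans (card_dvd_of_le hQgH)
  have hne_r : ∀ {a : ℕ}, a.Prime → a ∣ Nat.card H → a ≠ r := fun ha haH e =>
    ha.ne_one (Nat.eq_one_of_dvd_coprimes h.cop haH (e ▸ card_dvd_of_le h.le))
  refine ZGroupCore.false_of_config hp hq.out hr (hodd2 (hd.trans (card_subgroup_dvd_card H)))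
    (hodd2 (hqH.trans (card_subgroup_dvd_card H))) (hodd2 (card_subgroup_dvd_card R₀)) (Ne.symm hqp)
    (hne_r hp hd) (hne_r hq.out hqH) V Qg Pg R₀ hVel hQp hPp rfl (hQgH.trans hHV) (hPgH.trans hHV)
    (h.le.trans hRV) hPQ (h.le.trans hRQ) (h.le.trans hRP) hCQ hCV' hcomm hchar hQnc ?_ ?_
  · exact isCyclic_of_le_zgroup h (hQp.to_le inf_le_left) (inf_le_left.trans hQgH) inf_le_right
  · intro T hTC hTVP hT
    exact isCyclic_of_le_zgroup h hT (hTVP.trans (sup_le hVH hPgH)) hTC

set_option maxHeartbeats 800000 in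
theorem main_step {n : ℕ} (ih : IH.{u} p n) [hpf : Fact p.Prime] (h : Hyp H R R₀)
    (hn : Nat.card H * Nat.card R ≤ n) : PLengthLE p 1 ↥⁅H, R⁆ := by
  classical
  have hp := hpf.out
  have := h.solv
  have hRs : Group.IsSolvable R := inferInstance
  have hle : ⁅H, R⁆ ≤ H := Coprime.commutator_le_of_le_normalizer h.norm
  by_cases hH : ⁅H, R⁆ = H
  swap
  · have h1 := sub_step ih h hn hle hH (normalizer_commutator_ge_right H R)
    rwa [Coprime.commutator_commutator_eq h.norm h.cop.symm (Or.inl hRs)] at h1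
  rw [hH]
  by_cases hd : p ∣ Nat.card H
  swap
  · rw [pLengthLE_one_iff]
    exact ((hp.coprime_iff_not_dvd.mpr hd).symm).coprime_dvd_left (index_dvd_card _)
  -- the p'-core is trivial
  by_cases hO : pPrimeCore p H = ⊥
  swap
  · set N := (pPrimeCore p H).map H.subtype with hN
    have hNeq : N.subgroupOf H = pPrimeCore p H := comap_map_eq_self_of_injective H.subtype_injective _
    have : (N.subgroupOf H).Normal := hNeq ▸ inferInstance
    have hchar := PLocal.Cores.pPrimeCore_characteristic (p := p) (G := H)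
    have hnN := Coprime.OmegaDetect.normalizer_le_normalizer_char H (pPrimeCore p H)
    have hres := quotient_step ih h hn hH (N := N)
      (by rwa [hN, Ne, Subgroup.map_eq_bot_iff_of_injective _ H.subtype_injective]) (map_subtype_le _)
      (le_normalizer.trans hnN) (h.norm.trans hnN)
    refine plOne_of_coprime_ker (QuotientGroup.mk'_surjective (N.subgroupOf H)) ?_ hres
    rw [QuotientGroup.ker_mk', hNeq]
    exact PLocal.Cores.coprime_card_pPrimeCore
  set V₀ := pCore p H with hV₀
  set V := V₀.map H.subtype with hV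
  have hVH : V ≤ H := map_subtype_le _
  have hVp : IsPGroup p V := PLocal.Cores.isPGroup_pCore.map _
  have hnV := Coprime.OmegaDetect.normalizer_le_normalizer_char H V₀
  have hHV : H ≤ normalizer (V : Set G) := le_normalizer.trans hnV
  have hRV : R ≤ normalizer (V : Set G) := h.norm.trans hnV
  have hC₀ : centralizer (V₀ : Set H) ≤ V₀ := Solvable.Fitting.centralizer_pCore_le p hO
  have hCV : H ⊓ centralizer (V : Set G) ≤ V := by
    intro g hg
    exact ⟨⟨g, (mem_inf.mp hg).1⟩, hC₀ (mem_centralizer_iff.mpr fun v hv => Subtype.ext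
      (mem_centralizer_iff.mp (mem_inf.mp hg).2 v (mem_map_of_mem _ hv))), rfl⟩
  have hV0 : V ≠ ⊥ := by
    intro e
    rw [hV, Subgroup.map_eq_bot_iff_of_injective _ H.subtype_injective] at e
    have : (⊤ : Subgroup H) ≤ V₀ := le_trans (fun g _ => mem_centralizer_iff.mpr fun v hv => by
      rw [SetLike.mem_coe, e, mem_bot] at hv; simp [hv]) hC₀
    rw [e, top_le_iff] at this
    have h1 := congrArg (fun K : Subgroup H => Nat.card K) this
    simp only [card_bot, card_top] at h1
    exact hp.ne_one (Nat.dvd_one.mp (h1 ▸ hd))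
  -- `V` is elementary abelian
  by_cases hΦ : frattini V₀ = ⊥
  swap
  · set Φ₀ := (frattini V₀).map V₀.subtype with hΦ₀
    set N := Φ₀.map H.subtype with hN
    have hΦc : Φ₀.Characteristic := by
      refine characteristic_iff_map_le.mpr fun φ => ?_
      rintro _ ⟨_, ⟨z, hz, rfl⟩, rfl⟩
      let e : V₀ ≃* V₀ := (φ.subgroupMap V₀).trans (MulEquiv.subgroupCongr
        (characteristic_iff_map_eq.mp (inferInstance : V₀.Characteristic) φ))
      exact ⟨e z, (characteristic_iff_map_eq.mp (inferInstance : (frattini V₀).Characteristic) e).le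
        (mem_map_of_mem _ hz), rfl⟩
    have hNeq : N.subgroupOf H = Φ₀ := comap_map_eq_self_of_injective H.subtype_injective _
    have : (N.subgroupOf H).Normal := hNeq ▸ inferInstance
    have hnN := Coprime.OmegaDetect.normalizer_le_normalizer_char H Φ₀
    have hres := quotient_step ih h hn hH (N := N)
      (by
        rw [hN, Ne, Subgroup.map_eq_bot_iff_of_injective _ H.subtype_injective, hΦ₀,
          Subgroup.map_eq_bot_iff_of_injective _ V₀.subtype_injective]
        exact hΦ) (map_subtype_le _) (le_normalizer.trans hnN) (h.norm.trans hnN)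
    set f := QuotientGroup.mk' (N.subgroupOf H) with hf
    have hfk : f.ker = Φ₀ := by rw [hf, QuotientGroup.ker_mk', hNeq]
    refine plOne_of_pGroup_ker (QuotientGroup.mk'_surjective _)
      (hfk ▸ PLocal.Cores.isPGroup_pCore.to_le (map_subtype_le _)) ?_ hres
    set O₁ := pPrimeCore p (H ⧸ N.subgroupOf H) with hO₁
    have hV₁ : V₀.map f ≤ pCore p (H ⧸ N.subgroupOf H) :=
      PLocal.Cores.map_pCore_le (QuotientGroup.mk'_surjective _)
    have hL : IsPGroup p (O₁.comap f) := by
      rintro ⟨x, hx⟩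
      refine ⟨(orderOf x).factorization p, Subtype.ext ?_⟩
      set y := x ^ p ^ (orderOf x).factorization p with hy
      show y = 1
      have hyo : (orderOf y).Coprime p := by
        refine ((Nat.coprime_ordCompl hp (orderOf_pos x).ne').symm).coprime_dvd_left
          (orderOf_dvd_of_pow_eq_one ?_)
        rw [hy, ← pow_mul, Nat.ordProj_mul_ordCompl_eq_self, pow_orderOf_eq_one]
      have hyL : y ∈ O₁.comap f := pow_mem hx _
      have hc : zpowers y ≤ centralizer (V₀ : Set H) := by
        refine Coprime.le_centralizer_of_frattini le_normalizer_of_normal ?_ fun a ha v hv => ?_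
        · rw [Nat.card_zpowers]
          obtain ⟨k, hk⟩ := (PLocal.Cores.isPGroup_pCore.to_subgroup (frattini V₀)).exists_card_eq
          rw [hk]; exact hyo.pow_right k
        · have hcomm := PLocal.Cores.pCore_le_centralizer_pPrimeCore
            (hV₁ (mem_map_of_mem f hv))
          have ha' : f a ∈ O₁ := (zpowers_le.mpr hyL) ha
          have h1 : f (a * v * a⁻¹ * v⁻¹) = 1 := by
            rw [map_mul, map_mul, map_mul, map_inv, map_inv, mem_centralizer_iff.mp hcomm _ ha',
              mul_inv_cancel_right, mul_inv_cancel]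
          rw [← MonoidHom.mem_ker, hfk] at h1
          exact h1
      have hyV : y ∈ V₀ := hC₀ (hc (mem_zpowers y))
      obtain ⟨k, hk⟩ := IsPGroup.iff_orderOf.mp PLocal.Cores.isPGroup_pCore (⟨y, hyV⟩ : V₀)
      rw [orderOf_mk] at hk
      exact orderOf_eq_one_iff.mp (Nat.eq_one_of_dvd_coprimes (hyo.pow_right k) dvd_rfl (dvd_of_eq hk))
    refine card_eq_one.mp ?_
    obtain ⟨k, hk⟩ := (hL.map f).exists_card_eq
    rw [map_comap_eq_self_of_surjective (QuotientGroup.mk'_surjective _)] at hk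
    exact Nat.eq_one_of_dvd_coprimes (PLocal.Cores.coprime_card_pPrimeCore.pow_right k) dvd_rfl (dvd_of_eq hk)
  have hVel : IsElementaryAbelian p V := by
    have hV₀n := (PLocal.Cores.isPGroup_pCore (p := p) (G := H)).isNilpotent
    refine ⟨⟨⟨fun a b => Subtype.ext ?_⟩⟩, ?_⟩
    · obtain ⟨⟨a, a', ha, rfl⟩, ⟨b, b', hb, rfl⟩⟩ := a, b
      have h1 := Coprime.commutator_le_frattini V₀
        (commutator_mem_commutator (mem_top (⟨a', ha⟩ : V₀)) (mem_top ⟨b', hb⟩))
      rw [hΦ, mem_bot, commutatorElement_eq_one_iff_mul_comm] at h1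
      exact congrArg (fun z : V₀ => ((z : H) : G)) h1
    · rintro _ ⟨a', ha, rfl⟩
      have h1 := Solvable.Basics.pow_mem_frattini PLocal.Cores.isPGroup_pCore (⟨a', ha⟩ : V₀)
      rw [hΦ, mem_bot] at h1
      exact congrArg (fun z : V₀ => ((z : H) : G)) h1
  -- pass to `H / V`
  set f := QuotientGroup.mk' V₀ with hf
  have hf' : Function.Surjective f := QuotientGroup.mk'_surjective _
  have hVeq : V.subgroupOf H = V₀ := comap_map_eq_self_of_injective H.subtype_injective _
  have : (V.subgroupOf H).Normal := hVeq ▸ inferInstance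
  have hbar : PLengthLE p 1 (H ⧸ V₀) := plOne_congr (QuotientGroup.quotientMulEquivOfEq hVeq)
    (quotient_step ih h hn hH hV0 hVH hHV hRV)
  by_cases hdb : p ∣ Nat.card (H ⧸ V₀)
  swap
  · rw [pLengthLE_one_iff]
    refine (hp.coprime_iff_not_dvd.mpr hdb).symm.coprime_dvd_left ?_
    exact index_dvd_of_le PLocal.Cores.pCore_le_pPrimePCore
  set K₀ := pPrimeCore p (H ⧸ V₀) with hK₀
  set K := (K₀.comap f).map H.subtype with hK
  have hKchar : (K₀.comap f).Characteristic :=
    Subgroup.Characteristic.comap_quotient_mk PLocal.Cores.pPrimeCore_characteristic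
  have hKH : K ≤ H := map_subtype_le _
  have hnK := Coprime.OmegaDetect.normalizer_le_normalizer_char H (K₀.comap f)
  have hHK : H ≤ normalizer (K : Set G) := le_normalizer.trans hnK
  have hRK : R ≤ normalizer (K : Set G) := h.norm.trans hnK
  have hVK : V ≤ K := map_mono (le_of_eq_of_le (QuotientGroup.ker_mk' V₀).symm (MonoidHom.ker_le_comap f K₀))
  have hKsub : K.subgroupOf H = K₀.comap f := comap_map_eq_self_of_injective H.subtype_injective _
  have hVKidx : (V.relIndex K).Coprime p := by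
    rw [← relIndex_subgroupOf hKH, hVeq, hKsub]
    nth_rewrite 1 [show V₀ = (⊥ : Subgroup (H ⧸ V₀)).comap f by rw [MonoidHom.comap_bot, QuotientGroup.ker_mk']]
    rw [relIndex_comap, map_comap_eq_self_of_surjective hf', relIndex_bot_left]
    exact PLocal.Cores.coprime_card_pPrimeCore
  have hcopK : (Nat.card R).Coprime (Nat.card K) := h.cop.symm.coprime_dvd_right (card_dvd_of_le hKH)
  -- each Sylow subgroup of `K / V` is centralized by a Sylow `p`-subgroup of its normalizer
  suffices hall : ∀ (q : ℕ) [Fact q.Prime], q ≠ p → ∀ Q : Sylow q K,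
      R ≤ normalizer (((Q : Subgroup K).map K.subtype : Subgroup G) : Set G) →
      ∀ P : Sylow p ↥(H ⊓ normalizer (((Q : Subgroup K).map K.subtype : Subgroup G) : Set G)),
      R ≤ normalizer ((P.toSubgroup.map (Subgroup.subtype _) : Subgroup G) : Set G) →
      P.toSubgroup.map (Subgroup.subtype _) ≤
        centralizer (((Q : Subgroup K).map K.subtype : Subgroup G) : Set G) by
    exfalso
    obtain ⟨S⟩ : Nonempty (Sylow p (H ⧸ V₀)) := inferInstance
    have hKS : K₀ ≤ centralizer ((S : Subgroup (H ⧸ V₀)) : Set (H ⧸ V₀)) := by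
      set C := K₀ ⊓ centralizer ((S : Subgroup (H ⧸ V₀)) : Set (H ⧸ V₀)) with hC
      suffices hdvd : Nat.card K₀ ∣ Nat.card C from
        (eq_of_le_of_card_ge inf_le_left (Nat.le_of_dvd Nat.card_pos hdvd)).ge.trans inf_le_right
      refine (Nat.dvd_iff_prime_pow_dvd_dvd _ _).mpr fun q k hq hqk => ?_
      have := Fact.mk hq
      rcases eq_or_ne q p with rfl | hqp
      · have hk0 : k = 0 := by
          by_contra hk
          exact hq.ne_one (Nat.eq_one_of_dvd_coprimes
            (PLocal.Cores.coprime_card_pPrimeCore (p := q) (G := H ⧸ V₀))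
            ((dvd_pow_self q hk).trans hqk) dvd_rfl)
        simp [hk0]
      obtain ⟨Q, hRQ⟩ := Coprime.exists_invariant_sylow q hRK hcopK (Or.inl hRs)
      set Qg := (Q : Subgroup K).map K.subtype with hQg
      set N' := H ⊓ normalizer (Qg : Set G) with hN'
      have hRN' : R ≤ normalizer (N' : Set G) :=
        le_trans (le_inf h.norm (hRQ.trans le_normalizer)) inf_normalizer_le_normalizer_inf
      obtain ⟨P, hRP⟩ := Coprime.exists_invariant_sylow p hRN'
        (h.cop.symm.coprime_dvd_right (card_dvd_of_le inf_le_left)) (Or.inl hRs)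
      set Pg := (P : Subgroup N').map N'.subtype with hPg
      have hPQ : Pg ≤ centralizer (Qg : Set G) := hall q hqp Q hRQ P hRP
      have hQgK : Qg ≤ K := map_subtype_le _
      have hPgH : Pg ≤ H := (map_subtype_le _).trans inf_le_left
      set Pb := (Pg.subgroupOf H).map f with hPb
      set Qb := (Qg.subgroupOf H).map f with hQb
      have hPQb : Qb ≤ centralizer (Pb : Set (H ⧸ V₀)) := by
        rintro _ ⟨a, ha, rfl⟩
        rw [mem_centralizer_iff]
        rintro _ ⟨b, hb, rfl⟩
        rw [← map_mul, ← map_mul]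
        exact congrArg f (Subtype.ext (mem_centralizer_iff.mp (hPQ hb) _ ha).symm)
      have hfrat := exists_frattini hKH hHK Q
      -- the image of `P` is a Sylow subgroup
      have hPbp : IsPGroup p Pb := ((P.isPGroup'.map _).comap_subtype).map f
      obtain ⟨S₁, hS₁⟩ := hPbp.exists_le_sylow
      have hS₁eq : Pb = (S₁ : Subgroup (H ⧸ V₀)) := by
        refine eq_of_le_of_card_ge hS₁ (Nat.le_of_dvd Nat.card_pos ?_)
        set Nb := (N'.subgroupOf H).map f with hNb
        have hdvd : Nat.card (S₁ : Subgroup (H ⧸ V₀)) ∣ Nat.card K₀ * Nat.card Nb := by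
          refine Dvd.dvd.trans ?_ (PLocal.Cores.card_sup_dvd_of_normal' K₀ Nb)
          rw [show K₀ ⊔ Nb = ⊤ from eq_top_iff.mpr fun y _ => by
            obtain ⟨⟨x, hx⟩, rfl⟩ := hf' y
            obtain ⟨k, hk, hkx⟩ := hfrat x hx
            rw [show (⟨x, hx⟩ : H) = ⟨k, hKH hk⟩ * ⟨k⁻¹ * x, (mem_inf.mp hkx).1⟩ from
              Subtype.ext (mul_inv_cancel_left k x).symm, map_mul]
            refine mul_mem_sup ?_ (mem_map_of_mem f hkx)
            exact (hKsub.le (show (⟨k, hKH hk⟩ : H) ∈ K.subgroupOf H from hk)), card_top]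
          exact card_subgroup_dvd_card _
        obtain ⟨m, hm⟩ := S₁.isPGroup'.exists_card_eq
        rw [hm] at hdvd ⊢
        have h1 := (((PLocal.Cores.coprime_card_pPrimeCore (p := p) (G := H ⧸ V₀)).pow_right m).symm).dvd_of_dvd_mul_left hdvd
        -- the index of the image of `P` in the image of `N'` is prime to `p`
        let π : N' →* H ⧸ V₀ := f.comp (inclusion (inf_le_left : N' ≤ H))
        have hπN : π.range = Nb := by
          rw [hNb, MonoidHom.range_comp, inclusion_range]
        have hπP : (P : Subgroup N').map π = Pb := by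
          rw [hPb, show π = f.comp (inclusion (inf_le_left : N' ≤ H)) from rfl, ← Subgroup.map_map]
          congr 1
          refine map_injective H.subtype_injective ?_
          rw [map_subgroupOf_eq_of_le hPgH, Subgroup.map_map, hPg]
          rfl
        have h2 : Nat.card Nb ∣ Nat.card Pb * (P : Subgroup N').index := by
          refine Dvd.dvd.trans (dvd_of_eq ?_)
            (Nat.mul_dvd_mul_left (Nat.card Pb) (index_dvd_of_le (le_sup_left : (P : Subgroup N') ≤ (P : Subgroup N') ⊔ π.ker)))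
          refine Nat.eq_of_mul_eq_mul_right (Nat.pos_of_ne_zero π.range.index_ne_zero_of_finite) ?_
          rw [mul_assoc, ← index_map, hπP, card_mul_index, ← hπN, card_mul_index]
        have hPidx : ((p ^ m).Coprime (P : Subgroup N').index) :=
          (hp.coprime_iff_not_dvd.mpr P.not_dvd_index).pow_left m
        exact hPidx.dvd_of_dvd_mul_right (h1.trans h2)
      have hK₀S : (K₀ ⊔ (S : Subgroup (H ⧸ V₀))) = K₀ ⊔ Pb := by
        rw [hS₁eq, hK₀, pPrimeCore_sup_sylow hbar, pPrimeCore_sup_sylow hbar]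
      have hcS : ∀ {T : Subgroup (H ⧸ V₀)}, IsPGroup p T → (Nat.card K₀).Coprime (Nat.card T) := by
        intro T hT
        obtain ⟨m, hm⟩ := hT.exists_card_eq
        rw [hm]
        exact PLocal.Cores.coprime_card_pPrimeCore.pow_right m
      obtain ⟨k', hk', hk'e⟩ := Coprime.exists_conj_eq_of_sup_eq le_normalizer_of_normal
        le_normalizer_of_normal hK₀S.symm (hcS hPbp) (hcS S.isPGroup') (Or.inl inferInstance)
      have hQbK : Qb ≤ K₀ := by
        rintro _ ⟨a, ha, rfl⟩
        exact hKsub.le (show a ∈ K.subgroupOf H from hQgK ha)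
      have hle' : Qb.map (MulAut.conj k').toMonoidHom ≤ C := by
        refine le_inf ((map_mono hQbK).trans (mem_normalizer_iff_map_conj_eq.mp
          (le_normalizer_of_normal (mem_top k'))).le) ?_
        rw [← hk'e, Coprime.conj_smul_eq_map]
        rintro _ ⟨a, ha, rfl⟩
        rw [mem_centralizer_iff]
        rintro _ ⟨b, hb, rfl⟩
        rw [← map_mul, ← map_mul, mem_centralizer_iff.mp (hPQb ha) b hb]
      refine Dvd.dvd.trans ?_ (card_dvd_of_le hle')
      rw [card_map_of_injective (MulAut.conj k').injective]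
      have hQbc : Nat.card Qb = Nat.card Qg := by
        rw [hQb, ← relIndex_ker, hf, QuotientGroup.ker_mk', ← hVeq, relIndex_subgroupOf (hQgK.trans hKH),
          ← inf_relIndex_right, PLocal.Cores.inf_eq_bot_of_isPGroup_of_coprime hVp ?_, relIndex_bot_left]
        obtain ⟨m, hm⟩ := (Q.isPGroup'.map K.subtype).exists_card_eq
        rw [hm]
        exact ((Nat.coprime_primes hq hp).mpr hqp).pow_left m
      rw [hQbc, card_map_of_injective K.subtype_injective, Q.card_eq_multiplicity]
      refine pow_dvd_pow q ((hq.pow_dvd_iff_le_factorization Nat.card_pos.ne').mp (hqk.trans ?_))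
      have e1 : Nat.card ((K₀.comap f).map f) ∣ Nat.card K :=
        (card_map_dvd _ _).trans (dvd_of_eq (card_map_of_injective H.subtype_injective).symm)
      rwa [map_comap_eq_self_of_surjective hf'] at e1
    have hSK : (S : Subgroup (H ⧸ V₀)) ≤ K₀ := (le_centralizer_iff.mp hKS).trans
      (PLocal.Offender.centralizer_pPrimeCore_le PLocal.Cores.pCore_quotient_pCore
        (PLocal.SolvableSeparable.isPSolvable_of_isSolvable p _))
    have hS1 := card_dvd_of_le hSK
    rw [S.card_eq_multiplicity] at hS1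
    have hpK : p ∣ Nat.card K₀ := (dvd_pow_self p
      (hp.factorization_pos_of_dvd Nat.card_pos.ne' hdb).ne').trans hS1
    exact hp.ne_one (Nat.eq_one_of_dvd_coprimes PLocal.Cores.coprime_card_pPrimeCore hpK dvd_rfl)
  intro q hq hqp Q hRQ P hRP
  have hQgK : (Q : Subgroup K).map K.subtype ≤ K := map_subtype_le _
  have hfrat := exists_frattini hKH hHK Q
  have hQp : IsPGroup q ((Q : Subgroup K).map K.subtype) := Q.isPGroup'.map _
  have hPp : IsPGroup p (P.toSubgroup.map (Subgroup.subtype _)) := P.isPGroup'.map _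
  have hPN' := map_subtype_le P.toSubgroup
  have hQc : (Nat.card ((Q : Subgroup K).map K.subtype)).Coprime p := by
    obtain ⟨m, hm⟩ := hQp.exists_card_eq
    rw [hm]
    exact ((Nat.coprime_primes hq.out hp).mpr hqp).pow_left m
  by_contra hnot
  by_cases hW : V ⊔ (Q : Subgroup K).map K.subtype ⊔ P.toSubgroup.map (Subgroup.subtype _) = H
  · exact config_case ih h hn hH hd hqp hVH hVel hVeq hHV hRV hCV (hQgK.trans hKH) hQp
      (hPN'.trans inf_le_left) hPp (hPN'.trans inf_le_right) hRQ hRP hW hnot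
  · have hPR := comm_le_centralizer ih h hn hVH hVp hHV hRV hCV (hQgK.trans hKH) hQc
      (hPN'.trans inf_le_left) hPp (hPN'.trans inf_le_right) hRQ hRP hW
    have hUsub : (((pPrimePCore p (H ⧸ V₀)).comap f).map H.subtype).subgroupOf H =
        (pPrimePCore p (H ⧸ V₀)).comap f := comap_map_eq_self_of_injective H.subtype_injective _
    refine hnot (proper_case h hH hVH hVp hHV hKH hHK hRK hVKidx
      (U := ((pPrimePCore p (H ⧸ V₀)).comap f).map H.subtype) (map_subtype_le _) ?_ ?_ ?_ hfrat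
      (hQgK.trans hKH) hQc hRQ hPp hPN' hRP ?_ hPR)
    · have : ((((pPrimePCore p (H ⧸ V₀)).comap f).map H.subtype).subgroupOf H).Normal := by
        rw [hUsub]; infer_instance
      exact le_normalizer_of_normal_subgroupOf (map_subtype_le _)
    · obtain ⟨k, hk⟩ := PLocal.Cores.relIndex_pPrimePCore (p := p) (G := H ⧸ V₀)
      refine ⟨k, ?_⟩
      rw [← relIndex_subgroupOf (map_subtype_le _), hKsub, hUsub, relIndex_comap,
        map_comap_eq_self_of_surjective hf', hk]
    · rw [← map_subgroupOf_eq_of_le (hPN'.trans inf_le_left)]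
      exact map_mono (map_le_iff_le_comap.mp (pgroup_le_pPrimePCore hbar (hPp.comap_subtype.map f)))
    · rw [← relIndex_subgroupOf le_rfl, show (P.toSubgroup.map (Subgroup.subtype _)).subgroupOf _ = P.toSubgroup from
        comap_map_eq_self_of_injective (Subgroup.subtype_injective _) _, subgroupOf_self, relIndex_top_right]
      exact (hp.coprime_iff_not_dvd.mpr P.not_dvd_index).symm

theorem pLengthLE_one (p : ℕ) [Fact p.Prime] : ∀ n, IH.{u} p n := by
  intro n
  induction n with
  | zero => intro G _ _ H R R₀ _ hlt; exact absurd hlt (Nat.not_lt_zero _)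
  | succ n ih => intro G _ _ H R R₀ h hlt; exact main_step ih h (Nat.lt_succ_iff.mp hlt)

/-- BG 3.6. -/
theorem pLengthLE_commutator (p : ℕ) [Fact p.Prime] (h : Hyp H R R₀) : PLengthLE p 1 ↥⁅H, R⁆ :=
  pLengthLE_one p _ H R R₀ h (Nat.lt_succ_self _)

end Cfsg.Agent.OddLocal.PLengthZGroup
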