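import Cfsg.Agent.OddLocal.CN
import Cfsg.Agent.Lib.Hall.MinimalNormal

/-! The quotient of a CN-group by a solvable normal subgroup is a CN-group. -/

set_option autoImplicit false

namespace Cfsg.Agent.OddLocal.CN

open Cfsg Subgroup

universe u

theorem quotient_isCNGroup : ∀ (n : ℕ) {G : Type u} [Group G] [Finite G], Nat.card G = n →
    IsCNGroup G → ∀ (H : Subgroup G) [H.Normal], Group.IsSolvable H → IsCNGroup (G ⧸ H) := by
  intro n
  induction n using Nat.strongRecOn with
  | _ n ih =>
    intro G _ _ hn hCN H _ hH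
    rcases eq_or_ne H ⊥ with rfl | hne
    · exact isCNGroup_of_equiv (QuotientGroup.quotientBot (G := G)).symm hCN
    obtain ⟨M, hMn, hMH, hM1, hmin⟩ := Hall.exists_minimal_normal H hne
    have := hMn
    have : Group.IsSolvable M := Coprime.isSolvable_of_le hMH hH
    obtain ⟨p, hp, -, hMp, hMe⟩ := Hall.minimal_normal_isElementaryAbelian hM1 hmin
    have := Fact.mk hp
    have hq : IsCNGroup (G ⧸ M) := quotient_step hCN M hMp hMe.1 hM1
    have hlt : Nat.card (G ⧸ M) < n := by
      rw [← hn, card_eq_card_quotient_mul_card_subgroup M]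
      exact lt_mul_of_one_lt_right Nat.card_pos ((one_lt_card_iff_ne_bot _).mpr hM1)
    have hs : Group.IsSolvable (H.map (QuotientGroup.mk' M)) := Coprime.isSolvable_map _ hH
    exact isCNGroup_of_equiv (QuotientGroup.quotientQuotientEquivQuotient M H hMH)
      (ih _ hlt rfl hq (H.map (QuotientGroup.mk' M)) hs)

end Cfsg.Agent.OddLocal.CN
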