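import Cfsg.Agent.OddLocal.CNMax
import Cfsg.Agent.OddLocal.CNQuotient
import Cfsg.Agent.Lib.Hall.Solvable
import Cfsg.Agent.Solvable.Fitting
import Cfsg.Agent.Lib.PLocal.Cores

/-! The structure of solvable CN-groups. -/

set_option autoImplicit false
set_option linter.unusedSectionVars false

namespace Cfsg.Agent.OddLocal.CN

open Cfsg Subgroup
open scoped commutatorElement

universe u

variable {G : Type u} [Group G] [Finite G]

/-- A nilpotent group of odd order acting without fixed points is cyclic. -/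
theorem isCyclic_of_fpf_odd {A K : Subgroup G} (hA : Group.IsNilpotent A) (hodd : Odd (Nat.card A))
    (hAK : A ≤ normalizer (K : Set G)) (hfpf : ∀ a ∈ A, a ≠ 1 → K ⊓ centralizer {a} = ⊥)
    (hK : K ≠ ⊥) : IsCyclic A := by
  have : IsZGroup A := ⟨fun l hl P => by
    have := Fact.mk hl
    have hPA : (P : Subgroup A).map A.subtype ≤ A := map_subtype_le _
    rcases Coprime.fpf_isCyclic_or_quaternion (P.isPGroup'.map A.subtype) (hPA.trans hAK)
      (Coprime.fpf_mono hfpf hPA le_rfl) hK with h | ⟨h2, -⟩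
    · exact (MulEquiv.isCyclic ((P : Subgroup A).equivMapOfInjective _ A.subtype_injective)).mpr h
    · subst h2
      obtain ⟨j, hj⟩ := P.isPGroup'.exists_card_eq
      rcases Nat.eq_zero_or_pos j with rfl | hj0
      · have : Subsingleton (P : Subgroup A) := Nat.card_eq_one_iff_unique.mp (by simpa using hj) |>.1
        exact isCyclic_of_subsingleton
      · exact absurd ((dvd_pow_self 2 hj0.ne').trans (hj ▸ card_subgroup_dvd_card (P : Subgroup A)))
          (fun h => Nat.not_even_iff_odd.mpr hodd (even_iff_two_dvd.mpr h))⟩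
  infer_instance

/-- The structure of a nilpotent group acting without fixed points. -/
theorem structure_fpf {E K : Subgroup G} (hE : Group.IsNilpotent E) (hEK : E ≤ normalizer (K : Set G))
    (hfpf : ∀ a ∈ E, a ≠ 1 → K ⊓ centralizer {a} = ⊥) (hK : K ≠ ⊥) :
    IsCyclic E ∨ ∃ C Q : Subgroup G, C ⊔ Q = E ∧ (∀ a ∈ C, ∀ b ∈ Q, a * b = b * a) ∧ IsCyclic C ∧
      Odd (Nat.card C) ∧ ∃ n : ℕ, Nonempty (↥Q ≃* QuaternionGroup (2 ^ n)) := by
  have := hE
  have := Fact.mk Nat.prime_two
  obtain ⟨S⟩ := (inferInstance : Nonempty (Sylow 2 E))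
  have hSn : (S : Subgroup E).Normal :=
    S.normal_of_normalizerCondition Group.normalizerCondition_of_isNilpotent
  set Q := (S : Subgroup E).map E.subtype with hQ
  have hQE : Q ≤ E := map_subtype_le _
  rcases Coprime.fpf_isCyclic_or_quaternion (S.isPGroup'.map E.subtype) (hQE.trans hEK)
    (Coprime.fpf_mono hfpf hQE le_rfl) hK with hc | ⟨-, hq⟩
  · left
    have : IsZGroup E := ⟨fun l hl P => by
      have := Fact.mk hl
      have hPE : (P : Subgroup E).map E.subtype ≤ E := map_subtype_le _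
      rcases Coprime.fpf_isCyclic_or_quaternion (P.isPGroup'.map E.subtype) (hPE.trans hEK)
        (Coprime.fpf_mono hfpf hPE le_rfl) hK with h | ⟨h2, -⟩
      · exact (MulEquiv.isCyclic ((P : Subgroup E).equivMapOfInjective _ E.subtype_injective)).mpr h
      · subst h2
        have := Sylow.unique_of_normal S hSn
        rw [Subsingleton.elim P S]
        exact (MulEquiv.isCyclic ((S : Subgroup E).equivMapOfInjective _ E.subtype_injective)).mpr hc⟩
    infer_instance
  · right
    set C := (pPrimeCore 2 E).map E.subtype with hC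
    have hCE : C ≤ E := map_subtype_le _
    have hodd : Odd (Nat.card C) := by
      rw [hC, card_map_of_injective E.subtype_injective]
      exact Nat.coprime_two_right.mp (Cores.pPrimeCore_card_coprime 2)
    refine ⟨C, Q, ?_, ?_, ?_, hodd, hq⟩
    · rw [hC, hQ, ← Subgroup.map_sup]
      have : pPrimeCore 2 E ⊔ (S : Subgroup E) = ⊤ := by
        refine Cores.eq_top_of_sylow_le fun r hr _ => ?_
        have := Fact.mk hr
        rcases eq_or_ne r 2 with rfl | hr2
        · exact ⟨S, le_sup_right⟩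
        · obtain ⟨R⟩ := (inferInstance : Nonempty (Sylow r E))
          have : (R : Subgroup E).Normal :=
            R.normal_of_normalizerCondition Group.normalizerCondition_of_isNilpotent
          refine ⟨R, le_sup_of_le_left (Cores.le_pPrimeCore ?_)⟩
          obtain ⟨j, hj⟩ := R.isPGroup'.exists_card_eq
          rw [hj]
          exact ((Nat.coprime_primes hr Nat.prime_two).mpr hr2).pow_left j
      rw [this, ← MonoidHom.range_eq_map, range_subtype]
    · rintro _ ⟨a, ha, rfl⟩ _ ⟨b, hb, rfl⟩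
      refine congrArg Subtype.val (commute_of_coprime (a := a) (b := b) ?_).eq
      obtain ⟨j, hj⟩ := IsPGroup.iff_orderOf.mp S.isPGroup' ⟨b, hb⟩
      rw [orderOf_mk] at hj
      rw [hj]
      exact ((Cores.pPrimeCore_card_coprime 2).coprime_dvd_left
        ((pPrimeCore 2 E).orderOf_dvd_natCard ha)).pow_right j
    · exact isCyclic_of_fpf_odd (Cores.isNilpotent_to_le hCE hE) hodd (hCE.trans hEK)
        (Coprime.fpf_mono hfpf hCE le_rfl) hK

/-- A solvable CN-group without nontrivial normal Sylow subgroup is a three step group. -/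
theorem exists_threeStep [Group.IsSolvable G] [Nontrivial G] (hCN : IsCNGroup G)
    (hS : ∀ (p : ℕ) [Fact p.Prime] (P : Sylow p G), (P : Subgroup G).Normal →
      (P : Subgroup G) = ⊥) : ∃ p : ℕ, p.Prime ∧ IsThreeStepGroup p G := by
  classical
  obtain ⟨p, hp, hR⟩ : ∃ p : ℕ, p.Prime ∧ pCore p G ≠ ⊥ := by
    by_contra hcon
    push Not at hcon
    refine Cores.fittingSubgroup_ne_bot (G := G) ?_
    rw [Cores.fittingSubgroup_eq_iSup, eq_bot_iff]
    exact iSup_le fun r => (hcon r (Nat.prime_of_mem_primeFactors r.2)).le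
  have := Fact.mk hp
  set R := pCore p G with hRdef
  obtain ⟨r₀, hr₀, hr₀1⟩ := (bot_or_exists_ne_one R).resolve_left hR
  -- `R` is the Fitting subgroup
  have hp' : pPrimeCore p G = ⊥ := by
    by_contra hne
    obtain ⟨m, hm, hm1⟩ := (bot_or_exists_ne_one _).resolve_left hne
    obtain ⟨P⟩ := (inferInstance : Nonempty (Sylow p G))
    have := P.isPGroup'.isNilpotent
    have hRP : R ≤ (P : Subgroup G) := PLocal.Cores.pCore_le_sylow P
    obtain ⟨u, hu, hu1⟩ := (bot_or_exists_ne_one _).resolve_left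
      (OddLocal.Coprime.inf_center_ne_bot (G := (P : Subgroup G))
        (N := R.subgroupOf (P : Subgroup G)) inferInstance (fun h => hR (by
          rw [← map_subgroupOf_eq_of_le hRP, h, Subgroup.map_bot])))
    have hug : (u : G) ≠ 1 := fun h => hu1 (Subtype.ext h)
    have hPC : (P : Subgroup G) ≤ centralizer (pPrimeCore p G : Set G) := by
      intro y hy
      rw [mem_centralizer_iff]
      intro x hx
      have h1 : Commute x (u : G) :=
        (mem_centralizer_iff.mp (PLocal.Cores.pCore_le_centralizer_pPrimeCore hu.1) x hx)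
      have h2 : Commute y (u : G) := congrArg Subtype.val (mem_center_iff.mp hu.2 ⟨y, hy⟩)
      refine (commute_of_commute hCN hug h1 h2 ?_).eq
      obtain ⟨j, hj⟩ := IsPGroup.iff_orderOf.mp P.isPGroup' ⟨y, hy⟩
      rw [orderOf_mk] at hj
      rw [hj]
      exact ((Cores.pPrimeCore_card_coprime p).coprime_dvd_left
        ((pPrimeCore p G).orderOf_dvd_natCard hx)).pow_right j
    set C := centralizer (pPrimeCore p G : Set G) with hC
    have hCnil : Group.IsNilpotent C :=
      Cores.isNilpotent_to_le (centralizer_le (Set.singleton_subset_iff.mpr hm)) (hCN m hm1)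
    have hPn : ((P.subtype hPC : Sylow p C) : Subgroup C).Normal :=
      (P.subtype hPC).normal_of_normalizerCondition
        (Group.normalizerCondition_of_isNilpotent (h := hCnil))
    have hPle : (P : Subgroup G) ≤ R := by
      refine le_trans ?_ (Cores.map_pCore_subtype_le p C)
      rw [← map_subgroupOf_eq_of_le hPC]
      exact map_mono (Cores.le_pCore (hN := hPn) (P.isPGroup'.comap_of_injective C.subtype C.subtype_injective))
    exact hR (eq_bot_iff.mpr ((PLocal.Cores.pCore_le_sylow P).trans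
      (hS p P (le_antisymm hPle (PLocal.Cores.pCore_le_sylow P) ▸ inferInstance)).le))
  have hCR : centralizer (R : Set G) ≤ R := Solvable.Fitting.centralizer_pCore_le p hp'
  have hRp : IsPGroup p R := Cores.pCore_isPGroup p
  have hRnil : Group.IsNilpotent R := hRp.isNilpotent
  -- subgroups of order prime to `p` act without fixed points
  have hfpf : ∀ a : G, (orderOf a).Coprime p → a ≠ 1 → R ⊓ centralizer {a} = ⊥ := by
    intro a ha ha1
    rw [eq_bot_iff]
    rintro m ⟨hm, hma⟩
    by_contra hm1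
    obtain ⟨j, hj⟩ := hRp.exists_card_eq
    have hcop : (orderOf a).Coprime (Nat.card R) := hj ▸ ha.pow_right j
    have haR : a ∈ R := hCR (mem_centralizer_of_commute hCN hRnil hm (fun h => hm1 (mem_bot.mpr h))
      (show Commute a m from (mem_centralizer_singleton_iff.mp hma).symm) hcop)
    exact ha1 (orderOf_eq_one_iff.mp (Nat.eq_one_of_dvd_coprimes hcop dvd_rfl
      (R.orderOf_dvd_natCard haR)))
  -- the quotient
  set f := QuotientGroup.mk' R with hf
  have hfs : Function.Surjective f := QuotientGroup.mk'_surjective R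
  have hCNQ : IsCNGroup (G ⧸ R) :=
    quotient_isCNGroup _ rfl hCN R (Coprime.isSolvable_of_le le_top inferInstance)
  have hQ0 : pCore p (G ⧸ R) = ⊥ := Cores.pCore_quotient_self p
  set Kb := fittingSubgroup (G ⧸ R) with hKb
  have hKp : ¬ p ∣ Nat.card Kb := by
    intro hd
    obtain ⟨S⟩ := (inferInstance : Nonempty (Sylow p Kb))
    exact S.ne_bot_of_dvd_card hd ((Subgroup.map_eq_bot_iff_of_injective _ Kb.subtype_injective).mp
      ((Cores.sylow_fitting_map S).trans hQ0))
  obtain ⟨P⟩ := (inferInstance : Nonempty (Sylow p G))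
  have hPR : ¬ (P : Subgroup G) ≤ R := fun h => hR (eq_bot_iff.mpr
    ((PLocal.Cores.pCore_le_sylow P).trans
      (hS p P (le_antisymm h (PLocal.Cores.pCore_le_sylow P) ▸ inferInstance)).le))
  have : Nontrivial (G ⧸ R) := by
    rw [QuotientGroup.nontrivial_iff]
    exact fun h => hPR (h ▸ le_top)
  have hQnn : ¬ Group.IsNilpotent (G ⧸ R) := by
    intro hn
    obtain ⟨S, hS'⟩ : ∃ S : Sylow p (G ⧸ R), (S : Subgroup (G ⧸ R)) = (P : Subgroup G).map f :=
      ⟨P.mapSurjective hfs, rfl⟩
    have hSn : (S : Subgroup (G ⧸ R)).Normal :=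
      S.normal_of_normalizerCondition (Group.normalizerCondition_of_isNilpotent (h := hn))
    refine hPR ?_
    have := Cores.le_pCore (hN := hSn) S.isPGroup'
    rw [hQ0, hS', le_bot_iff, Subgroup.map_eq_bot_iff, hf, QuotientGroup.ker_mk'] at this
    exact this
  -- a complement `A` of `R` in the preimage of `Kb`
  set K := Kb.comap f with hK
  have hRK : R ≤ K := by
    intro x hx
    rw [hK, mem_comap, show f x = 1 from (QuotientGroup.eq_one_iff x).mpr hx]
    exact one_mem _
  have hKindex : (R.subgroupOf K).index = Nat.card Kb := by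
    show R.relIndex K = _
    rw [← map_comap_eq_self_of_surjective hfs Kb, ← hK, ← relIndex_ker, hf, QuotientGroup.ker_mk']
  have hcopK : (Nat.card (R.subgroupOf K)).Coprime (R.subgroupOf K).index := by
    obtain ⟨j, hj⟩ := hRp.exists_card_eq
    rw [hKindex, Nat.card_congr (subgroupOfEquivOfLe hRK).toEquiv, hj]
    exact (hp.coprime_iff_not_dvd.mpr hKp).pow_left j
  obtain ⟨A₀, hA₀⟩ := exists_right_complement'_of_coprime (N := R.subgroupOf K) hcopK
  set A := A₀.map K.subtype with hA
  have hAK : A ≤ K := map_subtype_le _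
  have hAc : Nat.card A = Nat.card Kb := by
    rw [hA, card_map_of_injective K.subtype_injective, ← hKindex, hA₀.symm.index_eq_card]
  have hRA : R ⊔ A = K := by
    rw [hA, ← map_subgroupOf_eq_of_le hRK, ← Subgroup.map_sup, hA₀.sup_eq_top,
      ← MonoidHom.range_eq_map, range_subtype]
  have hAcop : (Nat.card A).Coprime p := hAc ▸ (hp.coprime_iff_not_dvd.mpr hKp).symm
  have hAfpf : ∀ a ∈ A, a ≠ 1 → R ⊓ centralizer {a} = ⊥ := fun a ha ha1 =>
    hfpf a (hAcop.coprime_dvd_left (A.orderOf_dvd_natCard ha)) ha1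
  have hAnil : Group.IsNilpotent A := fpf_isNilpotent hCN le_normalizer_of_normal hAfpf hR
  have hAmap : A.map f = Kb := by
    refine le_antisymm (map_le_iff_le_comap.mpr hAK) ?_
    rw [← map_comap_eq_self_of_surjective hfs Kb, ← hK, ← hRA, Subgroup.map_sup]
    refine sup_le ?_ le_rfl
    rw [(Subgroup.map_eq_bot_iff (f := f) R).mpr (by rw [hf, QuotientGroup.ker_mk'])]
    exact bot_le
  have hA1 : A ≠ ⊥ := fun h => by
    have hb := Cores.fittingSubgroup_ne_bot (G := G ⧸ R)
    exact hb (eq_bot_of_card_eq Kb (by rw [← hAc, h, card_bot]))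
  have hAodd : Odd (Nat.card A) := by
    by_contra heven
    have h2 : 2 ∣ Nat.card Kb := hAc ▸ even_iff_two_dvd.mp (Nat.not_odd_iff_even.mp heven)
    have := Fact.mk Nat.prime_two
    obtain ⟨i₀, hi₀⟩ := exists_prime_orderOf_dvd_card' (G := A) 2 (hAc.symm ▸ h2)
    have huniq : ∀ a : G, a ∈ A → orderOf a = 2 → a = i₀ := by
      intro a ha hao
      have hioG : orderOf (i₀ : G) = 2 := by rw [orderOf_coe, hi₀]
      have hi1 : (i₀ : G) ≠ 1 := fun h => by rw [h, orderOf_one] at hioG; exact absurd hioG (by norm_num)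
      have ha1 : a ≠ 1 := fun h => by rw [h, orderOf_one] at hao; exact absurd hao (by norm_num)
      by_contra hne
      have hmem : a * i₀ ∈ A := mul_mem ha i₀.2
      have hne1 : a * (i₀ : G) ≠ 1 := fun h => hne (by
        have h2 : (i₀ : G) * i₀ = 1 := by rw [← pow_two, ← hioG, pow_orderOf_eq_one]
        exact mul_right_cancel (h.trans h2.symm))
      refine hr₀1 (mem_bot.mp (hAfpf _ hmem hne1 ▸ (⟨hr₀, mem_centralizer_singleton_iff.mpr ?_⟩ :
        r₀ ∈ R ⊓ centralizer {a * (i₀ : G)})))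
      have hn : ∀ y : G, y ∈ normalizer (R : Set G) := fun y => le_normalizer_of_normal (mem_top y)
      have e1 := conj_eq_inv_of_involution (hn _) hioG (hAfpf _ i₀.2 hi1) hr₀
      have e2 := conj_eq_inv_of_involution (hn _) hao (hAfpf _ ha ha1) (inv_mem hr₀)
      rw [inv_inv] at e2
      have e3 : a * i₀ * r₀ * (a * (i₀ : G))⁻¹ = r₀ := by
        calc a * i₀ * r₀ * (a * (i₀ : G))⁻¹ = a * (i₀ * r₀ * (i₀ : G)⁻¹) * a⁻¹ := by group
          _ = r₀ := by rw [e1, e2]
      exact (mul_inv_eq_iff_eq_mul.mp e3).symm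
    -- the image of the involution is central
    have hib : f i₀ ≠ 1 := by
      intro h
      have h1 : (i₀ : G) ∈ R := (QuotientGroup.eq_one_iff _).mp h
      have h2 : orderOf (i₀ : G) = 1 := by
        obtain ⟨j, hj⟩ := hRp.exists_card_eq
        exact Nat.eq_one_of_dvd_coprimes ((hAcop).pow_right j) (A.orderOf_dvd_natCard i₀.2)
          (hj ▸ R.orderOf_dvd_natCard h1)
      rw [orderOf_coe, hi₀] at h2
      exact absurd h2 (by norm_num)
    suffices hcent : ∀ g : G ⧸ R, g * f i₀ = f i₀ * g by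
      have := Cores.isNilpotent_to_le (L := centralizer ({f i₀} : Set (G ⧸ R))) (K := ⊤)
        (fun g _ => mem_centralizer_singleton_iff.mpr (hcent g)) (hCNQ _ hib)
      exact hQnn (Group.nilpotent_of_mulEquiv Subgroup.topEquiv)
    intro g
    have hiK : f i₀ ∈ Kb := hAmap ▸ ⟨i₀, i₀.2, rfl⟩
    obtain ⟨a, ha, hae⟩ := (hAmap ▸ (inferInstance : Kb.Normal).conj_mem _ hiK g :
      g * f i₀ * g⁻¹ ∈ A.map f)
    have hord : orderOf a = 2 := by
      have hinj : orderOf (f a) = orderOf a := by
        refine Nat.dvd_antisymm (orderOf_map_dvd f a) (orderOf_dvd_of_pow_eq_one ?_)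
        obtain ⟨j, hj⟩ := hRp.exists_card_eq
        have h1 : a ^ orderOf (f a) ∈ R := (QuotientGroup.eq_one_iff _).mp (by
          show f (a ^ orderOf (f a)) = 1
          rw [map_pow, pow_orderOf_eq_one])
        exact orderOf_eq_one_iff.mp (Nat.eq_one_of_dvd_coprimes (hAcop.pow_right j)
          (A.orderOf_dvd_natCard (pow_mem ha _)) (hj ▸ R.orderOf_dvd_natCard h1))
      have hib2 : orderOf (f i₀) = 2 := by
        rcases (Nat.dvd_prime Nat.prime_two).mp
          ((orderOf_map_dvd f (i₀ : G)).trans (by rw [orderOf_coe, hi₀])) with h | h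
        · exact absurd (orderOf_eq_one_iff.mp h) hib
        · exact h
      rw [← hinj, hae, ← MulAut.conj_apply, MulEquiv.orderOf_eq, hib2]
    rw [huniq a ha hord] at hae
    exact (mul_inv_eq_iff_eq_mul.mp hae.symm)
  have hAcyc : IsCyclic A :=
    isCyclic_of_fpf_odd hAnil hAodd le_normalizer_of_normal hAfpf hR
  have hKbcyc : IsCyclic Kb := by
    rw [← hAmap]
    exact isCyclic_of_surjective (f.subgroupMap A) (f.subgroupMap_surjective A)
  have hCK : centralizer (Kb : Set (G ⧸ R)) ≤ Kb := Solvable.Fitting.centralizer_fitting_le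
  -- the index of `Kb` is a power of `p`
  have hderiv : ∀ g h : G ⧸ R, ⁅g, h⁆ ∈ Kb := by
    intro g h
    refine hCK (mem_centralizer_iff.mpr fun k hk => ?_)
    have hconj : ∀ x : G ⧸ R, ∃ m : ℤ, ∀ y ∈ Kb, x * y * x⁻¹ = y ^ m := by
      intro x
      obtain ⟨m, hm⟩ := MonoidHom.map_cyclic (MulAut.conjNormal x : MulAut Kb).toMonoidHom
      exact ⟨m, fun y hy => congrArg Subtype.val (hm ⟨y, hy⟩)⟩
    obtain ⟨m, hm⟩ := hconj g
    obtain ⟨n, hn⟩ := hconj h
    have e1 : ∀ y ∈ Kb, g * h * y * (g * h)⁻¹ = h * g * y * (h * g)⁻¹ := by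
      intro y hy
      calc g * h * y * (g * h)⁻¹ = g * (h * y * h⁻¹) * g⁻¹ := by group
        _ = (y ^ n) ^ m := by rw [hn y hy, hm _ (zpow_mem hy n)]
        _ = (y ^ m) ^ n := by rw [← zpow_mul, ← zpow_mul, mul_comm]
        _ = h * (g * y * g⁻¹) * h⁻¹ := by rw [hm y hy, hn _ (zpow_mem hy m)]
        _ = h * g * y * (h * g)⁻¹ := by group
    have hk' : (h * g)⁻¹ * k * (h * g) ∈ Kb := by
      simpa [mul_assoc] using (inferInstance : Kb.Normal).conj_mem' _ hk (h * g)
    have e2 := e1 _ hk'
    rw [commutatorElement_def]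
    calc k * (g * h * g⁻¹ * h⁻¹)
        = h * g * ((h * g)⁻¹ * k * (h * g)) * (h * g)⁻¹ * (g * h * g⁻¹ * h⁻¹) := by group
      _ = g * h * ((h * g)⁻¹ * k * (h * g)) * (g * h)⁻¹ * (g * h * g⁻¹ * h⁻¹) := by rw [e2]
      _ = g * h * g⁻¹ * h⁻¹ * k := by group
  obtain ⟨B, hB, hAB⟩ := Hall.exists_le_hall (G := G) (π := ({p}ᶜ : Set ℕ)) (U := A) (by
    intro r hr hrd hrp
    rw [Set.mem_singleton_iff] at hrp
    subst hrp
    exact hr.ne_one (Nat.eq_one_of_dvd_coprimes hAcop hrd dvd_rfl))
  have hBcop : (Nat.card B).Coprime p := by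
    refine (hp.coprime_iff_not_dvd.mpr fun hd => ?_).symm
    exact hB.1 p hp hd rfl
  have hBfpf : ∀ b ∈ B, b ≠ 1 → R ⊓ centralizer {b} = ⊥ := fun b hb hb1 =>
    hfpf b (hBcop.coprime_dvd_left (B.orderOf_dvd_natCard hb)) hb1
  have hBnil : Group.IsNilpotent B := fpf_isNilpotent hCN le_normalizer_of_normal hBfpf hR
  have hKB : Kb ≤ B.map f := hAmap ▸ map_mono hAB
  have hBn : (B.map f).Normal := ⟨fun b hb g => by
    have e : g * b * g⁻¹ = ⁅g, b⁆ * b := by rw [commutatorElement_def]; group
    rw [e]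
    exact mul_mem (hKB (hderiv g b)) hb⟩
  have hBK : B.map f = Kb :=
    le_antisymm (Cores.le_fittingSubgroup (hN := hBn) (Cores.isNilpotent_map B f hBnil)) hKB
  have hidx : ∀ r : ℕ, r.Prime → r ∣ K.index → r = p := by
    intro r hr hrd
    by_contra hrp
    refine hB.2 r hr hrp (hrd.trans (index_dvd_of_le fun b hb => ?_))
    rw [hK, mem_comap, ← hBK]
    exact ⟨b, hb, rfl⟩
  refine ⟨p, hp, hR, A, hA1, hAcyc, hAodd, hAcop, ?_, ?_, ?_, hAfpf, ?_⟩
  · rw [hRA, hK]; exact Normal.comap inferInstance f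
  · rw [hRA]
    intro hKtop
    have : Group.IsNilpotent (⊤ : Subgroup (G ⧸ R)) := by
      rw [← Subgroup.map_top_of_surjective f hfs, ← hKtop, hK,
        map_comap_eq_self_of_surjective hfs]
      exact Cores.fittingSubgroup_isNilpotent
    exact hQnn (Group.nilpotent_of_mulEquiv Subgroup.topEquiv)
  · rw [hRA]
    exact ⟨_, Nat.eq_prime_pow_of_unique_prime_dvd index_ne_zero_of_finite
      (fun {d} hd hdd => hidx d hd hdd)⟩
  · intro x hx a ha ha1 hmem
    refine hx ?_
    rw [hRA, hK, mem_comap]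
    have hfa1 : f a ≠ 1 := by
      intro h
      have h1 : a ∈ R := (QuotientGroup.eq_one_iff _).mp h
      obtain ⟨j, hj⟩ := hRp.exists_card_eq
      exact ha1 (orderOf_eq_one_iff.mp (Nat.eq_one_of_dvd_coprimes (hAcop.pow_right j)
        (A.orderOf_dvd_natCard ha) (hj ▸ R.orderOf_dvd_natCard h1)))
    set C := centralizer ({f a} : Set (G ⧸ R)) with hC
    have hfx : f x ∈ C := by
      refine mem_centralizer_singleton_iff.mpr ?_
      have h1 : f (x * a * x⁻¹ * a⁻¹) = 1 := (QuotientGroup.eq_one_iff _).mpr hmem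
      simp only [map_mul, map_inv] at h1
      rwa [mul_inv_eq_one, mul_inv_eq_iff_eq_mul] at h1
    have hKbC : Kb ≤ C := fun y hy => mem_centralizer_singleton_iff.mpr (by
      have := hKbcyc.isMulCommutative
      exact setLike_mul_comm (s := Kb) hy (hAmap ▸ mem_map_of_mem f ha))
    suffices hle : C ≤ Kb from hle hfx
    rw [← relIndex_eq_one]
    by_contra hne
    obtain ⟨r, hr, hrd⟩ := Nat.exists_prime_and_dvd hne
    have hrp : r = p := by
      refine hidx r hr (hrd.trans (relIndex_dvd_index_of_normal Kb C) |>.trans (dvd_of_eq ?_))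
      rw [hK, index_comap_of_surjective _ hfs]
    subst hrp
    obtain ⟨⟨w, hw⟩, hwo⟩ := exists_prime_orderOf_dvd_card' (G := C) r
      (hrd.trans ((Kb.subgroupOf C).index_dvd_card))
    rw [orderOf_mk] at hwo
    have hwK : w ∈ Kb := by
      refine hCK (mem_centralizer_iff.mpr fun k hk => ?_)
      refine (commute_of_mem (hCNQ _ hfa1) (hKbC hk) hw ?_).eq
      rw [hwo]
      exact ((hr.coprime_iff_not_dvd.mpr hKp).symm).coprime_dvd_left (Kb.orderOf_dvd_natCard hk)
    exact hKp (hwo.symm.dvd.trans (Kb.orderOf_dvd_natCard hwK))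

end Cfsg.Agent.OddLocal.CN
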