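import Cfsg.Agent.OddLocal.PuigOf
import Cfsg.Agent.OddLocal.Stability
import Cfsg.Agent.S1465
import Cfsg.Agent.S1457
import Cfsg.Agent.Lib.Cores.Basic

/-! Puig's theorem for solvable groups of odd order. -/

set_option autoImplicit false

namespace Cfsg.Agent.OddLocal.PuigTheorem

open Cfsg Subgroup Cfsg.Agent.OddLocal.Puig
open scoped commutatorElement

variable {G : Type*} [Group G] [Finite G] [Group.IsSolvable G] {p : ℕ} [hp : Fact p.Prime]

theorem seq_le (hp2 : p ≠ 2) (hodd : Odd (Nat.card G)) (h0 : pPrimeCore p G = ⊥) (S : Sylow p G) :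
    ∀ n, seqOf (S : Subgroup G) (2 * n) ≤ seqOf (pCore p G) (2 * n) ∧
      seqOf (pCore p G) (2 * n + 1) ≤ seqOf (S : Subgroup G) (2 * n + 1) := by
  intro n
  induction n with
  | zero =>
    refine ⟨?_, ?_⟩
    · rw [mul_zero, seqOf_zero]; exact bot_le
    · rw [mul_zero, seqOf_one, seqOf_one]; exact PLocal.Cores.pCore_le_sylow S
  | succ n ih =>
    have e : 2 * (n + 1) = 2 * n + 1 + 1 := by ring
    set T := pCore p G with hT
    set X := seqOf T (2 * n + 1) with hX
    have hXn : X.Normal := normalizer_eq_top_iff.mp (top_le_iff.mp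
      ((normalizer_eq_top (H := T)).ge.trans (normalizer_le_seqOf T _)))
    have hXp : IsPGroup p X := PLocal.Cores.isPGroup_pCore.to_le (seqOf_le T _)
    have hC : pCore p G ⊓ centralizer (X : Set G) ≤ X :=
      centralizer_seqOf_le PLocal.Cores.isPGroup_pCore.isNilpotent (Nat.succ_pos _)
    have hle := (S1465.result hodd p hp2 X hXp
      {B : Subgroup G | B ≤ (S : Subgroup G) ∧ IsMulCommutative B ∧ X ≤ normalizer (B : Set G)}
      (fun B hB => ⟨hB.2.1, S.isPGroup'.to_le hB.1, hB.2.2⟩)).2 h0 hC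
    have h2 : seqOf (S : Subgroup G) (2 * (n + 1)) ≤ seqOf T (2 * (n + 1)) := by
      rw [e]
      refine seqOf_succ_le fun A hAS hA hN => le_seqOf_succ ?_ hA (ih.2.trans hN)
      exact (le_sSup (show A ∈ {B : Subgroup G | B ≤ (S : Subgroup G) ∧ IsMulCommutative B ∧
        X ≤ normalizer (B : Set G)} from ⟨hAS, hA, ih.2.trans hN⟩)).trans hle
    exact ⟨h2, seqOf_succ_le fun A hAT hA hN =>
      le_seqOf_succ (hAT.trans (PLocal.Cores.pCore_le_sylow S)) hA (h2.trans hN)⟩

theorem lowOf_le_and_upOf_le (hp2 : p ≠ 2) (hodd : Odd (Nat.card G)) (h0 : pPrimeCore p G = ⊥)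
    (S : Sylow p G) :
    lowOf (S : Subgroup G) ≤ lowOf (pCore p G) ∧ upOf (pCore p G) ≤ upOf (S : Subgroup G) := by
  obtain ⟨k, hk⟩ := stableOf (S : Subgroup G)
  obtain ⟨l, hl⟩ := stableOf (pCore p G)
  obtain ⟨h1, h2⟩ := seq_le hp2 hodd h0 S (max k l)
  rw [(hk _ (le_max_left _ _)).1, (hl _ (le_max_right _ _)).1] at h1
  rw [(hk _ (le_max_left _ _)).2, (hl _ (le_max_right _ _)).2] at h2
  exact ⟨h1, h2⟩

theorem le_pCore_of_abelian_normal (hodd : Odd (Nat.card G)) (h0 : pPrimeCore p G = ⊥) (S : Sylow p G)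
    {A : Subgroup G} (hA : A ≤ (S : Subgroup G)) (hAc : IsMulCommutative A)
    (hAn : (S : Subgroup G) ≤ normalizer (A : Set G)) : A ≤ pCore p G := by
  refine (S1457.result hodd p S A hA hAc hAn).trans ?_
  refine PLocal.Cores.comap_pCore_le (QuotientGroup.mk'_surjective _) ?_
  rw [QuotientGroup.ker_mk', h0]
  exact IsPGroup.of_bot

omit [Finite G] [Group.IsSolvable G] in
theorem normalizer_le_normalizer_centralizer' (U : Subgroup G) :
    normalizer (U : Set G) ≤ normalizer (centralizer (U : Set G) : Set G) := by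
  intro g hg
  rw [mem_normalizer_iff]
  intro x
  simp only [mem_centralizer_iff]
  constructor
  · intro hx u hu
    have h1 := hx (g⁻¹ * u * g) ((mem_normalizer_iff''.mp hg u).mp hu)
    calc u * (g * x * g⁻¹) = g * ((g⁻¹ * u * g) * x) * g⁻¹ := by group
      _ = g * (x * (g⁻¹ * u * g)) * g⁻¹ := by rw [h1]
      _ = g * x * g⁻¹ * u := by group
  · intro hx u hu
    have h1 := hx (g * u * g⁻¹) ((mem_normalizer_iff.mp hg u).mp hu)
    have h2 : g * (u * x) * g⁻¹ = g * (x * u) * g⁻¹ := by
      calc g * (u * x) * g⁻¹ = g * u * g⁻¹ * (g * x * g⁻¹) := by group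
        _ = g * x * g⁻¹ * (g * u * g⁻¹) := h1
        _ = g * (x * u) * g⁻¹ := by group
    simpa using h2

omit [Group.IsSolvable G] in
/-- Frattini's argument for `S ∩ D`, `D` normal. -/
theorem normalizer_inf_sylow_sup (S : Sylow p G) (D : Subgroup G) [D.Normal] :
    normalizer (((S : Subgroup G) ⊓ D : Subgroup G) : Set G) ⊔ D = ⊤ := by
  have hp' : IsPGroup p (((S : Subgroup G) ⊓ D).subgroupOf D) :=
    (S.isPGroup'.to_le inf_le_left).comap_of_injective D.subtype D.subtype_injective
  have hidx : ¬ p ∣ (((S : Subgroup G) ⊓ D).subgroupOf D).index := by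
    change ¬ p ∣ ((S : Subgroup G) ⊓ D).relIndex D
    rw [inf_relIndex_right]
    exact fun h => S.not_dvd_index (h.trans (Cores.relIndex_dvd_index_right_normal _ _))
  have h := Sylow.normalizer_sup_eq_top (hp'.toSylow hidx)
  rw [IsPGroup.toSylow_coe, map_subgroupOf_eq_of_le inf_le_right] at h
  exact h

theorem center_upOf_normal (hp2 : p ≠ 2) (hodd : Odd (Nat.card G)) (h0 : pPrimeCore p G = ⊥)
    (S : Sylow p G) :
    (upOf (S : Subgroup G) ⊓ centralizer (upOf (S : Subgroup G) : Set G)).Normal := by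
  set U := upOf (S : Subgroup G) with hU
  set W := U ⊓ centralizer (U : Set G) with hW
  set T := pCore p G with hT
  have hTS : T ≤ (S : Subgroup G) := PLocal.Cores.pCore_le_sylow S
  obtain ⟨hlow, hup⟩ := lowOf_le_and_upOf_le hp2 hodd h0 S
  have hWc : IsMulCommutative W :=
    ⟨⟨fun a b => Subtype.ext (mem_centralizer_iff.mp b.2.2 a a.2.1)⟩⟩
  have hWN : normalizer ((S : Subgroup G) : Set G) ≤ normalizer (W : Set G) := by
    refine le_trans (le_inf ?_ ?_) inf_normalizer_le_normalizer_inf
    · exact normalizer_le_upOf _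
    · exact (normalizer_le_upOf _).trans (normalizer_le_normalizer_centralizer' U)
  have hWT : W ≤ T := by
    exact le_pCore_of_abelian_normal hodd h0 S (inf_le_left.trans (upOf_le _)) hWc
      (le_normalizer.trans hWN)
  have hWl : W ≤ lowOf T := by
    refine le_lowOf hWT hWc ?_
    exact (upOf_le T).trans (hTS.trans (le_normalizer.trans hWN))
  set V := lowOf T ⊓ centralizer (lowOf T : Set G) with hV
  have hLn : (lowOf T).Normal := normalizer_eq_top_iff.mp (top_le_iff.mp
    ((normalizer_eq_top (H := T)).ge.trans (normalizer_le_lowOf T)))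
  have hVn : V.Normal := inferInstance
  have hWV : W ≤ V := le_inf hWl (le_trans inf_le_right
    (centralizer_le ((lowOf_le_upOf T).trans hup)))
  have hVc : IsMulCommutative V :=
    ⟨⟨fun a b => Subtype.ext (mem_centralizer_iff.mp b.2.2 a a.2.1)⟩⟩
  have hVS : V ≤ (S : Subgroup G) := inf_le_left.trans ((lowOf_le T).trans hTS)
  have hVp : IsPGroup p V := S.isPGroup'.to_le hVS
  have hVl : V ≤ lowOf (S : Subgroup G) := le_lowOf hVS hVc le_normalizer_of_normal
  set C := centralizer (V : Set G) with hC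
  set f := QuotientGroup.mk' C with hf
  set D := (pCore p (G ⧸ C)).comap f with hD
  have hUD : U ≤ D := by
    refine upOf_le_of fun A hAS hA hN a ha => ?_
    refine Stability.quadratic_mem_pCore hp2 hodd le_rfl hVp fun u hu => ?_
    have hmem : ⁅u, a⁆ ∈ A := by
      rw [commutatorElement_def]
      exact mul_mem ((mem_normalizer_iff.mp (hN (hVl hu)) a).mp ha) (inv_mem ha)
    exact setLike_mul_comm hmem ha
  set Q := (S : Subgroup G) ⊓ D with hQ
  have hUQ : upOf Q = U := upOf_eq_of_le inf_le_left (le_inf (upOf_le _) hUD)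
  have hQW : normalizer (Q : Set G) ≤ normalizer (W : Set G) := by
    rw [hW, ← hUQ]
    refine le_trans (le_inf ?_ ?_) inf_normalizer_le_normalizer_inf
    · exact normalizer_le_upOf _
    · exact (normalizer_le_upOf _).trans (normalizer_le_normalizer_centralizer' _)
  have hCW : C ≤ normalizer (W : Set G) :=
    (centralizer_le hWV).trans (centralizer_le_normalizer _)
  have hDQ : D ≤ C ⊔ Q := by
    have hDb : D.map f = Q.map f := by
      refine le_antisymm ?_ (map_mono inf_le_right)
      rintro _ hd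
      obtain ⟨d, hd, rfl⟩ := hd
      obtain ⟨s, hs, hsd⟩ := PLocal.Cores.pCore_le_sylow
        (S.mapSurjective (QuotientGroup.mk'_surjective C)) hd
      refine ⟨s, ⟨hs, ?_⟩, hsd⟩
      show f s ∈ pCore p (G ⧸ C)
      rw [hsd]; exact hd
    calc D ≤ (D.map f).comap f := le_comap_map _ _
      _ = (Q.map f).comap f := by rw [hDb]
      _ = C ⊔ Q := by rw [comap_map_eq, hf, QuotientGroup.ker_mk', sup_comm]
  have hnorm : normalizer (W : Set G) = ⊤ := by
    rw [← top_le_iff, ← normalizer_inf_sylow_sup S D]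
    exact sup_le hQW (hDQ.trans (sup_le hCW (le_normalizer.trans hQW)))
  exact normalizer_eq_top_iff.mp hnorm

end Cfsg.Agent.OddLocal.PuigTheorem
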