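import Cfsg.Agent.OddLocal.Transitivity
import Cfsg.Agent.S1460

/-! Transitivity for the invariant subgroups of a `π(A)`-group `P` in which `A` is subnormal. -/

set_option autoImplicit false
set_option linter.unusedSectionVars false

namespace Cfsg.Agent.OddLocal.TransitivityP

open Cfsg Subgroup Cfsg.Agent.OddLocal.Transitivity
open scoped Pointwise

variable {G : Type*} [Group G] [Finite G] {A P : Subgroup G} {q : ℕ}

/-- The set of primes `π(A)'`. -/
local notation "π'" => primesNotDvd (Nat.card A)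

/-- The maximal subgroups normalised by `B` exist and are conjugate under `O_{π'}(C(B))`. -/
def Trans (A : Subgroup G) (q : ℕ) (B : Subgroup G) : Prop :=
  (∃ Q ∈ maxInvSubgroups ⊤ A {q}, B ≤ normalizer (Q : Set G)) ∧
    ∀ Q₁ ∈ maxInvSubgroups ⊤ A {q}, ∀ Q₂ ∈ maxInvSubgroups ⊤ A {q},
      B ≤ normalizer (Q₁ : Set G) → B ≤ normalizer (Q₂ : Set G) →
        ∃ k ∈ piCoreOf (primesNotDvd (Nat.card A)) (centralizer (A : Set G)) ⊓ centralizer (B : Set G),
          Q₂ = Q₁.map (MulAut.conj k).toMonoidHom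

theorem coprime_of_piGroup (hPπ : ∀ r : ℕ, r.Prime → r ∣ Nat.card P → r ∣ Nat.card A) {B K : Subgroup G}
    (hB : B ≤ P) (hK : ∀ r : ℕ, r.Prime → r ∣ Nat.card K → r ∈ π') :
    (Nat.card B).Coprime (Nat.card K) :=
  Nat.coprime_of_dvd fun r hr h1 h2 =>
    (hK r hr h2).2 (hPπ r hr (h1.trans (card_dvd_of_le hB)))

theorem Trans.step (hG : IsMinSimpleOddOrder G) (hA : TransitivityHypothesis A)
    (htr : ∀ Q₁ ∈ maxInvSubgroups ⊤ A {q}, ∀ Q₂ ∈ maxInvSubgroups ⊤ A {q}, Conjugate A Q₁ Q₂)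
    (hPπ : ∀ r : ℕ, r.Prime → r ∣ Nat.card P → r ∣ Nat.card A) {B B' : Subgroup G}
    (hAB : A ≤ B) (hBB : B ≤ B') (hB'P : B' ≤ P) (hn : B' ≤ normalizer (B : Set G))
    (h : Trans A q B) : Trans A q B' := by
  set Z := piCoreOf π' (centralizer (A : Set G)) with hZ
  set K := Z ⊓ centralizer (B : Set G) with hKdef
  have hKπ : ∀ r : ℕ, r.Prime → r ∣ Nat.card K → r ∈ π' := fun r hr hd =>
    isPi_piCoreOf π' _ r hr (hd.trans (card_dvd_of_le inf_le_left))
  have hKs : Group.IsSolvable K := by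
    obtain ⟨a, ha, ha1⟩ := (bot_or_exists_ne_one A).resolve_left hA.1
    exact Coprime.isSolvable_of_le (inf_le_left.trans (piCoreOf_le π' _))
      (isSolvable_of_ne_top hG (centralizer_ne_top hG (s := (A : Set G)) ha ha1))
  have hBC : centralizer (B : Set G) ≤ centralizer (A : Set G) := centralizer_le hAB
  have hBK : B' ≤ normalizer (K : Set G) := by
    intro b hb
    apply mem_normalizer_fintype (S := (K : Set G))
    intro x hx
    set X := K.map (MulAut.conj b).toMonoidHom with hX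
    have hXC : X ≤ centralizer (B : Set G) := by
      rw [hX, map_le_iff_le_comap]
      intro y hy
      rw [mem_comap, mem_centralizer_iff]
      intro u hu
      have hu' : b⁻¹ * u * b ∈ B := (mem_normalizer_iff''.mp (hn hb) u).mp hu
      have h1 := mem_centralizer_iff.mp hy.2 _ hu'
      show u * (b * y * b⁻¹) = b * y * b⁻¹ * u
      calc u * (b * y * b⁻¹) = b * ((b⁻¹ * u * b) * y) * b⁻¹ := by group
        _ = b * (y * (b⁻¹ * u * b)) * b⁻¹ := by rw [h1]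
        _ = b * y * b⁻¹ * u := by group
    have hXZ : X ≤ Z := le_core_centralizer hG hA (hXC.trans hBC)
      (fun r hr hd => hKπ r hr (card_map_conj b K ▸ hd))
    exact ⟨hXZ ⟨x, hx, rfl⟩, hXC ⟨x, hx, rfl⟩⟩
  have hcop : (Nat.card B').Coprime (Nat.card K) := coprime_of_piGroup hPπ hB'P hKπ
  obtain ⟨⟨Q, hQ, hBQ⟩, huniq⟩ := h
  refine ⟨?_, fun Q₁ h₁ Q₂ h₂ hB₁ hB₂ => ?_⟩
  · obtain ⟨k, hk, hkQ⟩ := Coprime.exists_conj_invariant hBK hcop (Or.inr hKs) (H := Q)
      (fun b hb => by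
        set Q' := Q.map (MulAut.conj b).toMonoidHom with hQ'
        have hBQ' : B ≤ normalizer (Q' : Set G) := by
          conv_lhs => rw [← mem_normalizer_iff_map_conj_eq.mp (hn hb)]
          exact (map_mono hBQ).trans (le_normalizer_map _)
        have hinv : Q' ∈ invSubgroups ⊤ A {q} :=
          ⟨le_top, fun r hr hd => hQ.1.2.1 r hr (card_map_conj b Q ▸ hd), hAB.trans hBQ'⟩
        obtain ⟨R, hR, hQR⟩ := exists_max_ge hinv
        obtain ⟨k, -, hk⟩ := htr Q hQ R hR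
        have hQ'R : Q' = R := Subgroup.eq_of_le_of_card_ge hQR
          (le_of_eq (by rw [hk, hQ', card_map_conj, card_map_conj]))
        obtain ⟨l, hl, hlQ⟩ := huniq Q hQ Q' (hQ'R ▸ hR) hBQ hBQ'
        exact ⟨l, hl, by rw [Coprime.conj_smul_eq_map, Coprime.conj_smul_eq_map, ← hlQ]⟩)
    rw [Coprime.conj_smul_eq_map] at hkQ
    exact ⟨_, conj_mem_maxInvSubgroups
      (centralizer_le_normalizer _ (hBC hk.2)) hQ, hkQ⟩
  · obtain ⟨k, hk, hkQ⟩ := huniq Q₁ h₁ Q₂ h₂ (hBB.trans hB₁) (hBB.trans hB₂)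
    obtain ⟨c, hc, hcQ⟩ := Coprime.exists_centralizer_conj_eq hBK hcop (Or.inr hKs) hB₁ hB₂ hk
      (by rw [Coprime.conj_smul_eq_map, ← hkQ])
    exact ⟨c, ⟨hc.1.1, hc.2⟩, by rw [← hcQ, Coprime.conj_smul_eq_map]⟩

theorem trans_top (hG : IsMinSimpleOddOrder G) (hA : TransitivityHypothesis A)
    (htr : ∀ Q₁ ∈ maxInvSubgroups ⊤ A {q}, ∀ Q₂ ∈ maxInvSubgroups ⊤ A {q}, Conjugate A Q₁ Q₂)
    (hPπ : ∀ r : ℕ, r.Prime → r ∣ Nat.card P → r ∣ Nat.card A) (hAP : A ≤ P)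
    (hsn : (A.subgroupOf P).IsSubnormal) : Trans A q P := by
  suffices h : ∀ H : Subgroup P, H.IsSubnormal → A ≤ H.map P.subtype → Trans A q (H.map P.subtype) →
      Trans A q P by
    refine h _ hsn (map_subgroupOf_eq_of_le hAP).ge ?_
    rw [map_subgroupOf_eq_of_le hAP]
    obtain ⟨Q, hQ, -⟩ := exists_max_ge (A := A) (q := q) (Y := ⊥)
      ⟨bot_le, fun r hr hd => absurd (Nat.dvd_one.mp (card_bot (G := G) ▸ hd)) hr.ne_one,
        le_normalizer_of_normal⟩
    refine ⟨⟨Q, hQ, hQ.1.2.2⟩, fun Q₁ h₁ Q₂ h₂ _ _ => ?_⟩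
    obtain ⟨k, hk, hkQ⟩ := htr Q₁ h₁ Q₂ h₂
    exact ⟨k, ⟨hk, piCoreOf_le _ _ hk⟩, hkQ⟩
  intro H hH
  induction hH with
  | top => intro _ h; rwa [← MonoidHom.range_eq_map, range_subtype] at h
  | step H K hle hK hN ih =>
    intro hAH h
    refine ih (hAH.trans (map_mono hle)) (Trans.step hG hA htr hPπ hAH (map_mono hle)
      (map_subtype_le _) ?_ h)
    exact (map_mono ((normal_subgroupOf_iff_le_normalizer hle).mp hN)).trans (le_normalizer_map _)

/-- A maximal `P`-invariant `q`-subgroup is a maximal `A`-invariant one. -/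
theorem max_subset (hG : IsMinSimpleOddOrder G) (hA : TransitivityHypothesis A) (hq : q.Prime)
    (hqA : ¬ q ∣ Nat.card A)
    (hPπ : ∀ r : ℕ, r.Prime → r ∣ Nat.card P → r ∣ Nat.card A) (hAP : A ≤ P)
    (hT : Trans A q P) : maxInvSubgroups ⊤ P {q} ⊆ maxInvSubgroups ⊤ A {q} := by
  have := Fact.mk hq
  intro Q hQ
  have hQA : Q ∈ invSubgroups ⊤ A {q} := ⟨le_top, hQ.1.2.1, hAP.trans hQ.1.2.2⟩
  rcases eq_or_ne Q ⊥ with rfl | hne
  · obtain ⟨⟨Q₀, h₀, hP₀⟩, -⟩ := hT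
    rwa [hQ.2 Q₀ ⟨le_top, h₀.1.2.1, hP₀⟩ bot_le] at h₀
  have hQtop : Q ≠ ⊤ := fun h => by
    obtain ⟨r, hr, hrA⟩ := Nat.exists_prime_and_dvd
      (fun h1 => hA.1 (eq_bot_of_card_eq A h1) : Nat.card A ≠ 1)
    have : r ∣ Nat.card Q := by rw [h, card_top]; exact hrA.trans (card_subgroup_dvd_card A)
    exact hqA (hQ.1.2.1 r hr this ▸ hrA)
  set H := normalizer (Q : Set G) with hH
  have hHtop : H ≠ ⊤ := normalizer_ne_top hG hne hQtop
  set K := piCoreOf π' H with hK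
  have hKπ := isPi_piCoreOf π' H
  have hKs : Group.IsSolvable K :=
    Coprime.isSolvable_of_le (piCoreOf_le π' H) (isSolvable_of_ne_top hG hHtop)
  have hQp := isPGroup_of_mem hQ.1.2.1
  have hQK : Q ≤ K := le_piCoreOf_of_normal le_normalizer le_rfl
    (fun r hr hd => (hQ.1.2.1 r hr hd : r = q).symm ▸ ⟨hq, hqA⟩)
  obtain ⟨S, hQS, hPS⟩ := Coprime.exists_invariant_sylow_ge
    (hQ.1.2.2.trans (le_normalizer_piCoreOf π' H)) (coprime_of_piGroup hPπ le_rfl hKπ) (Or.inr hKs)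
    hQK hQp hQ.1.2.2
  have hQeq : Q = (S : Subgroup K).map K.subtype :=
    (hQ.2 _ ⟨le_top, isPi_of_isPGroup (S.isPGroup'.map _), hPS⟩ hQS).symm
  refine ⟨hQA, fun R hR hle => ?_⟩
  by_contra hne'
  have hlt := inf_normalizer_gt (isPGroup_of_mem hR.2.1) (hle.lt_of_ne (Ne.symm hne'))
  set U := normalizer (Q : Set G) ⊓ R with hU
  have hUp : IsPGroup q U := (isPGroup_of_mem hR.2.1).to_le inf_le_right
  have hUK : U ≤ K := le_piCoreOf hA hHtop hQA.2.2 inf_le_left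
    (fun r hr hd => (isPi_of_isPGroup hUp r hr hd).symm ▸ ⟨hq, hqA⟩)
    (le_trans (le_inf (hQA.2.2.trans le_normalizer) hR.2.2) inf_normalizer_le_normalizer_inf)
  obtain ⟨T, hT'⟩ := (hUp.comap_of_injective K.subtype K.subtype_injective).exists_le_sylow
  have hcard : Nat.card U ≤ Nat.card Q := by
    rw [hQeq, card_map_of_injective K.subtype_injective, S.card_eq_multiplicity,
      ← T.card_eq_multiplicity, ← Nat.card_congr (subgroupOfEquivOfLe hUK).toEquiv]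
    exact card_le_of_le hT'
  exact absurd hcard hlt.not_ge

end Cfsg.Agent.OddLocal.TransitivityP
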