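import Cfsg.Prelude.Def_OddOrder
import Cfsg.Prelude.Def_OddOrderLocal
import Cfsg.Agent.Lib.Cores.Basic
import Cfsg.Agent.Lib.Coprime.Sylow
import Cfsg.Agent.Lib.Coprime.Generation
import Cfsg.Agent.Lib.Components.Hyperplane

/-! The transitivity hypothesis: basic facts and the conjugacy of maximal invariant `q`-subgroups. -/

set_option autoImplicit false
set_option linter.unusedSectionVars false

namespace Cfsg.Agent.OddLocal.Transitivity

open Cfsg Subgroup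

variable {G : Type*} [Group G] [Finite G] {A : Subgroup G}

/-- The set of primes `π(A)'`. -/
local notation "π'" => primesNotDvd (Nat.card A)

omit [Finite G] in
theorem isSolvable_of_ne_top (hG : IsMinSimpleOddOrder G) {X : Subgroup G} (hX : X ≠ ⊤) :
    Group.IsSolvable X := hG.2.2.2 X hX

omit [Finite G] in
theorem normalizer_ne_top (hG : IsMinSimpleOddOrder G) {Y : Subgroup G} (h0 : Y ≠ ⊥) (h1 : Y ≠ ⊤) :
    normalizer (Y : Set G) ≠ ⊤ := by
  intro h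
  have := hG.2.1
  have hn : Y.Normal := normalizer_eq_top_iff.mp h
  rcases hn.eq_bot_or_eq_top with h | h
  · exact h0 h
  · exact h1 h

omit [Finite G] in
theorem centralizer_ne_top (hG : IsMinSimpleOddOrder G) {s : Set G} {x : G} (hx : x ∈ s) (hx1 : x ≠ 1) :
    centralizer s ≠ ⊤ := by
  intro h
  have hsimple := hG.2.1
  have hc : x ∈ center G := mem_center_iff.mpr fun g =>
    (mem_centralizer_iff.mp (h ▸ mem_top g) x hx).symm
  rcases (inferInstance : (center G).Normal).eq_bot_or_eq_top with h0 | h0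
  · rw [h0, mem_bot] at hc; exact hx1 hc
  · exact hG.2.2.1 ⟨⟨fun a b => (mem_center_iff.mp (h0 ▸ mem_top b) a)⟩⟩

omit [Finite G] in
theorem isPi_piCoreOf [Finite G] (π : Set ℕ) (X : Subgroup G) :
    ∀ p : ℕ, p.Prime → p ∣ Nat.card (piCoreOf π X) → p ∈ π := fun p hp hd => by
  rw [piCoreOf, card_map_of_injective X.subtype_injective] at hd
  exact Cores.piCore_isPi π p hp hd

omit [Finite G] in
theorem piCoreOf_le (π : Set ℕ) (X : Subgroup G) : piCoreOf π X ≤ X := map_subtype_le _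

omit [Finite G] in
theorem le_normalizer_piCoreOf (π : Set ℕ) (X : Subgroup G) :
    X ≤ normalizer (piCoreOf π X : Set G) := by
  refine le_normalizer_of_normal_subgroupOf (hK := ?_) (piCoreOf_le π X)
  rw [piCoreOf, subgroupOf, comap_map_eq_self_of_injective X.subtype_injective]
  infer_instance

omit [Finite G] in
theorem le_piCoreOf_of_normal [Finite G] {π : Set ℕ} {X N : Subgroup G} (hNX : N ≤ X)
    (hXN : X ≤ normalizer (N : Set G)) (hN : ∀ p : ℕ, p.Prime → p ∣ Nat.card N → p ∈ π) :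
    N ≤ piCoreOf π X := by
  rw [← map_subgroupOf_eq_of_le hNX, piCoreOf]
  have : (N.subgroupOf X).Normal := (normal_subgroupOf_iff_le_normalizer hNX).mpr hXN
  refine map_mono (Cores.le_piCore fun p hp hd => hN p hp ?_)
  rwa [Nat.card_congr (subgroupOfEquivOfLe hNX).toEquiv] at hd

omit [Finite G] in
theorem coprime_of_isPi [Finite G] {Y : Subgroup G}
    (hY : ∀ p : ℕ, p.Prime → p ∣ Nat.card Y → p ∈ π') : (Nat.card A).Coprime (Nat.card Y) :=
  Nat.coprime_of_dvd fun p hp h1 h2 => (hY p hp h2).2 h1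

theorem le_piCoreOf (hA : TransitivityHypothesis A) {X Y : Subgroup G} (hX : X ≠ ⊤) (hAX : A ≤ X)
    (hYX : Y ≤ X) (hY : ∀ p : ℕ, p.Prime → p ∣ Nat.card Y → p ∈ π')
    (hAY : A ≤ normalizer (Y : Set G)) : Y ≤ piCoreOf π' X :=
  (le_sSup (show Y ∈ invSubgroups X A π' from ⟨hYX, hY, hAY⟩)).trans (hA.2.2 X hX hAX).le

/-- Every `π'`-subgroup of `C(A)` lies in `O_{π'}(C(A))`. -/
theorem le_core_centralizer (hG : IsMinSimpleOddOrder G) (hA : TransitivityHypothesis A)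
    {L : Subgroup G} (hLC : L ≤ centralizer (A : Set G))
    (hL : ∀ p : ℕ, p.Prime → p ∣ Nat.card L → p ∈ π') :
    L ≤ piCoreOf π' (centralizer (A : Set G)) := by
  set C := centralizer (A : Set G) with hC
  set X := A ⊔ C with hX
  have hXN : X ≤ normalizer (A : Set G) := sup_le le_normalizer (centralizer_le_normalizer _)
  have hXtop : X ≠ ⊤ := fun h =>
    normalizer_ne_top hG hA.1 hA.2.1 (top_le_iff.mp (h ▸ hXN))
  set K := piCoreOf π' X with hK
  have hAK : A ≤ normalizer (K : Set G) := le_sup_left.trans (le_normalizer_piCoreOf π' X)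
  have hKA : K ≤ C := by
    rw [hC, ← commutator_eq_bot_iff_le_centralizer]
    have hd : A ⊓ K = ⊥ :=
      disjoint_iff.mp (disjoint_of_coprime_natCard (coprime_of_isPi (isPi_piCoreOf π' X)))
    rw [eq_bot_iff, ← hd, commutator_le]
    intro k hk a ha
    refine ⟨?_, ?_⟩
    · exact Subgroup.mul_mem _ ((mem_normalizer_iff.mp (hXN (piCoreOf_le π' X hk)) a).mp ha) (Subgroup.inv_mem _ ha)
    · have h1 : a * k⁻¹ * a⁻¹ ∈ K := (mem_normalizer_iff.mp (hAK ha) _).mp (inv_mem hk)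
      have e : k * a * k⁻¹ * a⁻¹ = k * (a * k⁻¹ * a⁻¹) := by group
      rw [commutatorElement_def, e]
      exact mul_mem hk h1
  refine (le_piCoreOf hA hXtop le_sup_left (hLC.trans le_sup_right) hL fun a ha => ?_).trans
    (le_piCoreOf_of_normal hKA (le_sup_right.trans (le_normalizer_piCoreOf π' X)) (isPi_piCoreOf π' X))
  rw [mem_normalizer_iff]
  intro l
  have hc : ∀ m ∈ L, a * m * a⁻¹ = m := fun m hm => by
    rw [mem_centralizer_iff.mp (hLC hm) a ha, mul_inv_cancel_right]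
  refine ⟨fun hl => (hc l hl).symm ▸ hl, fun hl => ?_⟩
  have := mem_centralizer_iff.mp (hLC hl) a ha
  have e : a * l * a⁻¹ = l := by
    have h2 : a * (a * l * a⁻¹) = a * l * a⁻¹ * a := this
    rw [inv_mul_cancel_right] at h2
    exact mul_left_cancel h2
  rwa [e] at hl

/-- The fixed points of `A` in an `A`-invariant `π'`-group lie in `O_{π'}(C(A))`. -/
theorem inf_centralizer_le_core (hG : IsMinSimpleOddOrder G) (hA : TransitivityHypothesis A)
    {K : Subgroup G} (hK : ∀ p : ℕ, p.Prime → p ∣ Nat.card K → p ∈ π') :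
    K ⊓ centralizer (A : Set G) ≤ piCoreOf π' (centralizer (A : Set G)) :=
  le_core_centralizer hG hA inf_le_right
    fun p hp hd => hK p hp (hd.trans (card_dvd_of_le inf_le_left))

section Conjugacy

variable {q : ℕ}

theorem mem_invSubgroups_iff {Y : Subgroup G} :
    Y ∈ invSubgroups ⊤ A {q} ↔
      (∀ r : ℕ, r.Prime → r ∣ Nat.card Y → r = q) ∧ A ≤ normalizer (Y : Set G) :=
  ⟨fun h => ⟨h.2.1, h.2.2⟩, fun h => ⟨le_top, h.1, h.2⟩⟩

theorem exists_max_ge {Y : Subgroup G} (hY : Y ∈ invSubgroups ⊤ A {q}) :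
    ∃ Q ∈ maxInvSubgroups ⊤ A {q}, Y ≤ Q := by
  obtain ⟨Q, hYQ, hQ, hmax⟩ := Set.Finite.exists_le_maximal
    (Set.toFinite (invSubgroups ⊤ A ({q} : Set ℕ))) hY
  exact ⟨Q, ⟨hQ, fun R hR hle => le_antisymm (hmax hR hle) hle⟩, hYQ⟩

theorem isPGroup_of_mem [hq : Fact q.Prime] {Y : Subgroup G}
    (hY : ∀ r : ℕ, r.Prime → r ∣ Nat.card Y → r = q) : IsPGroup q Y :=
  (Cores.isPi_iff_isPGroup Y).mp hY

theorem isPi_of_isPGroup [hq : Fact q.Prime] {Y : Subgroup G} (hY : IsPGroup q Y) :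
    ∀ r : ℕ, r.Prime → r ∣ Nat.card Y → r = q :=
  (Cores.isPi_iff_isPGroup Y).mpr hY

omit [Finite G] in
theorem map_conj_map (a b : G) (Q : Subgroup G) :
    (Q.map (MulAut.conj b).toMonoidHom).map (MulAut.conj a).toMonoidHom =
      Q.map (MulAut.conj (a * b)).toMonoidHom := by
  rw [Subgroup.map_map]
  congr 1
  ext y
  simp [mul_assoc]

omit [Finite G] in
theorem map_conj_one (Q : Subgroup G) : Q.map (MulAut.conj (1 : G)).toMonoidHom = Q := by
  ext y; simp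

theorem card_map_conj (a : G) (Q : Subgroup G) :
    Nat.card (Q.map (MulAut.conj a).toMonoidHom) = Nat.card Q :=
  card_map_of_injective (MulAut.conj a).injective

theorem conj_mem_invSubgroups {Y : Subgroup G} {c : G} (hc : c ∈ normalizer (A : Set G))
    (hY : Y ∈ invSubgroups ⊤ A {q}) : Y.map (MulAut.conj c).toMonoidHom ∈ invSubgroups ⊤ A {q} := by
  refine ⟨le_top, fun r hr hd => hY.2.1 r hr (card_map_conj c Y ▸ hd), ?_⟩
  conv_lhs => rw [← mem_normalizer_iff_map_conj_eq.mp hc]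
  exact (map_mono hY.2.2).trans (le_normalizer_map _)

theorem conj_mem_maxInvSubgroups {Q : Subgroup G} {c : G} (hc : c ∈ normalizer (A : Set G))
    (hQ : Q ∈ maxInvSubgroups ⊤ A {q}) :
    Q.map (MulAut.conj c).toMonoidHom ∈ maxInvSubgroups ⊤ A {q} := by
  refine ⟨conj_mem_invSubgroups hc hQ.1, fun R hR hle => ?_⟩
  have h1 := hQ.2 _ (conj_mem_invSubgroups (inv_mem hc) hR) (by
    have := map_mono (f := (MulAut.conj c⁻¹).toMonoidHom) hle
    rwa [map_conj_map, inv_mul_cancel, map_conj_one] at this)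
  rw [← h1, map_conj_map, mul_inv_cancel, map_conj_one]

/-- Conjugacy by an element of `O_{π'}(C(A))`. -/
def Conjugate (A Q₁ Q₂ : Subgroup G) : Prop :=
  ∃ k ∈ piCoreOf (primesNotDvd (Nat.card A)) (centralizer (A : Set G)),
    Q₂ = Q₁.map (MulAut.conj k).toMonoidHom

omit [Finite G] in
theorem Conjugate.refl (Q : Subgroup G) : Conjugate A Q Q :=
  ⟨1, one_mem _, (map_conj_one Q).symm⟩

omit [Finite G] in
theorem Conjugate.symm {Q₁ Q₂ : Subgroup G} (h : Conjugate A Q₁ Q₂) : Conjugate A Q₂ Q₁ := by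
  obtain ⟨k, hk, rfl⟩ := h
  exact ⟨k⁻¹, inv_mem hk, by rw [map_conj_map, inv_mul_cancel, map_conj_one]⟩

omit [Finite G] in
theorem Conjugate.trans {Q₁ Q₂ Q₃ : Subgroup G} (h : Conjugate A Q₁ Q₂) (h' : Conjugate A Q₂ Q₃) :
    Conjugate A Q₁ Q₃ := by
  obtain ⟨k, hk, rfl⟩ := h
  obtain ⟨l, hl, rfl⟩ := h'
  exact ⟨l * k, mul_mem hl hk, map_conj_map l k Q₁⟩

theorem inf_normalizer_gt {Q D : Subgroup G} [hq : Fact q.Prime] (hQ : IsPGroup q Q) (h : D < Q) :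
    Nat.card D < Nat.card (normalizer (D : Set G) ⊓ Q : Subgroup G) := by
  refine Set.Finite.card_lt_card (Set.toFinite _) (SetLike.coe_ssubset_coe.mpr ?_)
  refine lt_of_le_of_ne (le_inf le_normalizer h.le) fun heq => ?_
  have := hQ.isNilpotent
  have hlt := Group.normalizerCondition_of_isNilpotent (G := Q) (D.subgroupOf Q) (lt_top_iff_ne_top.mpr
    fun ht => h.not_ge (subgroupOf_eq_top.mp ht))
  rw [← subgroupOf_normalizer_eq h.le] at hlt
  refine hlt.ne ?_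
  conv_lhs => rw [heq]
  ext x
  simp [mem_subgroupOf]

/-- The inductive step: two maximal subgroups meeting a proper overgroup of `A` in groups of order
larger than `d`. -/
theorem step (hG : IsMinSimpleOddOrder G) (hA : TransitivityHypothesis A) [hq : Fact q.Prime]
    (hqA : ¬ q ∣ Nat.card A) {d : ℕ}
    (ih : ∀ R₁ ∈ maxInvSubgroups ⊤ A {q}, ∀ R₂ ∈ maxInvSubgroups ⊤ A {q},
      d < Nat.card (R₁ ⊓ R₂ : Subgroup G) → Conjugate A R₁ R₂)
    {H Q₁ Q₂ : Subgroup G} (hH : H ≠ ⊤) (hAH : A ≤ H) (h₁ : Q₁ ∈ maxInvSubgroups ⊤ A {q})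
    (h₂ : Q₂ ∈ maxInvSubgroups ⊤ A {q}) (hd₁ : d < Nat.card (H ⊓ Q₁ : Subgroup G))
    (hd₂ : d < Nat.card (H ⊓ Q₂ : Subgroup G)) : Conjugate A Q₁ Q₂ := by
  set K := piCoreOf π' H with hK
  have hKs : Group.IsSolvable K :=
    Coprime.isSolvable_of_le (piCoreOf_le π' H) (isSolvable_of_ne_top hG hH)
  have hKp := isPi_piCoreOf π' H
  have hAK : A ≤ normalizer (K : Set G) := hAH.trans (le_normalizer_piCoreOf π' H)
  have hcop := coprime_of_isPi hKp
  have hU : ∀ {Q : Subgroup G}, Q ∈ maxInvSubgroups ⊤ A {q} →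
      H ⊓ Q ≤ K ∧ A ≤ normalizer ((H ⊓ Q : Subgroup G) : Set G) ∧ IsPGroup q (H ⊓ Q : Subgroup G) := by
    intro Q hQ
    have hp : IsPGroup q (H ⊓ Q : Subgroup G) := (isPGroup_of_mem hQ.1.2.1).to_le inf_le_right
    have hinv : A ≤ normalizer ((H ⊓ Q : Subgroup G) : Set G) :=
      le_trans (le_inf (hAH.trans le_normalizer) hQ.1.2.2) inf_normalizer_le_normalizer_inf
    exact ⟨le_piCoreOf hA hH hAH inf_le_left
      (fun r hr hd => (isPi_of_isPGroup hp r hr hd).symm ▸ ⟨hq.out, hqA⟩) hinv, hinv, hp⟩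
  obtain ⟨hU₁, hUA₁, hUp₁⟩ := hU h₁
  obtain ⟨hU₂, hUA₂, hUp₂⟩ := hU h₂
  obtain ⟨S₁, hS₁, hSA₁⟩ := Coprime.exists_invariant_sylow_ge hAK hcop (Or.inr hKs) hU₁ hUp₁ hUA₁
  obtain ⟨S₂, hS₂, hSA₂⟩ := Coprime.exists_invariant_sylow_ge hAK hcop (Or.inr hKs) hU₂ hUp₂ hUA₂
  obtain ⟨c, hc, hcS⟩ := Coprime.exists_centralizer_conj_sylow hAK hcop (Or.inr hKs) S₁ S₂ hSA₁ hSA₂
  have hcZ : (c : G) ∈ piCoreOf π' (centralizer (A : Set G)) :=
    inf_centralizer_le_core hG hA hKp ⟨c.2, hc⟩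
  have hcN : (c : G) ∈ normalizer (A : Set G) := centralizer_le_normalizer _ hc
  set R := (S₂ : Subgroup K).map K.subtype with hR
  obtain ⟨Q₃, hQ₃, hRQ₃⟩ := exists_max_ge (A := A) (q := q) (Y := R)
    (mem_invSubgroups_iff.mpr ⟨isPi_of_isPGroup (S₂.isPGroup'.map _), hSA₂⟩)
  have hQ₁' := conj_mem_maxInvSubgroups hcN h₁
  have hcU : (H ⊓ Q₁).map (MulAut.conj (c : G)).toMonoidHom ≤ R := by
    refine (map_mono hS₁).trans (le_of_eq ?_)
    rw [hR, ← hcS, Coprime.sylow_map_smul, Coprime.conj_smul_eq_map]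
  have e₁ : Conjugate A (Q₁.map (MulAut.conj (c : G)).toMonoidHom) Q₃ := by
    refine ih _ hQ₁' _ hQ₃ (lt_of_lt_of_le hd₁ ?_)
    rw [← card_map_conj (c : G) (H ⊓ Q₁)]
    exact Subgroup.card_le_of_le (le_inf (map_mono inf_le_right) (hcU.trans hRQ₃))
  have e₂ : Conjugate A Q₃ Q₂ := by
    refine ih _ hQ₃ _ h₂ (lt_of_lt_of_le hd₂ ?_)
    exact Subgroup.card_le_of_le (le_inf (hS₂.trans hRQ₃) inf_le_right)
  exact Conjugate.trans ⟨c, hcZ, rfl⟩ (e₁.trans e₂)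

theorem conjugate_of_inf_ne_bot (hG : IsMinSimpleOddOrder G) (hA : TransitivityHypothesis A)
    [hq : Fact q.Prime] (hqA : ¬ q ∣ Nat.card A) {Q₁ Q₂ : Subgroup G}
    (h₁ : Q₁ ∈ maxInvSubgroups ⊤ A {q}) (h₂ : Q₂ ∈ maxInvSubgroups ⊤ A {q})
    (hne : Q₁ ⊓ Q₂ ≠ ⊥) : Conjugate A Q₁ Q₂ := by
  induction hn : Nat.card G - Nat.card (Q₁ ⊓ Q₂ : Subgroup G) using Nat.strongRecOn
    generalizing Q₁ Q₂ with
  | _ n ih =>
    by_cases heq : Q₁ = Q₂
    · exact heq ▸ Conjugate.refl Q₁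
    set D := Q₁ ⊓ Q₂ with hD
    have hlt₁ : D < Q₁ := inf_le_left.lt_of_ne fun h =>
      heq (h₁.2 Q₂ h₂.1 (inf_eq_left.mp h)).symm
    have hlt₂ : D < Q₂ := inf_le_right.lt_of_ne fun h =>
      heq (h₂.2 Q₁ h₁.1 (inf_eq_right.mp h))
    have hAD : A ≤ normalizer (D : Set G) :=
      le_trans (le_inf h₁.1.2.2 h₂.1.2.2) inf_normalizer_le_normalizer_inf
    have hDtop : D ≠ ⊤ := fun h => hlt₁.not_ge (h ▸ le_top)
    refine step hG hA hqA (d := Nat.card D) (fun R₁ hR₁ R₂ hR₂ hcard => ?_)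
      (normalizer_ne_top hG hne hDtop) hAD h₁ h₂ (inf_normalizer_gt (isPGroup_of_mem h₁.1.2.1) hlt₁)
      (inf_normalizer_gt (isPGroup_of_mem h₂.1.2.1) hlt₂)
    refine ih _ ?_ hR₁ hR₂ (fun h => ?_) rfl
    · have : Nat.card (R₁ ⊓ R₂ : Subgroup G) ≤ Nat.card G :=
        Nat.le_of_dvd Nat.card_pos (card_subgroup_dvd_card _)
      omega
    · rw [h, card_bot] at hcard
      have : 0 < Nat.card D := Nat.card_pos
      omega

/-- Maximal invariant `q`-subgroups meeting one proper overgroup of `A` nontrivially are conjugate. -/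
theorem conjugate_of_meet (hG : IsMinSimpleOddOrder G) (hA : TransitivityHypothesis A)
    [hq : Fact q.Prime] (hqA : ¬ q ∣ Nat.card A) {H Q₁ Q₂ : Subgroup G}
    (hH : H ≠ ⊤) (hAH : A ≤ H) (h₁ : Q₁ ∈ maxInvSubgroups ⊤ A {q})
    (h₂ : Q₂ ∈ maxInvSubgroups ⊤ A {q}) (hH₁ : H ⊓ Q₁ ≠ ⊥) (hH₂ : H ⊓ Q₂ ≠ ⊥) :
    Conjugate A Q₁ Q₂ := by
  refine step hG hA hqA (d := 1) (fun R₁ hR₁ R₂ hR₂ hd => conjugate_of_inf_ne_bot hG hA hqA hR₁ hR₂
    fun h => ?_) hH hAH h₁ h₂ ((one_lt_card_iff_ne_bot _).mpr hH₁)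
      ((one_lt_card_iff_ne_bot _).mpr hH₂)
  rw [h, card_bot] at hd
  exact lt_irrefl _ hd

end Conjugacy

theorem exists_elementary_of_not_rankLE {k : ℕ} {Z : Subgroup G} (h : ¬ RankLE k Z) :
    ∃ (p : ℕ) (B : Subgroup G), p.Prime ∧ B ≤ Z ∧ IsElementaryAbelian p B ∧ Nat.card B = p ^ (k + 1) := by
  simp only [RankLE, not_forall] at h
  obtain ⟨p, hp, h⟩ := h
  simp only [PRankLE, not_forall, not_le] at h
  obtain ⟨B₀, hc, he, hlt⟩ := h
  have := Fact.mk hp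
  have hB₀ : IsElementaryAbelian p B₀ := ⟨hc, he⟩
  obtain ⟨m, hm⟩ := (Components.Hyperplane.isPGroup hB₀).exists_card_eq
  have hkm : k < m := (Nat.pow_lt_pow_iff_right hp.one_lt).mp (hm ▸ hlt)
  obtain ⟨C, hC⟩ := Sylow.exists_subgroup_card_pow_prime p (n := k + 1) (G := B₀)
    (hm ▸ Nat.pow_dvd_pow p hkm)
  refine ⟨p, (C.map B₀.subtype).map Z.subtype, hp, map_subtype_le _, ⟨⟨⟨?_⟩⟩, ?_⟩, ?_⟩
  · rintro ⟨_, _, ⟨a, ha, rfl⟩, rfl⟩ ⟨_, _, ⟨b, hb, rfl⟩, rfl⟩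
    exact Subtype.ext (congrArg (fun x : B₀ => ((x : Z) : G)) (hc.is_comm.comm a b))
  · rintro _ ⟨_, ⟨a, ha, rfl⟩, rfl⟩
    exact congrArg Subtype.val (he a a.2)
  · rw [card_map_of_injective Z.subtype_injective, card_map_of_injective B₀.subtype_injective, hC]

theorem eq_bot_of_max_bot {q : ℕ} {Q₁ Q₂ : Subgroup G} (h₁ : Q₁ ∈ maxInvSubgroups ⊤ A {q})
    (h₂ : Q₂ ∈ maxInvSubgroups ⊤ A {q}) (h : Q₁ = ⊥) : Q₂ = ⊥ :=
  (h₁.2 Q₂ h₂.1 (h ▸ bot_le)).trans h

end Cfsg.Agent.OddLocal.Transitivity
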