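import Cfsg.Agent.OddLocal.BenderUnique
import Cfsg.Agent.OddLocal.TransitivityP
import Cfsg.Agent.OddLocal.PuigTheorem
import Cfsg.Agent.S1393
import Cfsg.Agent.S1396
import Cfsg.Agent.S1466

/-! Uniqueness subgroups inside the Fitting subgroup of a maximal subgroup. -/

set_option autoImplicit false
set_option linter.unusedSectionVars false

namespace Cfsg.Agent.OddLocal.Uniqueness

open Cfsg Subgroup Cfsg.Agent.OddLocal.Bender Cfsg.Agent.OddLocal.Puig

universe u

variable {G : Type*} [Group G] [Finite G]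

/-- `Z(L(T))`. -/
def puigCenter (T : Subgroup G) : Subgroup G := upOf T ⊓ centralizer (upOf T : Set G)

theorem puigCenter_le (T : Subgroup G) : puigCenter T ≤ T := inf_le_left.trans (upOf_le T)

theorem normalizer_le_puigCenter (T : Subgroup G) :
    normalizer (T : Set G) ≤ normalizer (puigCenter T : Set G) :=
  (le_inf (normalizer_le_upOf T) ((normalizer_le_upOf T).trans
    (CharP.normalizer_le_normalizer_centralizer _))).trans inf_normalizer_le_normalizer_inf

theorem puigCenter_ne_bot {p : ℕ} [Fact p.Prime] {T : Subgroup G} (hT : IsPGroup p T) (h : T ≠ ⊥) :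
    puigCenter T ≠ ⊥ := by
  have hnt : Nontrivial T := (nontrivial_iff_ne_bot _).mpr h
  obtain ⟨-, -, ⟨h1, h2⟩, -, -⟩ := S1466.result p hT
  obtain ⟨z, hz, hz1⟩ := (bot_or_exists_ne_one (center T)).resolve_left
    ((nontrivial_iff_ne_bot _).mp hT.center_nontrivial)
  have hzU : (z : G) ∈ puigCenter T := by
    refine ⟨⟨z, h2 (h1 hz), rfl⟩, mem_centralizer_iff.mpr ?_⟩
    rintro _ ⟨u, hu, rfl⟩
    exact congrArg Subtype.val (mem_centralizer_iff.mp (h1 hz) u hu)
  exact fun he => hz1 (Subtype.ext (mem_bot.mp (he ▸ hzU)))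

theorem le_normalizer_puigCenter {p : ℕ} [Fact p.Prime] (hp2 : p ≠ 2) {L : Subgroup G}
    (hL : Group.IsSolvable L) (hodd : Odd (Nat.card L)) (h0 : pPrimeCore p L = ⊥) (S : Sylow p L) :
    L ≤ normalizer (puigCenter ((S : Subgroup L).map L.subtype) : Set G) := by
  have hn := PuigTheorem.center_upOf_normal hp2 hodd h0 S
  have e : puigCenter ((S : Subgroup L).map L.subtype) =
      (upOf (S : Subgroup L) ⊓ centralizer (upOf (S : Subgroup L) : Set L)).map L.subtype := by
    rw [puigCenter, CharP.map_centre_inf L.subtype_injective, upOf_map L.subtype_injective.injOn]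
  rw [e]
  refine le_normalizer_of_normal_subgroupOf (hK := ?_) (map_subtype_le _)
  rw [subgroupOf, comap_map_eq_self_of_injective L.subtype_injective]
  exact hn

theorem isSubnormal_of_isNilpotent {F : Type*} [Group F] [Finite F] [Group.IsNilpotent F]
    (A : Subgroup F) : A.IsSubnormal := by
  induction hn : A.index using Nat.strong_induction_on generalizing A with
  | _ n ih => ?_
  by_cases hA : A = ⊤
  · exact hA ▸ IsSubnormal.top
  have hlt : A < normalizer (A : Set F) := Group.normalizerCondition_of_isNilpotent A (lt_top_iff_ne_top.mpr hA)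
  refine IsSubnormal.step A (normalizer (A : Set F)) hlt.le (ih _ ?_ _ rfl)
    ((normal_subgroupOf_iff_le_normalizer hlt.le).mpr le_rfl)
  rw [← hn]
  refine lt_of_not_ge fun hge => hlt.ne (eq_of_le_of_card_ge hlt.le ?_)
  have h1 := A.card_mul_index
  rw [← (normalizer (A : Set F)).card_mul_index] at h1
  exact Nat.le_of_mul_le_mul_right (h1.symm.le.trans (Nat.mul_le_mul_left _ hge))
    (Nat.pos_of_ne_zero index_ne_zero_of_finite)

theorem card_primes_eq {H A : Subgroup G} (hA : A ≤ fittingOf H)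
    (hZ : ∀ r : ℕ, r.Prime → centerCore r H ≤ A) {r : ℕ} (hr : r.Prime) :
    r ∣ Nat.card A ↔ r ∣ Nat.card (fittingOf H) := by
  have := Fact.mk hr
  refine ⟨fun h => h.trans (card_dvd_of_le hA), fun h => ?_⟩
  obtain ⟨k, hk⟩ := (centerCore_isPGroup r H).exists_card_eq
  have hk0 : k ≠ 0 := fun e =>
    centerCore_ne_bot (pCoreOf_ne_bot h) (eq_bot_of_card_eq _ (by rw [hk, e, pow_zero]))
  exact (dvd_pow_self r hk0).trans (hk ▸ card_dvd_of_le (hZ r hr))

/-- In an `A`-invariant `π'`-group the maximal `q`-subgroups detect triviality. -/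
theorem le_of_forall_qSubgroup {A Y K : Subgroup G} (hAY : A ≤ normalizer (Y : Set G))
    (hcop : (Nat.card A).Coprime (Nat.card Y)) (hY : Group.IsSolvable Y)
    (h : ∀ q : ℕ, ∀ [Fact q.Prime], q ∣ Nat.card Y → ∀ Q ≤ Y, IsPGroup q Q →
      A ≤ normalizer (Q : Set G) → Q ≤ K) : Y ≤ K := by
  rw [← subgroupOf_eq_top]
  refine Cores.eq_top_of_sylow_le fun q hq hd => ?_
  have := Fact.mk hq
  obtain ⟨S, hS⟩ := Coprime.exists_invariant_sylow q hAY hcop (Or.inr hY)
  exact ⟨S, fun y hy => h q hd _ (map_subtype_le _) (S.isPGroup'.map Y.subtype) hS ⟨y, hy, rfl⟩⟩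

variable (hG : IsMinSimpleOddOrder G) {M : Subgroup G} (hM : IsCoatom M)
include hG hM

theorem coprime_card_of_primesNotDvd {Y : Subgroup G} {n : ℕ}
    (hY : ∀ r : ℕ, r.Prime → r ∣ Nat.card Y → r ∈ primesNotDvd n) : n.Coprime (Nat.card Y) :=
  Nat.coprime_of_dvd fun r hr h1 h2 => (hY r hr h2).2 h1

/-- No nontrivial subgroup of order prime to `|F(M)|` is invariant under `A`. -/
theorem inv_eq_bot {A : Subgroup G} (hA : A ≤ fittingOf M) (hTH : TransitivityHypothesis A)
    (hprimes : ∀ r : ℕ, r.Prime → (r ∣ Nat.card A ↔ r ∣ Nat.card (fittingOf M)))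
    (hZ : ¬ RankLE 2 (A ⊓ centralizer (A : Set G) : Subgroup G)) :
    ∀ Y ∈ invSubgroups ⊤ A (primesNotDvd (Nat.card A)), Y = ⊥ := by
  set F := fittingOf M with hF
  have hF0 : F ≠ ⊥ := fun h => hTH.1 (le_bot_iff.mp (h ▸ hA))
  have hNF : normalizer (F : Set G) = M :=
    BenderUnique.normalizer_eq_of_coatom hG hM hF0 (fittingOf_le M) (le_normalizer_fittingOf M)
  have hMs := Transitivity.isSolvable_of_ne_top hG hM.1
  have hFπ : ∀ r : ℕ, r.Prime → r ∣ Nat.card F → r ∣ Nat.card A := fun r hr h => (hprimes r hr).mpr h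
  have := fittingOf_isNilpotent M
  have hsn : (A.subgroupOf F).IsSubnormal := isSubnormal_of_isNilpotent _
  have key : ∀ q : ℕ, q.Prime → ¬ q ∣ Nat.card A → ∀ Y ∈ invSubgroups ⊤ A {q}, Y = ⊥ := by
    intro q hq hqA Y hY
    have := Fact.mk hq
    have htr := S1393.result hG A hTH hZ q hq hqA
    have hT := TransitivityP.trans_top hG hTH htr hFπ hA hsn
    have hsub := TransitivityP.max_subset hG hTH hq hqA hFπ hA hT
    have huniq : ∀ Q₁ ∈ maxInvSubgroups ⊤ F {q}, ∀ Q₂ ∈ maxInvSubgroups ⊤ F {q}, Q₂ = Q₁ := by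
      intro Q₁ h₁ Q₂ h₂
      obtain ⟨k, ⟨hk1, hk2⟩, hkQ⟩ := hT.2 Q₁ (hsub h₁) Q₂ (hsub h₂) h₁.1.2.2 h₂.1.2.2
      have hkM : k ∈ M := hNF ▸ centralizer_le_normalizer _ hk2
      have hkF : k ∈ F := ⟨⟨k, hkM⟩, Cores.centralizer_fittingSubgroup_le (mem_centralizer_iff.mpr
        fun g hg => Subtype.ext (mem_centralizer_iff.mp hk2 g ⟨g, hg, rfl⟩)), rfl⟩
      have hk0 : k = 1 := by
        refine orderOf_eq_one_iff.mp (Nat.eq_one_of_dvd_coprimes ?_ (F.orderOf_dvd_natCard hkF)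
          (orderOf_dvd_natCard _ hk1))
        exact Nat.coprime_of_dvd fun r hr h1 h2 =>
          (Transitivity.isPi_piCoreOf _ _ r hr h2).2 (hFπ r hr h1)
      rw [hkQ, hk0, Transitivity.map_conj_one]
    obtain ⟨Q, hQ, hFQ⟩ := hT.1
    have hQF : Q ∈ maxInvSubgroups ⊤ F {q} :=
      ⟨⟨le_top, hQ.1.2.1, hFQ⟩, fun R hR hle => hQ.2 R ⟨le_top, hR.2.1, hA.trans hR.2.2⟩ hle⟩
    have hQbot : Q = ⊥ := by
      have hMQ : M ≤ normalizer (Q : Set G) := by
        intro m hm
        have hmF : F.map (MulAut.conj m).toMonoidHom = F :=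
          mem_normalizer_iff_map_conj_eq.mp (le_normalizer_fittingOf M hm)
        refine mem_normalizer_iff_map_conj_eq.mpr (huniq Q hQF _ ⟨⟨le_top, fun r hr hd =>
          hQ.1.2.1 r hr (Transitivity.card_map_conj m Q ▸ hd), ?_⟩, fun R hR hle => ?_⟩)
        · conv_lhs => rw [← hmF]
          exact (map_mono hFQ).trans (le_normalizer_map _)
        · have hR' : R.map (MulAut.conj m⁻¹).toMonoidHom ∈ invSubgroups ⊤ F {q} := by
            refine ⟨le_top, fun r hr hd => hR.2.1 r hr (Transitivity.card_map_conj m⁻¹ R ▸ hd), ?_⟩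
            have hmF' : F.map (MulAut.conj m⁻¹).toMonoidHom = F :=
              mem_normalizer_iff_map_conj_eq.mp (le_normalizer_fittingOf M (inv_mem hm))
            conv_lhs => rw [← hmF']
            exact (map_mono hR.2.2).trans (le_normalizer_map _)
          have h1 := hQF.2 _ hR' (by
            intro x hx
            exact ⟨m * x * m⁻¹, hle ⟨x, hx, rfl⟩, by simp [mul_assoc]⟩)
          rw [← h1]
          ext x
          simp [mul_assoc]
      by_contra hne
      have hQtop : Q ≠ ⊤ := fun h => by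
        obtain ⟨r, hr, hrA⟩ := Nat.exists_prime_and_dvd
          (fun h1 => hTH.1 (eq_bot_of_card_eq A h1) : Nat.card A ≠ 1)
        have : r ∣ Nat.card Q := by rw [h, card_top]; exact hrA.trans (card_subgroup_dvd_card A)
        exact hqA ((hQ.1.2.1 r hr this : r = q) ▸ hrA)
      have hNQ : normalizer (Q : Set G) = M := by
        by_contra hne'
        exact Transitivity.normalizer_ne_top hG hne hQtop (hM.2 _ (lt_of_le_of_ne hMQ (Ne.symm hne')))
      have hQM : Q ≤ M := hNQ ▸ le_normalizer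
      have hQc : Q ≤ pCoreOf q M :=
        CharP.le_pCoreOf hQM hMQ (Transitivity.isPGroup_of_mem hQ.1.2.1)
      have hzero : pCoreOf q M = ⊥ :=
        by_contra fun h => hqA ((hprimes q hq).mpr (dvd_card_fittingOf h))
      exact hne (le_bot_iff.mp (hzero ▸ hQc))
    obtain ⟨Q', hQ', hYQ'⟩ := Transitivity.exists_max_ge hY
    obtain ⟨k, -, hk⟩ := htr Q hQ Q' hQ'
    rw [hQbot, Subgroup.map_bot] at hk
    exact le_bot_iff.mp (hk ▸ hYQ')
  intro Y hY
  by_cases hYtop : Y = ⊤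
  · obtain ⟨r, hr, hrA⟩ := Nat.exists_prime_and_dvd
      (fun h1 => hTH.1 (eq_bot_of_card_eq A h1) : Nat.card A ≠ 1)
    exact absurd hrA (hY.2.1 r hr (by rw [hYtop, card_top]; exact hrA.trans (card_subgroup_dvd_card A))).2
  refine le_bot_iff.mp (le_of_forall_qSubgroup hY.2.2 (coprime_card_of_primesNotDvd hG hM hY.2.1)
    (Transitivity.isSolvable_of_ne_top hG hYtop) fun q _ hd Q hQY hQ hAQ => ?_)
  exact (key q Fact.out (hY.2.1 q Fact.out hd).2 Q ⟨le_top, Transitivity.isPi_of_isPGroup hQ, hAQ⟩).le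

/-- `C_F(A₀) ∈ 𝒰` if `F(M)` is not of prime power order. -/
theorem unique_of_centralizer {p : ℕ} [Fact p.Prime] {A₀ : Subgroup G} (hA₀ : A₀ ≤ fittingOf M)
    (hA₀e : IsElementaryAbelian p A₀) (hA₀3 : p ^ 3 ≤ Nat.card A₀)
    (hnp : ¬ IsPGroup p (fittingOf M)) :
    InUniqueMaximal (fittingOf M ⊓ centralizer (A₀ : Set G)) := by
  set F := fittingOf M with hF
  set A := F ⊓ centralizer (A₀ : Set G) with hA
  have hAF : A ≤ F := inf_le_left
  have := Transitivity.isSolvable_of_ne_top hG hM.1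
  have hZA : F ⊓ centralizer (F : Set G) ≤ A := inf_le_inf_left _ (centralizer_le hA₀)
  have hprimes : ∀ r : ℕ, r.Prime → (r ∣ Nat.card A ↔ r ∣ Nat.card F) := fun r hr =>
    card_primes_eq hAF (fun t ht => by
      have := Fact.mk ht
      exact (centerCore_le_fittingOf_centralizer t M).trans hZA) hr
  have hA₀A : A₀ ≤ A := le_inf hA₀ fun a ha => mem_centralizer_iff.mpr fun b hb => by
    have := hA₀e.1
    exact setLike_mul_comm hb ha
  have hCA : F ⊓ centralizer (A : Set G) ≤ A := inf_le_inf_left _ (centralizer_le hA₀A)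
  have hdp : p ∣ Nat.card F := by
    have hp3 : 1 < p ^ 3 := Nat.one_lt_pow (by norm_num) (Fact.out : p.Prime).one_lt
    obtain ⟨k, hk⟩ := (show IsPGroup p A₀ from fun a => ⟨1, by
      rw [pow_one]; exact Subtype.ext (hA₀e.2 a a.2)⟩).exists_card_eq
    have hk0 : k ≠ 0 := fun e => by rw [hk, e, pow_zero] at hA₀3; omega
    exact (dvd_pow_self p hk0).trans (hk ▸ card_dvd_of_le hA₀)
  have hF2 : 2 ≤ (Nat.card F).primeFactors.card := by
    by_contra hlt
    refine hnp (IsPGroup.of_card (n := (Nat.card F).primeFactorsList.length)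
      (Nat.eq_prime_pow_of_unique_prime_dvd Nat.card_pos.ne' fun {d} hd hdd => ?_))
    exact Finset.card_le_one.mp (by omega) d (Nat.mem_primeFactors.mpr ⟨hd, hdd, Nat.card_pos.ne'⟩) p
      (Nat.mem_primeFactors.mpr ⟨Fact.out, hdp, Nat.card_pos.ne'⟩)
  have hA0 : A ≠ ⊥ := fun h => by
    have h1 := hA₀3.trans (card_le_of_le (hA₀A.trans h.le))
    rw [card_bot] at h1
    exact absurd h1 (not_le.mpr (Nat.one_lt_pow (by norm_num) (Fact.out : p.Prime).one_lt))
  have hAtop : A ≠ ⊤ := fun h => hM.1 (top_le_iff.mp (h ▸ hAF.trans (fittingOf_le M)))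
  have hset : primesNotDvd (Nat.card A) = primesNotDvd (Nat.card F) := by
    ext r
    exact and_congr_right fun hr => not_congr (hprimes r hr)
  have hTH : TransitivityHypothesis A := by
    refine ⟨hA0, hAtop, fun X hX hAX => le_antisymm ?_ ?_⟩
    · refine sSup_le fun Y hY => ?_
      refine le_of_forall_qSubgroup hY.2.2 (coprime_card_of_primesNotDvd hG hM hY.2.1)
        (Coprime.isSolvable_of_le hY.1 (Transitivity.isSolvable_of_ne_top hG hX))
        fun q _ hd Q hQY hQ hAQ => ?_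
      rw [hset]
      refine le_core (R := X) (fun r hr hrF => BenderUnique.normalizer_centerCore_le hG hM hr hrF) hF2
        hAF hCA (Transitivity.isSolvable_of_ne_top hG hX) (hAX.trans le_normalizer) ?_ ?_
        (hQY.trans hY.1) hAQ hQ
      · refine le_trans ?_ (hAX.trans le_normalizer)
        rintro x ⟨hxM, hxc⟩
        exact hZA ⟨⟨⟨x, hxM⟩, Cores.centralizer_fittingSubgroup_le (mem_centralizer_iff.mpr
          fun g hg => Subtype.ext (mem_centralizer_iff.mp hxc g ⟨g, hg, rfl⟩)), rfl⟩, hxc⟩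
      · exact fun h => (hY.2.1 q Fact.out hd).2 ((hprimes q Fact.out).mpr h)
    · exact le_sSup ⟨Transitivity.piCoreOf_le _ X, Transitivity.isPi_piCoreOf _ X,
        hAX.trans (Transitivity.le_normalizer_piCoreOf _ X)⟩
  have hrank : ¬ RankLE 2 (A ⊓ centralizer (A : Set G) : Subgroup G) := by
    intro h
    have hle : A₀ ≤ A ⊓ centralizer (A : Set G) := le_inf hA₀A fun a ha =>
      mem_centralizer_iff.mpr fun b hb => (mem_centralizer_iff.mp hb.2 a ha).symm
    have := hA₀e.1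
    have h1 := h p Fact.out (A₀.subgroupOf _)
      ⟨⟨fun u v => Subtype.ext (Subtype.ext (setLike_mul_comm (s := A₀) u.2 v.2))⟩⟩
      (fun u hu => Subtype.ext (hA₀e.2 _ hu))
    rw [Nat.card_congr (subgroupOfEquivOfLe hle).toEquiv] at h1
    exact absurd (hA₀3.trans h1) (not_le.mpr (Nat.pow_lt_pow_right (Fact.out : p.Prime).one_lt (by norm_num)))
  have hinv := inv_eq_bot hG hM hAF hTH hprimes hrank
  exact ⟨M, ⟨hM, hAF.trans (fittingOf_le M)⟩, fun L hL =>
    BenderUnique.eq_of_coatom hG hM hF2 hZA (hset ▸ hinv) hL.1 hL.2⟩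

omit hG hM in
theorem lt_inf_normalizer {p : ℕ} [Fact p.Prime] {D Q : Subgroup G} (hQ : IsPGroup p Q) (h : D < Q) :
    D < Q ⊓ normalizer (D : Set G) :=
  lt_of_le_of_ne (le_inf h.le le_normalizer) fun e => by
    have h1 := Transitivity.inf_normalizer_gt hQ h
    rw [inf_comm, ← e] at h1
    exact lt_irrefl _ h1

omit hM in
/-- A maximal `p`-subgroup of a maximal subgroup with trivial `O_{p'}` is maximal in `G`. -/
theorem maximal_pGroup {p : ℕ} [Fact p.Prime] {L T : Subgroup G} (hL : IsCoatom L)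
    (h0 : pPrimeCore p L = ⊥) (hT : IsPGroup p T) (hT1 : T ≠ ⊥) (hTL : T ≤ L)
    (hmax : ∀ T' : Subgroup G, IsPGroup p T' → T' ≤ L → T ≤ T' → T' = T) :
    normalizer (puigCenter T : Set G) = L ∧ ∀ T' : Subgroup G, IsPGroup p T' → T ≤ T' → T' = T := by
  have hp2 : p ≠ 2 := by
    rintro rfl
    obtain ⟨k, hk⟩ := hT.exists_card_eq
    have hk0 : k ≠ 0 := fun e => hT1 (eq_bot_of_card_eq _ (by rw [hk, e, pow_zero]))
    exact Nat.not_even_iff_odd.mpr hG.1 (even_iff_two_dvd.mpr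
      ((dvd_pow_self 2 hk0).trans (hk ▸ card_subgroup_dvd_card T)))
  obtain ⟨S, hS⟩ := (hT.comap_subtype : IsPGroup p (T.subgroupOf L)).exists_le_sylow
  have hTS : (S : Subgroup L).map L.subtype = T :=
    hmax _ (S.isPGroup'.map L.subtype) (map_subtype_le _) ((map_subgroupOf_eq_of_le hTL).ge.trans (map_mono hS))
  have hLW : L ≤ normalizer (puigCenter T : Set G) := hTS ▸ le_normalizer_puigCenter hp2
    (Transitivity.isSolvable_of_ne_top hG hL.1) (hG.1.of_dvd_nat (card_subgroup_dvd_card L)) h0 S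
  have hN := BenderUnique.normalizer_eq_of_coatom hG hL (puigCenter_ne_bot hT hT1)
    ((puigCenter_le T).trans hTL) hLW
  refine ⟨hN, fun T' hT' hle => ?_⟩
  by_contra hne
  have hlt := lt_inf_normalizer hT' (lt_of_le_of_ne hle (Ne.symm hne))
  exact hlt.ne' (hmax _ (hT'.to_le inf_le_left) (inf_le_right.trans ((normalizer_le_puigCenter T).trans hN.le))
    hlt.le)

omit hM in
theorem pPrimeCore_eq_bot_of_inv {p : ℕ} [Fact p.Prime] {A L : Subgroup G} (hAp : IsPGroup p A) (hAL : A ≤ L)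
    (hinv : ∀ Y ∈ invSubgroups ⊤ A (primesNotDvd (Nat.card A)), Y = ⊥) : pPrimeCore p L = ⊥ := by
  obtain ⟨k, hk⟩ := hAp.exists_card_eq
  refine (map_eq_bot_iff_of_injective _ L.subtype_injective).mp (hinv _ ⟨le_top, fun r hr hd => ⟨hr, fun hA => ?_⟩, ?_⟩)
  · rw [card_map_of_injective L.subtype_injective] at hd
    have hrp : r = p := (Nat.prime_dvd_prime_iff_eq hr Fact.out).mp (hr.dvd_of_dvd_pow (hk ▸ hA))
    exact (hr.coprime_iff_not_dvd.mp (hrp ▸ (Cores.pPrimeCore_card_coprime (G := L) p).symm)) hd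
  · refine hAL.trans (le_normalizer_of_normal_subgroupOf (hK := ?_) (map_subtype_le _))
    rw [subgroupOf, comap_map_eq_self_of_injective L.subtype_injective]
    infer_instance

omit hM in
theorem pPrimeCore_eq_bot_of_fitting {p : ℕ} [Fact p.Prime] (L : Subgroup G) (hL : Group.IsSolvable L)
    (hF : IsPGroup p (fittingOf L)) : pPrimeCore p L = ⊥ := by
  set K := pPrimeCore p L
  set F := fittingSubgroup L
  have hFp : IsPGroup p F := hF.of_equiv (F.equivMapOfInjective L.subtype L.subtype_injective).symm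
  have hKF : K ⊓ F = ⊥ := by
    rw [inf_comm]
    exact PLocal.Cores.inf_eq_bot_of_isPGroup_of_coprime hFp PLocal.Cores.coprime_card_pPrimeCore
  rw [← le_bot_iff, ← hKF]
  refine le_inf le_rfl (le_trans (le_centralizer_of_mutual le_normalizer_of_normal le_normalizer_of_normal hKF) ?_)
  exact Cores.centralizer_fittingSubgroup_le

/-- Members of `SCN₃` in a Sylow subgroup of `M` are uniqueness subgroups if `F(M)` is a `p`-group. -/
theorem unique_of_scn {p : ℕ} [Fact p.Prime] (hF : IsPGroup p (fittingOf M)) (hF0 : fittingOf M ≠ ⊥)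
    (P : Sylow p M) :
    ¬ p ∣ ((P : Subgroup M).map M.subtype).index ∧
      ∀ A : Subgroup G, IsSCN ((P : Subgroup M).map M.subtype) A → ¬ PRankLE p 2 A →
        A ≤ fittingOf M ∧ InUniqueMaximal A := by
  set T := (P : Subgroup M).map M.subtype with hT
  have hMs := Transitivity.isSolvable_of_ne_top hG hM.1
  have h0 := pPrimeCore_eq_bot_of_fitting hG M hMs hF
  have hTp : IsPGroup p T := P.isPGroup'.map M.subtype
  have hFT : fittingOf M ≤ T := map_mono
    ((hF.of_equiv ((fittingSubgroup M).equivMapOfInjective M.subtype M.subtype_injective).symm).le_sylow_of_normal P)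
  have hT0 : T ≠ ⊥ := fun h => hF0 (le_bot_iff.mp (h ▸ hFT))
  have hTmax : ∀ T' : Subgroup G, IsPGroup p T' → T' ≤ M → T ≤ T' → T' = T := by
    intro T' hT' hT'M hle
    have h1 := P.3 (hT'.comap_subtype : IsPGroup p (T'.subgroupOf M)) (fun x hx => hle ⟨x, hx, rfl⟩)
    exact ((map_subgroupOf_eq_of_le hT'M).symm.trans (congrArg (·.map M.subtype) h1))
  obtain ⟨hNM, hTG⟩ := maximal_pGroup hG hM h0 hTp hT0 (map_subtype_le _) hTmax
  let PG : Sylow p G := ⟨T, hTp, fun {Q} hQ hle => hTG Q hQ hle⟩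
  refine ⟨PG.not_dvd_index, fun A hA hA3 => ?_⟩
  have hAc : IsMulCommutative A := ⟨⟨fun a b => Subtype.ext (mem_centralizer_iff.mp
    ((hA.2.2.ge b.2).2) a a.2)⟩⟩
  have hAp : IsPGroup p A := hTp.to_le hA.1
  have hAM : A ≤ M := hA.1.trans (map_subtype_le _)
  have hAF : A ≤ fittingOf M := by
    have hodd : Odd (Nat.card M) := hG.1.of_dvd_nat (card_subgroup_dvd_card M)
    have hle : A.subgroupOf M ≤ pCore p M := PuigTheorem.le_pCore_of_abelian_normal hodd h0 P
      (fun x hx => by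
        obtain ⟨y, hy, he⟩ := hA.1 hx
        exact (Subtype.ext he : y = x) ▸ hy)
      ⟨⟨fun u v => Subtype.ext (Subtype.ext (setLike_mul_comm (s := A) u.2 v.2))⟩⟩
      (fun x hx => le_normalizer_comap M.subtype (hA.2.1 ⟨x, hx, rfl⟩))
    rw [← map_subgroupOf_eq_of_le hAM]
    exact map_mono (hle.trans (Cores.pCore_le_fitting p))
  refine ⟨hAF, ?_⟩
  have hA1 : ¬ PRankLE p 1 A := fun h => hA3 fun B hB hB' =>
    (h B hB hB').trans (Nat.pow_le_pow_right (Fact.out : p.Prime).pos (by norm_num))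
  have hA0 : A ≠ ⊥ := fun h => hA1 fun B _ _ => by
    subst h
    exact ((card_le_card_group B).trans (card_bot (G := G)).le).trans (Nat.one_le_pow _ _ (Fact.out : p.Prime).pos)
  obtain ⟨k, hk⟩ := hAp.exists_card_eq
  have hk0 : k ≠ 0 := fun e => hA0 (eq_bot_of_card_eq _ (by rw [hk, e, pow_zero]))
  have hpG : p ∣ Nat.card G := (dvd_pow_self p hk0).trans (hk ▸ card_subgroup_dvd_card A)
  have hTH := S1396.result hG p hpG A hAp hAc (Or.inr ⟨PG, hA, hA1⟩)
  have hprimes : ∀ r : ℕ, r.Prime → (r ∣ Nat.card A ↔ r ∣ Nat.card (fittingOf M)) := fun r hr =>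
    ⟨fun h => h.trans (card_dvd_of_le hAF), fun h => by
      rw [(Cores.isPi_iff_isPGroup _).mpr hF r hr h]
      exact (dvd_pow_self p hk0).trans hk.symm.dvd⟩
  have hrank : ¬ RankLE 2 (A ⊓ centralizer (A : Set G) : Subgroup G) := fun h => hA3 <| by
    have e : A ⊓ centralizer (A : Set G) = A := inf_eq_left.mpr (le_centralizer A)
    exact e ▸ h p Fact.out
  have hinv := inv_eq_bot hG hM hAF hTH hprimes hrank
  refine ⟨M, ⟨hM, hAM⟩, fun L hL => ?_⟩
  by_contra hLM
  obtain ⟨U, -, ⟨hUp, hAU, hUM, L, hLc, hLM, hUL⟩, hUmax⟩ := (Set.toFinite {U : Subgroup G |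
      IsPGroup p U ∧ A ≤ U ∧ U ≤ M ∧ ∃ L : Subgroup G, IsCoatom L ∧ L ≠ M ∧ U ≤ L}).exists_le_maximal
    (show A ∈ _ from ⟨hAp, le_rfl, hAM, L, hL.1, hLM, hL.2⟩)
  have hU0 : U ≠ ⊥ := fun h => hA0 (le_bot_iff.mp (h ▸ hAU))
  have h0L := pPrimeCore_eq_bot_of_inv hG hAp (hAU.trans hUL) hinv
  have hbig : ∀ U' : Subgroup G, IsPGroup p U' → U < U' → U' ≤ M → ∀ K : Subgroup G, IsCoatom K → U' ≤ K →
      K = M := fun U' hU' hlt hU'M K hK hU'K => by_contra fun hne =>
    hlt.not_ge (hUmax ⟨hU', hAU.trans hlt.le, hU'M, K, hK, hne, hU'K⟩ hlt.le)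
  by_cases hmM : ∀ U' : Subgroup G, IsPGroup p U' → U' ≤ M → U ≤ U' → U' = U
  · obtain ⟨e1, hUG⟩ := maximal_pGroup hG hM h0 hUp hU0 hUM hmM
    obtain ⟨e2, -⟩ := maximal_pGroup hG hLc h0L hUp hU0 hUL fun U' hU' _ hle => hUG U' hU' hle
    exact hLM (e2.symm.trans e1)
  push Not at hmM
  obtain ⟨U', hU', hU'M, hle, hne⟩ := hmM
  have hlt := lt_inf_normalizer hU' (lt_of_le_of_ne hle hne.symm)
  have hNU : normalizer (U : Set G) ≠ ⊤ :=
    Transitivity.normalizer_ne_top hG hU0 fun e => hM.1 (top_le_iff.mp (e ▸ hUM))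
  obtain ⟨K, hK, hNK⟩ := (eq_top_or_exists_le_coatom (normalizer (U : Set G))).resolve_left hNU
  obtain rfl := hbig _ (hU'.to_le inf_le_left) hlt (inf_le_left.trans hU'M) K hK (inf_le_right.trans hNK)
  by_cases hmL : ∀ U'' : Subgroup G, IsPGroup p U'' → U'' ≤ L → U ≤ U'' → U'' = U
  · obtain ⟨-, hUG⟩ := maximal_pGroup hG hLc h0L hUp hU0 hUL hmL
    exact hne (hUG U' hU' hle)
  push Not at hmL
  obtain ⟨U'', hU'', hU''L, hle', hne'⟩ := hmL
  have hlt' := lt_inf_normalizer hU'' (lt_of_le_of_ne hle' hne'.symm)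
  exact hLM (hbig _ (hU''.to_le inf_le_left) hlt' (inf_le_right.trans hNK) L hLc (inf_le_left.trans hU''L))

end Cfsg.Agent.OddLocal.Uniqueness
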