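import Cfsg.Agent.OddLocal.PTypeHull
import Cfsg.Agent.OddLocal.RegularPart

/-! A cyclic subgroup of `U` of full exponent acting regularly on `M_σ` (BG 15.2). -/

set_option autoImplicit false
set_option linter.unusedSectionVars false

namespace Cfsg.Agent.OddLocal.PType

open Cfsg Subgroup KappaStructure SigmaParts
open TauTwo (centralizer_zpowers)

variable {G : Type*} [Group G] [Finite G] {M K U S : Subgroup G} {u : G}

/-- All elements of prime order of `⟨z⟩` act regularly. -/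
def GoodElem (M : Subgroup G) (z : G) : Prop :=
  ∀ w ∈ zpowers z, (orderOf w).Prime → sigmaCore M ⊓ centralizer ({w} : Set G) = ⊥

theorem GoodElem.mul {a b : G} (ha : GoodElem M a) (hb : GoodElem M b) (h : Commute a b)
    (hco : (orderOf a).Coprime (orderOf b)) : GoodElem M (a * b) := by
  intro w hw hp
  obtain ⟨k, rfl⟩ := mem_zpowers_iff.mp hw
  set w := (a * b) ^ k
  have hwa : w ^ orderOf a ∈ zpowers b := by
    rw [← zpow_natCast, ← zpow_mul, h.mul_zpow, zpow_mul', zpow_natCast, pow_orderOf_eq_one, one_zpow,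
      one_mul]
    exact zpow_mem (mem_zpowers b) _
  have hwb : w ^ orderOf b ∈ zpowers a := by
    rw [← zpow_natCast, ← zpow_mul, h.mul_zpow, zpow_mul' b, zpow_natCast, pow_orderOf_eq_one, one_zpow,
      mul_one]
    exact zpow_mem (mem_zpowers a) _
  have hle : ∀ n : ℕ, centralizer ({w} : Set G) ≤ centralizer ({w ^ n} : Set G) := fun n c hc =>
    mem_centralizer_singleton_iff.mpr
      ((show Commute c w from mem_centralizer_singleton_iff.mp hc).pow_right n).eq
  by_cases hd : orderOf w ∣ orderOf a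
  · have hnd : (orderOf w).Coprime (orderOf b) := hp.coprime_iff_not_dvd.mpr fun h' =>
      hp.ne_one (Nat.eq_one_of_dvd_coprimes hco hd h')
    exact eq_bot_iff.mpr ((inf_le_inf_left _ (hle _)).trans
      (ha _ hwb (by rwa [Nat.Coprime.orderOf_pow hnd])).le)
  · have hnd : (orderOf w).Coprime (orderOf a) := hp.coprime_iff_not_dvd.mpr hd
    exact eq_bot_iff.mpr ((inf_le_inf_left _ (hle _)).trans
      (hb _ hwa (by rwa [Nat.Coprime.orderOf_pow hnd])).le)

variable {q : ℕ} [hq : Fact q.Prime]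

theorem goodElem_of_pow {y : G} {j : ℕ} (hy : orderOf y = q ^ (j + 1))
    (hfix : sigmaCore M ⊓ centralizer ({y ^ q ^ j} : Set G) = ⊥) : GoodElem M y := by
  intro w hw hp
  have hwo : orderOf w = q := (Nat.prime_dvd_prime_iff_eq hp hq.out).mp
    (hp.dvd_of_dvd_pow (hy ▸ Nat.card_zpowers y ▸ orderOf_dvd_natCard _ hw))
  have hpow : (y ^ q ^ j) ^ q = 1 := by rw [← pow_mul, ← pow_succ, ← hy, pow_orderOf_eq_one]
  have hmem : y ^ q ^ j ∈ zpowers w := TauTwo.mem_zpowers_of_cyclic (inferInstance : IsCyclic (zpowers y))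
    hw (pow_mem (mem_zpowers y) _) hwo hpow
  refine eq_bot_iff.mpr (le_trans (inf_le_inf_left _ ?_) hfix.le)
  rw [← centralizer_zpowers w, ← centralizer_zpowers (y ^ q ^ j)]
  exact Subgroup.centralizer_le (zpowers_le.mpr hmem)

/-- In the Sylow subgroup of `U` some element of largest order acts regularly. -/
theorem P2.exists_good (P : P2 M K U S u) (hd : q ∣ Nat.card U) {j : ℕ}
    (hj : q ^ (j + 1) ∣ Monoid.exponent U) : ∃ y ∈ U, orderOf y = q ^ (j + 1) ∧ GoodElem M y := by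
  let R : Sylow q U := default
  set R' := (R : Subgroup U).map U.subtype with hR'
  have hUc := P.data.hUc
  have hR'U : R' ≤ U := map_subtype_le _
  have hR1 : R' ≠ ⊥ := by
    rw [Ne, hR', map_eq_bot_iff_of_injective _ U.subtype_injective]
    exact R.ne_bot_of_dvd_card hd
  obtain ⟨J, hexp, x₀, hx₀, hx₀1⟩ := RegularPart.exists_exponent (R.isPGroup'.map U.subtype) hR1
  have hJ : j ≤ J := by
    have h1 : Monoid.exponent U ∣ q ^ (J + 1) * (R : Subgroup U).index := by
      refine Monoid.exponent_dvd_iff_forall_pow_eq_one.mpr fun g => ?_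
      have : (R : Subgroup U).Normal := ⟨fun a ha b => by rwa [hUc.is_comm.comm b a, mul_inv_cancel_right]⟩
      rw [mul_comm, pow_mul]
      exact Subtype.ext (by
        simpa using hexp _ ⟨_, Subgroup.pow_index_mem (R : Subgroup U) g, rfl⟩)
    have h2 := (Nat.Coprime.pow_left (j + 1) (hq.out.coprime_iff_not_dvd.mpr R.not_dvd_index)).dvd_of_dvd_mul_right
      (hj.trans h1)
    have := (Nat.pow_dvd_pow_iff_le_right hq.out.one_lt).mp h2
    omega
  suffices h : ∃ x ∈ R', x ^ q ^ J ≠ 1 ∧ sigmaCore M ⊓ centralizer ({x ^ q ^ J} : Set G) = ⊥ by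
    obtain ⟨x, hx, hx1, hfix⟩ := h
    have hxo : orderOf x = q ^ (J + 1) :=
      orderOf_eq_prime_pow hx1 (hexp x hx)
    have ho : orderOf (x ^ q ^ (J - j)) = q ^ (j + 1) := by
      rw [orderOf_pow' _ (pow_ne_zero _ hq.out.ne_zero), hxo,
        Nat.gcd_eq_right (pow_dvd_pow q (by omega)), Nat.pow_div (by omega) hq.out.pos]
      congr 1
      omega
    refine ⟨x ^ q ^ (J - j), pow_mem (hR'U hx) _, ho, goodElem_of_pow (q := q) ho ?_⟩
    rwa [← pow_mul, ← pow_add, Nat.sub_add_cancel hJ]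
  by_contra hcon
  push Not at hcon
  have hirr := hcon
  set w := x₀ ^ q ^ J with hw
  obtain ⟨y, hy, hy1⟩ := (bot_or_exists_ne_one _).resolve_left (hirr x₀ hx₀ hx₀1)
  have hwU : w ∈ U := pow_mem (hR'U hx₀) _
  have hwo : orderOf w = q := orderOf_eq_prime (by rw [hw, ← pow_mul, ← pow_succ]; exact hexp x₀ hx₀) hx₀1
  obtain ⟨hτ, hCM, huniq⟩ := of_fixed P.hG P.h.hM P.hKU hwU hx₀1 (mem_inf.mp hy).1 hy1
    (mem_centralizer_singleton_iff.mp (mem_inf.mp hy).2).symm
  have hqτ := hτ q hq.out (hwo ▸ dvd_rfl)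
  have hE := KappaDecomp.isCompl P.hKU
  obtain ⟨A, hAE, h⟩ := SigmaCompl.exists_ctx P.hG P.h.hM hE hqτ
  have hmemA : ∀ x ∈ R', x ^ q ^ J ∈ A := fun x hx => h.mem_of_pow hE hAE
    (mem_sup_left (pow_mem (hR'U hx) _)) (by rw [← pow_mul, ← pow_succ]; exact hexp x hx)
  by_cases hall : ∀ x ∈ R', x ^ q ^ J ∈ zpowers w
  · have hN : normalizer (R' : Set G) ≤ normalizer (zpowers w : Set G) := fun n hn =>
      RegularPart.conj_zpow_mem (by
        have := hall _ ((mem_normalizer_iff.mp hn x₀).mp hx₀)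
        rwa [conj_pow] at this)
    obtain ⟨L, hL, hLN⟩ := PrimeAction.exists_normalizer_le P.hG
      (fun e : zpowers w = ⊥ => hx₀1 (zpowers_eq_bot.mp e))
      (zpowers_le.mpr (P.hKU.compl.1 hwU)) P.h.hM
    obtain rfl := huniq L hL (le_trans (le_trans (centralizer_zpowers w).ge
      (centralizer_le_normalizer _)) hLN)
    exact (P.over hd hL (hN.trans hLN)).1 1 (by
      rw [Cfsg.Agent.Transfer.Fusion.map_conj_one])
  push Not at hall
  obtain ⟨x₁, hx₁, hx₁w⟩ := hall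
  have hwA : w ∈ A := hmemA x₀ hx₀
  obtain ⟨-, -, -, -, -, A₁, hA₁A, hA₁c, hA₁f⟩ :=
    S1417.result P.hG M P.h.hM q hqτ A ⟨h.hAM, h.hA.el, h.hA.card⟩
  obtain ⟨a, ha, ha1⟩ := (bot_or_exists_ne_one A₁).resolve_left fun e => by
    rw [e, card_bot] at hA₁c
    exact hq.out.ne_one hA₁c.symm
  have hA₁ : zpowers a = A₁ := eq_of_le_of_card_ge (zpowers_le.mpr ha)
    (by rw [hA₁c, h.hA.card_zpowers (hA₁A ha) ha1])
  have ha' := hA₁A ha
  rw [← h.hA.sup_zpowers (zpowers_le.mpr hwA) (h.hA.card_zpowers hwA hx₀1) (hmemA x₁ hx₁) hx₁w] at ha'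
  have hn : zpowers (x₁ ^ q ^ J) ≤ normalizer (zpowers w : Set G) :=
    ((zpowers_le.mpr (hmemA x₁ hx₁)).trans (h.hA.le_centralizer.trans
      (Subgroup.centralizer_le (zpowers_le.mpr hwA)))).trans (centralizer_le_normalizer _)
  obtain ⟨s, hs, v, hv, rfl⟩ := (Coprime.mem_sup_of_le_normalizer hn).mp ha'
  obtain ⟨i, rfl⟩ := mem_zpowers_iff.mp hs
  obtain ⟨k, rfl⟩ := mem_zpowers_iff.mp hv
  have hcomm : Commute x₀ x₁ :=
    congrArg (Subtype.val : U → G) (hUc.is_comm.comm ⟨x₀, hR'U hx₀⟩ ⟨x₁, hR'U hx₁⟩)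
  have hpow : (x₀ ^ i * x₁ ^ k) ^ q ^ J = w ^ i * (x₁ ^ q ^ J) ^ k := by
    rw [(hcomm.zpow_zpow i k).mul_pow, hw, ← zpow_natCast (x₀ ^ i), ← zpow_mul, mul_comm i, zpow_mul,
      zpow_natCast, ← zpow_natCast (x₁ ^ k), ← zpow_mul, mul_comm k, zpow_mul, zpow_natCast]
  refine hirr _ (mul_mem (zpow_mem hx₀ i) (zpow_mem hx₁ k)) (hpow ▸ ha1) ?_
  rw [hpow, ← centralizer_zpowers, hA₁]
  exact hA₁f

/-- A regular cyclic subgroup of full exponent. -/
theorem P2.exists_exponent_cyclic (P : P2 M K U S u) :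
    ∃ z ∈ U, orderOf z = Monoid.exponent U ∧ GoodElem M z := by
  suffices h : ∀ n : ℕ, n ∣ Monoid.exponent U → ∃ z ∈ U, orderOf z = n ∧ GoodElem M z from h _ dvd_rfl
  intro n
  induction n using Nat.recOnPosPrimePosCoprime with
  | zero => exact fun h => absurd (zero_dvd_iff.mp h) Monoid.ExponentExists.of_finite.exponent_ne_zero
  | one =>
    exact fun _ => ⟨1, one_mem _, orderOf_one, fun w hw hp => absurd
      (by rw [zpowers_one_eq_bot, mem_bot] at hw; rw [hw, orderOf_one]) hp.ne_one⟩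
  | prime_pow p k hp hk =>
    intro h
    have := Fact.mk hp
    obtain ⟨j, rfl⟩ := Nat.exists_eq_add_one.mpr hk
    exact P.exists_good (((dvd_pow_self p j.succ_ne_zero).trans h).trans Group.exponent_dvd_nat_card) h
  | coprime a b ha hb hab iha ihb =>
    intro h
    obtain ⟨x, hx, hxo, hxg⟩ := iha (dvd_trans (dvd_mul_right a b) h)
    obtain ⟨y, hy, hyo, hyg⟩ := ihb (dvd_trans (dvd_mul_left b a) h)
    have hcomm : Commute x y :=
      congrArg (Subtype.val : U → G) (P.data.hUc.is_comm.comm ⟨x, hx⟩ ⟨y, hy⟩)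
    exact ⟨x * y, mul_mem hx hy, by
      rw [hcomm.orderOf_mul_eq_mul_orderOf_of_coprime (by rwa [hxo, hyo]), hxo, hyo],
      hxg.mul hyg hcomm (by rwa [hxo, hyo])⟩

end Cfsg.Agent.OddLocal.PType
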