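import Cfsg.Agent.OddLocal.TypeData
import Cfsg.Agent.OddLocal.FittingTI
import Cfsg.Agent.S1372
import Cfsg.Agent.S1360

/-! The types of the maximal subgroups in terms of the standard factorisation (BG 16.1). -/

set_option autoImplicit false
set_option linter.unusedSectionVars false

namespace Cfsg.Agent.OddLocal.Types

open Cfsg Subgroup SigmaParts
open Cfsg.Agent.Transfer.Fusion (map_conj_eq_self_iff card_map_conj)

variable {G : Type*} [Group G] [Finite G] {M K U V : Subgroup G}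

instance fittingHall_characteristic {X : Type*} [Group X] [Finite X] : (fittingHall X).Characteristic := by
  refine characteristic_iff_map_le.mpr fun φ => map_le_iff_le_comap.mpr (sSup_le fun N hN => ?_)
  obtain ⟨hn, hnil, hc⟩ := hN
  refine map_le_iff_le_comap.mp (le_sSup ⟨hn.map _ φ.surjective, Cores.isNilpotent_map _ _ hnil, ?_⟩)
  rw [card_map_of_injective φ.injective, index_map_of_bijective φ.bijective]
  exact hc

/-- A Sylow subgroup of a Hall subgroup at a prime of `σ(M)` has its normaliser in `M`. -/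
theorem normalizer_sylow_le (hG : IsMinSimpleOddOrder G) (hM : IsCoatom M) {p : ℕ} [hp : Fact p.Prime]
    {V : Subgroup G} (hV : V ≤ sigmaCore M) (hd : p ∣ Nat.card V)
    (hVi : ¬ p ∣ V.relIndex (sigmaCore M)) (P : Sylow p V) :
    normalizer (((P : Subgroup V).map V.subtype : Subgroup G) : Set G) ≤ M := by
  have hσ : p ∈ sigma M :=
    Transitivity.isPi_piCoreOf (sigma M) M p hp.out (hd.trans (card_dvd_of_le hV))
  obtain ⟨S, hS⟩ := (P.isPGroup'.map V.subtype).exists_le_sylow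
  have hPV : (P : Subgroup V).map V.subtype ≤ V := map_subtype_le _
  have hi : ¬ p ∣ ((P : Subgroup V).map V.subtype).index := by
    rw [← relIndex_mul_index (hPV.trans hV), ← relIndex_mul_relIndex _ _ _ hPV hV, relIndex, subgroupOf,
      comap_map_eq_self_of_injective V.subtype_injective]
    intro h
    rcases hp.out.dvd_mul.mp h with h1 | h1
    · rcases hp.out.dvd_mul.mp h1 with h2 | h2
      · exact P.not_dvd_index h2
      · exact hVi h2
    · exact (Sigma.sigmaCore_hall hG hM).2.2 p hp.out hσ h1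
  have heq : (P : Subgroup V).map V.subtype = (S : Subgroup G) := by
    refine le_antisymm hS (relIndex_eq_one.mp ?_)
    by_contra h1
    obtain ⟨r, hr, hrd⟩ := Nat.exists_prime_and_dvd h1
    have h2 := (Cores.isPi_iff_isPGroup (S : Subgroup G)).mpr S.isPGroup' r hr
      (hrd.trans (index_dvd_card _ |>.trans (Nat.card_congr (Equiv.refl _)).dvd))
    rw [h2] at hrd
    exact hi (hrd.trans (relIndex_dvd_index_of_le hS))
  rw [heq]
  exact Sigma.sylow_normalizer_le hσ S (heq ▸ hPV.trans (hV.trans (Sigma.sigmaCore_le M)))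

theorem sigmaCore_eq_of_U_ne (hG : IsMinSimpleOddOrder G) (hM : IsCoatom M)
    (hKU : IsSigmaDecomposition M K U) (hU1 : U ≠ ⊥) :
    sigmaCore M = fittingHallOf M ∧ Group.IsNilpotent (sigmaCore M) := by
  by_cases hn : Group.IsNilpotent (sigmaCore M)
  · exact ⟨sigmaCore_eq_fittingHallOf hG hM hn, hn⟩
  · exact absurd (NonNilpotent.U_eq_bot hG hM hKU hn) hU1

/-- A complement of a nilpotent `M_σ` in `M'` is conjugate to `U`. -/
theorem conj_U (hG : IsMinSimpleOddOrder G) (hM : IsCoatom M)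
    (hKU : IsSigmaDecomposition M K U) (hK1 : K ≠ ⊥) (hn : Group.IsNilpotent (sigmaCore M))
    (hV : IsComplIn (fittingHallOf M) V ⁅M, M⁆) :
    ∃ m ∈ M, V = U.map (MulAut.conj m).toMonoidHom := by
  rw [← sigmaCore_eq_fittingHallOf hG hM hn, PType.commutator_eq hG hM hKU hK1] at hV
  have hsol : Group.IsSolvable ↥(U ⊔ sigmaCore M) := Transitivity.isSolvable_of_ne_top hG fun e =>
    hM.1 (top_le_iff.mp (e ▸ KappaDecomp.sup_le' hKU))
  have hc : Nat.card ↥(U ⊔ sigmaCore M) = Nat.card (sigmaCore M) * Nat.card V :=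
    Basics.card_eq_of_isCompl' hV.1 hV.2.1 hV.2.2.1 hV.2.2.2
  have hc' : Nat.card ↥(U ⊔ sigmaCore M) = Nat.card (sigmaCore M) * Nat.card U := by
    rw [sup_comm]
    exact Coprime.card_sup_of_disjoint (hKU.compl.1.trans (Sigma.le_normalizer_sigmaCore M))
      (disjoint_iff.mpr (by
        rw [inf_comm]
        exact le_bot_iff.mp (le_trans (inf_le_inf_left U le_sup_right) hKU.compl.2.2.1.le)))
  have hVU : Nat.card V = Nat.card U := Nat.eq_of_mul_eq_mul_left Nat.card_pos (hc.symm.trans hc')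
  obtain ⟨m, hm, hle⟩ := PType.exists_conj_le_hall_solvable hsol (PType.hall_U hG hM hKU) hV.2.1
    fun p hp hd => KappaDecomp.not_sigma_of_dvd hG hM hKU hp (hVU ▸ hd)
  exact ⟨m, KappaDecomp.sup_le' hKU hm, eq_of_le_of_card_ge hle (by rw [card_map_conj, hVU])⟩

theorem bot_of_compl_self {H : Subgroup G} (hV : IsComplIn H V H) : V = ⊥ :=
  le_bot_iff.mp (hV.2.2.1 ▸ le_inf hV.2.1 le_rfl)

/-- A maximal subgroup of type P has `K ≠ 1`. -/
theorem K_ne_bot_of_typeP (hG : IsMinSimpleOddOrder G) (hM : IsCoatom M)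
    (hKU : IsSigmaDecomposition M K U) {W₁ V W₂ : Subgroup G} (hP : IsTypePWith M W₁ V W₂) : K ≠ ⊥ := by
  intro hK
  obtain ⟨k, hk, hk1⟩ := (bot_or_exists_ne_one W₁).resolve_left hP.W₁_ne
  obtain ⟨n, hn⟩ := KappaStructure.exists_prime_power hk1
  set a := k ^ n
  have haW : a ∈ W₁ := pow_mem hk n
  have ha1 : a ≠ 1 := fun e => hn.ne_one (by rw [e, orderOf_one])
  set r := orderOf a
  have := Fact.mk hn
  have hrW : r ∣ Nat.card W₁ := orderOf_dvd_natCard W₁ haW
  have hW1M : W₁ ≤ M := hP.W₁_compl.2.1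
  have hrσ : r ∉ sigma M := fun hσ => ha1 (mem_bot.mp (hP.W₁_compl.2.2.1 ▸ mem_inf.mpr
    ⟨Sigma.sigmaCore_le_commutator hG hM (mem_core_of_piEl hG hM (hW1M haW) fun p hp hpd =>
      (Nat.prime_dvd_prime_iff_eq hp hn).mp hpd ▸ hσ), haW⟩))
  obtain ⟨y, hy, hy1⟩ := (bot_or_exists_ne_one W₂).resolve_left hP.selfNormalizing.2.1
  have hyσ : y ∈ sigmaCore M := fittingHallOf_le_sigmaCore hG hM (mem_inf.mp (hP.W₂_le hy)).1
  have hay : a * y = y * a := hP.selfNormalizing.2.2.2.1 a haW y hy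
  have hhall : IsPiHallOf {p | p ∣ Nat.card W₁} W₁ M := ⟨hW1M, fun p _ hd => hd,
    fun p hp hd hd' => hp.ne_one (Nat.eq_one_of_dvd_coprimes hP.W₁_hall hd hd')⟩
  have hr1 : PRankLE r 1 M := fun A hAc hAe => by
    have hAp : IsPGroup r A := fun z => ⟨1, Subtype.ext (by simpa using hAe z z.2)⟩
    obtain ⟨m, -, hle⟩ := PType.exists_conj_le_hall_solvable (Transitivity.isSolvable_of_ne_top hG hM.1)
      hhall (map_subtype_le A) fun p hp hd => by
        rw [card_map_of_injective M.subtype_injective] at hd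
        rw [PType.eq_of_dvd_pow_card hp hAp hd]
        exact hrW
    have := hP.W₁_cyclic
    have hcW : IsCyclic (W₁.map (MulAut.conj m).toMonoidHom) := isCyclic_of_surjective _
      (W₁.equivMapOfInjective (MulAut.conj m).toMonoidHom (MulAut.conj m).injective).surjective
    have hcA : IsCyclic (A.map M.subtype) := Subgroup.isCyclic_of_le hle
    obtain ⟨g, hg⟩ := hcA.exists_ofOrder_eq_natCard
    rw [card_map_of_injective M.subtype_injective] at hg
    rw [pow_one, ← hg]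
    refine Nat.le_of_dvd hn.pos (orderOf_dvd_of_pow_eq_one (Subtype.ext ?_))
    obtain ⟨z, hz, hze⟩ := g.2
    rw [SubgroupClass.coe_pow, ← hze, ← map_pow, hAe z hz]
    rfl
  have hκ := KappaStructure.mem_kappa hG (hW1M haW) rfl hrσ hr1 hyσ hy1 hay
  exact hKU.hall.2.2 r hn hκ (by rw [hK, relIndex_bot_left]; exact hκ.2.1)

/-- A maximal subgroup of type I has `K = 1` and `U ≠ 1`. -/
theorem of_typeI (hG : IsMinSimpleOddOrder G) (hM : IsCoatom M) (hKU : IsSigmaDecomposition M K U)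
    (h : IsOfTypeI M) : K = ⊥ ∧ U ≠ ⊥ := by
  have hK : K = ⊥ := by
    by_contra hK1
    obtain ⟨⟨-, -, -, -, UF, -, hc, -, U₀, hU₀, hexp, hfpf⟩, -⟩ := h
    obtain ⟨k, hk, hk1⟩ := (bot_or_exists_ne_one K).resolve_left hK1
    obtain ⟨n, hn⟩ := KappaStructure.exists_prime_power hk1
    set r := orderOf (k ^ n)
    have := Fact.mk hn
    have hκ : r ∈ kappa M := hKU.hall.2.1 r hn (orderOf_dvd_natCard K (pow_mem hk n))
    have hrU : r ∣ Nat.card UF := by
      have h1 : r ∣ Nat.card (fittingHall ↥M) * Nat.card UF := hc.card_mul.symm ▸ hκ.2.1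
      refine (hn.dvd_mul.mp h1).resolve_left fun hd => hκ.2.2.1 ?_
      refine Transitivity.isPi_piCoreOf (sigma M) M r hn (hd.trans ?_)
      rw [← card_map_of_injective M.subtype_injective]
      exact card_dvd_of_le (fittingHallOf_le_sigmaCore hG hM)
    have hr0 : r ∣ Nat.card U₀ := by
      obtain ⟨⟨z, hz⟩, hzo⟩ := exists_prime_orderOf_dvd_card' r hrU
      have h1 : r ∣ Monoid.exponent U₀ := by
        rw [hexp, ← hzo]; exact Monoid.order_dvd_exponent _
      exact h1.trans Group.exponent_dvd_nat_card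
    obtain ⟨⟨z, hz⟩, hzo⟩ := exists_prime_orderOf_dvd_card' r hr0
    rw [orderOf_mk, ← orderOf_coe] at hzo
    obtain ⟨m, hm, hle⟩ := PType.exists_conj_le_hall hG hM hKU.hall (zpowers_le.mpr z.2) fun p hp hd => by
      rw [Nat.card_zpowers, hzo] at hd
      exact (Nat.prime_dvd_prime_iff_eq hp hn).mp hd ▸ hκ
    obtain ⟨-, hKs1, hKsH, -⟩ := S1364.result hG M hM K U hKU hK1
    obtain ⟨y, hy, hy1⟩ := (bot_or_exists_ne_one _).resolve_left hKs1
    obtain ⟨k', hk', hzk⟩ := hle (mem_zpowers (z : G))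
    have hzk' : (z : G) = m * k' * m⁻¹ := hzk.symm
    have hk'y : k' * y = y * k' := mem_centralizer_iff.mp (mem_inf.mp hy).2 k' hk'
    have hy' : m * y * m⁻¹ ∈ fittingHallOf M :=
      (mem_normalizer_iff.mp (FittingStructure.le_normalizer_fittingHallOf M hm) y).mp (hKsH hy)
    have hy'M := FittingStructure.fittingHallOf_le M hy'
    have hne : (⟨m * y * m⁻¹, hy'M⟩ : M) ≠ 1 := fun e =>
      hy1 (conj_eq_one_iff.mp (congrArg Subtype.val e))
    have hz1 : z ≠ 1 := fun e => hn.ne_one (by rw [← hzo, e, OneMemClass.coe_one, orderOf_one])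
    refine hne (hfpf z hz hz1 _
      (FittingStructure.mem_fittingHall (x := ⟨m * y * m⁻¹, hy'M⟩) hy') (Subtype.ext ?_))
    show (z : G) * (m * y * m⁻¹) = m * y * m⁻¹ * z
    rw [hzk']
    calc m * k' * m⁻¹ * (m * y * m⁻¹) = m * (k' * y) * m⁻¹ := by group
      _ = m * (y * k') * m⁻¹ := by rw [hk'y]
      _ = m * y * m⁻¹ * (m * k' * m⁻¹) := by group
  refine ⟨hK, fun hU => ?_⟩
  have hE := KappaDecomp.isCompl hKU
  rw [hU, hK, sup_bot_eq] at hE
  have hMσ : M ≤ sigmaCore M := fun m hm => by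
    obtain ⟨a, ha, b, hb, rfl⟩ := hE.2.2.2 m hm
    rwa [mem_bot.mp ha, one_mul]
  exact (Cfsg.Agent.Coprime.commutator_lt_of_isSolvable (Transitivity.isSolvable_of_ne_top hG hM.1)
    (fun e => Sigma.sigmaCore_ne_bot hG hM (le_bot_iff.mp (e ▸ Sigma.sigmaCore_le M)))).not_ge
      (hMσ.trans (Sigma.sigmaCore_le_commutator hG hM))

/-- The normaliser of a complement of `M_F` inside `M_σ` lies in `M`. -/
theorem normalizer_compl_le (hG : IsMinSimpleOddOrder G) (hM : IsCoatom M) (hV1 : V ≠ ⊥)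
    (hVn : Group.IsNilpotent V) (hV : IsComplIn (fittingHallOf M) V (sigmaCore M)) :
    normalizer (V : Set G) ≤ M := by
  obtain ⟨p, hp, hd⟩ := Nat.exists_prime_and_dvd (fun e : Nat.card V = 1 => hV1 (card_eq_one.mp e))
  have := Fact.mk hp
  obtain ⟨P⟩ : Nonempty (Sylow p V) := inferInstance
  have hPn : (P : Subgroup V).Normal :=
    (Group.isNilpotent_of_finite_tfae.out 0 3 rfl rfl).1 hVn p inferInstance P
  have : (P : Subgroup V).Characteristic := P.characteristic_of_normal hPn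
  refine (Coprime.OmegaDetect.normalizer_le_normalizer_char V (P : Subgroup V)).trans
    (normalizer_sylow_le hG hM hV.2.1 hd ?_ P)
  have h1 : Nat.card V * V.relIndex (sigmaCore M) = Nat.card (sigmaCore M) := by
    rw [← Nat.card_congr (subgroupOfEquivOfLe hV.2.1).toEquiv]
    exact card_mul_index (V.subgroupOf (sigmaCore M))
  have h2 : Nat.card (sigmaCore M) = Nat.card (fittingHallOf M) * Nat.card V :=
    Basics.card_eq_of_isCompl' hV.1 hV.2.1 hV.2.2.1 hV.2.2.2
  have h3 : V.relIndex (sigmaCore M) = Nat.card (fittingHallOf M) :=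
    Nat.eq_of_mul_eq_mul_left Nat.card_pos (h1.trans (h2.trans (mul_comm _ _)))
  rw [h3]
  intro hpH
  have h4 : p ∣ (fittingHallOf M).relIndex (sigmaCore M) := by
    have h5 : Nat.card (fittingHallOf M) * (fittingHallOf M).relIndex (sigmaCore M) =
        Nat.card (sigmaCore M) := by
      rw [← Nat.card_congr (subgroupOfEquivOfLe hV.1).toEquiv]
      exact card_mul_index ((fittingHallOf M).subgroupOf (sigmaCore M))
    rw [Nat.eq_of_mul_eq_mul_left Nat.card_pos (h5.trans h2)]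
    exact hd
  refine hp.ne_one (Nat.eq_one_of_dvd_coprimes (FittingStructure.fittingHallOf_hall M) hpH (h4.trans ?_))
  rw [← relIndex_mul_relIndex _ _ M hV.1 (Sigma.sigmaCore_le M)]
  exact dvd_mul_right _ _

theorem of_typeII (hG : IsMinSimpleOddOrder G) (hM : IsCoatom M) (hKU : IsSigmaDecomposition M K U)
    (h : IsOfTypeII M) : K ≠ ⊥ ∧ U ≠ ⊥ := by
  obtain ⟨W₁, V, W₂, hP, hV1, -, -, -, hN, -, -⟩ := h
  have hK1 := K_ne_bot_of_typeP hG hM hKU hP
  refine ⟨hK1, fun hU => hN ?_⟩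
  have hV := hP.U_compl
  rw [PType.commutator_eq hG hM hKU hK1, hU, bot_sup_eq] at hV
  exact normalizer_compl_le hG hM hV1 hP.U_nilpotent hV

theorem of_typeIII_or_IV (hG : IsMinSimpleOddOrder G) (hM : IsCoatom M)
    (hKU : IsSigmaDecomposition M K U) (h : IsOfTypeIII M ∨ IsOfTypeIV M) :
    K ≠ ⊥ ∧ U = ⊥ ∧ fittingHallOf M ≠ sigmaCore M := by
  obtain ⟨W₁, V, W₂, hP, hV1, hN⟩ :
      ∃ W₁ V W₂ : Subgroup G, IsTypePWith M W₁ V W₂ ∧ V ≠ ⊥ ∧ normalizer (V : Set G) ≤ M := by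
    rcases h with ⟨a, b, c, h1, h2, -, -, -, h3⟩ | ⟨a, b, c, h1, h2, -, -, -, h3⟩ <;>
      exact ⟨a, b, c, h1, h2, h3⟩
  have hK1 := K_ne_bot_of_typeP hG hM hKU hP
  have hV := hP.U_compl
  have hU : U = ⊥ := by
    by_contra hU1
    obtain ⟨-, hn⟩ := sigmaCore_eq_of_U_ne hG hM hKU hU1
    obtain ⟨m, hm, rfl⟩ := conj_U hG hM hKU hK1 hn hV
    rw [PrimeAction.normalizer_map] at hN
    refine (S1363.result hG M hM K U hKU hK1).2 ?_
    rwa [← map_conj_eq_self_iff.mpr (le_normalizer hm : m ∈ normalizer (M : Set G)),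
      map_le_map_iff_of_injective (MulAut.conj m).injective] at hN
  refine ⟨hK1, hU, fun e => hV1 ?_⟩
  rw [PType.commutator_eq hG hM hKU hK1, hU, bot_sup_eq, e] at hV
  exact bot_of_compl_self hV

theorem of_typeV (hG : IsMinSimpleOddOrder G) (hM : IsCoatom M) (hKU : IsSigmaDecomposition M K U)
    (h : IsOfTypeV M) : K ≠ ⊥ ∧ U = ⊥ ∧ fittingHallOf M = sigmaCore M := by
  obtain ⟨W₁, V, W₂, hP, rfl, -⟩ := h
  have hK1 := K_ne_bot_of_typeP hG hM hKU hP
  obtain ⟨-, -, -, hsplit⟩ := hP.U_compl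
  have hle : U ⊔ sigmaCore M ≤ fittingHallOf M := fun m hm => by
    obtain ⟨a, ha, b, hb, rfl⟩ := hsplit m (PType.commutator_eq hG hM hKU hK1 ▸ hm)
    rwa [mem_bot.mp hb, mul_one]
  have hle' := fittingHallOf_le_sigmaCore hG hM
  refine ⟨hK1, le_bot_iff.mp ?_, le_antisymm hle' (le_sup_right.trans hle)⟩
  calc U ≤ U ⊓ (K ⊔ sigmaCore M) :=
        le_inf le_rfl ((le_sup_left.trans hle).trans (hle'.trans le_sup_right))
    _ = ⊥ := hKU.compl.2.2.1

theorem typeII (hG : IsMinSimpleOddOrder G) (hM : IsCoatom M) (hKU : IsSigmaDecomposition M K U)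
    (hK1 : K ≠ ⊥) (hU1 : U ≠ ⊥) : IsOfTypeII M := by
  obtain ⟨hHσ, hn⟩ := sigmaCore_eq_of_U_ne hG hM hKU hU1
  obtain ⟨hKp, hTI, -⟩ := S1372.result hG M hM K U hKU hK1 hU1
  obtain ⟨hUc, hUN⟩ := S1363.result hG M hM K U hKU hK1
  have hV := compl_of_nilpotent hG hM hKU hK1 hn
  have hUnil : Group.IsNilpotent U := @CommGroup.isNilpotent U
    { (inferInstance : Group U) with mul_comm := fun a b => hUc.is_comm.comm a b }
  refine ⟨K, U, _, typePWith_of hG hM hKU hK1 hUnil hKU.normal hV, hU1, hKp, hTI, hUc, hUN, ?_⟩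
  set M' := ⁅M, M⁆ with hM'def
  have hM'M : M' ≤ M := commutator_le_self M
  have hM'n : M ≤ normalizer (M' : Set G) := Coprime.le_normalizer_commutator_self le_normalizer
  have hHM' : fittingHallOf M ≤ M' := hV.1
  have hHMn : M' ≤ normalizer (fittingHallOf M : Set G) :=
    hM'M.trans (FittingStructure.le_normalizer_fittingHallOf M)
  have hF : fittingHallOf M' = fittingHallOf M := by
    refine le_antisymm (Basics.le_fittingHallOf ((Basics.fittingHallOf_le M').trans hM'M) ?_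
      (NonNilpotent.isNilpotent_fittingHallOf M') ?_) (Basics.le_fittingHallOf hHM' hHMn
      (NonNilpotent.isNilpotent_fittingHallOf M) ?_)
    · exact hM'n.trans (Coprime.OmegaDetect.normalizer_le_normalizer_char M' (fittingHall ↥M'))
    · refine Nat.coprime_of_dvd fun p hp h1 h2 => ?_
      rw [← relIndex_mul_relIndex _ _ M (Basics.fittingHallOf_le M') hM'M] at h2
      rcases hp.dvd_mul.mp h2 with h3 | h3
      · exact hp.ne_one (Nat.eq_one_of_dvd_coprimes (Basics.fittingHallOf_coprime M') h1 h3)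
      · have hc := compl_commutator hG hM hKU hK1
        have h4 : Nat.card M' * M'.relIndex M = Nat.card M := by
          rw [← Nat.card_congr (subgroupOfEquivOfLe hM'M).toEquiv]
          exact card_mul_index (M'.subgroupOf M)
        have h5 : M'.relIndex M = Nat.card K := Nat.eq_of_mul_eq_mul_left Nat.card_pos
          (h4.trans (Basics.card_eq_of_isCompl' hc.1 hc.2.1 hc.2.2.1 hc.2.2.2))
        have h6 : Nat.card K * K.relIndex M = Nat.card M := by
          rw [← Nat.card_congr (subgroupOfEquivOfLe hKU.hall.1).toEquiv]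
          exact card_mul_index (K.subgroupOf M)
        have h7 : K.relIndex M = Nat.card M' := Nat.eq_of_mul_eq_mul_left Nat.card_pos
          (h6.trans ((Basics.card_eq_of_isCompl' hc.1 hc.2.1 hc.2.2.1 hc.2.2.2).trans (mul_comm _ _)))
        rw [h5] at h3
        exact hp.ne_one (Nat.eq_one_of_dvd_coprimes (hall_coprime hKU) h3
          (h7 ▸ h1.trans (card_dvd_of_le (Basics.fittingHallOf_le M'))))
    · refine (FittingStructure.fittingHallOf_hall M).coprime_dvd_right ?_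
      rw [← relIndex_mul_relIndex _ _ M hHM' hM'M]
      exact dvd_mul_right _ _
  refine ⟨?_, hF⟩
  have hFmem : ∀ x : M', x ∈ fittingHall ↥M' ↔ (x : G) ∈ fittingHallOf M := fun x => by
    rw [← hF]
    exact (mem_map_iff_mem M'.subtype_injective).symm
  have hUM' : U ≤ M' := hV.2.1
  refine ⟨Transitivity.isSolvable_of_ne_top hG fun e => hM.1 (top_le_iff.mp (e ▸ hM'M)),
    hG.1.of_dvd_nat (card_subgroup_dvd_card M'), ?_, ?_, U.subgroupOf M', ?_, ?_, ?_, ?_⟩
  · intro e
    refine Fcore.fittingHallOf_ne_bot hG hM (hF ▸ ?_)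
    rw [fittingHallOf, e, Subgroup.map_bot]
  · intro e
    refine hU1 (le_bot_iff.mp (hV.2.2.1 ▸ le_inf (fun v hv => ?_) le_rfl))
    exact (hFmem ⟨v, hUM' hv⟩).mp (e ▸ mem_top _)
  · intro e
    refine hU1 (eq_bot_iff.mpr fun v hv => ?_)
    have h1 : (⟨v, hUM' hv⟩ : M') ∈ U.subgroupOf M' := hv
    rw [e, mem_bot] at h1
    exact mem_bot.mpr (congrArg Subtype.val h1)
  · refine isComplement'_of_disjoint_and_mul_eq_univ (disjoint_iff.mpr (eq_bot_iff.mpr fun z hz => ?_)) ?_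
    · obtain ⟨h1, h2⟩ := mem_inf.mp hz
      exact mem_bot.mpr (Subtype.ext (mem_bot.mp (hV.2.2.1.le ⟨(hFmem z).mp h1, h2⟩)))
    · refine Set.eq_univ_of_forall fun z => ?_
      obtain ⟨a, ha, b, hb, hab⟩ := hV.2.2.2 z z.2
      exact ⟨⟨a, hHM' ha⟩, (hFmem _).mpr ha, ⟨b, hUM' hb⟩, hb, (Subtype.ext hab).symm⟩
  · exact ⟨U.subgroupOf M', le_rfl, le_normalizer,
      ⟨⟨fun a b => Subtype.ext (Subtype.ext (congrArg Subtype.val
        (hUc.is_comm.comm ⟨_, a.2⟩ ⟨_, b.2⟩) :))⟩⟩, fun _ _ _ => inf_le_left⟩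
  · obtain ⟨U₀, hU₀, hexp, hfix⟩ := S1360.result hG M hM K U hKU
    refine ⟨U₀.subgroupOf M', fun z hz => hU₀ hz, ?_, fun v hv hv1 y hy hc => ?_⟩
    · rw [Monoid.exponent_eq_of_mulEquiv (subgroupOfEquivOfLe (hU₀.trans hUM')),
        Monoid.exponent_eq_of_mulEquiv (subgroupOfEquivOfLe hUM')]
      exact hexp
    · by_contra hy1
      refine hv1 (Subtype.ext (hfix v hv ⟨hKU.compl.1 (hU₀ hv), y, ?_, fun e => hy1 (Subtype.ext e),
        congrArg Subtype.val hc⟩))
      rw [hHσ]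
      exact (hFmem y).mp hy

theorem typeIII_or_IV (hG : IsMinSimpleOddOrder G) (hM : IsCoatom M)
    (hKU : IsSigmaDecomposition M K U) (hne : fittingHallOf M ≠ sigmaCore M) :
    IsOfTypeIII M ∨ IsOfTypeIV M := by
  have hn := NonNilpotent.not_nilpotent_of_ne hG hM hne
  have hK1 := NonNilpotent.K_ne_bot hG hM hKU hn
  obtain ⟨q, Q, d⟩ := NonNilpotent.exists_core hG hM hKU hn
  obtain ⟨V, hVn, hKV, hV1, hV⟩ := exists_compl_nonnilpotent hG hM hKU hn
  have hP := typePWith_of hG hM hKU hK1 hVn hKV hV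
  have hTI := FittingTI.isTI hG hM hKU fun x hx hxσ hxp =>
    FittingTI.not_nilpotent hG hM hKU hn hx hxσ hxp
  have hV' := hV
  rw [PType.commutator_eq hG hM hKU hK1, NonNilpotent.U_eq_bot hG hM hKU hn, bot_sup_eq] at hV'
  have hN := normalizer_compl_le hG hM hV1 hVn hV'
  by_cases hc : IsMulCommutative V
  · exact Or.inl ⟨K, V, _, hP, hV1, d.hKp, hTI, hc, hN⟩
  · exact Or.inr ⟨K, V, _, hP, hV1, d.hKp, hTI, hc, hN⟩

theorem typeCore_eq (hG : IsMinSimpleOddOrder G) (hM : IsCoatom M) : typeCore M = sigmaCore M := by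
  obtain ⟨K, U, hKU⟩ := Fcore.exists_decomp hG hM
  unfold typeCore
  split_ifs with h
  · obtain ⟨hK1, hU, -⟩ := of_typeIII_or_IV hG hM hKU h
    rw [PType.commutator_eq hG hM hKU hK1, hU, bot_sup_eq]
  · exact by_contra fun hne => h (typeIII_or_IV hG hM hKU hne)

end Cfsg.Agent.OddLocal.Types
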