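import Cfsg.Agent.OddLocal.PTypeHull
import Cfsg.Agent.OddLocal.PTypeSupport
import Cfsg.Agent.OddLocal.PTypeConseq
import Cfsg.Agent.OddLocal.PTypeU2
import Cfsg.Agent.OddLocal.NonNilpotent
import Cfsg.Agent.OddLocal.SmallNormal
import Cfsg.Agent.OddLocal.ZGroupCore
import Cfsg.Agent.S1419
import Cfsg.Agent.S1418
import Cfsg.Agent.S1408

/-! An element of `M_σ` whose centraliser lies in a maximal subgroup of type `P₂` (BG 14.12). -/

set_option autoImplicit false
set_option linter.unusedSectionVars false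

namespace Cfsg.Agent.OddLocal.PartnerFrobenius

open Cfsg Subgroup KappaStructure SigmaParts PType
open TauTwo (centralizer_zpowers)
open Cfsg.Agent.Transfer.Fusion (map_conj_eq_self_iff card_map_conj)

variable {G : Type*} [Group G] [Finite G] {M N K U S E : Subgroup G} {x u : G}

/-- The configuration. -/
structure Setting (M N K U S E : Subgroup G) (x u : G) : Prop where
  hM : IsCoatom M
  hx : x ∈ sigmaCore M
  hx1 : x ≠ 1
  sig : Signalizer.Sig M N x
  P : P2 N K U S u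
  inter : M ⊓ N = U ⊔ K
  hU : U ≤ sigmaCore M
  hκ : kappa M = ∅
  hpσ : orderOf u ∉ sigma M
  huM : u ∈ M
  hreg : sigmaCore M ⊓ centralizer ({u} : Set G) = ⊥
  hnil : Group.IsNilpotent (sigmaCore M)
  hMS : sigmaCore M ⊓ S = ⊥
  hE : IsComplIn E (sigmaCore M) M
  hES : E ≤ S
  huE : u ∈ E
  hB : ∃ B : Subgroup G, u ∈ B ∧ B ≤ E ∧ E ≤ normalizer (B : Set G) ∧ IsMulCommutative B

theorem exists_setting (hG : IsMinSimpleOddOrder G) (hM : IsCoatom M) (hx : x ∈ sigmaCore M) (hx1 : x ≠ 1)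
    (hxM : ¬ centralizer ({x} : Set G) ≤ M) (hN : IsCoatom N) (hxN : centralizer ({x} : Set G) ≤ N)
    (hκN : (kappa N).Nonempty) : ∃ (K U S E : Subgroup G) (u : G), Setting M N K U S E x u := by
  obtain ⟨N', h⟩ := Signalizer.exists_sig hG hM hx hx1 hxM
  obtain rfl := h.uniq N hN hxN
  obtain ⟨q, hq, hqd⟩ := Nat.exists_prime_and_dvd (fun e => hx1 (orderOf_eq_one_iff.mp e))
  have := Fact.mk hq
  have hqτ := h.htau q hq hqd
  have hqσ : q ∈ sigma M := mem_sigma_core hx q hq hqd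
  obtain ⟨K₀, hK₀, -⟩ := exists_hall_ge hG hN (π := kappa N) (V := ⊥) bot_le
    fun p hp hd => absurd (Nat.dvd_one.mp (by rwa [card_bot] at hd)) hp.ne_one
  obtain ⟨m, hm, hmE⟩ := Compl.exists_conj_le hG hN h.compl hK₀.1 fun p hp hd =>
    KappaDecomp.kappa_not_sigma (hK₀.2.1 p hp hd)
  have hmN := Sigma.sigmaCore_le N hm
  set K := K₀.map (MulAut.conj m).toMonoidHom with hKdef
  have hK : IsPiHallOf (kappa N) K N := by
    refine ⟨hmE.trans inf_le_right, fun p hp hd => hK₀.2.1 p hp (by rwa [hKdef, card_map_conj] at hd),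
      fun p hp hπ => ?_⟩
    have h1 := hK₀.2.2 p hp hπ
    rwa [← relIndex_map_map_of_injective _ _ (f := (MulAut.conj m).toMonoidHom) (MulAut.conj m).injective,
      (mem_iff_conj_eq hG hN).mp hmN] at h1
  have hK1 : K ≠ ⊥ := fun e => by
    obtain ⟨p, hp⟩ := hκN
    exact hK.2.2 p hp.1 hp (by rw [e, relIndex_bot_left]; exact hp.2.1)
  obtain ⟨S, hP⟩ := exists_pair hG hN hK hK1
  have hKc : IsCyclic K := by
    have := hP.cyclic
    exact Subgroup.isCyclic_of_le (le_sup_left : K ≤ K ⊔ star N K)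
  obtain ⟨U, hd⟩ := exists_data_on hG hN hK hK1 h.compl hmE
  have hsup : U ⊔ K = M ⊓ N := le_antisymm (sup_le hd.hUE hd.hKE) fun e he => by
    obtain ⟨a, ha, k, hk, rfl⟩ := hd.split e he
    exact mul_mem_sup ha hk
  have hKU : IsSigmaDecomposition N K U := by
    refine ⟨hKc, hK, ⟨hd.hUE.trans inf_le_right, sup_le hK.1 (Sigma.sigmaCore_le N), ?_, fun n hn => ?_⟩,
      hd.hKE.trans hd.hUn⟩
    · rw [eq_bot_iff]
      intro z hz
      obtain ⟨hzU, hzs⟩ := mem_inf.mp hz
      rw [sup_comm] at hzs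
      obtain ⟨s, hs, k, hk, rfl⟩ :=
        KappaDecomp.exists_mul_sup (hK.1.trans (Sigma.le_normalizer_sigmaCore N)) hzs
      have hsE : s ∈ (M ⊓ N) ⊓ sigmaCore N := mem_inf.mpr ⟨by
        have := mul_mem (hd.hUE hzU) (inv_mem (hd.hKE hk))
        rwa [mul_inv_cancel_right] at this, hs⟩
      rw [h.compl.2.2.1, mem_bot] at hsE
      rw [hsE, one_mul] at hzU ⊢
      exact hd.hUK.le (mem_inf.mpr ⟨hzU, hk⟩)
    · obtain ⟨e, he, s, hs, rfl⟩ := h.compl.2.2.2 n hn
      obtain ⟨a, ha, k, hk, rfl⟩ := hd.split e he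
      exact ⟨a, ha, k * s, mul_mem_sup hk hs, mul_assoc _ _ _⟩
  have hqκ : q ∉ kappa N := fun hκ => hqτ.2.2.2 (rank_of_kappa hκ)
  have hqN : q ∣ Nat.card N :=
    hqd.trans (orderOf_dvd_natCard _ (h.hC (mem_centralizer_singleton_iff.mpr rfl)))
  have hqU : q ∣ Nat.card U := KappaDecomp.dvd_of_not hKU hq hqN hqτ.2.1 hqκ
  have hU1 : U ≠ ⊥ := fun e => hq.ne_one (Nat.dvd_one.mp (by rwa [e, card_bot] at hqU))
  obtain ⟨u, P⟩ := P2.exists_gen hG hP hKU hU1
  -- a noncyclic Sylow subgroup of `U` at `q`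
  obtain ⟨B₀, hB₀N, hB₀e, hB₀c⟩ := Unique.exists_elementary_of_not_pRankLE hqτ.2.2.2
  obtain ⟨b, -, hbE⟩ := Compl.exists_conj_le hG hN h.compl hB₀N fun p hp hd =>
    (show p = q from (Cores.isPi_iff_isPGroup B₀).mpr (Components.Hyperplane.isPGroup hB₀e) p hp hd) ▸ hqτ.2.1
  set B := B₀.map (MulAut.conj b).toMonoidHom with hBdef
  have hBe : IsElementaryAbelian q B := PLocal.ThompsonSubgroup.IsElementaryAbelian.map hB₀e _
  have hBp : IsPGroup q B := Components.Hyperplane.isPGroup hBe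
  have hUn : U ⊔ K ≤ normalizer (U : Set G) := sup_le le_normalizer hKU.normal
  have hrel : U.relIndex (U ⊔ K) = Nat.card K := by
    have h1 : Nat.card U * U.relIndex (U ⊔ K) = Nat.card ↥(U ⊔ K) := by
      rw [← Nat.card_congr (subgroupOfEquivOfLe (le_sup_left : U ≤ U ⊔ K)).toEquiv]
      exact card_mul_index (U.subgroupOf (U ⊔ K))
    rw [KappaDecomp.card_compl hKU] at h1
    exact Nat.eq_of_mul_eq_mul_left Nat.card_pos h1
  have hBU : B ≤ U := fun z hz => KappaDecomp.mem_of_normal_coprime hUn le_sup_left (hsup.ge (hbE hz))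
    (by
      rw [hrel]
      exact Nat.coprime_of_dvd fun p hp h1 h2 => hqκ (by
        have := (Cores.isPi_iff_isPGroup B).mpr hBp p hp (h1.trans (orderOf_dvd_natCard _ hz))
        exact this ▸ hK.2.1 p hp h2))
  obtain ⟨R, hR⟩ := (hBp.comap_subtype (K := U)).exists_le_sylow
  have hBR : B ≤ (R : Subgroup U).map U.subtype := fun z hz => ⟨⟨z, hBU hz⟩, hR hz, rfl⟩
  have hRM : (R : Subgroup U).map U.subtype ≤ M :=
    (map_subtype_le _).trans (hd.hUE.trans inf_le_left)
  have hNR : normalizer (((R : Subgroup U).map U.subtype : Subgroup G) : Set G) ≤ M := by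
    refine SigmaCompl.normalizer_le hG hM hqσ (R.isPGroup'.map U.subtype) hRM fun hc => ?_
    exact Components.Hyperplane.not_isCyclic hBe (by rw [hBdef, card_map_conj, hB₀c])
      (Subgroup.isCyclic_of_le hBR)
  obtain ⟨hMN, hpσ, huM, hκ, hUσ, hinter, -⟩ := P.over hqU hM hNR
  obtain ⟨E, B', hE, hES, huB, hBE, hEB, hBc⟩ := P.compl_le hM hMN hpσ huM
  exact ⟨K, U, S, E, u, hM, hx, hx1, h, P, by rw [inf_comm]; exact hinter, hUσ, hκ, hpσ, huM,
    P.regular hM hMN huM hpσ, P.core_nilpotent hM hMN huM hpσ, P.core_inf_partner hM hMN hpσ huM, hE, hES,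
    hBE huB, B', huB, hBE, hEB, hBc⟩

variable (c : Setting M N K U S E x u)
include c

theorem Setting.hN : IsCoatom N := c.P.h.hM

theorem Setting.hS : IsCoatom S := c.P.h.hH

/-- The elements of `M` commuting with `x` lie in `M_σ`. -/
theorem Setting.comm_x {a : G} (ha : a ∈ M) (hax : Commute a x) : a ∈ sigmaCore M := by
  have hUn : U ⊔ K ≤ normalizer (U : Set G) := sup_le le_normalizer c.P.hKU.normal
  have hmem : ∀ {z : G}, z ∈ M ⊓ N → ∃ v ∈ U, ∃ k ∈ K, z = v * k := fun hz =>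
    KappaDecomp.exists_mul_sup c.P.hKU.normal (c.inter ▸ hz)
  obtain ⟨v, hv, k, hk, rfl⟩ := hmem (mem_inf.mpr ⟨ha, c.sig.hC (mem_centralizer_singleton_iff.mpr hax.eq)⟩)
  obtain ⟨v', hv', k', hk', hx'⟩ := hmem (c.sig.mem_inf c.hx)
  have hvσ := c.hU hv
  -- the `K`-part of `x` is trivial
  have hk'1 : k' = 1 := by
    have h1 : k' ∈ sigmaCore M := by
      have := mul_mem (inv_mem (c.hU hv')) c.hx
      rwa [hx', inv_mul_cancel_left] at this
    refine eq_one_of_both (mem_sigma_core h1) fun p hp hd => ?_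
    rw [← c.P.hKu] at hk'
    obtain ⟨i, rfl⟩ := mem_zpowers_iff.mp hk'
    exact c.P.u_el p hp (hd.trans ((orderOf_dvd_natCard (zpowers u) (zpow_mem (mem_zpowers u) i)).trans
      (Nat.card_zpowers u).dvd)) ▸ c.hpσ
  rw [hk'1, mul_one] at hx'
  subst hx'
  have hcomm : Commute v x := congrArg Subtype.val (c.P.data.hUc.is_comm.comm ⟨v, hv⟩ ⟨x, hv'⟩)
  have hkx : Commute k x := by
    have := hcomm.inv_left.mul_left hax
    rwa [inv_mul_cancel_left] at this
  rcases eq_or_ne k 1 with rfl | hk1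
  · rwa [mul_one]
  · exact absurd (mem_bot.mp ((c.P.data.fpf k hk hk1).le
      (mem_inf.mpr ⟨hv', mem_centralizer_singleton_iff.mpr hkx.symm.eq⟩))) c.hx1

theorem Setting.eq_one_of_centralizes {a : G} (ha : a ∈ E) (hax : Commute a x) : a = 1 :=
  mem_bot.mp (c.hE.2.2.1.le (mem_inf.mpr ⟨ha, c.comm_x (c.hE.1 ha) hax⟩))

theorem Setting.star_eq : star S (star N K) = K := c.P.h.hKeq

/-- The partner has a decomposition over `C_{N_σ}(K)`. -/
theorem Setting.exists_decomposition_partner :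
    ∃ US : Subgroup G, IsSigmaDecomposition S (star N K) US := by
  have := c.P.h.cyclic
  exact KappaDecomp.exists_decomposition c.P.hG c.hS c.P.h.hKs
    (Subgroup.isCyclic_of_le (le_sup_right : star N K ≤ K ⊔ star N K))

omit c

/-- A `K`-invariant complement of `Q` in `L_σ`. -/
theorem exists_compl_invariant (hG : IsMinSimpleOddOrder G) {L K Q U : Subgroup G} {q : ℕ}
    (hL : IsCoatom L) (hKU : IsSigmaDecomposition L K U) (d : NonNilpotent.Core L K Q q) :
    ∃ D : Subgroup G, IsPiHallOf {p | p ≠ q} D (sigmaCore L) ∧ IsComplIn Q D (sigmaCore L) ∧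
      K ≤ normalizer (D : Set G) := by
  have := Fact.mk d.hq
  have hsol : Group.IsSolvable (sigmaCore L) :=
    Transitivity.isSolvable_of_ne_top hG fun e => hL.1 (top_le_iff.mp (e ▸ Sigma.sigmaCore_le L))
  have hcKσ : (Nat.card (sigmaCore L)).Coprime (Nat.card K) :=
    (SigmaMeet.coprime_card hG hL (KappaDecomp.isCompl hKU)).symm.coprime_dvd_right
      (card_dvd_of_le le_sup_right) |>.symm.symm
  have hKn : K ≤ normalizer (sigmaCore L : Set G) := hKU.hall.1.trans (Sigma.le_normalizer_sigmaCore L)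
  obtain ⟨H₀, hH₀, -⟩ := Hall.exists_hall_dominating {p | p ≠ q} (sigmaCore L)
  set D₀ := H₀.map (sigmaCore L).subtype with hD₀
  have hD₀h : IsPiHallOf {p | p ≠ q} D₀ (sigmaCore L) := by
    refine ⟨map_subtype_le _, fun p hp hd => hH₀.1 p hp (by
      rwa [hD₀, card_map_of_injective (sigmaCore L).subtype_injective] at hd), fun p hp hπ => ?_⟩
    rw [hD₀, relIndex, subgroupOf, comap_map_eq_self_of_injective (sigmaCore L).subtype_injective]
    exact hH₀.2 p hp hπ
  have hconj : ∀ k : G, k ∈ normalizer (sigmaCore L : Set G) →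
      IsPiHallOf {p | p ≠ q} (D₀.map (MulAut.conj k).toMonoidHom) (sigmaCore L) := fun k hk => by
    have hkeq := map_conj_eq_self_iff.mpr hk
    refine ⟨(map_mono hD₀h.1).trans hkeq.le, fun p hp hd => hD₀h.2.1 p hp (by rwa [card_map_conj] at hd),
      fun p hp hπ hd => hD₀h.2.2 p hp hπ ?_⟩
    rwa [← relIndex_map_map_of_injective _ _ (f := (MulAut.conj k).toMonoidHom) (MulAut.conj k).injective,
      hkeq]
  obtain ⟨k₀, hk₀, hKD⟩ := Cfsg.Agent.Coprime.exists_conj_invariant hKn hcKσ.symm (Or.inr hsol)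
    (H := D₀) fun a ha => by
    obtain ⟨m, hm, hle⟩ := exists_conj_le_hall_solvable hsol hD₀h (hconj a (hKn ha)).1
      (hconj a (hKn ha)).2.1
    refine ⟨m, hm, ?_⟩
    show D₀.map (MulAut.conj a).toMonoidHom = D₀.map (MulAut.conj m).toMonoidHom
    exact eq_of_le_of_card_ge hle (by rw [card_map_conj, card_map_conj])
  replace hKD : K ≤ normalizer ((D₀.map (MulAut.conj k₀).toMonoidHom : Subgroup G) : Set G) := hKD
  set D := D₀.map (MulAut.conj k₀).toMonoidHom
  have hD : IsPiHallOf {p | p ≠ q} D (sigmaCore L) := hconj k₀ (le_normalizer hk₀)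
  have hQσn : sigmaCore L ≤ normalizer (Q : Set G) := (Sigma.sigmaCore_le L).trans d.normal
  have hQD : IsComplIn Q D (sigmaCore L) := by
    refine ⟨d.le, hD.1, inf_eq_bot_of_coprime (Nat.coprime_of_dvd fun p hp h1 h2 =>
      hD.2.1 p hp h2 ((Cores.isPi_iff_isPGroup Q).mpr d.pgroup p hp h1)), fun z hz => ?_⟩
    refine KappaDecomp.exists_mul_sup (hD.1.trans hQσn) ?_
    suffices h : Q ⊔ D = sigmaCore L from h.ge hz
    refine le_antisymm (sup_le d.le hD.1) (relIndex_eq_one.mp ?_)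
    by_contra h1
    obtain ⟨p, hp, hpd⟩ := Nat.exists_prime_and_dvd h1
    by_cases hpq : p = q
    · exact d.index (hpq ▸ hpd.trans (relIndex_dvd_of_le_left _ le_sup_left))
    · exact hD.2.2 p hp hpq (hpd.trans (relIndex_dvd_of_le_left _ le_sup_right))
  exact ⟨D, hD, hQD, hKD⟩

/-- In a core group, a subgroup of order prime to `q` fixing the fixed point of `K` centralises `Q`. -/
theorem core_centralizes (hG : IsMinSimpleOddOrder G) {L K Q U A : Subgroup G} {q : ℕ} {u : G}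
    (hL : IsCoatom L) (hKU : IsSigmaDecomposition L K U) (hU : U = ⊥) (d : NonNilpotent.Core L K Q q)
    (hu : u ∈ sigmaCore L ⊓ centralizer (K : Set G)) (hu1 : u ≠ 1) (hA : A ≤ sigmaCore L)
    (hAq : ¬ q ∣ Nat.card A) (hAu : A ≤ centralizer ({u} : Set G)) : A ≤ centralizer (Q : Set G) := by
  have := Fact.mk d.hq
  have hsol : Group.IsSolvable (sigmaCore L) :=
    Transitivity.isSolvable_of_ne_top hG fun e => hL.1 (top_le_iff.mp (e ▸ Sigma.sigmaCore_le L))
  have hcKσ : (Nat.card (sigmaCore L)).Coprime (Nat.card K) :=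
    (SigmaMeet.coprime_card hG hL (KappaDecomp.isCompl hKU)).symm.coprime_dvd_right
      (card_dvd_of_le le_sup_right) |>.symm.symm
  have hKn : K ≤ normalizer (sigmaCore L : Set G) := hKU.hall.1.trans (Sigma.le_normalizer_sigmaCore L)
  obtain ⟨D, hD, hQD, hKD⟩ := exists_compl_invariant hG hL hKU d
  have hQσn : sigmaCore L ≤ normalizer (Q : Set G) := (Sigma.sigmaCore_le L).trans d.normal
  obtain ⟨-, hQ0n, hlt, -, hQ0, hirr⟩ := d.compl D hQD
  set Q0 := Q ⊓ centralizer (D : Set G) with hQ0def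
  have huQ : u ∈ Q := d.star_le hu
  have huK : ∀ k ∈ K, k * u = u * k := fun k hk => mem_centralizer_iff.mp (mem_inf.mp hu).2 k hk
  -- `u` is not in `Q₀`
  have huQ0 : u ∉ Q0 := fun huD => by
    have := Fact.mk d.hKp
    obtain ⟨k₁, hk₁, hk₁1⟩ := (bot_or_exists_ne_one K).resolve_left fun e => d.hKp.ne_one (by rw [e, card_bot])
    have hKz := ZGroupCore.zpowers_eq_of_prime d.hKp hk₁ hk₁1
    have hfixK : ∀ z : G, Commute k₁ z → z ∈ centralizer (K : Set G) := fun z hz => by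
      rw [← hKz, centralizer_zpowers]
      exact mem_centralizer_singleton_iff.mpr hz.symm.eq
    have huz : sigmaCore L ⊓ centralizer (K : Set G) = zpowers u :=
      (ZGroupCore.zpowers_eq_of_prime (d.hc.symm ▸ d.hq) hu hu1).symm
    have hDQ : D ≤ centralizer (Q : Set G) := by
      refine FrobeniusFixGroup.le_centralizer_of_fpf (r := Nat.card K) (e := k₁) ?_ (hKD hk₁) ?_
        (Coprime.isSolvable_of_isPGroup d.pgroup) (hcKσ.coprime_dvd_left (card_dvd_of_le d.le)) ?_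
        (d.normal (hKU.hall.1 hk₁)) (hD.1.trans hQσn) ?_
      · exact (orderOf_dvd_iff_pow_eq_one.mp (orderOf_dvd_natCard _ hk₁))
      · intro y hy hc
        exact mem_bot.mp (hQD.2.2.1.le (mem_inf.mpr
          ⟨d.star_le (mem_inf.mpr ⟨hD.1 hy, hfixK y hc⟩), hy⟩))
      · exact Nat.coprime_of_dvd fun p hp h1 h2 =>
          hD.2.1 p hp h2 ((Cores.isPi_iff_isPGroup Q).mpr d.pgroup p hp h1)
      · intro y hy hc a ha
        obtain ⟨i, rfl⟩ := mem_zpowers_iff.mp (huz.le (mem_inf.mpr ⟨d.le hy, hfixK y hc⟩))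
        have h1 : Commute a u := mem_centralizer_iff.mp (mem_inf.mp huD).2 a ha
        exact h1.zpow_right i
    exact hlt.not_ge (le_inf le_rfl (le_centralizer_iff.mp hDQ))
  -- the centraliser of `C_D(u)` in `Q`
  set C := D ⊓ centralizer ({u} : Set G)
  set V := Q ⊓ centralizer (C : Set G)
  have hQ0V : Q0 < V := by
    refine lt_of_le_of_ne (inf_le_inf_left _ (Subgroup.centralizer_le inf_le_left)) fun e => huQ0 ?_
    rw [e]
    exact mem_inf.mpr ⟨huQ, mem_centralizer_iff.mpr fun z hz =>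
      mem_centralizer_singleton_iff.mp (mem_inf.mp hz).2⟩
  have hVn : L ≤ normalizer (V : Set G) := by
    have hQV : Q ≤ normalizer (V : Set G) := mem_normalizer_of_stable fun a ha y hy => by
      obtain ⟨hyQ, hyC⟩ := mem_inf.mp hy
      refine mem_inf.mpr ⟨mul_mem (mul_mem ha hyQ) (inv_mem ha), ?_⟩
      rw [show a * y * a⁻¹ = a * y * a⁻¹ * y⁻¹ * y by group]
      exact mul_mem (Subgroup.centralizer_le inf_le_left (mem_inf.mp (hQ0 a ha y hyQ).2).2) hyC
    have hDV : D ≤ normalizer (V : Set G) := mem_normalizer_of_stable fun a ha y hy => by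
      obtain ⟨hyQ, hyC⟩ := mem_inf.mp hy
      refine mem_inf.mpr ⟨(mem_normalizer_iff.mp (hQσn (hD.1 ha)) y).mp hyQ,
        mem_centralizer_iff.mpr fun z hz => ?_⟩
      obtain ⟨hzD, hzu⟩ := mem_inf.mp hz
      have hk : z⁻¹ * a⁻¹ * z * a ∈ centralizer (Q : Set G) := by
        refine d.derived D hQD ?_
        have := commutator_mem_commutator (inv_mem hzD) (inv_mem ha)
        rwa [commutatorElement_def, inv_inv, inv_inv] at this
      have h1 : Commute (z⁻¹ * a⁻¹ * z * a) y := (mem_centralizer_iff.mp hk y hyQ).symm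
      have h2 : Commute z y := mem_centralizer_iff.mp hyC z hz
      calc z * (a * y * a⁻¹) = a * (z * (z⁻¹ * a⁻¹ * z * a) * y) * a⁻¹ := by group
        _ = a * (z * (y * (z⁻¹ * a⁻¹ * z * a))) * a⁻¹ := by rw [mul_assoc z, h1.eq]
        _ = a * (z * y * (z⁻¹ * a⁻¹ * z * a)) * a⁻¹ := by group
        _ = a * (y * z * (z⁻¹ * a⁻¹ * z * a)) * a⁻¹ := by rw [h2.eq]
        _ = a * y * a⁻¹ * z := by group
    have hKV : K ≤ normalizer (V : Set G) := mem_normalizer_of_stable fun a ha y hy => by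
      obtain ⟨hyQ, hyC⟩ := mem_inf.mp hy
      refine mem_inf.mpr ⟨(mem_normalizer_iff.mp (d.normal (hKU.hall.1 ha)) y).mp hyQ,
        mem_centralizer_iff.mpr fun z hz => ?_⟩
      obtain ⟨hzD, hzu⟩ := mem_inf.mp hz
      have h3 : Commute (a⁻¹ * z * a) y := mem_centralizer_iff.mp hyC _ (mem_inf.mpr
        ⟨(mem_normalizer_iff''.mp (hKD ha) z).mp hzD, mem_centralizer_singleton_iff.mpr (by
          have hau : Commute a u := huK a ha
          exact (hau.inv_left.mul_left (mem_centralizer_singleton_iff.mp hzu)).mul_left hau)⟩)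
      calc z * (a * y * a⁻¹) = a * (a⁻¹ * z * a * y) * a⁻¹ := by group
        _ = a * (y * (a⁻¹ * z * a)) * a⁻¹ := by rw [h3.eq]
        _ = a * y * a⁻¹ * z := by group
    intro m hm
    obtain ⟨e, he, s, hs, rfl⟩ := (KappaDecomp.isCompl hKU).2.2.2 m hm
    rw [hU, bot_sup_eq] at he
    obtain ⟨a, ha, b, hb, rfl⟩ := hQD.2.2.2 s hs
    exact mul_mem (hKV he) (mul_mem (hQV ha) (hDV hb))
  have hVQ : V = Q := by_contra fun hne => hirr V hQ0V (lt_of_le_of_ne inf_le_left hne) hVn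
  -- conjugate `A` into `D`
  obtain ⟨m, hm, hAm⟩ := exists_conj_le_hall_solvable hsol hD hA fun p hp hd e => hAq (e ▸ hd)
  obtain ⟨a, ha, b, hb, rfl⟩ := hQD.2.2.2 m hm
  intro z hz
  obtain ⟨z', hz', hzeq⟩ : ∃ z' ∈ D, z = a * z' * a⁻¹ := by
    obtain ⟨w, hw, rfl⟩ := hAm hz
    exact ⟨b * w * b⁻¹, mul_mem (mul_mem hb hw) (inv_mem hb), by
      simp only [MulEquiv.coe_toMonoidHom, MulAut.conj_apply]; group⟩
  have hz'C : z' ∈ C := by
    refine mem_inf.mpr ⟨hz', mem_centralizer_singleton_iff.mpr ?_⟩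
    have h1 : Commute z u := mem_centralizer_singleton_iff.mp (hAu hz)
    set w := a⁻¹ * u * a with hw
    have h2 : Commute z' w := by
      show z' * w = w * z'
      calc z' * w = a⁻¹ * (z * u) * a := by rw [hzeq, hw]; group
        _ = a⁻¹ * (u * z) * a := by rw [h1.eq]
        _ = w * z' := by rw [hzeq, hw]; group
    have h3 : a * w * a⁻¹ * w⁻¹ ∈ Q0 :=
      (hQ0 a ha w (mul_mem (mul_mem (inv_mem ha) huQ) ha)).2
    have h4 : Commute z' (a * w * a⁻¹ * w⁻¹) := mem_centralizer_iff.mp (mem_inf.mp h3).2 z' hz'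
    have h5 := h4.mul_right h2
    rwa [show a * w * a⁻¹ * w⁻¹ * w = u by rw [hw]; group] at h5
  refine mem_centralizer_iff.mpr fun y hy => ?_
  have hy' : a⁻¹ * y * a ∈ V := hVQ.ge (mul_mem (mul_mem (inv_mem ha) hy) ha)
  have h6 : z' * (a⁻¹ * y * a) = a⁻¹ * y * a * z' := mem_centralizer_iff.mp (mem_inf.mp hy').2 z' hz'C
  calc y * z = a * (a⁻¹ * y * a * z') * a⁻¹ := by rw [hzeq]; group
    _ = a * (z' * (a⁻¹ * y * a)) * a⁻¹ := by rw [h6]
    _ = z * y := by rw [hzeq]; group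

end Cfsg.Agent.OddLocal.PartnerFrobenius
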