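import Cfsg.Agent.OddLocal.FittingStructure
import Cfsg.Agent.OddLocal.PartnerFrobenius
import Cfsg.Agent.OddLocal.PTypeCover
import Cfsg.Agent.S1363
import Cfsg.Agent.S1364
import Cfsg.Agent.S1370

/-! The data of type P of a maximal subgroup with `K ≠ 1` (BG 16.1). -/

set_option autoImplicit false
set_option linter.unusedSectionVars false

namespace Cfsg.Agent.OddLocal.Types

open Cfsg Subgroup SigmaParts
open Cfsg.Agent.Transfer.Fusion (map_conj_eq_self_iff card_map_conj)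

variable {G : Type*} [Group G] [Finite G] {M K U V : Subgroup G}

theorem kappa_nonempty (hKU : IsSigmaDecomposition M K U) (hK1 : K ≠ ⊥) : (kappa M).Nonempty := by
  obtain ⟨p, hp, hpd⟩ := Nat.exists_prime_and_dvd (fun e : Nat.card K = 1 => hK1 (card_eq_one.mp e))
  exact ⟨p, hKU.hall.2.1 p hp hpd⟩

theorem hall_coprime (hKU : IsSigmaDecomposition M K U) : (Nat.card K).Coprime (K.relIndex M) :=
  Nat.coprime_of_dvd fun p hp h1 h2 => hKU.hall.2.2 p hp (hKU.hall.2.1 p hp h1) h2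

/-- `K` complements `M'`. -/
theorem compl_commutator (hG : IsMinSimpleOddOrder G) (hM : IsCoatom M)
    (hKU : IsSigmaDecomposition M K U) (hK1 : K ≠ ⊥) : IsComplIn ⁅M, M⁆ K M := by
  have hσM := Sigma.sigmaCore_le M
  rw [PType.commutator_eq hG hM hKU hK1]
  refine ⟨sup_le hKU.compl.1 hσM, hKU.hall.1, eq_bot_iff.mpr fun z hz => ?_, fun m hm => ?_⟩
  · obtain ⟨hz1, hzK⟩ := mem_inf.mp hz
    rw [sup_comm] at hz1
    obtain ⟨s, hs, v, hv, rfl⟩ :=
      KappaDecomp.exists_mul_sup (hKU.compl.1.trans (Sigma.le_normalizer_sigmaCore M)) hz1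
    have hv' : v ∈ U ⊓ (K ⊔ sigmaCore M) := mem_inf.mpr ⟨hv, by
      have := mul_mem (mem_sup_right (inv_mem hs) : s⁻¹ ∈ K ⊔ sigmaCore M) (mem_sup_left hzK)
      rwa [inv_mul_cancel_left] at this⟩
    rw [hKU.compl.2.2.1, mem_bot] at hv'
    rw [hv', mul_one] at hzK ⊢
    exact (KappaDecomp.inf_core_eq_bot hKU.hall).le (mem_inf.mpr ⟨hzK, hs⟩)
  · obtain ⟨e, he, s, hs, rfl⟩ := (KappaDecomp.isCompl hKU).2.2.2 m hm
    obtain ⟨v, hv, k, hk, rfl⟩ := KappaDecomp.exists_mul_sup hKU.normal he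
    exact ⟨v * (k * s * k⁻¹), mul_mem (mem_sup_left hv) (mem_sup_right ((mem_normalizer_iff.mp
      (Sigma.le_normalizer_sigmaCore M (hKU.hall.1 hk)) s).mp hs)), k, hk, by group⟩

/-- `C_{M'}(k) = C_{M_σ}(K)`. -/
theorem centralizer_commutator (hG : IsMinSimpleOddOrder G) (hM : IsCoatom M)
    (hKU : IsSigmaDecomposition M K U) (hK1 : K ≠ ⊥) {k : G} (hk : k ∈ K) (hk1 : k ≠ 1) :
    ⁅M, M⁆ ⊓ centralizer ({k} : Set G) = sigmaCore M ⊓ centralizer (K : Set G) := by
  have hd := KappaDecomp.data_of hG hM hKU hK1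
  rw [PType.commutator_eq hG hM hKU hK1]
  refine le_antisymm (fun c hc => ?_) (le_inf (inf_le_left.trans le_sup_right)
    (inf_le_right.trans (Subgroup.centralizer_le (Set.singleton_subset_iff.mpr hk))))
  obtain ⟨hc1, hck⟩ := mem_inf.mp hc
  obtain ⟨v, hv, s, hs, rfl⟩ : ∃ v ∈ U, ∃ s ∈ sigmaCore M, c = v * s := by
    rw [sup_comm] at hc1
    obtain ⟨s, hs, v, hv, rfl⟩ :=
      KappaDecomp.exists_mul_sup (hKU.compl.1.trans (Sigma.le_normalizer_sigmaCore M)) hc1
    exact ⟨v, hv, v⁻¹ * s * v, (mem_normalizer_iff''.mp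
      (Sigma.le_normalizer_sigmaCore M (hKU.compl.1 hv)) s).mp hs, by group⟩
  obtain ⟨h1, h2⟩ := split_commute (KappaDecomp.isCompl hKU).2.2.1
    ((KappaDecomp.isCompl hKU).1.trans (Sigma.le_normalizer_sigmaCore M)) (mem_sup_right hk)
    (mem_sup_left hv) hs (mem_centralizer_singleton_iff.mp hck)
  have hv1 : v = 1 := mem_bot.mp ((hd.fpf k hk hk1).le
    (mem_inf.mpr ⟨hv, mem_centralizer_singleton_iff.mpr h1.eq⟩))
  rw [hv1, one_mul]
  exact (hd.fixed k hk hk1).le (mem_inf.mpr ⟨hs, mem_centralizer_singleton_iff.mpr h2.eq⟩)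

theorem selfNormalizing (hG : IsMinSimpleOddOrder G) (hM : IsCoatom M)
    (hKU : IsSigmaDecomposition M K U) (hK1 : K ≠ ⊥) :
    IsSelfNormalizingCyclic K (sigmaCore M ⊓ centralizer (K : Set G)) := by
  obtain ⟨S, h⟩ := PType.exists_pair hG hM hKU.hall hK1
  refine ⟨hK1, h.star_ne_bot hG, inf_eq_bot_of_coprime (PType.coprime_star hKU.hall),
    fun a ha b hb => h.comm (mem_sup_left ha) (mem_sup_right hb), h.cyclic, fun X hX hX1 => ?_⟩
  obtain ⟨z, hz⟩ := hX1
  have hzh : ∀ w ∈ X, w ∈ PType.zhat (K ⊔ PType.star M K) := fun w hw => (h.zhat_eq hG).ge (hX hw)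
  refine le_antisymm (fun g hg => PType.mem_of_conj hG h.member (hzh z hz)
    (hX ((mem_set_normalizer_iff.mp hg z).mp hz)).1) fun g hg => ?_
  refine mem_set_normalizer_iff.mpr fun w => ?_
  by_cases hw : w ∈ K ⊔ PType.star M K
  · rw [h.comm hg hw, mul_inv_cancel_right]
  · refine ⟨fun h1 => absurd (hX h1).1 hw, fun h1 => absurd ?_ hw⟩
    have := mul_mem (mul_mem (inv_mem hg) (hX h1).1) hg
    rwa [show g⁻¹ * (g * w * g⁻¹) * g = w by group] at this

theorem typePWith_of (hG : IsMinSimpleOddOrder G) (hM : IsCoatom M) (hKU : IsSigmaDecomposition M K U)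
    (hK1 : K ≠ ⊥) (hVn : Group.IsNilpotent V) (hKV : K ≤ normalizer (V : Set G))
    (hV : IsComplIn (fittingHallOf M) V ⁅M, M⁆) :
    IsTypePWith M K V (sigmaCore M ⊓ centralizer (K : Set G)) := by
  obtain ⟨-, -, hle, hnc⟩ := S1364.result hG M hM K U hKU hK1
  have hF := FittingStructure.fittingOf_eq hG hM
  exact {
    W₁_ne := hK1
    W₁_cyclic := hKU.cyclic
    W₁_hall := hall_coprime hKU
    W₁_compl := compl_commutator hG hM hKU hK1
    U_nilpotent := hVn
    U_normal := hKV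
    U_compl := hV
    H_not_cyclic := hnc
    derived_two_le := by
      rw [sup_comm, ← hF]; exact FittingStructure.second_derived_le hG hM
    fitting_eq := by rw [hF, sup_comm]
    fitting_le := FittingStructure.fittingOf_le_commutator hG hM (kappa_nonempty hKU hK1)
    W₂_le := le_inf hle (PType.star_le_commutator_two hG hM hKU hK1)
    W₂_centralizer := fun x hx hx1 => centralizer_commutator hG hM hKU hK1 hx hx1
    selfNormalizing := selfNormalizing hG hM hKU hK1 }

/-- With `M_σ` nilpotent, `U` complements `M_F` in `M'`. -/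
theorem compl_of_nilpotent (hG : IsMinSimpleOddOrder G) (hM : IsCoatom M)
    (hKU : IsSigmaDecomposition M K U) (hK1 : K ≠ ⊥) (hn : Group.IsNilpotent (sigmaCore M)) :
    IsComplIn (fittingHallOf M) U ⁅M, M⁆ := by
  rw [PType.commutator_eq hG hM hKU hK1, ← sigmaCore_eq_fittingHallOf hG hM hn]
  refine ⟨le_sup_right, le_sup_left, ?_, fun m hm => ?_⟩
  · rw [inf_comm]
    exact le_bot_iff.mp (le_trans (inf_le_inf_left U le_sup_right) hKU.compl.2.2.1.le)
  · rw [sup_comm] at hm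
    exact KappaDecomp.exists_mul_sup (hKU.compl.1.trans (Sigma.le_normalizer_sigmaCore M)) hm

/-- With `M_σ` not nilpotent, `M_F` has a nilpotent `K`-invariant Hall complement in `M_σ`. -/
theorem exists_compl_nonnilpotent (hG : IsMinSimpleOddOrder G) (hM : IsCoatom M)
    (hKU : IsSigmaDecomposition M K U) (hn : ¬ Group.IsNilpotent (sigmaCore M)) :
    ∃ V : Subgroup G, Group.IsNilpotent V ∧ K ≤ normalizer (V : Set G) ∧ V ≠ ⊥ ∧
      IsComplIn (fittingHallOf M) V ⁅M, M⁆ := by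
  obtain ⟨q, Q, d⟩ := NonNilpotent.exists_core hG hM hKU hn
  have := Fact.mk d.hq
  have hK1 := NonNilpotent.K_ne_bot hG hM hKU hn
  have hM' : ⁅M, M⁆ = sigmaCore M := by
    rw [PType.commutator_eq hG hM hKU hK1, NonNilpotent.U_eq_bot hG hM hKU hn, bot_sup_eq]
  obtain ⟨D, hD, hQD, hKD⟩ := PartnerFrobenius.exists_compl_invariant hG hM hKU d
  have hDn := (d.compl D hQD).1
  set H := fittingHallOf M with hH
  have hHσ : H ≤ sigmaCore M := fittingHallOf_le_sigmaCore hG hM
  have hHM := FittingStructure.fittingHallOf_le M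
  have hHn : sigmaCore M ≤ normalizer (H : Set G) :=
    (Sigma.sigmaCore_le M).trans (FittingStructure.le_normalizer_fittingHallOf M)
  set π : Set ℕ := {p | ¬ p ∣ Nat.card H} with hπ
  have hsolD : Group.IsSolvable D := Transitivity.isSolvable_of_ne_top hG fun e =>
    hM.1 (top_le_iff.mp (e ▸ (hD.1.trans (Sigma.sigmaCore_le M))))
  obtain ⟨V₀, hV₀, -⟩ := Hall.exists_hall_dominating π D
  set V := V₀.map D.subtype with hVdef
  have hVD : V ≤ D := map_subtype_le _
  have hVπ : ∀ p : ℕ, p.Prime → p ∣ Nat.card V → ¬ p ∣ Nat.card H := fun p hp hd => hV₀.1 p hp (by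
    rwa [hVdef, card_map_of_injective D.subtype_injective] at hd)
  have hVi : ∀ p : ℕ, p.Prime → ¬ p ∣ Nat.card H → ¬ p ∣ V.relIndex D := fun p hp hpH => by
    rw [hVdef, relIndex, subgroupOf, comap_map_eq_self_of_injective D.subtype_injective]
    exact hV₀.2 p hp hpH
  have hKV : K ≤ normalizer (V : Set G) := fun k hk => by
    refine map_conj_eq_self_iff.mp (eq_of_le_of_card_ge ?_ (by rw [card_map_conj]))
    refine Compl.le_of_nilpotent_hall hDn hVD
      ((map_mono hVD).trans (map_conj_eq_self_iff.mpr (hKD hk)).le) fun p hp hd => ?_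
    rw [card_map_conj] at hd
    exact hVi p hp (hVπ p hp hd)
  have hinf : H ⊓ V = ⊥ :=
    inf_eq_bot_of_coprime (Nat.coprime_of_dvd fun p hp h1 h2 => hVπ p hp h2 h1)
  have hqH : q ∣ Nat.card H :=
    (d.hc ▸ card_dvd_of_le (d.star_le.trans d.le_F) : q ∣ Nat.card H)
  have hsup : H ⊔ V = sigmaCore M := by
    refine le_antisymm (sup_le hHσ (hVD.trans hD.1)) (relIndex_eq_one.mp ?_)
    by_contra h1
    obtain ⟨p, hp, hpd⟩ := Nat.exists_prime_and_dvd h1
    by_cases hpH : p ∣ Nat.card H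
    · have h2 := hpd.trans (relIndex_dvd_of_le_left _ le_sup_left)
      have h3 : H.relIndex (sigmaCore M) ∣ H.relIndex M := by
        rw [← relIndex_mul_relIndex H (sigmaCore M) M hHσ (Sigma.sigmaCore_le M)]
        exact dvd_mul_right _ _
      exact hp.ne_one (Nat.eq_one_of_dvd_coprimes (FittingStructure.fittingHallOf_hall M)
        hpH (h2.trans h3))
    · have h2 := hpd.trans (relIndex_dvd_of_le_left _ le_sup_right)
      rw [← relIndex_mul_relIndex V D (sigmaCore M) hVD hD.1] at h2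
      exact (hp.dvd_mul.mp h2).elim (hVi p hp hpH) (hD.2.2 p hp fun e => hpH (e ▸ hqH))
  refine ⟨V, Cores.isNilpotent_to_le hVD hDn, hKV, fun e => hn ?_, ?_⟩
  · rw [← hsup, e, sup_bot_eq]
    exact NonNilpotent.isNilpotent_fittingHallOf M
  · rw [hM']
    exact ⟨hHσ, hVD.trans hD.1, hinf, fun m hm =>
      KappaDecomp.exists_mul_sup ((hVD.trans hD.1).trans hHn) (hsup.ge hm)⟩

end Cfsg.Agent.OddLocal.Types
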