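import Cfsg.Agent.OddLocal.PartnerFrobenius2

/-! The complement in BG 14.12 is cyclic. -/

set_option autoImplicit false
set_option linter.unusedSectionVars false

namespace Cfsg.Agent.OddLocal.PartnerFrobenius

open Cfsg Subgroup KappaStructure SigmaParts PType PrimeAction
open TauTwo (centralizer_zpowers)
open scoped commutatorElement
open Cfsg.Agent.Transfer.Fusion (map_conj_eq_self_iff card_map_conj map_conj_mul map_conj_inv_cancel)

variable {G : Type*} [Group G] [Finite G] {M N K U S E US : Subgroup G} {x u g w : G} {r s n : ℕ}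
variable (c : Setting M N K U S E x u)
include c

theorem Setting.pow_prime {m : ℕ} [hs : Fact s.Prime] (hgo : orderOf g = s ^ (m + 1)) :
    orderOf (g ^ s ^ m) = s := by
  have h : orderOf g / s = s ^ m := by rw [hgo, pow_succ, Nat.mul_div_cancel _ hs.out.pos]
  have := orderOf_pow_orderOf_div (orderOf_pos g).ne' (n := s) (hgo ▸ dvd_pow_self s m.succ_ne_zero)
  rwa [h] at this

/-- `w ∈ S_σ` and `g` a `κ(S)`-element. -/
theorem Setting.commute_kappa (hd : IsSigmaDecomposition S (star N K) US) [hs : Fact s.Prime] (hr : r.Prime)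
    {m : ℕ} (hgo : orderOf g = s ^ (m + 1)) (hg : g ∈ E) (hw : w ∈ E) (hwo : orderOf w = r)
    (hn : g ∈ normalizer ((zpowers w : Subgroup G) : Set G)) (hwσ : w ∈ sigmaCore S)
    (hsκ : s ∈ kappa S) : r = orderOf u := by
  have hG := c.P.hG
  have hgs := c.pow_prime hgo
  set a := g ^ s ^ m with ha
  have haw : Commute a w := c.commute_prime (pow_mem hg _) (hgs.symm ▸ hs.out) hw (hwo.symm ▸ hr)
    (pow_mem hn _)
  obtain ⟨h, hh, hle⟩ := exists_conj_le_hall hG c.hS c.P.h.hKs (zpowers_le.mpr (c.hES (pow_mem hg _)))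
    fun p hp hpd => by
      rw [Nat.card_zpowers, ← ha, hgs] at hpd
      exact (Nat.prime_dvd_prime_iff_eq hp hs.out).mp hpd ▸ hsκ
  have hk1 : h⁻¹ * a * h ∈ star N K := mem_conj_iff.mp (hle (mem_zpowers a))
  have hk1' : h⁻¹ * a * h ≠ 1 := fun e => hs.out.ne_one (by
    have e1 : a = 1 := by
      calc a = h * (h⁻¹ * a * h) * h⁻¹ := by group
        _ = 1 := by rw [e]; group
    rw [← hgs, e1, orderOf_one])
  have hfix := (KappaDecomp.data_of hG c.hS hd (c.P.h.symm hG).hK1).fixed _ hk1 hk1'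
  have hc : Commute (h⁻¹ * a * h) (h⁻¹ * w * h) := by
    show _ = _
    calc h⁻¹ * a * h * (h⁻¹ * w * h) = h⁻¹ * (a * w) * h := by group
      _ = h⁻¹ * (w * a) * h := by rw [haw.eq]
      _ = h⁻¹ * w * h * (h⁻¹ * a * h) := by group
  have h1 : h⁻¹ * w * h ∈ sigmaCore S ⊓ centralizer (star N K : Set G) := hfix.le (mem_inf.mpr
    ⟨(mem_normalizer_iff''.mp (Sigma.le_normalizer_sigmaCore S hh) w).mp hwσ,
      mem_centralizer_singleton_iff.mpr hc.symm.eq⟩)
  have h1' : h⁻¹ * w * h ∈ K := c.star_eq.le h1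
  have h2 := orderOf_dvd_natCard K h1'
  rw [← c.P.hKu, Nat.card_zpowers, show h⁻¹ * w * h = MulAut.conj h⁻¹ w by simp,
    MulEquiv.orderOf_eq, hwo] at h2
  exact (Nat.prime_dvd_prime_iff_eq hr c.P.hup).mp h2

/-- `w ∈ S_σ` and `g` a `U`-element of the partner. -/
theorem Setting.commute_U (hd : IsSigmaDecomposition S (star N K) US) [hr : Fact r.Prime] (hs : s.Prime)
    (hgo : orderOf g = s ^ n) (hg : g ∈ E) (hw : w ∈ E) (hwo : orderOf w = r) (hru : r ≠ orderOf u)
    (hwσ : w ∈ sigmaCore S) (hsU : s ∣ Nat.card US) : Commute g w := by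
  have hG := c.P.hG
  have hS := c.hS
  have hPs := c.P.h.symm hG
  have hUS : US ≠ ⊥ := fun e => hs.ne_one (Nat.dvd_one.mp (by rwa [e, card_bot] at hsU))
  obtain ⟨e, P'⟩ := P2.exists_gen hG hPs hd hUS
  have := Fact.mk P'.hup
  have hnilS := (prime_of_notP1 hG hS c.P.h.hKs hPs.hK1 P'.notP1).2
  have hsσ := KappaDecomp.not_sigma_of_dvd hG hS hd hs hsU
  have hsκ := KappaDecomp.not_kappa_of_dvd hd hs hsU
  have hrσ : r ∈ sigma S := mem_sigma_core hwσ r hr.out (hwo ▸ dvd_rfl)
  have hCS := c.P.centralizer_u_le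
  have heC : e ∈ centralizer ({u} : Set G) :=
    (c.P.h.le_centralizer (mem_sup_left c.P.hu)) (mem_sup_right P'.hu)
  set C := centralizer ({u} : Set G) with hCdef
  have hC0S : C ⊓ (US ⊔ sigmaCore S) ≤ S := inf_le_left.trans hCS
  set C0 := C ⊓ (US ⊔ sigmaCore S) with hC0
  have hsol : Group.IsSolvable C0 :=
    Transitivity.isSolvable_of_ne_top hG fun e1 => hS.1 (top_le_iff.mp (e1 ▸ hC0S))
  have hCC0 : C ⊓ S ≤ normalizer (C0 : Set G) :=
    (le_inf (inf_le_left.trans le_normalizer)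
      (inf_le_right.trans (KappaDecomp.normal_sup hG hS hd))).trans inf_normalizer_le_normalizer_inf
  have heN : e ∈ normalizer (C0 : Set G) := hCC0 (mem_inf.mpr ⟨heC, hCS heC⟩)
  -- an invariant Hall subgroup of `C₀`
  obtain ⟨H₀, hH₀, -⟩ := Hall.exists_hall_dominating {p | p ∉ sigma S} C0
  set T₀ := H₀.map C0.subtype with hT₀def
  have hT₀ : IsPiHallOf {p | p ∉ sigma S} T₀ C0 := by
    refine ⟨map_subtype_le _, fun p hp hd' => hH₀.1 p hp (by
      rwa [hT₀def, card_map_of_injective C0.subtype_injective] at hd'), fun p hp hπ => ?_⟩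
    rw [hT₀def, relIndex, subgroupOf, comap_map_eq_self_of_injective C0.subtype_injective]
    exact hH₀.2 p hp hπ
  have hconj : ∀ k : G, k ∈ normalizer (C0 : Set G) →
      IsPiHallOf {p | p ∉ sigma S} (T₀.map (MulAut.conj k).toMonoidHom) C0 := fun k hk => by
    have hkeq := map_conj_eq_self_iff.mpr hk
    refine ⟨(map_mono hT₀.1).trans hkeq.le, fun p hp hd' => hT₀.2.1 p hp (by rwa [card_map_conj] at hd'),
      fun p hp hπ hd' => hT₀.2.2 p hp hπ ?_⟩
    rwa [← relIndex_map_map_of_injective _ _ (f := (MulAut.conj k).toMonoidHom) (MulAut.conj k).injective,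
      hkeq]
  have hco0 : (Nat.card (zpowers e)).Coprime (Nat.card C0) := by
    rw [Nat.card_zpowers]
    refine P'.hup.coprime_iff_not_dvd.mpr fun hdv => ?_
    have hκ := c.P.h.hKs.2.1 _ P'.hup (orderOf_dvd_natCard _ P'.hu)
    have h1 : Nat.card ↥(sigmaCore S ⊔ US) ∣ Nat.card (sigmaCore S) * Nat.card US :=
      RegularMain.card_sup_dvd (hd.compl.1.trans (Sigma.le_normalizer_sigmaCore S))
    rw [sup_comm] at h1
    rcases P'.hup.dvd_mul.mp ((hdv.trans (card_dvd_of_le inf_le_right)).trans h1) with h2 | h2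
    · exact KappaDecomp.kappa_not_sigma hκ (Transitivity.isPi_piCoreOf (sigma S) S _ P'.hup h2)
    · exact KappaDecomp.not_kappa_of_dvd hd P'.hup h2 hκ
  obtain ⟨k₀, hk₀, heT⟩ := Cfsg.Agent.Coprime.exists_conj_invariant (A := zpowers e) (K := C0)
    (zpowers_le.mpr heN) hco0 (Or.inr hsol) (H := T₀) fun a ha => by
    have haN := (zpowers_le.mpr heN) ha
    obtain ⟨m, hm, hle⟩ := exists_conj_le_hall_solvable hsol hT₀ (hconj a haN).1 (hconj a haN).2.1
    refine ⟨m, hm, ?_⟩
    show T₀.map (MulAut.conj a).toMonoidHom = T₀.map (MulAut.conj m).toMonoidHom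
    exact eq_of_le_of_card_ge hle (by rw [card_map_conj, card_map_conj])
  set T := T₀.map (MulAut.conj k₀).toMonoidHom
  replace heT : zpowers e ≤ normalizer (T : Set G) := heT
  have hT : IsPiHallOf {p | p ∉ sigma S} T C0 := hconj k₀ (le_normalizer hk₀)
  -- the `r`-part of `C_{S_σ}(u)`
  obtain ⟨R, hwR, hRS⟩ := Sigma.exists_sylow_ge hrσ
    (isPGroup_of_card (KappaOver.card_zpowers_eq hwo)) (zpowers_le.mpr (c.hES hw))
  have hRσ : (R : Subgroup G) ≤ sigmaCore S := Sigma.sylow_le_sigmaCore hG hS hrσ R.isPGroup' hRS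
  have hRn : S ≤ normalizer ((R : Subgroup G) : Set G) := fun a ha => by
    refine map_conj_eq_self_iff.mp (eq_of_le_of_card_ge ?_ (by rw [card_map_conj]))
    refine Compl.le_of_nilpotent_hall hnilS hRσ
      ((map_mono hRσ).trans (map_conj_eq_self_iff.mpr (Sigma.le_normalizer_sigmaCore S ha)).le)
      fun p hp hpd h2 => ?_
    rw [eq_of_dvd_pow_card hp (R.isPGroup'.map _) hpd] at h2
    exact R.not_dvd_index (h2.trans (relIndex_dvd_index_of_le hRσ))
  set V := (R : Subgroup G) ⊓ C with hVdef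
  have hCV : C ≤ normalizer (V : Set G) :=
    (le_inf (hCS.trans hRn) le_normalizer).trans inf_normalizer_le_normalizer_inf
  have hTV : T ≤ centralizer (V : Set G) := by
    refine FrobeniusFixGroup.le_centralizer_of_fpf (r := orderOf e) (e := e) (pow_orderOf_eq_one e)
      (heT (mem_zpowers e)) ?_ (Coprime.isSolvable_of_isPGroup (R.isPGroup'.to_le inf_le_left)) ?_ ?_
      (hCV heC) (hT.1.trans (inf_le_left.trans hCV)) ?_
    · intro y hy hye
      have hyC0 := hT.1 hy
      have hy1 : y ∈ star N K ⊔ star S (star N K) :=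
        (hPs.centralizer_kappa hG P'.hu P'.u_ne).le (mem_inf.mpr
          ⟨hC0S hyC0, mem_centralizer_singleton_iff.mpr hye.symm.eq⟩)
      have hy2 : y ∈ star N K := mem_K c.P.h.hKs hy1
        fun p hp hpd => hT.2.1 p hp (hpd.trans (orderOf_dvd_natCard T hy))
      obtain ⟨v, hv, s₀, hs₀, rfl⟩ := KappaDecomp.exists_mul_sup
        (A := sigmaCore S) (B := US) (hd.compl.1.trans (Sigma.le_normalizer_sigmaCore S))
        (sup_comm US (sigmaCore S) ▸ (mem_inf.mp hyC0).2)
      have hs₀' : s₀ ∈ US ⊓ (star N K ⊔ sigmaCore S) := mem_inf.mpr ⟨hs₀, by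
        have := mul_mem (mem_sup_right (inv_mem hv) : v⁻¹ ∈ star N K ⊔ sigmaCore S) (mem_sup_left hy2)
        rwa [inv_mul_cancel_left] at this⟩
      rw [hd.compl.2.2.1, mem_bot] at hs₀'
      rw [hs₀', mul_one] at hy2 ⊢
      exact mem_bot.mp ((KappaDecomp.inf_core_eq_bot c.P.h.hKs).le (mem_inf.mpr ⟨hy2, hv⟩))
    · refine Nat.coprime_of_dvd' fun p hp h1 h2 => ?_
      have h3 := KappaDecomp.kappa_not_sigma (c.P.h.hKs.2.1 _ P'.hup (orderOf_dvd_natCard _ P'.hu))
      rw [← (Nat.prime_dvd_prime_iff_eq hp P'.hup).mp h2,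
        eq_of_dvd_pow_card hp (R.isPGroup'.to_le inf_le_left) h1] at h3
      exact absurd hrσ h3
    · refine Nat.coprime_of_dvd fun p hp h1 h2 => hT.2.1 p hp h2 ?_
      rw [eq_of_dvd_pow_card hp (R.isPGroup'.to_le inf_le_left) h1]
      exact hrσ
    · intro y hy hye a _
      have h1 : y ∈ sigmaCore S ⊓ centralizer (star N K : Set G) :=
        (KappaDecomp.data_of hG hS hd hPs.hK1).fixed e P'.hu P'.u_ne ▸
          mem_inf.mpr ⟨hRσ (mem_inf.mp hy).1, mem_centralizer_singleton_iff.mpr hye.symm.eq⟩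
      have h2 := orderOf_dvd_natCard K (c.star_eq.le h1)
      rw [← c.P.hKu, Nat.card_zpowers] at h2
      have hy1 : y = 1 := by
        by_contra hy1
        obtain ⟨p, hp, hpd⟩ := Nat.exists_prime_and_dvd (fun e1 => hy1 (orderOf_eq_one_iff.mp e1))
        refine hru ?_
        rw [← eq_of_dvd_pow_card hp R.isPGroup' (hpd.trans (orderOf_dvd_natCard _ (mem_inf.mp hy).1))]
        exact c.P.u_el p hp (hpd.trans h2)
      rw [hy1]; exact Commute.one_right a
  -- absorb `g`
  have hgel : ∀ p : ℕ, p.Prime → p ∣ orderOf g → p = s := fun p hp hpd =>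
    (Nat.prime_dvd_prime_iff_eq hp hs).mp (hp.dvd_of_dvd_pow (hgo ▸ hpd))
  have hgC0 : g ∈ C0 := mem_inf.mpr ⟨c.le_centralizer hg,
    KappaDecomp.mem_sup_of_not_kappa hG hS hd (c.hES hg) fun p hp hpd => hgel p hp hpd ▸ hsκ⟩
  obtain ⟨m, hm, hle⟩ := exists_conj_le_hall_solvable hsol hT (zpowers_le.mpr hgC0) fun p hp hpd => by
    rw [Nat.card_zpowers] at hpd
    exact hgel p hp hpd ▸ hsσ
  have hg' : m⁻¹ * g * m ∈ T := mem_conj_iff.mp (hle (mem_zpowers g))
  have hw' : m⁻¹ * w * m ∈ V := (mem_normalizer_iff''.mp (hCV (mem_inf.mp hm).1) w).mp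
    (mem_inf.mpr ⟨hwR (mem_zpowers w), c.le_centralizer hw⟩)
  have h3 : m⁻¹ * w * m * (m⁻¹ * g * m) = m⁻¹ * g * m * (m⁻¹ * w * m) :=
    mem_centralizer_iff.mp (hTV hg') _ hw'
  show g * w = w * g
  calc g * w = m * (m⁻¹ * g * m * (m⁻¹ * w * m)) * m⁻¹ := by group
    _ = m * (m⁻¹ * w * m * (m⁻¹ * g * m)) * m⁻¹ := by rw [h3]
    _ = w * g := by group

/-- A prime power element of `E` commutes with an element of prime order of `E'`. -/
theorem Setting.commute_main (hr : r.Prime) (hs : s.Prime) (hgo : orderOf g = s ^ n) (hg : g ∈ E)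
    (hw : w ∈ E) (hwD : w ∈ ⁅E, E⁆) (hwo : orderOf w = r)
    (hn : g ∈ normalizer ((zpowers w : Subgroup G) : Set G)) : Commute g w := by
  rcases n with - | m
  · rw [pow_zero, orderOf_eq_one_iff] at hgo
    rw [hgo]; exact Commute.one_left w
  have hG := c.P.hG
  have hS := c.hS
  have := Fact.mk hr
  have := Fact.mk hs
  have := Fact.mk c.P.hup
  have hgel : ∀ p : ℕ, p.Prime → p ∣ orderOf g → p = s := fun p hp hpd =>
    (Nat.prime_dvd_prime_iff_eq hp hs).mp (hp.dvd_of_dvd_pow (hgo ▸ hpd))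
  by_cases hru : r = orderOf u
  · obtain ⟨i, hi⟩ := mem_zpowers_iff.mp (c.mem_line hw c.huE hwo hru.symm (c.normalizes_line hw))
    rw [← hi]
    exact (show Commute g u from mem_centralizer_singleton_iff.mp (c.le_centralizer hg)).zpow_right i
  by_cases hsr : s = r
  · subst hsr
    have hP := (IsPGroup.of_card (p := s) (n := m + 1) (by rw [Nat.card_zpowers, hgo])).to_sup_of_normal_right'
      (isPGroup_of_card (KappaOver.card_zpowers_eq hwo)) (zpowers_le.mpr hn)
    have hcyc := Compl.isCyclic_of_rankOne hG (c.rank_one hs (c.not_sigma_elem hw hs (hwo ▸ dvd_rfl))) hP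
      (sup_le (zpowers_le.mpr (c.hE.1 hg)) (zpowers_le.mpr (c.hE.1 hw)))
    let := IsCyclic.commGroup (α := ↥(zpowers g ⊔ zpowers w))
    exact congrArg Subtype.val (mul_comm (⟨g, mem_sup_left (mem_zpowers g)⟩ : ↥(zpowers g ⊔ zpowers w))
      ⟨w, mem_sup_right (mem_zpowers w)⟩)
  obtain ⟨US, hd⟩ := c.exists_decomposition_partner
  have hPs := c.P.h.symm hG
  have hσn := Sigma.le_normalizer_sigmaCore S
  have hwp : (orderOf w).Prime := hwo.symm ▸ hr
  have hgS := c.hES hg
  have hcomm_mem : ∀ {X : Subgroup G}, g ∈ X → w ∈ normalizer (X : Set G) → g * w * g⁻¹ * w⁻¹ ∈ X :=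
    fun hgX hwX => by
      rw [show g * w * g⁻¹ * w⁻¹ = g * (w * g⁻¹ * w⁻¹) by group]
      exact mul_mem hgX ((mem_normalizer_iff.mp hwX _).mp (inv_mem hgX))
  by_cases hrσ : r ∈ sigma S
  · have hwσ : w ∈ sigmaCore S := mem_core_of_piEl hG hS (c.hES hw) fun p hp hpd =>
      (Nat.prime_dvd_prime_iff_eq hp hr).mp (hwo ▸ hpd) ▸ hrσ
    by_cases hsσ : s ∈ sigma S
    · have hgσ : g ∈ sigmaCore S := mem_core_of_piEl hG hS hgS fun p hp hpd => hgel p hp hpd ▸ hsσ
      have hco : (orderOf g).Coprime (orderOf w) := by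
        rw [hgo, hwo]; exact Nat.Coprime.pow_left _ ((Nat.coprime_primes hs hr).mpr hsr)
      by_cases hnil : Group.IsNilpotent (sigmaCore S)
      · exact CN.commute_of_mem hnil hgσ hwσ hco
      obtain ⟨q, Q, d⟩ := NonNilpotent.exists_core hG hS hd hnil
      have hqu : q = orderOf u := by
        rw [← d.hc, show sigmaCore S ⊓ centralizer (star N K : Set G) = K from c.star_eq, ← c.P.hKu,
          Nat.card_zpowers]
      have := Fact.mk d.hq
      have hσQ : sigmaCore S ≤ normalizer (Q : Set G) := (Sigma.sigmaCore_le S).trans d.normal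
      by_cases hsq : s = q
      · have hgQ : g ∈ Q := KappaDecomp.mem_of_normal_coprime hσQ d.le hgσ
          (Nat.coprime_of_dvd fun p hp h1 h2 => d.index (by rwa [← hsq, ← hgel p hp h1]))
        refine commute_of_commutator_mem hwp hn (hcomm_mem hgQ (hσQ hwσ)) fun hwQ => hru ?_
        rw [← hqu]
        exact (Cores.isPi_iff_isPGroup Q).mpr d.pgroup r hr (hwo ▸ orderOf_dvd_natCard Q hwQ)
      obtain ⟨D, hD, hQD, -⟩ := exists_compl_invariant hG hS hd d
      obtain ⟨a, -, hle⟩ := exists_conj_le_hall_solvable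
        (Transitivity.isSolvable_of_ne_top hG fun e => hS.1 (top_le_iff.mp (e ▸ Sigma.sigmaCore_le S)))
        hD (Y := zpowers w ⊔ zpowers g) (sup_le (zpowers_le.mpr hwσ) (zpowers_le.mpr hgσ)) fun p hp hpd => by
          have h1 := hpd.trans (RegularMain.card_sup_dvd (zpowers_le.mpr hn))
          rw [Nat.card_zpowers, Nat.card_zpowers] at h1
          rcases hp.dvd_mul.mp h1 with h2 | h2
          · rw [hwo] at h2
            exact (Nat.prime_dvd_prime_iff_eq hp hr).mp h2 ▸ fun e => hru (e.trans hqu)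
          · exact hgel p hp h2 ▸ hsq
      exact CN.commute_of_mem (Cores.isNilpotent_map D (MulAut.conj a).toMonoidHom (d.compl D hQD).1)
        (hle (mem_sup_right (mem_zpowers g))) (hle (mem_sup_left (mem_zpowers w))) hco
    by_cases hsκ : s ∈ kappa S
    · exact absurd (c.commute_kappa hd hr hgo hg hw hwo hn hwσ hsκ) hru
    · have hsU : s ∣ Nat.card US := KappaDecomp.dvd_of_not hd hs
        ((hgo ▸ dvd_pow_self s m.succ_ne_zero).trans (orderOf_dvd_natCard S hgS)) hsσ hsκ
      exact c.commute_U hd hs hgo hg hw hwo hru hwσ hsU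
  · have hwσ : w ∉ sigmaCore S := fun h => hrσ (mem_sigma_core h r hr (hwo ▸ dvd_rfl))
    have hS' := PType.commutator_eq hG hS hd hPs.hK1
    have hwU : w ∈ US ⊔ sigmaCore S := hS' ▸ commutator_mono c.hES c.hES hwD
    have hUS : US ≠ ⊥ := fun e => hwσ (by rwa [e, bot_sup_eq] at hwU)
    refine commute_of_commutator_mem hwp hn (X := sigmaCore S) ?_ hwσ
    by_cases hsσ : s ∈ sigma S
    · exact hcomm_mem (mem_core_of_piEl hG hS hgS fun p hp hpd => hgel p hp hpd ▸ hsσ) (hσn (c.hES hw))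
    by_cases hsκ : s ∈ kappa S
    · obtain ⟨e, P'⟩ := P2.exists_gen hG hPs hd hUS
      obtain ⟨h, -, hle⟩ := exists_conj_le_hall hG hS c.P.h.hKs (zpowers_le.mpr hgS) fun p hp hpd => by
        rw [Nat.card_zpowers] at hpd
        exact hgel p hp hpd ▸ hsκ
      have h1 := card_dvd_of_le hle
      rw [Nat.card_zpowers, card_map_conj, ← P'.hKu, Nat.card_zpowers] at h1
      have hgp : (orderOf g).Prime := by
        rcases (Nat.dvd_prime P'.hup).mp h1 with h2 | h2
        · exact absurd (Nat.dvd_one.mp (h2 ▸ hgo ▸ dvd_pow_self s m.succ_ne_zero)) hs.ne_one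
        · exact h2 ▸ P'.hup
      have := c.commute_prime hg hgp hw hwp hn
      rw [this.eq, mul_inv_cancel_right, mul_inv_cancel]
      exact one_mem _
    · have hgU : g ∈ US ⊔ sigmaCore S :=
        KappaDecomp.mem_sup_of_not_kappa hG hS hd hgS fun p hp hpd => hgel p hp hpd ▸ hsκ
      have hUc := (KappaDecomp.data_of hG hS hd hPs.hK1).hUc
      obtain ⟨a, ha, v, hv, rfl⟩ := KappaDecomp.exists_mul_sup
        (hd.compl.1.trans hσn) (sup_comm US (sigmaCore S) ▸ hgU)
      obtain ⟨b, hb, v', hv', rfl⟩ := KappaDecomp.exists_mul_sup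
        (hd.compl.1.trans hσn) (sup_comm US (sigmaCore S) ▸ hwU)
      have hc : v * v' = v' * v := congrArg Subtype.val (hUc.is_comm.comm ⟨v, hv⟩ ⟨v', hv'⟩)
      rw [show a * v * (b * v') * (a * v)⁻¹ * (b * v')⁻¹ =
        a * (v * b * v⁻¹) * (v * v' * v⁻¹ * a⁻¹ * (v * v' * v⁻¹)⁻¹) *
          (v * v' * v⁻¹ * v'⁻¹) * b⁻¹ by group, hc, mul_inv_cancel_right, mul_inv_cancel, mul_one]
      have hUN := hd.compl.1.trans hσn
      exact mul_mem (mul_mem (mul_mem ha ((mem_normalizer_iff.mp (hUN hv) b).mp hb))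
        ((mem_normalizer_iff.mp (hUN hv') _).mp (inv_mem ha))) (inv_mem hb)

theorem Setting.isCyclic_compl : IsCyclic E := by
  have hG := c.P.hG
  have hZ : IsZGroup E := ⟨fun p hp P => by
    have := Fact.mk hp
    by_cases hd : p ∣ Nat.card E
    · have := Compl.isCyclic_of_rankOne hG (c.rank_one hp (Compl.not_sigma hG c.hM c.hE hp hd))
        (P.isPGroup'.map E.subtype) ((map_subtype_le _).trans c.hE.1)
      exact isCyclic_of_surjective _
        ((P : Subgroup E).equivMapOfInjective E.subtype E.subtype_injective).symm.surjective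
    · have hP : (P : Subgroup E) = ⊥ := by
        rw [← card_eq_one]
        obtain ⟨k, hk⟩ := P.isPGroup'.exists_card_eq
        rcases k with - | k
        · rw [hk, pow_zero]
        · exact absurd ((Dvd.intro_left _ (pow_succ p k).symm).trans
            (hk ▸ card_subgroup_dvd_card _)) hd
      rw [hP]
      infer_instance⟩
  suffices h : ⁅E, E⁆ = ⊥ by
    let _ : CommGroup E := { (inferInstance : Group E) with
      mul_comm := fun a b => Subtype.ext ((mem_centralizer_iff.mp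
        ((commutator_eq_bot_iff_le_centralizer.mp h) b.2) a a.2)) }
    have : Group.IsNilpotent E := CommGroup.isNilpotent
    infer_instance
  by_contra hD
  obtain ⟨r, hr, hrd⟩ := Nat.exists_prime_and_dvd (fun e : Nat.card ↥⁅E, E⁆ = 1 => hD (card_eq_one.mp e))
  have := Fact.mk hr
  obtain ⟨⟨w, hwD⟩, hwo⟩ := exists_prime_orderOf_dvd_card' r hrd
  rw [orderOf_mk] at hwo
  have hwE : w ∈ E := commutator_le_self E hwD
  have hcycD : IsCyclic ↥⁅E, E⁆ := by
    have := IsZGroup.isCyclic_commutator (G := E)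
    have h1 : (commutator E).map E.subtype = ⁅E, E⁆ := E.map_subtype_commutator
    rw [← h1]
    exact isCyclic_of_surjective _
      ((commutator E).equivMapOfInjective E.subtype E.subtype_injective).surjective
  have hline : E ≤ normalizer ((zpowers w : Subgroup G) : Set G) := fun a ha => by
    have haw : a * w * a⁻¹ ∈ ⁅E, E⁆ :=
      (mem_normalizer_iff.mp (Coprime.le_normalizer_commutator_self le_normalizer ha) w).mp hwD
    refine map_conj_eq_self_iff.mp (eq_of_le_of_card_ge ?_ (by rw [card_map_conj]))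
    rw [MonoidHom.map_zpowers, zpowers_le]
    exact TauTwo.mem_zpowers_of_cyclic hcycD hwD haw hwo
      (show (a * w * a⁻¹) ^ r = 1 by rw [conj_pow, ← hwo, pow_orderOf_eq_one]; group)
  have hcent : E ≤ centralizer ({w} : Set G) := CN.le_of_forall_isPGroup fun s hs g hg hgs => by
    have := Fact.mk hs
    obtain ⟨n, hn⟩ := hgs.exists_card_eq
    rw [Nat.card_zpowers] at hn
    exact mem_centralizer_singleton_iff.mpr (c.commute_main hr hs hn hg hwE hwD hwo (hline hg)).eq
  obtain ⟨P, hP⟩ := ((isPGroup_of_card (KappaOver.card_zpowers_eq hwo)).comap_subtype (K := E)).exists_le_sylow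
  have : IsCyclic (P : Subgroup E) := hZ.isZGroup r hr P
  have hPc : IsMulCommutative (P : Subgroup E) := IsCyclic.isMulCommutative
  have h0 : (⟨w, hwE⟩ : E) ∈ (P : Subgroup E) ⊓ _root_.commutator E ⊓ center E := by
    refine mem_inf.mpr ⟨mem_inf.mpr ⟨hP (mem_zpowers w), ?_⟩, mem_center_iff.mpr fun a =>
      Subtype.ext (mem_centralizer_singleton_iff.mp (hcent a.2))⟩
    rw [← E.map_subtype_commutator] at hwD
    obtain ⟨z, hz, hzw⟩ := hwD
    rwa [show (⟨w, hwE⟩ : E) = z from Subtype.ext hzw.symm]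
  rw [Transfer.CenterInf.inf_commutator_inf_center (P : Subgroup E) P.card_coprime_index, mem_bot] at h0
  exact hr.ne_one (hwo ▸ orderOf_eq_one_iff.mpr (congrArg Subtype.val h0))

/-- `M` is a Frobenius group with complement `E`. -/
theorem Setting.isFrobenius : IsFrobeniusComplement (E.subgroupOf M) := by
  have hn : ((sigmaCore M).subgroupOf M).Normal :=
    (normal_subgroupOf_iff_le_normalizer (Sigma.sigmaCore_le M)).mpr (Sigma.le_normalizer_sigmaCore M)
  refine (Frobenius.Basic.isFrobeniusComplement_of_fixedPointFree ((sigmaCore M).subgroupOf M)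
    (E.subgroupOf M) ?_ ?_ ?_ ?_ fun h hh hh1 y hy e => ?_).1
  · rw [eq_bot_iff]
    exact fun z hz => mem_bot.mpr (Subtype.ext (mem_bot.mp (c.hE.2.2.1.le ⟨hz.2, hz.1⟩)))
  · rw [eq_top_iff]
    rintro ⟨z, hz⟩ -
    obtain ⟨a, ha, b, hb, hab⟩ := c.hE.2.2.2 z hz
    rw [show (⟨z, hz⟩ : M) = ⟨a, c.hE.1 ha⟩ * ⟨b, Sigma.sigmaCore_le M hb⟩ from Subtype.ext hab]
    exact mul_mem (mem_sup_right ha) (mem_sup_left hb)
  · intro e
    have h1 : (⟨x, Sigma.sigmaCore_le M c.hx⟩ : M) ∈ (sigmaCore M).subgroupOf M := c.hx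
    rw [e, mem_bot] at h1
    exact c.hx1 (congrArg Subtype.val h1)
  · intro e
    have h1 : (⟨u, c.huM⟩ : M) ∈ E.subgroupOf M := c.huE
    rw [e, mem_bot] at h1
    exact c.P.u_ne (congrArg Subtype.val h1)
  · have hh' : (h : G) ∈ E := hh
    have h0 : sigmaCore M ⊓ centralizer ({(h : G)} : Set G) = ⊥ := c.regular hh' fun e1 => hh1 (Subtype.ext e1)
    have h1 : (y : G) ∈ sigmaCore M ⊓ centralizer ({(h : G)} : Set G) :=
      mem_inf.mpr ⟨hy, mem_centralizer_singleton_iff.mpr (congrArg Subtype.val e : _)⟩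
    rw [h0, mem_bot] at h1
    exact Subtype.ext h1

/-- `M_F = M_σ` is not a TI-subset. -/
theorem Setting.not_ti : ¬ IsTISubset (fittingHallOf M : Set G) := fun hti => by
  have hG := c.P.hG
  rw [← sigmaCore_eq_fittingHallOf hG c.hM c.hnil] at hti
  obtain ⟨g, hgC, hgM⟩ := SetLike.not_le_iff_exists.mp (c.sig.not_le c.hM)
  refine c.hx1 (hti g (fun hgN => hgM ?_) x c.hx ?_)
  · by_contra hgM'
    have hle : M ≤ normalizer (sigmaCore M : Set G) := Sigma.le_normalizer_sigmaCore M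
    have htop := c.hM.2 _ (lt_of_le_of_ne hle fun e => hgM' (e ▸ hgN))
    have hnormal : (sigmaCore M).Normal := normalizer_eq_top_iff.mp htop
    rcases hG.2.1.eq_bot_or_eq_top_of_normal _ hnormal with h1 | h1
    · exact c.hx1 (mem_bot.mp (h1 ▸ c.hx))
    · exact c.hM.1 (top_le_iff.mp (h1 ▸ Sigma.sigmaCore_le M))
  · rw [mem_centralizer_singleton_iff.mp hgC, mul_inv_cancel_right]
    exact c.hx

end Cfsg.Agent.OddLocal.PartnerFrobenius
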