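import Cfsg.Agent.OddLocal.OmegaQuotient
import Cfsg.Agent.OddLocal.MetacyclicAction
import Cfsg.Agent.Lib.PGroups.UniqueSubgroup

/-! Coprime odd order actions `R = [R, A]` on `p`-groups of rank two with `|Ω₁(R)| = p ^ 3`. -/

set_option autoImplicit false
set_option linter.unusedSectionVars false

namespace Cfsg.Agent.OddLocal.RankTwoAction

open Cfsg Subgroup
open scoped commutatorElement IsMulCommutative

theorem commutator_zpow_left {Q : Type*} [Group Q] {u r : Q} (h : ⁅u, r⁆ ∈ center Q) (i : ℤ) :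
    ⁅u ^ i, r⁆ = ⁅u, r⁆ ^ i := by
  let H : Subgroup Q :=
    { carrier := {v | ⁅v, r⁆ ∈ center Q}
      one_mem' := by
        show ⁅(1 : Q), r⁆ ∈ center Q
        rw [commutatorElement_one_left]; exact one_mem _
      mul_mem' := fun {a b} ha hb => by
        show ⁅a * b, r⁆ ∈ center Q
        rw [show ⁅a * b, r⁆ = a * ⁅b, r⁆ * a⁻¹ * ⁅a, r⁆ by simp only [commutatorElement_def]; group]
        exact mul_mem ((inferInstance : (center Q).Normal).conj_mem _ hb a) ha
      inv_mem' := fun {a} ha => by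
        show ⁅a⁻¹, r⁆ ∈ center Q
        rw [show ⁅a⁻¹, r⁆ = a⁻¹ * ⁅a, r⁆⁻¹ * a⁻¹⁻¹ by simp only [commutatorElement_def]; group]
        exact (inferInstance : (center Q).Normal).conj_mem _ (inv_mem ha) _ }
  let θ : H →* Q :=
    { toFun := fun v => ⁅(v : Q), r⁆
      map_one' := commutatorElement_one_left r
      map_mul' := fun a b => by
        show ⁅(a : Q) * b, r⁆ = _
        rw [show ⁅(a : Q) * b, r⁆ = a * ⁅(b : Q), r⁆ * (a : Q)⁻¹ * ⁅(a : Q), r⁆ by
            simp only [commutatorElement_def]; group,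
          mem_center_iff.mp b.2 a, mul_inv_cancel_right, ← mem_center_iff.mp b.2] }
  exact map_zpow θ ⟨u, h⟩ i

theorem commutator_zpow_zpow {Q : Type*} [Group Q] {u r : Q} (h : ⁅u, r⁆ ∈ center Q) (i j : ℤ) :
    ⁅u ^ i, r ^ j⁆ = ⁅u, r⁆ ^ (i * j) := by
  have h1 : ⁅r, u ^ i⁆ ∈ center Q := by
    rw [← commutatorElement_inv, commutator_zpow_left h]
    exact inv_mem (zpow_mem h i)
  rw [← commutatorElement_inv, commutator_zpow_left h1, ← inv_zpow, commutatorElement_inv,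
    commutator_zpow_left h, ← zpow_mul]

theorem inv_mul_commute {Q : Type*} [Group Q] {u v r : Q} (h : ⁅u, r⁆ = ⁅v, r⁆) :
    Commute (v⁻¹ * u) r := by
  simp only [commutatorElement_def, mul_left_inj] at h
  exact calc v⁻¹ * u * r = v⁻¹ * (u * r * u⁻¹) * u := by group
    _ = v⁻¹ * (v * r * v⁻¹) * u := by rw [h]
    _ = r * (v⁻¹ * u) := by group

theorem zpow_congr_mod {Q : Type*} [Group Q] {p : ℕ} [Fact p.Prime] {u : Q} (hp : u ^ p = 1) (h1 : u ≠ 1)
    {i j : ℤ} (h : u ^ i = u ^ j) : (p : ℤ) ∣ j - i := by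
  rw [← orderOf_eq_prime hp h1]
  exact Int.modEq_iff_dvd.mp (zpow_eq_zpow_iff_modEq.mp h)

variable {p : ℕ} [hp : Fact p.Prime] {Y : Type*} [Group Y] [Finite Y]

theorem le_center_of_card_le (hY : IsPGroup p Y) (N : Subgroup Y) [N.Normal] (hN : Nat.card N ≤ p) :
    N ≤ center Y := by
  rcases eq_or_ne N ⊥ with h | h
  · exact h ▸ bot_le
  have := hY.isNilpotent
  have hne := Cfsg.Agent.Cores.inf_center_ne_bot h
  refine inf_eq_left.mp (eq_of_le_of_card_ge inf_le_left (hN.trans ?_))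
  obtain ⟨k, hk⟩ := (hY.to_subgroup (N ⊓ center Y)).exists_card_eq
  rw [hk]
  exact Nat.le_self_pow (fun h0 => hne (eq_bot_of_card_eq _ (by rw [hk, h0, pow_zero]))) p

theorem isCommutative_of_card_le (hY : IsPGroup p Y) (H : Subgroup Y) (hH : Nat.card H ≤ p ^ 2) :
    ∀ u ∈ H, ∀ v ∈ H, Commute u v := by
  intro u hu v hv
  have h := OmegaQuotient.card_commutator_le (hY.to_subgroup H) (n := 0) hH
  rw [pow_zero] at h
  have h1 : ⁅(⟨u, hu⟩ : H), (⟨v, hv⟩ : H)⁆ ∈ commutator H :=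
    commutator_mem_commutator (mem_top _) (mem_top _)
  rw [eq_bot_of_card_le _ h] at h1
  exact congrArg Subtype.val (commutatorElement_eq_one_iff_mul_comm.mp (mem_bot.mp h1))

/-- An invariant cyclic normal subgroup of `R = [R, A]` is central. -/
theorem cyclic_le_center (hY : IsPGroup p Y) {A : Type*} [Group A] [Finite A] (φ : A →* MulAut Y)
    (hA : (Nat.card A).Coprime p) (hgen : closure {y : Y | ∃ a x, y = φ a x * x⁻¹} = ⊤)
    (C : Subgroup Y) [hCn : C.Normal] [IsCyclic C] (hinv : ∀ a, ∀ c ∈ C, φ a c ∈ C) : C ≤ center Y := by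
  have hpow : ∀ x : Y, ∃ m : ℤ, ∀ c ∈ C, x * c * x⁻¹ = c ^ m := by
    intro x
    let f : C →* C :=
      { toFun := fun c => ⟨x * c * x⁻¹, hCn.conj_mem _ c.2 x⟩
        map_one' := Subtype.ext (by simp)
        map_mul' := fun c d => Subtype.ext (by simp [mul_assoc]) }
    obtain ⟨m, hm⟩ := f.map_cyclic
    exact ⟨m, fun c hc => congrArg Subtype.val (hm ⟨c, hc⟩)⟩
  have hinv' : ∀ a, ∀ c ∈ C, ∃ c' ∈ C, φ a c' = c := fun a c hc =>
    ⟨φ a⁻¹ c, hinv _ c hc, by rw [← MulAut.mul_apply, ← map_mul, mul_inv_cancel, map_one]; rfl⟩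
  have hswap : ∀ u v : Y, ∀ c ∈ C, u * v * c * (u * v)⁻¹ = v * u * c * (v * u)⁻¹ := by
    intro u v c hc
    obtain ⟨m, hm⟩ := hpow u
    obtain ⟨n, hn⟩ := hpow v
    rw [show u * v * c * (u * v)⁻¹ = u * (v * c * v⁻¹) * u⁻¹ by group,
      show v * u * c * (v * u)⁻¹ = v * (u * c * u⁻¹) * v⁻¹ by group,
      hn c hc, hm c hc, hm _ (zpow_mem hc n), hn _ (zpow_mem hc m), ← zpow_mul, ← zpow_mul, mul_comm]
  set K := centralizer (C : Set Y) with hK
  have hKn : K.Normal := ⟨fun k hk g => mem_centralizer_iff.mpr fun c hc => by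
    have h := mem_centralizer_iff.mp hk (g⁻¹ * c * g⁻¹⁻¹) (hCn.conj_mem c hc g⁻¹)
    calc c * (g * k * g⁻¹) = g * (g⁻¹ * c * g⁻¹⁻¹ * k) * g⁻¹ := by group
      _ = g * (k * (g⁻¹ * c * g⁻¹⁻¹)) * g⁻¹ := by rw [h]
      _ = g * k * g⁻¹ * c := by group⟩
  have hKinv : ∀ a, ∀ x ∈ K, φ a x ∈ K := by
    intro a x hx
    refine mem_centralizer_iff.mpr fun c hc => ?_
    obtain ⟨c', hc', rfl⟩ := hinv' a c hc
    rw [← map_mul, ← map_mul, mem_centralizer_iff.mp hx c' hc']
  have hder : commutator Y ≤ K := by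
    rw [_root_.commutator_def, commutator_le]
    intro u _ v _
    refine mem_centralizer_iff.mpr fun c hc => ?_
    have h := hswap u v ((v * u)⁻¹ * c * (v * u)⁻¹⁻¹) (hCn.conj_mem c hc _)
    calc c * ⁅u, v⁆ = v * u * ((v * u)⁻¹ * c * (v * u)⁻¹⁻¹) * (v * u)⁻¹ * ⁅u, v⁆ := by group
      _ = u * v * ((v * u)⁻¹ * c * (v * u)⁻¹⁻¹) * (u * v)⁻¹ * ⁅u, v⁆ := by rw [h]
      _ = ⁅u, v⁆ * c := by simp only [commutatorElement_def]; group
  intro c hc
  refine mem_center_iff.mpr fun g => ?_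
  refine (mem_centralizer_iff.mp (MetacyclicAction.mem_of_fixed_coset hY φ hA hgen K hder hKinv
    (l := g) fun a => mem_centralizer_iff.mpr fun d hd => ?_) c hc).symm
  obtain ⟨m, hm⟩ := hpow g
  obtain ⟨d', hd', he⟩ := hinv' a (g⁻¹ * d * g⁻¹⁻¹) (hCn.conj_mem d hd g⁻¹)
  have h : φ a g * (g⁻¹ * d * g⁻¹⁻¹) * (φ a g)⁻¹ = g * (g⁻¹ * d * g⁻¹⁻¹) * g⁻¹ := by
    rw [hm (g⁻¹ * d * g⁻¹⁻¹) (hCn.conj_mem d hd g⁻¹), ← he, ← map_inv, ← map_mul, ← map_mul, hm d' hd', map_zpow]
  have hd1 : φ a g * g⁻¹ * d * (φ a g * g⁻¹)⁻¹ = d := by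
    calc φ a g * g⁻¹ * d * (φ a g * g⁻¹)⁻¹
        = φ a g * (g⁻¹ * d * g⁻¹⁻¹) * (φ a g)⁻¹ := by group
      _ = g * (g⁻¹ * d * g⁻¹⁻¹) * g⁻¹ := h
      _ = d := by group
  exact (mul_inv_eq_iff_eq_mul.mp hd1).symm

/-- If `|Ω₁(R)| > p ^ 2` then `R = Ω₁(R) C(Ω₁(R))` with `C(Ω₁(R))` cyclic. -/
theorem central_product (h3 : 3 < p) (hY : IsPGroup p Y) (hr : PRankLE p 2 Y)
    (hbig : p ^ 2 < Nat.card (closure {x : Y | x ^ p = 1})) {A : Type*} [Group A] [Finite A]
    (φ : A →* MulAut Y) (hA : (Nat.card A).Coprime p) (hodd : Odd (Nat.card A))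
    (hgen : closure {y : Y | ∃ a x, y = φ a x * x⁻¹} = ⊤) :
    ∃ O C : Subgroup Y, O ⊔ C = ⊤ ∧ (∀ u ∈ O, ∀ v ∈ C, u * v = v * u) ∧ ¬ IsMulCommutative O ∧
      Nat.card O = p ^ 3 ∧ (∀ u ∈ O, u ^ p = 1) ∧ IsCyclic C ∧
      closure {x : Y | x ∈ C ∧ x ^ p = 1} = ⁅O, O⁆ ∧ ∀ a, ∀ v ∈ C, φ a v ∈ C := by
  classical
  have := hY.isNilpotent
  have hp2 : p ≠ 2 := by omega
  set O := closure {x : Y | x ^ p = 1} with hO
  have hexp : ∀ u ∈ O, u ^ p = 1 := fun u hu => OmegaExp.pow_eq_one_of_mem_closure h3 hY hr hu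
  have hmemO : ∀ u : Y, u ^ p = 1 → u ∈ O := fun u hu => subset_closure hu
  have hOn : O.Normal := ⟨fun u hu g => hmemO _ (by rw [conj_pow, hexp u hu, mul_one, mul_inv_cancel])⟩
  have hOinv : ∀ a, ∀ u ∈ O, φ a u ∈ O := fun a u hu =>
    hmemO _ (by rw [← map_pow, hexp u hu, map_one])
  have hcard : Nat.card O = p ^ 3 := by
    have hle : Nat.card O ≤ p ^ 3 := AutRankTwo.card_le_cube (fun u => Subtype.ext (hexp u u.2))
      fun B hB hB' => by
        rw [← card_map_of_injective (K := B) O.subtype_injective]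
        refine hr _ (map_isMulCommutative B O.subtype) ?_
        rintro _ ⟨v, hv, rfl⟩
        rw [← map_pow, hB' v hv, map_one]
    obtain ⟨k, hk⟩ := (hY.to_subgroup O).exists_card_eq
    rw [hk] at hle hbig ⊢
    have h1 := (Nat.pow_lt_pow_iff_right hp.out.one_lt).mp hbig
    have h2 := (Nat.pow_le_pow_iff_right hp.out.one_lt).mp hle
    rw [show k = 3 by omega]
  have hnab : ¬ IsMulCommutative O := fun h => by
    have h1 := hr O h (fun u hu => hexp u hu)
    rw [hcard, Nat.pow_le_pow_iff_right hp.out.one_lt] at h1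
    omega
  obtain ⟨a₀, ha₀, b₀, hb₀, hab₀⟩ : ∃ a ∈ O, ∃ b ∈ O, ¬ Commute a b := by
    by_contra hcon
    push Not at hcon
    exact hnab ⟨⟨fun u v => Subtype.ext (hcon u u.2 v v.2)⟩⟩
  have hsub : ∀ X : Subgroup Y, X ≤ O → ∀ u ∈ X, ∀ v ∈ X, ¬ Commute u v → X = O := by
    intro X hX u hu v hv huv
    refine eq_of_le_of_card_ge hX (le_of_not_gt fun hlt => huv ?_)
    refine isCommutative_of_card_le hY X ?_ u hu v hv
    obtain ⟨k, hk⟩ := (hY.to_subgroup X).exists_card_eq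
    rw [hk, hcard, Nat.pow_lt_pow_iff_right hp.out.one_lt] at hlt
    rw [hk]
    exact Nat.pow_le_pow_right hp.out.pos (by omega)
  set C := centralizer (O : Set Y) with hC
  have hCO : ∀ u ∈ O, ∀ v ∈ C, u * v = v * u := fun u hu v hv => mem_centralizer_iff.mp hv u hu
  have hCn : C.Normal := ⟨fun k hk g => mem_centralizer_iff.mpr fun u hu => by
    have h := hCO (g⁻¹ * u * g⁻¹⁻¹) (hOn.conj_mem u hu g⁻¹) k hk
    calc u * (g * k * g⁻¹) = g * (g⁻¹ * u * g⁻¹⁻¹ * k) * g⁻¹ := by group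
      _ = g * (k * (g⁻¹ * u * g⁻¹⁻¹)) * g⁻¹ := by rw [h]
      _ = g * k * g⁻¹ * u := by group⟩
  have hCinv : ∀ a, ∀ v ∈ C, φ a v ∈ C := by
    intro a v hv
    refine mem_centralizer_iff.mpr fun u hu => ?_
    have e : φ a (φ a⁻¹ u) = u := by
      rw [← MulAut.mul_apply, ← map_mul, mul_inv_cancel, map_one]; rfl
    rw [← e, ← map_mul, ← map_mul, hCO _ (hOinv _ u hu) v hv]
  have hCinj : ∀ a v, φ a v ∈ C → v ∈ C := by
    intro a v hv
    have e : φ a⁻¹ (φ a v) = v := by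
      rw [← MulAut.mul_apply, ← map_mul, inv_mul_cancel, map_one]; rfl
    exact e ▸ hCinv a⁻¹ _ hv
  set Z := ⁅O, O⁆ with hZ
  have hZn : Z.Normal := inferInstance
  have hZO : Z ≤ O := commutator_le_left O O
  have hZmap : Z = (commutator O).map O.subtype := by
    rw [hZ, _root_.commutator_def, map_commutator, ← MonoidHom.range_eq_map, range_subtype]
  have hZle : Nat.card Z ≤ p := by
    rw [hZmap, card_map_of_injective O.subtype_injective]
    have h := OmegaQuotient.card_commutator_le (hY.to_subgroup O) (n := 1)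
      (show Nat.card O ≤ p ^ (1 + 2) by rw [hcard])
    rwa [pow_one] at h
  have hZc : Z ≤ center Y := le_center_of_card_le hY Z hZle
  have hZC : Z ≤ C := hZc.trans (center_le_centralizer _)
  have hz₀ : ⁅a₀, b₀⁆ ≠ 1 := fun h => hab₀ (commutatorElement_eq_one_iff_commute.mp h)
  have hz₀p : ⁅a₀, b₀⁆ ^ p = 1 := hexp _ (hZO (commutator_mem_commutator ha₀ hb₀))
  have hZcard : Nat.card Z = p := by
    refine le_antisymm hZle ?_
    have h : zpowers ⁅a₀, b₀⁆ ≤ Z := zpowers_le.mpr (commutator_mem_commutator ha₀ hb₀)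
    have h1 := card_le_of_le h
    rwa [Nat.card_zpowers, orderOf_eq_prime hz₀p hz₀] at h1
  have hZgen : ∀ a ∈ O, ∀ b ∈ O, ¬ Commute a b → zpowers ⁅a, b⁆ = Z := by
    intro a ha b hb hab
    refine eq_of_le_of_card_ge (zpowers_le.mpr (commutator_mem_commutator ha hb)) ?_
    rw [hZcard, Nat.card_zpowers, orderOf_eq_prime (hexp _ (hZO (commutator_mem_commutator ha hb)))
      fun h => hab (commutatorElement_eq_one_iff_commute.mp h)]
  have hOC : ∀ u ∈ O, u ∈ C → u ∈ Z := by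
    intro u hu huC
    by_contra huZ
    have hlt : ¬ Z ⊔ zpowers u ≤ Z := fun h => huZ (h (mem_sup_right (mem_zpowers u)))
    have hle : Z ⊔ zpowers u ≤ O := sup_le hZO (zpowers_le.mpr hu)
    have hC' : Z ⊔ zpowers u ≤ C := sup_le hZC (zpowers_le.mpr huC)
    have hne : Z ⊔ zpowers u ≠ O := fun h => hab₀ (hCO a₀ ha₀ b₀ (hC' (h.symm ▸ hb₀ : b₀ ∈ Z ⊔ zpowers u)))
    have hlt1 : Z < Z ⊔ zpowers u := lt_of_le_not_ge le_sup_left hlt
    have hlt2 : Z ⊔ zpowers u < O := lt_of_le_of_ne hle hne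
    have hne' : Z ⊔ zpowers u ⊔ zpowers a₀ = O := by
      refine eq_of_le_of_card_ge (sup_le hle (zpowers_le.mpr ha₀)) (le_of_not_gt fun h => ?_)
      have : Z ⊔ zpowers u ⊔ zpowers a₀ = Z ⊔ zpowers u := by
        refine (eq_of_le_of_card_ge le_sup_left ?_).symm
        obtain ⟨k, hk⟩ := (hY.to_subgroup (Z ⊔ zpowers u ⊔ zpowers a₀)).exists_card_eq
        obtain ⟨l, hl⟩ := (hY.to_subgroup (Z ⊔ zpowers u)).exists_card_eq
        have h1 : Nat.card Z < Nat.card (Z ⊔ zpowers u : Subgroup Y) :=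
          lt_of_not_ge fun hge => hlt1.ne (eq_of_le_of_card_ge hlt1.le hge)
        rw [hk, hcard, Nat.pow_lt_pow_iff_right hp.out.one_lt] at h
        rw [hZcard, hl] at h1
        have h2 : 1 < l := (Nat.pow_lt_pow_iff_right hp.out.one_lt).mp (by rwa [pow_one])
        rw [hk, hl]
        exact Nat.pow_le_pow_right hp.out.pos (by omega)
      have ha1 : a₀ ∈ Z ⊔ zpowers u := this ▸ mem_sup_right (mem_zpowers a₀)
      exact hab₀ (hCO b₀ hb₀ a₀ (hC' ha1)).symm
    have hcen : ∀ v ∈ O, Commute v a₀ := fun v hv => by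
      have : Z ⊔ zpowers u ⊔ zpowers a₀ ≤ centralizer ({a₀} : Set Y) := by
        refine sup_le (hC'.trans (centralizer_le (Set.singleton_subset_iff.mpr ha₀))) (zpowers_le.mpr ?_)
        rw [mem_centralizer_singleton_iff]
      exact mem_centralizer_singleton_iff.mp (this (hne'.symm ▸ hv : v ∈ Z ⊔ zpowers u ⊔ zpowers a₀))
    exact hab₀ (hcen b₀ hb₀).symm
  have hCcyc : IsCyclic C := by
    refine (PGroups.UniqueSubgroup.isCyclic_or_quaternion (hY.to_subgroup C) fun H K hH hK => ?_).resolve_right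
      fun h => hp2 h.1
    have key : ∀ H : Subgroup C, Nat.card H = p → H.map C.subtype = Z := by
      intro H hH
      refine eq_of_le_of_card_ge ?_ (by rw [card_map_of_injective C.subtype_injective, hH, hZcard])
      rintro _ ⟨v, hv, rfl⟩
      refine hOC _ (hmemO _ ?_) v.2
      have h1 := orderOf_dvd_iff_pow_eq_one.mp ((H.orderOf_dvd_natCard hv).trans hH.dvd)
      rw [← map_pow, h1, map_one]
    exact map_injective C.subtype_injective ((key H hH).trans (key K hK).symm)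
  refine ⟨O, C, ?_, hCO, hnab, hcard, hexp, hCcyc, ?_, hCinv⟩
  swap
  · refine le_antisymm ((closure_le _).mpr fun u hu => hOC u (hmemO u hu.2) hu.1) fun u hu =>
      subset_closure ⟨hZC hu, hexp u (hZO hu)⟩
  have hCc : C ≤ center Y := cyclic_le_center hY φ hA hgen C hCinv
  by_contra hN0
  set π := QuotientGroup.mk' Z with hπ
  have hπ1 : ∀ {u : Y}, π u = 1 ↔ u ∈ Z := fun {u} => QuotientGroup.eq_one_iff u
  -- detecting `O C`
  have hinner : ∀ a ∈ O, ∀ b ∈ O, ¬ Commute a b → ∀ u, ⁅u, a⁆ ∈ Z → ⁅u, b⁆ ∈ Z → u ∈ O ⊔ C := by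
    intro a ha b hb hab u hua hub
    have hzc : ⁅a, b⁆ ∈ center Y := hZc (commutator_mem_commutator ha hb)
    have hzc' : ⁅b, a⁆ ∈ center Y := hZc (commutator_mem_commutator hb ha)
    obtain ⟨i, hi⟩ := mem_zpowers_iff.mp ((hZgen a ha b hb hab).symm ▸ hub : ⁅u, b⁆ ∈ zpowers ⁅a, b⁆)
    rw [← commutator_zpow_left hzc] at hi
    set u₁ := (a ^ i)⁻¹ * u with hu₁
    have hc1 : Commute u₁ b := inv_mul_commute hi.symm
    have hu₁a : ⁅u₁, a⁆ ∈ Z := by
      rw [hu₁, show ⁅(a ^ i)⁻¹ * u, a⁆ = (a ^ i)⁻¹ * ⁅u, a⁆ * (a ^ i)⁻¹⁻¹ * ⁅(a ^ i)⁻¹, a⁆ by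
        simp only [commutatorElement_def]; group]
      refine mul_mem (hZn.conj_mem _ hua _) ?_
      rw [← zpow_neg, commutatorElement_eq_one_iff_commute.mpr (Commute.zpow_self a _)]
      exact one_mem _
    obtain ⟨j, hj⟩ := mem_zpowers_iff.mp ((hZgen b hb a ha fun h => hab h.symm).symm ▸ hu₁a :
      ⁅u₁, a⁆ ∈ zpowers ⁅b, a⁆)
    rw [← commutator_zpow_left hzc'] at hj
    have hc2 : Commute ((b ^ j)⁻¹ * u₁) a := inv_mul_commute hj.symm
    have hc3 : Commute ((b ^ j)⁻¹ * u₁) b := ((Commute.zpow_self b j).inv_left).mul_left hc1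
    have hmem : (b ^ j)⁻¹ * u₁ ∈ C := by
      have hX : closure ({a, b} : Set Y) = O :=
        hsub _ ((closure_le _).mpr (Set.insert_subset ha (Set.singleton_subset_iff.mpr hb))) a
          (subset_closure (Set.mem_insert _ _)) b (subset_closure (Set.mem_insert_of_mem _ rfl)) hab
      rw [hC, ← hX, centralizer_closure, mem_centralizer_iff]
      rintro v (rfl | rfl)
      · exact hc2.eq.symm
      · exact hc3.eq.symm
    have e : u = a ^ i * b ^ j * ((b ^ j)⁻¹ * u₁) := by rw [hu₁]; group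
    rw [e]
    exact mul_mem_sup (mul_mem (zpow_mem ha i) (zpow_mem hb j)) hmem
  obtain ⟨x, -, hx⟩ := SetLike.not_le_iff_exists.mp fun h => hN0 (top_le_iff.mp h)
  obtain ⟨r₁, hr₁, hxr⟩ : ∃ r ∈ O, ⁅x, r⁆ ∉ Z := by
    by_contra hcon
    push Not at hcon
    exact hx (hinner a₀ ha₀ b₀ hb₀ hab₀ x (hcon a₀ ha₀) (hcon b₀ hb₀))
  set W := ⁅O, (⊤ : Subgroup Y)⁆ with hW
  have hWn : W.Normal := inferInstance
  have hWO : W ≤ O := commutator_le_left O ⊤
  have hZW : Z ≤ W := commutator_mono le_rfl le_top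
  have hWcard : Nat.card W ≤ p ^ 2 := OmegaExp.mul_card_commutator_le hY O hcard.le
  have hWZ : ⁅W, (⊤ : Subgroup Y)⁆ ≤ Z := by
    have h1 := OmegaExp.mul_card_commutator_le hY W (n := 1) hWcard
    rw [pow_one] at h1
    intro u hu
    exact hOC u (hWO (commutator_le_left W ⊤ hu))
      (center_le_centralizer _ (le_center_of_card_le hY _ h1 hu))
  have hWcomm : ∀ u ∈ W, ∀ v ∈ W, Commute u v := isCommutative_of_card_le hY W hWcard
  set w := ⁅x, r₁⁆ with hw
  have hwW : w ∈ W := by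
    rw [hw, hW, commutator_comm]
    exact commutator_mem_commutator (mem_top x) hr₁
  have hwZ : w ∉ Z := hxr
  have hWgen : zpowers w ⊔ Z = W := by
    refine eq_of_le_of_card_ge (sup_le (zpowers_le.mpr hwW) hZW) (hWcard.trans ?_)
    obtain ⟨k, hk⟩ := (hY.to_subgroup (zpowers w ⊔ Z)).exists_card_eq
    have hlt : Nat.card Z < Nat.card (zpowers w ⊔ Z : Subgroup Y) := lt_of_not_ge fun hge =>
      hwZ ((eq_of_le_of_card_ge le_sup_right hge).symm ▸ mem_sup_left (mem_zpowers w))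
    rw [hk, hZcard] at hlt
    rw [hk]
    refine Nat.pow_le_pow_right hp.out.pos ?_
    by_contra hh
    have := Nat.pow_le_pow_right hp.out.pos (show k ≤ 1 by omega)
    rw [pow_one] at this
    omega
  have hr₁W : r₁ ∉ W := fun h => hwZ (by
    rw [hw, ← commutatorElement_inv]
    exact inv_mem (hWZ (commutator_mem_commutator h (mem_top x))))
  have hOgen : zpowers r₁ ⊔ W = O := by
    refine eq_of_le_of_card_ge (sup_le (zpowers_le.mpr hr₁) hWO) ?_
    obtain ⟨k, hk⟩ := (hY.to_subgroup (zpowers r₁ ⊔ W)).exists_card_eq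
    have hlt : Nat.card W < Nat.card (zpowers r₁ ⊔ W : Subgroup Y) := lt_of_not_ge fun hge =>
      hr₁W ((eq_of_le_of_card_ge le_sup_right hge).symm ▸ mem_sup_left (mem_zpowers r₁))
    have hW2 : p ^ 2 ≤ Nat.card W := by
      obtain ⟨l, hl⟩ := (hY.to_subgroup W).exists_card_eq
      have h1 : Nat.card Z < Nat.card W := lt_of_not_ge fun hge =>
        hwZ ((eq_of_le_of_card_ge hZW hge).symm ▸ hwW)
      rw [hl, hZcard] at h1
      rw [hl]
      refine Nat.pow_le_pow_right hp.out.pos ?_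
      by_contra hh
      have := Nat.pow_le_pow_right hp.out.pos (show l ≤ 1 by omega)
      rw [pow_one] at this
      omega
    rw [hk] at hlt
    rw [hcard, hk]
    exact Nat.pow_le_pow_right hp.out.pos
      ((Nat.pow_lt_pow_iff_right hp.out.one_lt).mp (lt_of_le_of_lt hW2 hlt))
  have hr₁w : ¬ Commute r₁ w := fun hc => hnab ⟨⟨fun u v => Subtype.ext (by
    have key : ∀ u ∈ O, ∀ v ∈ O, Commute u v := by
      have hz : ∀ v ∈ Z, ∀ g, Commute g v := fun v hv g => mem_center_iff.mp (hZc hv) g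
      have hle : O ≤ closure (insert r₁ (insert w (Z : Set Y))) := by
        rw [← hOgen, ← hWgen, sup_le_iff, sup_le_iff]
        exact ⟨zpowers_le.mpr (subset_closure (by simp)), zpowers_le.mpr (subset_closure (by simp)),
          fun v hv => subset_closure (by simp [SetLike.mem_coe.mpr hv])⟩
      have : IsMulCommutative (closure (insert r₁ (insert w (Z : Set Y)))) := by
        refine isMulCommutative_closure ?_
        rintro _ (rfl | rfl | h1) _ (rfl | rfl | h2)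
        all_goals first
          | rfl
          | exact hc.eq
          | exact hc.eq.symm
          | exact (hz _ ‹_› _).eq
          | exact (hz _ ‹_› _).eq.symm
      exact fun u hu v hv => setLike_mul_comm (hle hu) (hle hv)
    exact key u u.2 v v.2)⟩⟩
  -- computations modulo `Z`
  have hπW : ∀ v ∈ W, π v ∈ center (Y ⧸ Z) := fun v hv => by
    refine mem_center_iff.mpr fun g => ?_
    obtain ⟨g, rfl⟩ := QuotientGroup.mk'_surjective Z g
    refine (commutatorElement_eq_one_iff_mul_comm.mp ?_).symm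
    rw [← map_commutatorElement, hπ1]
    exact hWZ (commutator_mem_commutator hv (mem_top g))
  have hπw : ⁅π x, π r₁⁆ = π w := by rw [← map_commutatorElement]
  have hπwc : ⁅π x, π r₁⁆ ∈ center (Y ⧸ Z) := hπw ▸ hπW w hwW
  have hNO : ∀ n ∈ O ⊔ C, ∀ u ∈ O, Commute (π n) (π u) := by
    intro n hn u hu
    obtain ⟨s, hs, c, hc, rfl⟩ := mem_sup_of_normal_right.mp hn
    rw [← commutatorElement_eq_one_iff_commute, ← map_commutatorElement, hπ1,
      show ⁅s * c, u⁆ = s * ⁅c, u⁆ * s⁻¹ * ⁅s, u⁆ by simp only [commutatorElement_def]; group,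
      commutatorElement_eq_one_iff_mul_comm.mpr (hCO u hu c hc).symm, mul_one, mul_inv_cancel, one_mul]
    exact commutator_mem_commutator hs hu
  have hscal : ∀ u, ∃ i : ℤ, (x ^ i)⁻¹ * u ∈ O ⊔ C := by
    intro u
    have hm : ⁅u, r₁⁆ ∈ W := by
      rw [hW, commutator_comm]; exact commutator_mem_commutator (mem_top u) hr₁
    obtain ⟨w', hw', z, hz, he⟩ := mem_sup_of_normal_right.mp (hWgen.symm ▸ hm : ⁅u, r₁⁆ ∈ zpowers w ⊔ Z)
    obtain ⟨i, rfl⟩ := mem_zpowers_iff.mp hw'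
    refine ⟨i, hinner r₁ hr₁ w (hWO hwW) hr₁w _ ?_ ?_⟩
    · rw [← hπ1, map_commutatorElement, commutatorElement_eq_one_iff_commute, map_mul, map_inv, map_zpow]
      refine inv_mul_commute ?_
      rw [commutator_zpow_left hπwc, hπw, ← map_commutatorElement, ← he, map_mul, hπ1.mpr hz, mul_one,
        map_zpow]
    · rw [← commutatorElement_inv]
      exact inv_mem (hWZ (commutator_mem_commutator hwW (mem_top _)))
  have hder : commutator Y ≤ W := by
    set q := QuotientGroup.mk' W with hq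
    have hc : ∀ v ∈ O ⊔ C, ∀ g, Commute (q v) (q g) := by
      intro v hv g
      obtain ⟨s, hs, c, hc, rfl⟩ := mem_sup_of_normal_right.mp hv
      rw [map_mul]
      refine Commute.mul_left ?_ ?_
      · rw [← commutatorElement_eq_one_iff_commute, ← map_commutatorElement]
        exact (QuotientGroup.eq_one_iff _).mpr (commutator_mem_commutator hs (mem_top g))
      · exact Commute.map (show Commute c g from (mem_center_iff.mp (hCc hc) g).symm) q
    rw [_root_.commutator_def, commutator_le]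
    intro u _ v _
    obtain ⟨i, hi⟩ := hscal u
    obtain ⟨j, hj⟩ := hscal v
    rw [← QuotientGroup.eq_one_iff, ← QuotientGroup.mk'_apply, map_commutatorElement,
      commutatorElement_eq_one_iff_commute, show u = x ^ i * ((x ^ i)⁻¹ * u) by group,
      show v = x ^ j * ((x ^ j)⁻¹ * v) by group, map_mul q (x ^ i), map_mul q (x ^ j)]
    exact ((Commute.map (Commute.zpow_zpow_self x i j) q).mul_right (hc _ hj _).symm).mul_left
      ((hc _ hi _).mul_right (hc _ hi _))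
  have hsc : PGroups.ClassThree.SmallClass p Y := PGroups.ClassThree.smallClass_of_commutator
    (Or.inr ⟨by omega, le_bot_iff.mp <| by
      refine (commutator_mono ((commutator_mono hder le_rfl).trans hWZ) le_rfl).trans ?_
      rw [le_bot_iff, commutator_eq_bot_iff_le_centralizer]
      exact hZc.trans (center_le_centralizer _)⟩)
  have hcom : ∀ u v : Y, (v⁻¹ * u⁻¹ * v * u) ^ p = 1 := fun u v => hexp _ (hWO (hder (by
    have h := commutator_mem_commutator (mem_top v⁻¹) (mem_top u⁻¹)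
    rw [_root_.commutator_def]
    simpa [commutatorElement_def, mul_assoc] using h)))
  let f : Y →* Y :=
    { toFun := fun u => u ^ p
      map_one' := one_pow p
      map_mul' := fun u v => PGroups.ClassThree.mul_pow_prime hp2 hsc (hcom u v) }
  have hfN : ∀ n ∈ O ⊔ C, ∃ c ∈ C, n ^ p = c ^ p := by
    intro n hn
    obtain ⟨s, hs, c, hc, rfl⟩ := mem_sup_of_normal_right.mp hn
    exact ⟨c, hc, by rw [Commute.mul_pow (hCO s hs c hc), hexp s hs, one_mul]⟩
  obtain ⟨g₀, hg₀⟩ := hCcyc.exists_generator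
  have hg₀' : ∀ c ∈ C, ∃ i : ℤ, (g₀ : Y) ^ i = c := fun c hc => by
    obtain ⟨i, hi⟩ := mem_zpowers_iff.mp (hg₀ ⟨c, hc⟩)
    exact ⟨i, by rw [← coe_zpow]; exact congrArg Subtype.val hi⟩
  -- the `p`-th power of `x`
  obtain ⟨s, hs, c, hc, hxp⟩ : ∃ s ∈ W, ∃ c ∈ C, s * c = x ^ (p : ℤ) := by
    have hxp0 : x ^ (p : ℤ) ∈ O ⊔ C := by
      refine hinner r₁ hr₁ w (hWO hwW) hr₁w _ ?_ ?_
      · rw [← hπ1, map_commutatorElement, map_zpow, commutator_zpow_left hπwc, hπw, zpow_natCast,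
          ← map_pow, hexp w (hWO hwW), map_one]
      · rw [← commutatorElement_inv]
        exact inv_mem (hWZ (commutator_mem_commutator hwW (mem_top _)))
    obtain ⟨r, hr', c, hc, he⟩ := mem_sup_of_normal_right.mp hxp0
    refine ⟨r, ?_, c, hc, he⟩
    obtain ⟨v, hv, w', hw', rfl⟩ := mem_sup_of_normal_right.mp (hOgen.symm ▸ hr' : r ∈ zpowers r₁ ⊔ W)
    obtain ⟨k, rfl⟩ := mem_zpowers_iff.mp hv
    have h1 : Commute x (r₁ ^ k * w') := by
      rw [show r₁ ^ k * w' = x ^ (p : ℤ) * c⁻¹ by rw [← he, mul_inv_cancel_right]]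
      exact (Commute.self_zpow x _).mul_right ((mem_center_iff.mp (hCc (inv_mem hc)) x) : Commute x c⁻¹)
    have h2 : π w ^ k = 1 := by
      have h3 : ⁅π x, π r₁ ^ k⁆ = π w ^ k := by
        have := commutator_zpow_zpow hπwc 1 k
        rwa [zpow_one, one_mul, hπw] at this
      rw [← h3, commutatorElement_eq_one_iff_commute, ← map_zpow,
        show r₁ ^ k = r₁ ^ k * w' * w'⁻¹ by group, map_mul π _ w'⁻¹]
      exact (Commute.map h1 π).mul_right (mem_center_iff.mp (hπW _ (inv_mem hw')) (π x))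
    obtain ⟨t, rfl⟩ : (p : ℤ) ∣ k := by
      have := zpow_congr_mod (p := p) (u := π w) (i := 0) (j := k)
        (by rw [← map_pow, hexp w (hWO hwW), map_one]) (fun h => hwZ (hπ1.mp h))
        (by rw [zpow_zero, h2])
      simpa using this
    rw [zpow_mul, zpow_natCast, hexp r₁ hr₁, one_zpow, one_mul]
    exact hw'
  set P := W ⊔ C with hP
  have hr₁P : r₁ ∉ P := by
    intro h
    obtain ⟨v, hv, d, hd, he⟩ := mem_sup_of_normal_right.mp h
    have : d ∈ Z := hOC d (by rw [show d = v⁻¹ * r₁ by rw [← he]; group]; exact mul_mem (inv_mem (hWO hv)) hr₁) hd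
    exact hr₁W (he ▸ mul_mem hv (hZW this))
  have hWinv : ∀ a, ∀ v ∈ W, φ a v ∈ W := by
    intro a
    have : W.map (φ a).toMonoidHom ≤ W := by
      rw [hW, map_commutator]
      refine commutator_mono ?_ le_top
      rintro _ ⟨u, hu, rfl⟩
      exact hOinv a u hu
    exact fun v hv => this ⟨v, hv, rfl⟩
  have hPinv : ∀ a, ∀ v ∈ P, φ a v ∈ P := by
    intro a v hv
    obtain ⟨v₁, hv₁, d, hd, rfl⟩ := mem_sup_of_normal_right.mp hv
    rw [map_mul]
    exact mul_mem_sup (hWinv a v₁ hv₁) (hCinv a d hd)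
  have hPn : P.Normal := inferInstance
  -- every square of an operator fixes `r₁` modulo `W`
  have hsq : ∀ a, φ a (φ a r₁) * r₁⁻¹ ∈ W := by
    intro a
    obtain ⟨v, hv, w₁, hw₁, he⟩ := mem_sup_of_normal_right.mp
      (hOgen.symm ▸ hOinv a r₁ hr₁ : φ a r₁ ∈ zpowers r₁ ⊔ W)
    obtain ⟨β, rfl⟩ := mem_zpowers_iff.mp hv
    obtain ⟨γ, hγ⟩ := hscal (φ a x)
    set n := (x ^ γ)⁻¹ * φ a x with hn
    have hex : φ a x = x ^ γ * n := by rw [hn, mul_inv_cancel_left]
    have hπew : π (φ a w) = π w ^ (γ * β) := by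
      rw [hw, map_commutatorElement, map_commutatorElement, hex, ← he, map_mul π (x ^ γ) n,
        map_mul π (r₁ ^ β) w₁, map_zpow π x, map_zpow π r₁]
      have hcn : Commute (π n) (π r₁ ^ β * π w₁) :=
        ((hNO n hγ r₁ hr₁).zpow_right β).mul_right (hNO n hγ w₁ (hWO hw₁))
      calc ⁅π x ^ γ * π n, π r₁ ^ β * π w₁⁆
          = π x ^ γ * (π n * (π r₁ ^ β * π w₁) * (π n)⁻¹) * (π x ^ γ)⁻¹ * (π r₁ ^ β * π w₁)⁻¹ := by
            simp only [commutatorElement_def]; group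
        _ = π x ^ γ * (π r₁ ^ β * π w₁) * (π x ^ γ)⁻¹ * (π r₁ ^ β * π w₁)⁻¹ := by
            rw [hcn.eq, mul_inv_cancel_right]
        _ = π x ^ γ * π r₁ ^ β * (π w₁ * (π x ^ γ)⁻¹) * (π w₁)⁻¹ * (π r₁ ^ β)⁻¹ := by group
        _ = π x ^ γ * π r₁ ^ β * ((π x ^ γ)⁻¹ * π w₁) * (π w₁)⁻¹ * (π r₁ ^ β)⁻¹ := by
            rw [← mem_center_iff.mp (hπW w₁ hw₁)]
        _ = ⁅π x ^ γ, π r₁ ^ β⁆ := by simp only [commutatorElement_def]; group
        _ = _ := by rw [commutator_zpow_zpow hπwc, hπw]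
    have hβ : (p : ℤ) ∣ 1 - β * β := by
      have hpow : φ a s * φ a c = (x ^ (p : ℤ)) ^ γ * n ^ p := by
        rw [← map_mul, hxp, map_zpow, hex, zpow_natCast, zpow_natCast]
        show f (x ^ γ * n) = _
        rw [map_mul, map_zpow]
        rfl
      obtain ⟨c₁, hc₁, hnp⟩ := hfN n hγ
      by_cases hsZ : s ∈ Z
      · -- `x ^ p` generates `C`
        have hxC : x ^ (p : ℤ) ∈ C := hxp ▸ mul_mem (hZC hsZ) hc
        obtain ⟨m, hm⟩ := hg₀' _ hxC
        have hpm : ¬ (p : ℤ) ∣ m := by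
          rintro ⟨t, rfl⟩
          have hcg : Commute x ((g₀ : Y) ^ t) := mem_center_iff.mp (hCc (zpow_mem g₀.2 t)) x
          have h1 : (x * ((g₀ : Y) ^ t)⁻¹) ^ p = 1 := by
            rw [hcg.inv_right.mul_pow, inv_pow, ← zpow_natCast, ← zpow_natCast, ← zpow_mul,
              mul_comm t, hm, mul_inv_cancel]
          refine hx ?_
          rw [show x = x * ((g₀ : Y) ^ t)⁻¹ * (g₀ : Y) ^ t by group]
          exact mul_mem_sup (hmemO _ h1) (zpow_mem g₀.2 t)
        obtain ⟨d, hd⟩ := hg₀' _ (hCinv a _ g₀.2)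
        obtain ⟨l, hl⟩ := hg₀' c₁ hc₁
        have e1 : φ a (x ^ (p : ℤ)) = (g₀ : Y) ^ (m * γ + l * p) := by
          rw [← hxp, map_mul, hpow, hnp, ← hm, ← hl, ← zpow_mul, ← zpow_natCast, ← zpow_mul, ← zpow_add]
        have e2 : φ a (x ^ (p : ℤ)) = (g₀ : Y) ^ (d * m) := by
          rw [← hm, map_zpow, ← hd, zpow_mul]
        have hz : ⁅r₁, w⁆ ∈ Z := commutator_mem_commutator hr₁ (hWO hwW)
        have hz1 : ⁅r₁, w⁆ ≠ 1 := fun h => hr₁w (commutatorElement_eq_one_iff_commute.mp h)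
        have hzp : ⁅r₁, w⁆ ^ p = 1 := hexp _ (hZO hz)
        obtain ⟨t, ht⟩ := hg₀' _ (hZC hz)
        have hpord : (p : ℤ) ∣ orderOf (g₀ : Y) := by
          refine Int.natCast_dvd_natCast.mpr ?_
          obtain ⟨k, hk⟩ := IsPGroup.iff_orderOf.mp hY (g₀ : Y)
          rw [hk]
          refine dvd_pow_self p fun h0 => hz1 ?_
          rw [← ht, orderOf_eq_one_iff.mp (by rw [hk, h0, pow_zero] : orderOf (g₀ : Y) = 1), one_zpow]
        have hdγ : (p : ℤ) ∣ d - γ := by
          have h1 : (p : ℤ) ∣ d * m - (m * γ + l * p) :=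
            hpord.trans (Int.modEq_iff_dvd.mp (zpow_eq_zpow_iff_modEq.mp (e1.symm.trans e2)))
          have h2 : (p : ℤ) ∣ (d - γ) * m := by
            have := dvd_add h1 (dvd_mul_left (p : ℤ) l)
            rwa [show d * m - (m * γ + l * p) + l * p = (d - γ) * m by ring] at this
          exact ((Nat.prime_iff_prime_int.mp hp.out).dvd_mul.mp h2).resolve_right hpm
        have hez : φ a ⁅r₁, w⁆ = ⁅r₁, w⁆ ^ γ := by
          have : φ a ⁅r₁, w⁆ = ⁅r₁, w⁆ ^ d := by rw [← ht, map_zpow, ← hd, ← zpow_mul, ← zpow_mul, mul_comm]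
          obtain ⟨k, hk⟩ := hdγ
          rw [this, show d = γ + (p : ℤ) * k by linarith, zpow_add, zpow_mul, zpow_natCast, hzp, one_zpow,
            mul_one]
        have hez2 : φ a ⁅r₁, w⁆ = ⁅r₁, w⁆ ^ (β * (γ * β)) := by
          have hd2 : φ a w * (w ^ (γ * β))⁻¹ ∈ Z := by
            rw [← hπ1, map_mul, map_inv, map_zpow, hπew, mul_inv_cancel]
          rw [map_commutatorElement, ← he,
            show φ a w = φ a w * (w ^ (γ * β))⁻¹ * w ^ (γ * β) by group]
          set z₂ := φ a w * (w ^ (γ * β))⁻¹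
          have hzc₂ : ∀ g, Commute g z₂ := fun g => mem_center_iff.mp (hZc hd2) g
          calc ⁅r₁ ^ β * w₁, z₂ * w ^ (γ * β)⁆
              = r₁ ^ β * (w₁ * z₂ * w ^ (γ * β) * w₁⁻¹) * (r₁ ^ β)⁻¹ * (z₂ * w ^ (γ * β))⁻¹ := by
                simp only [commutatorElement_def]; group
            _ = r₁ ^ β * (z₂ * w ^ (γ * β)) * (r₁ ^ β)⁻¹ * (z₂ * w ^ (γ * β))⁻¹ := by
                rw [(hzc₂ w₁).eq, mul_assoc z₂, (hWcomm w₁ hw₁ _ (zpow_mem hwW _)).eq]; group
            _ = r₁ ^ β * z₂ * w ^ (γ * β) * (r₁ ^ β)⁻¹ * (w ^ (γ * β))⁻¹ * z₂⁻¹ := by group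
            _ = z₂ * (r₁ ^ β * w ^ (γ * β) * (r₁ ^ β)⁻¹ * (w ^ (γ * β))⁻¹) * z₂⁻¹ := by
                rw [(hzc₂ _).eq]; group
            _ = ⁅r₁ ^ β, w ^ (γ * β)⁆ := by
                rw [commutatorElement_def, ← (hzc₂ _).eq, mul_inv_cancel_right]
            _ = _ := commutator_zpow_zpow (hZc hz) _ _
        have h1 := zpow_congr_mod hzp hz1 (hez2.symm.trans hez)
        rw [show γ - β * (γ * β) = γ * (1 - β * β) by ring] at h1
        refine ((Nat.prime_iff_prime_int.mp hp.out).dvd_mul.mp h1).resolve_left fun hd' => hz1 ?_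
        refine (φ a).injective ?_
        obtain ⟨k, rfl⟩ := hd'
        rw [hez, map_one, zpow_mul, zpow_natCast, hzp, one_zpow]
      · -- `x ^ p` has a component outside `C`
        set q := QuotientGroup.mk' C with hq
        have hq1 : ∀ {u : Y}, q u = 1 ↔ u ∈ C := fun {u} => QuotientGroup.eq_one_iff u
        have hqs : q s ≠ 1 := fun h => hsZ (hOC s (hWO hs) (hq1.mp h))
        have hqsp : q s ^ p = 1 := by rw [← map_pow, hexp s (hWO hs), map_one]
        have e1 : q (φ a s) = q s ^ γ := by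
          have h := congrArg q hpow
          rw [map_mul, map_mul, hq1.mpr (hCinv a c hc), mul_one, hnp, hq1.mpr (pow_mem hc₁ p), mul_one,
            map_zpow, ← hxp, map_mul, hq1.mpr hc, mul_one] at h
          exact h
        obtain ⟨v, hv, z, hz, hvz⟩ := mem_sup_of_normal_right.mp (hWgen.symm ▸ hs : s ∈ zpowers w ⊔ Z)
        obtain ⟨j, rfl⟩ := mem_zpowers_iff.mp hv
        have hπes : π (φ a s) = π s ^ (γ * β) := by
          have hzz : π (φ a z) = 1 := by
            rw [hπ1]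
            have : Z.map (φ a).toMonoidHom ≤ Z := by
              rw [hZ, map_commutator]
              refine commutator_mono ?_ ?_ <;> (rintro _ ⟨u, hu, rfl⟩; exact hOinv a u hu)
            exact this ⟨z, hz, rfl⟩
          rw [← hvz, map_mul, map_zpow, map_mul, map_mul, hzz, hπ1.mpr hz, mul_one, mul_one, map_zpow,
            map_zpow, hπew, ← zpow_mul, ← zpow_mul, mul_comm]
        have e2 : q (φ a s) = q s ^ (γ * β) := by
          have : φ a s * (s ^ (γ * β))⁻¹ ∈ Z := by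
            rw [← hπ1, map_mul, map_inv, map_zpow, hπes, mul_inv_cancel]
          have h := hq1.mpr (hZC this)
          rwa [map_mul, map_inv, map_zpow, mul_inv_eq_one] at h
        have h1 := zpow_congr_mod hqsp hqs (e2.symm.trans e1)
        rw [show γ - γ * β = γ * (1 - β) by ring] at h1
        have h2 := ((Nat.prime_iff_prime_int.mp hp.out).dvd_mul.mp h1).resolve_left fun hd' => hqs ?_
        · exact h2.trans ⟨1 + β, by ring⟩
        · refine hq1.mpr (hCinj a s (hq1.mp ?_))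
          obtain ⟨k, rfl⟩ := hd'
          rw [e1, zpow_mul, zpow_natCast, hqsp, one_zpow]
    set q := QuotientGroup.mk' W with hq
    have hqW : ∀ v ∈ W, q v = 1 := fun v hv => (QuotientGroup.eq_one_iff v).mpr hv
    refine (QuotientGroup.eq_one_iff _).mp ?_
    show q (φ a (φ a r₁) * r₁⁻¹) = 1
    rw [← he, map_mul (φ a), map_zpow, map_mul, map_mul, hqW _ (hWinv a w₁ hw₁), mul_one, map_zpow,
      ← he, map_mul, hqW _ hw₁, mul_one, map_zpow, ← zpow_mul, map_inv]
    obtain ⟨k, hk⟩ := hβ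
    rw [show β * β = 1 + (p : ℤ) * -k by linarith, zpow_add, zpow_one, zpow_mul, zpow_natCast,
      ← map_pow, hexp r₁ hr₁, map_one, one_zpow, mul_one, mul_inv_cancel]
  refine hr₁P (MetacyclicAction.mem_of_fixed_coset hY φ hA hgen P (hder.trans le_sup_left) hPinv
    (l := r₁) fun a => mem_sup_left ?_)
  obtain ⟨m, hm⟩ := hodd
  have hpow : ∀ k : ℕ, φ ((a * a) ^ k) r₁ * r₁⁻¹ ∈ W := by
    intro k
    induction k with
    | zero => rw [pow_zero, map_one, MulAut.one_apply, mul_inv_cancel]; exact one_mem _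
    | succ k ih =>
      rw [pow_succ', map_mul, MulAut.mul_apply]
      have e : φ (a * a) (φ ((a * a) ^ k) r₁) * r₁⁻¹ =
          φ (a * a) (φ ((a * a) ^ k) r₁ * r₁⁻¹) * (φ (a * a) r₁ * r₁⁻¹) := by
        rw [map_mul (φ (a * a)), map_inv (φ (a * a))]; group
      rw [e]
      refine mul_mem (hWinv _ _ ih) ?_
      rw [map_mul, MulAut.mul_apply]
      exact hsq a
  have ha : (a * a) ^ (m + 1) = a := by
    rw [← pow_two, ← pow_mul, show 2 * (m + 1) = Nat.card A + 1 by omega, pow_succ, pow_card_eq_one',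
      one_mul]
  exact ha ▸ hpow (m + 1)

end Cfsg.Agent.OddLocal.RankTwoAction
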