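import Cfsg.Agent.OddLocal.Max2Side
import Cfsg.Agent.S1412

/-! Auxiliary facts for the uniqueness of the normaliser of a line. -/

set_option autoImplicit false
set_option linter.unusedSectionVars false

namespace Cfsg.Agent.OddLocal.P2Elem

open Cfsg Subgroup
open scoped commutatorElement
open Cfsg.Agent.Transfer.Fusion (map_conj_mul card_map_conj map_conj_eq_self_iff map_conj_inv_cancel)

variable {G : Type*} [Group G] [Finite G] {p q : ℕ} [hp : Fact p.Prime] [hq : Fact q.Prime]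
  {A M : Subgroup G}

/-- `Ω₁(Z(Q))` as a subgroup of `G`. -/
def omegaCenter (q : ℕ) (Q : Subgroup G) : Subgroup G where
  carrier := {x | x ∈ Q ∧ x ∈ centralizer (Q : Set G) ∧ x ^ q = 1}
  one_mem' := ⟨one_mem Q, one_mem _, one_pow q⟩
  mul_mem' := fun {x y} hx hy => ⟨mul_mem hx.1 hy.1, mul_mem hx.2.1 hy.2.1, by
    rw [(show Commute x y from (mem_centralizer_iff.mp hy.2.1 x hx.1)).mul_pow, hx.2.2, hy.2.2, one_mul]⟩
  inv_mem' := fun {x} hx => ⟨inv_mem hx.1, inv_mem hx.2.1, by rw [inv_pow, hx.2.2, inv_one]⟩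

theorem omegaCenter_le (Q : Subgroup G) : omegaCenter q Q ≤ Q := fun _ h => h.1

theorem omegaCenter_le_centralizer (Q : Subgroup G) : omegaCenter q Q ≤ centralizer (Q : Set G) :=
  fun _ h => h.2.1

theorem normalizer_le_normalizer_omegaCenter (Q : Subgroup G) :
    normalizer (Q : Set G) ≤ normalizer (omegaCenter q Q : Set G) := by
  rw [le_normalizer_iff]
  exact fun g hg x hx => ⟨(mem_normalizer_iff.mp hg x).mp hx.1, Sigma.centralizer_conj hg hx.2.1, by
    rw [conj_pow, hx.2.2]; group⟩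

theorem omegaCenter_ne_bot {Q : Subgroup G} (hQ : IsPGroup q Q) (h : Q ≠ ⊥) : omegaCenter q Q ≠ ⊥ := by
  have : Nontrivial Q := (nontrivial_iff_ne_bot _).mpr h
  obtain ⟨z, hz, hzp, hz1⟩ := RankThree.exists_center_order_p (p := q) hQ
  intro e
  have h1 : (z : G) ∈ omegaCenter q Q := ⟨z.2, mem_centralizer_iff.mpr fun y hy =>
    congrArg Subtype.val (mem_center_iff.mp hz ⟨y, hy⟩), congrArg Subtype.val hzp⟩
  rw [e, mem_bot] at h1
  exact hz1 (Subtype.ext h1)

theorem centralizer_singleton_le (a : G) :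
    centralizer ({a} : Set G) ≤ normalizer (zpowers a : Set G) := by
  refine le_trans ?_ (centralizer_le_normalizer _)
  rw [zpowers_eq_closure, centralizer_closure]

theorem centralizer_le_singleton {a : G} (ha : a ∈ A) :
    centralizer (A : Set G) ≤ centralizer ({a} : Set G) := centralizer_le (by simpa using ha)

theorem max2_of_not_unique (hG : IsMinSimpleOddOrder G) (hM : IsCoatom M) (hAM : A ≤ M)
    (hAe : IsElementaryAbelian p A) (hAc : Nat.card A = p ^ 2) (h : ¬ InUniqueMaximal A) : Max2 p A := by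
  refine ⟨hAe, hAc, fun x hx hxp => ?_⟩
  by_contra hxA
  have hsup := PLocal.ThompsonSubgroup.IsElementaryAbelian.sup hAe
    (PLocal.ThompsonSubgroup.isElementaryAbelian_zpowers hxp)
    (zpowers_le.mpr hx |> le_centralizer_iff.mp)
  refine h (Unique.uniqueness hG (K := A) (fun e => hM.1 (top_le_iff.mp (e ▸ hAM)))
    (Sigma.not_rankLE_one_of_card_sq hAe hAc) (Or.inr fun hr => ?_))
  refine Unique.not_pRankLE_of_elementary (B := A ⊔ zpowers x) (sup_le ?_ (zpowers_le.mpr hx)) hsup ?_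
    (hr p hp.out)
  · exact fun a ha => mem_centralizer_iff.mpr fun b hb => Components.Hyperplane.mem_comm hAe hb ha
  · obtain ⟨n, hn⟩ := (Components.Hyperplane.isPGroup hsup).exists_card_eq
    have hlt : Nat.card A < Nat.card (A ⊔ zpowers x : Subgroup G) :=
      Sigma.card_lt_of_lt (lt_of_le_of_ne le_sup_left fun e => hxA (e ▸ mem_sup_right (mem_zpowers x)))
    rw [hAc, hn, Nat.pow_lt_pow_iff_right hp.out.one_lt] at hlt
    rw [hn]
    exact Nat.pow_le_pow_right hp.out.pos hlt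

/-- `N(⟨a⟩)` uniquely in `M` unless it lies in another maximal subgroup. -/
theorem exists_other (hG : IsMinSimpleOddOrder G) (hA : Max2 p A) {a : G} (ha : a ∈ A) (ha1 : a ≠ 1)
    (h : ¬ (normalizer (zpowers a : Set G) ≤ M ∧
      ∀ L : Subgroup G, IsCoatom L → normalizer (zpowers a : Set G) ≤ L → L = M)) :
    ∃ L : Subgroup G, IsCoatom L ∧ L ≠ M ∧ normalizer (zpowers a : Set G) ≤ L := by
  by_cases hle : normalizer (zpowers a : Set G) ≤ M
  · simp only [not_and, not_forall] at h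
    obtain ⟨L, hL, hNL, hne⟩ := h hle
    exact ⟨L, hL, hne, hNL⟩
  · obtain ⟨L, hL, hNL⟩ := (eq_top_or_exists_le_coatom (normalizer (zpowers a : Set G))).resolve_left
      (Transitivity.normalizer_ne_top hG (zpowers_ne_bot.mpr ha1)
        fun e => hA.ne_top hG (top_le_iff.mp (e ▸ zpowers_le.mpr ha)))
    exact ⟨L, hL, fun e => hle (e ▸ hNL), hNL⟩

/-- A nontrivial subgroup of a cyclic `q`-group contains the elements of order `q`. -/
theorem mem_of_cyclic {C R : Subgroup G} [IsCyclic C] (hC : IsPGroup q C) (hRC : R ≤ C) (hR : R ≠ ⊥)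
    {z : G} (hz : z ∈ C) (hzq : z ^ q = 1) : z ∈ R := by
  obtain ⟨w, hw, hwq⟩ : ∃ w ∈ R, orderOf w = q := by
    obtain ⟨n, hn⟩ := (hC.to_le hRC).exists_card_eq
    have hn0 : n ≠ 0 := fun e => hR (card_eq_one.mp (by rw [hn, e, pow_zero]))
    obtain ⟨w, hw⟩ := exists_prime_orderOf_dvd_card' q (hn ▸ dvd_pow_self q hn0 : q ∣ Nat.card R)
    exact ⟨w, w.2, by rw [orderOf_coe, hw]⟩
  set W := zpowers z ⊔ zpowers w
  have hWC : W ≤ C := sup_le (zpowers_le.mpr hz) (zpowers_le.mpr (hRC hw))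
  have : IsCyclic W := isCyclic_of_surjective _ (subgroupOfEquivOfLe hWC).surjective
  have hcomm : ∀ x ∈ zpowers z, ∀ y ∈ zpowers w, Commute x y := fun x hx y hy =>
    setLike_mul_comm (s := C) (zpowers_le.mpr hz hx) (zpowers_le.mpr (hRC hw) hy)
  have hWe := PLocal.ThompsonSubgroup.IsElementaryAbelian.sup
    (PLocal.ThompsonSubgroup.isElementaryAbelian_zpowers hzq)
    (PLocal.ThompsonSubgroup.isElementaryAbelian_zpowers (orderOf_dvd_iff_pow_eq_one.mp hwq.dvd))
    (fun y hy => mem_centralizer_iff.mpr fun x hx => (hcomm y hy x hx).symm.eq)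
  have h1 := ZGroupCore.card_le_of_cyclic (W := W) hq.out.pos hWe.2
  have h2 := eq_of_le_of_card_ge (le_sup_right : zpowers w ≤ W) (by rwa [Nat.card_zpowers, hwq])
  exact zpowers_le.mpr hw (h2 ▸ mem_sup_left (mem_zpowers z) : z ∈ zpowers w)

theorem comm_of_card_le_sq {T : Subgroup G} (hT : IsPGroup q T) (h : Nat.card T ≤ q ^ 2) :
    IsMulCommutative T := by
  obtain ⟨n, hn⟩ := hT.exists_card_eq
  rw [hn, Nat.pow_le_pow_iff_right hq.out.one_lt] at h
  interval_cases n
  · have : Subsingleton T := Finite.card_le_one_iff_subsingleton.mp (by simp [hn])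
    exact ⟨⟨fun a b => Subsingleton.elim _ _⟩⟩
  · have : IsCyclic T := isCyclic_of_prime_card (p := q) (by simpa using hn)
    exact IsCyclic.isMulCommutative
  · exact IsPGroup.isMulCommutative_of_card_eq_prime_sq hn

/-- In a group of order `q³` the commutator subgroup is central. -/
theorem commutator_le_centralizer_of_card {P : Subgroup G} (hc : Nat.card P = q ^ 3) :
    ⁅P, P⁆ ≤ centralizer (P : Set G) := by
  have hP : IsPGroup q P := IsPGroup.of_card hc
  have : Nontrivial P := Finite.one_lt_card_iff_nontrivial.mp (hc ▸ Nat.one_lt_pow (by norm_num) hq.out.one_lt)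
  have := IsPGroup.center_nontrivial hP
  obtain ⟨n, hn⟩ := (hP.to_quotient (center P)).exists_card_eq
  have hn2 : n ≤ 2 := by
    have h1 := card_mul_index (center P)
    rw [index_eq_card, hn, hc] at h1
    have h2 : 1 < Nat.card (center P) := Finite.one_lt_card
    by_contra hlt
    have h3 : q ^ 3 ≤ q ^ n := Nat.pow_le_pow_right hq.out.pos (by omega)
    nlinarith [pow_pos hq.out.pos 3]
  have hcomm : IsMulCommutative (⊤ : Subgroup (P ⧸ center P)) :=
    comm_of_card_le_sq ((hP.to_quotient (center P)).to_subgroup ⊤)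
      (by rw [card_top, hn]; exact Nat.pow_le_pow_right hq.out.pos hn2)
  have h1 : commutator P ≤ center P := by
    rw [_root_.commutator_def, commutator_le]
    intro a _ b _
    rw [← QuotientGroup.eq_one_iff]
    show QuotientGroup.mk' (center P) ⁅a, b⁆ = 1
    rw [map_commutatorElement, commutatorElement_eq_one_iff_mul_comm]
    exact setLike_mul_comm (s := (⊤ : Subgroup (P ⧸ center P))) (mem_top _) (mem_top _)
  rw [← map_subtype_commutator]
  rintro _ ⟨c, hc', rfl⟩
  exact mem_centralizer_iff.mpr fun x hx =>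
    congrArg Subtype.val (mem_center_iff.mp (h1 hc') ⟨x, hx⟩)

/-- `A` centralising the commutators makes `[D, a]` commute with the fixed points of `a`. -/
theorem key {P D : Subgroup G} (hd : ⁅P, P⁆ ≤ centralizer (A : Set G)) (hDP : D ≤ P) {x a : G}
    (hx : x ∈ P) (hxa : x ∈ centralizer ({a} : Set G)) (ha : a ∈ A) :
    ⁅D, zpowers a⁆ ≤ centralizer ({x} : Set G) := by
  rw [commutator_le]
  intro y hy b hb
  obtain ⟨i, rfl⟩ := mem_zpowers_iff.mp hb
  have hxb : Commute x (a ^ i) :=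
    (show Commute x a from mem_centralizer_singleton_iff.mp hxa).zpow_right i
  have h1 : ⁅x, y⁻¹⁆ * a ^ i = a ^ i * ⁅x, y⁻¹⁆ :=
    (mem_centralizer_iff.mp (hd (commutator_mem_commutator hx (inv_mem (hDP hy)))) _
      (zpow_mem ha i)).symm
  generalize a ^ i = b at hxb h1
  rw [mem_centralizer_singleton_iff, commutatorElement_def]
  rw [commutatorElement_def, inv_inv] at h1
  have h2 : b * y⁻¹ * b⁻¹ * x⁻¹ * (b * y * b⁻¹) = y⁻¹ * x⁻¹ * y := by
    calc b * y⁻¹ * b⁻¹ * x⁻¹ * (b * y * b⁻¹)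
        = b * y⁻¹ * (x * b)⁻¹ * (b * y * b⁻¹) := by group
      _ = b * y⁻¹ * (b * x)⁻¹ * (b * y * b⁻¹) := by rw [hxb.eq]
      _ = x⁻¹ * (x * b) * y⁻¹ * x⁻¹ * y * b⁻¹ := by group
      _ = x⁻¹ * (b * x) * y⁻¹ * x⁻¹ * y * b⁻¹ := by rw [hxb.eq]
      _ = x⁻¹ * (b * (x * y⁻¹ * x⁻¹ * y)) * b⁻¹ := by group
      _ = x⁻¹ * ((x * y⁻¹ * x⁻¹ * y) * b) * b⁻¹ := by rw [← h1]
      _ = y⁻¹ * x⁻¹ * y := by group
  have h3 : y * b * y⁻¹ * b⁻¹ * x⁻¹ = x⁻¹ * (y * b * y⁻¹ * b⁻¹) := by
    calc y * b * y⁻¹ * b⁻¹ * x⁻¹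
        = y * (b * y⁻¹ * b⁻¹ * x⁻¹ * (b * y * b⁻¹)) * (b * y⁻¹ * b⁻¹) := by group
      _ = y * (y⁻¹ * x⁻¹ * y) * (b * y⁻¹ * b⁻¹) := by rw [h2]
      _ = x⁻¹ * (y * b * y⁻¹ * b⁻¹) := by group
  calc y * b * y⁻¹ * b⁻¹ * x = x * (x⁻¹ * (y * b * y⁻¹ * b⁻¹)) * x := by group
    _ = x * (y * b * y⁻¹ * b⁻¹ * x⁻¹) * x := by rw [h3]
    _ = x * (y * b * y⁻¹ * b⁻¹) := by group

/-- If `A` centralises the centre and the commutators of `P` but not `P`, then some `[C_P(b), A]` is
non-abelian. -/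
theorem exists_nonabelian (hA : Max2 p A) {P : Subgroup G} (hAP : A ≤ normalizer (P : Set G))
    (hcop : (Nat.card A).Coprime (Nat.card P))
    (hZ : P ⊓ centralizer (P : Set G) ≤ centralizer (A : Set G)) (hd : ⁅P, P⁆ ≤ centralizer (A : Set G))
    (hne : ¬ P ≤ centralizer (A : Set G)) :
    ∃ b ∈ A, b ≠ 1 ∧ ¬ IsMulCommutative ↥⁅P ⊓ centralizer ({b} : Set G), A⁆ := by
  by_contra hcon
  push Not at hcon
  obtain ⟨b, hb, hb1, hbne⟩ := hA.exists_fixed hAP hcop hne
  set C := P ⊓ centralizer ({b} : Set G) with hC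
  have hAC : A ≤ normalizer (C : Set G) := hA.le_normalizer_inf_centralizer hAP hb
  have hcC : (Nat.card A).Coprime (Nat.card C) := hcop.coprime_dvd_right (card_dvd_of_le inf_le_left)
  have hsol : Group.IsSolvable A := @Coprime.isSolvable_of_isMulCommutative G _ A hA.comm
  set D := ⁅C, A⁆ with hD
  have hDC : D ≤ C := Coprime.commutator_le_of_le_normalizer hAC
  have hAD : A ≤ normalizer (D : Set G) := normalizer_commutator_ge_right C A
  have hDD : ⁅D, A⁆ = D := hA.commutator_commutator_eq hAC hcC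
  have hcD : (Nat.card A).Coprime (Nat.card D) := hcC.coprime_dvd_right (card_dvd_of_le hDC)
  have hkT : zpowers b ≤ centralizer (D : Set G) := zpowers_le.mpr (mem_centralizer_iff.mpr fun d hd =>
    mem_centralizer_singleton_iff.mp (mem_inf.mp (hDC hd)).2)
  have hDab := hcon b hb hb1
  suffices hDP : D ≤ centralizer (P : Set G) by
    have h1 : ⁅D, A⁆ = ⊥ := Coprime.commutator_eq_bot_iff_le_centralizer'.mpr
      (le_centralizer_iff.mp ((le_inf (hDC.trans inf_le_left) hDP).trans hZ))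
    rw [hDD] at h1
    exact hbne (le_centralizer_iff.mp (Coprime.commutator_eq_bot_iff_le_centralizer'.mp h1))
  have := hA.comm
  refine le_centralizer_iff.mp ((Coprime.fixedGen_eq hA.not_isCyclic hAP hcop).symm.le.trans ?_)
  refine iSup₂_le fun b' hb' => ?_
  by_cases hbb : b' ∈ zpowers b
  · have he : zpowers b' = zpowers b := eq_of_le_of_card_ge (zpowers_le.mpr hbb)
      (by rw [hA.card_zpowers hb hb1, hA.card_zpowers hb'.1 hb'.2])
    intro c hc
    have hcC' : c ∈ C := mem_inf.mpr ⟨(mem_inf.mp hc).1, mem_centralizer_singleton_iff.mpr (by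
      obtain ⟨i, hi⟩ := mem_zpowers_iff.mp (he ▸ mem_zpowers b : b ∈ zpowers b')
      rw [← hi]
      exact ((show Commute c b' from mem_centralizer_singleton_iff.mp (mem_inf.mp hc).2).zpow_right i).eq)⟩
    obtain ⟨c₀, hc₀, d, hd', rfl⟩ := Coprime.exists_eq_centralizer_mul_commutator hAC hcC (Or.inl hsol) hcC'
    refine mul_mem ?_ (mem_centralizer_iff.mpr fun y hy => ?_)
    · obtain ⟨b'', hb'', hb''k, -⟩ := Max2.exists_avoid (A := A) (hA.zpowers_ne hb) (hA.zpowers_ne hb)
      refine mem_centralizer_iff.mpr fun d hd' => ?_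
      have hd1 : d ∈ ⁅D, zpowers b''⁆ := by
        rw [hA.commutator_zpowers_eq hAD hcD (zpowers_le.mpr hb) (hA.card_zpowers hb hb1) hkT hDD hb'' hb''k]
        exact hd'
      exact mem_centralizer_singleton_iff.mp
        (key hd (hDC.trans inf_le_left) (mem_inf.mp (mem_inf.mp hc₀).1).1
          (centralizer_le_singleton hb'' (mem_inf.mp hc₀).2) hb'' hd1)
    · have := hDab
      exact setLike_mul_comm (s := D) hy hd'
  · intro x hx
    refine mem_centralizer_iff.mpr fun d hd' => ?_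
    have hd1 : d ∈ ⁅D, zpowers b'⁆ := by
      rw [hA.commutator_zpowers_eq hAD hcD (zpowers_le.mpr hb) (hA.card_zpowers hb hb1) hkT hDD hb'.1 hbb]
      exact hd'
    exact mem_centralizer_singleton_iff.mp
      (key hd (hDC.trans inf_le_left) (mem_inf.mp hx).1 (mem_inf.mp hx).2 hb'.1 hd1)

end Cfsg.Agent.OddLocal.P2Elem
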