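import Cfsg.Agent.OddLocal.KappaStructure

/-! The fixed points `C_{M_σ}(K)` of a Hall `κ(M)`-subgroup (BG 14.2). -/

set_option autoImplicit false
set_option linter.unusedSectionVars false

namespace Cfsg.Agent.OddLocal.KappaFixed

open Cfsg Subgroup PrimeAction KappaCentral KappaOver KappaAction KappaStructure
open scoped commutatorElement Pointwise
open TauTwo (centralizer_zpowers)
open Cfsg.Agent.Transfer.Fusion (coe_smul_eq_map card_map_conj)

variable {G : Type*} [Group G] [Finite G] {M K : Subgroup G} {q : ℕ} [hq : Fact q.Prime] {y : G}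

/-- Commutators of order prime to `q` in `N(S)` centralise `S`, at a prime outside `β(M)`. -/
theorem commutator_centralizes_sylow (hG : IsMinSimpleOddOrder G) (hM : IsCoatom M) (hqσ : q ∈ sigma M)
    (hqβ : q ∉ beta M) (S : Sylow q G) (hSM : (S : Subgroup G) ≤ M) {c : G}
    (hc : c ∈ ⁅normalizer ((S : Subgroup G) : Set G), normalizer ((S : Subgroup G) : Set G)⁆)
    (hco : (orderOf c).Coprime q) : c ∈ centralizer ((S : Subgroup G) : Set G) := by
  have hq2 : q ≠ 2 := Unique.ne_two hG hqσ.2.1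
  set N := normalizer ((S : Subgroup G) : Set G) with hN
  let φ : N →* MulAut (S : Subgroup G) := (S : Subgroup G).normalizerMonoidHom
  rw [← map_subtype_commutator] at hc
  obtain ⟨c', hc', rfl⟩ := hc
  obtain ⟨k, hk⟩ : ∃ k : ℕ, φ c' ^ q ^ k = 1 := by
    by_cases hr : PRankLE q 2 (S : Subgroup G)
    · exact (AutRankTwo.aut_rankTwo hq2 S.isPGroup' hr (Sigma.odd_card hG N) φ).1 c' hc'
    have hα : q ∈ alpha M :=
      ⟨hq.out, fun h => hr (RankTwoFitting.pRankLE_mono hSM h)⟩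
    have hG3 : ¬ PRankLE q 2 G := fun h => hr (RankTwoFitting.pRankLE_of_le h)
    obtain ⟨P, A, hAP, hAe, hAc, hmax⟩ : ∃ (P : Sylow q G) (A : Subgroup G), A ≤ (P : Subgroup G) ∧
        IsElementaryAbelian q A ∧ Nat.card A = q ^ 2 ∧
        ∀ B : Subgroup G, B ≤ (P : Subgroup G) → IsElementaryAbelian q B → A ≤ B → B ≤ A := by
      by_contra hcon
      push Not at hcon
      refine hqβ ⟨hα, hq.out, hG3, fun P A h1 h2 h3 => ?_⟩
      obtain ⟨B, hB1, hB2, hB3, hB4⟩ := hcon P A h1 h2 h3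
      exact ⟨B, hB1, hB2, lt_of_le_not_ge hB3 hB4⟩
    obtain ⟨g, hg⟩ := MulAction.exists_smul_eq G P S
    set A' := A.map (MulAut.conj g).toMonoidHom with hA'
    have hA'e : IsElementaryAbelian q A' := PLocal.ThompsonSubgroup.IsElementaryAbelian.map hAe _
    have hA'S : A' ≤ (S : Subgroup G) := by
      rw [← hg, coe_smul_eq_map]; exact map_mono hAP
    obtain ⟨K, hKp, hKc, -⟩ := Narrow.exists_kernel_of_maximal hq2 S.isPGroup' hr
      (A'.subgroupOf (S : Subgroup G))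
      ⟨⟨⟨fun x y => Subtype.ext (Subtype.ext (Components.Hyperplane.mem_comm hA'e x.2 y.2))⟩⟩,
        fun x hx => Subtype.ext (hA'e.2 _ hx)⟩
      (by rw [Nat.card_congr (subgroupOfEquivOfLe hA'S).toEquiv, hA', card_map_conj, hAc])
      (fun B hB hle => le_antisymm (fun b hb => by
        set B' := (B.map (S : Subgroup G).subtype).map (MulAut.conj g⁻¹).toMonoidHom with hB'
        have hBe : IsElementaryAbelian q B' := PLocal.ThompsonSubgroup.IsElementaryAbelian.map
          (PLocal.ThompsonSubgroup.IsElementaryAbelian.map hB _) _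
        have hBP : B' ≤ (P : Subgroup G) := by
          rw [hB', Cfsg.Agent.Transfer.Fusion.map_conj_le_iff, inv_inv, ← coe_smul_eq_map, hg]
          exact map_subtype_le _
        have hAB : A ≤ B' := fun a ha => by
          refine ⟨g * a * g⁻¹, ⟨⟨_, hA'S ⟨a, ha, rfl⟩⟩, hle ⟨a, ha, rfl⟩, rfl⟩, ?_⟩
          show g⁻¹ * (g * a * g⁻¹) * g⁻¹⁻¹ = a
          group
        have hb' := hmax B' hBP hBe hAB ⟨(b : G), ⟨b, hb, rfl⟩, rfl⟩
        refine ⟨_, hb', ?_⟩
        show g * (g⁻¹ * (b : G) * g⁻¹⁻¹) * g⁻¹ = (b : G)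
        group) hle)
    have hle : commutator N ≤ K.comap φ := by
      rw [_root_.commutator_def, commutator_le]
      intro a _ b _
      rw [mem_comap, map_commutatorElement]
      exact hKc _ _
    obtain ⟨k, hk⟩ := hKp ⟨φ c', hle hc'⟩
    exact ⟨k, congrArg Subtype.val hk⟩
  have hc1 : φ c' = 1 := orderOf_eq_one_iff.mp (Nat.eq_one_of_dvd_coprimes (hco.pow_right k)
    ((orderOf_map_dvd φ c').trans (dvd_of_eq (orderOf_coe c').symm)) (orderOf_dvd_of_pow_eq_one hk))
  refine mem_centralizer_iff.mpr fun a ha => ?_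
  exact (mul_inv_eq_iff_eq_mul.mp (show (c' : G) * a * (c' : G)⁻¹ = a from
    congrArg Subtype.val (DFunLike.congr_fun hc1 (⟨a, ha⟩ : (S : Subgroup G))))).symm

/-- Off `β(M)`, the fixed points of `K` in an invariant Sylow subgroup lie in `(M_σ)'`. -/
theorem fixed_le_commutator (hG : IsMinSimpleOddOrder G) (hM : IsCoatom M)
    (hK : IsPiHallOf (kappa M) K M) (hK1 : K ≠ ⊥) (hqσ : q ∈ sigma M) (hqβ : q ∉ beta M) (S : Sylow q G)
    (hSM : (S : Subgroup G) ≤ M) (hKS : K ≤ normalizer ((S : Subgroup G) : Set G))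
    (hyS : y ∈ (S : Subgroup G)) (hy : y ∈ centralizer (K : Set G)) : y ∈ ⁅sigmaCore M, sigmaCore M⁆ := by
  obtain ⟨E, hE, hKE, hES⟩ := exists_compl_normalizer hG hM hqσ S hSM hKS
    fun t ht hd => (hK.2.1 t ht hd).2.2.1
  obtain ⟨U, hd⟩ := exists_data_on hG hM hK hK1 hE hKE
  refine SigmaMeet.inf_centralizer_compl_le hG hM hE (mem_inf.mpr
    ⟨Sigma.sylow_le_sigmaCore hG hM hqσ S.isPGroup' hSM hyS, mem_centralizer_iff.mpr fun e he => ?_⟩)
  obtain ⟨a, ha, k, hk, rfl⟩ := hd.split e he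
  have haS := commutator_centralizes_sylow hG hM hqσ hqβ S hSM (commutator_mono hES hES (hd.hUD ha))
    ((hq.out.coprime_iff_not_dvd.mpr fun hd' => Compl.not_sigma hG hM hE hq.out
      (hd'.trans (E.orderOf_dvd_natCard (hd.hUE ha))) hqσ).symm)
  have h1 : Commute a y := (mem_centralizer_iff.mp haS y hyS).symm
  exact (h1.mul_left (show Commute k y from mem_centralizer_iff.mp hy k hk)).eq

/-- The maximal subgroup over `N(⟨u⟩)` has `q`-rank one at the primes of `C_{M_σ}(K)`. -/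
theorem isCyclic_of_le_fixed (hG : IsMinSimpleOddOrder G) (hM : IsCoatom M)
    (hK : IsPiHallOf (kappa M) K M) (hK1 : K ≠ ⊥) {S : Subgroup G} (hS : IsPGroup q S)
    (hSW : S ≤ sigmaCore M ⊓ centralizer (K : Set G)) (hyS : y ∈ S) (hyo : orderOf y = q) :
    IsCyclic S := by
  obtain ⟨k, hk, hk1⟩ := (bot_or_exists_ne_one K).resolve_left hK1
  obtain ⟨n, hn⟩ := exists_prime_power hk1
  have := Fact.mk hn
  have hκ := hK.2.1 _ hn (orderOf_dvd_natCard _ (pow_mem hk n))
  have hu : k ^ n ∈ M := hK.1 (pow_mem hk n)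
  obtain ⟨L, hL, hN⟩ := exists_normalizer_le hG (ne_bot_of_card (card_zpowers_eq (u := k ^ n) rfl))
    (zpowers_le.mpr hu) hM
  have hy' := mem_centralizer_iff.mp (mem_inf.mp (hSW hyS)).2 _ (pow_mem hk n)
  obtain ⟨-, -, h1, -, -, -⟩ := over_sigma hG hM hu rfl hκ.2.2.1 (rank_of_kappa hκ)
    (mem_inf.mp (hSW hyS)).1 hyo hy' hL hN
  refine Compl.isCyclic_of_rankOne hG h1 hS ((hSW.trans inf_le_right).trans (le_trans ?_ hN))
  exact (Subgroup.centralizer_le (zpowers_le.mpr (pow_mem hk n))).trans (centralizer_le_normalizer _)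

theorem exists_order_eq {S : Subgroup G} (hS : IsPGroup q S) (hS1 : S ≠ ⊥) :
    ∃ y ∈ S, orderOf y = q := by
  obtain ⟨y, hy⟩ := exists_prime_orderOf_dvd_card' q (PrimeAction.dvd_card_of_ne_bot hS hS1)
  exact ⟨y, y.2, (orderOf_coe y).trans hy⟩

/-- No Sylow subgroup of `M_σ` is fixed by `K`. -/
theorem not_le_fixed (hG : IsMinSimpleOddOrder G) (hM : IsCoatom M)
    (hK : IsPiHallOf (kappa M) K M) (hK1 : K ≠ ⊥) (hqσ : q ∈ sigma M) (S : Sylow q G)
    (hSM : (S : Subgroup G) ≤ M) : ¬ (S : Subgroup G) ≤ sigmaCore M ⊓ centralizer (K : Set G) := by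
  intro hSW
  have hS1 : (S : Subgroup G) ≠ ⊥ := S.ne_bot_of_dvd_card (hqσ.2.1.trans (card_subgroup_dvd_card M))
  obtain ⟨y, hy, hyo⟩ := exists_order_eq S.isPGroup' hS1
  have hc := isCyclic_of_le_fixed hG hM hK hK1 S.isPGroup' hSW hy hyo
  have hr1 : PRankLE q 2 (S : Subgroup G) := fun B hB hB' => by
    obtain ⟨k, hk⟩ := (S.isPGroup'.to_subgroup B).exists_card_eq
    have hcB : IsCyclic B := Subgroup.isCyclic B
    have h1 : Monoid.exponent B ∣ q := Monoid.exponent_dvd_of_forall_pow_eq_one fun b =>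
      Subtype.ext (hB' _ b.2)
    rw [hcB.exponent_eq_card] at h1
    exact (Nat.le_of_dvd hq.out.pos h1).trans (Nat.le_self_pow two_ne_zero q)
  have hqβ : q ∉ beta M := fun h => h.2.2.1 (NarrowSolvable.pRankLE_of_sylow S hr1)
  have hy' := fixed_le_commutator hG hM hK hK1 hqσ hqβ S hSM
    ((le_centralizer_iff.mp (hSW.trans inf_le_right)).trans (centralizer_le_normalizer _)) hy
    (mem_inf.mp (hSW hy)).2
  have h1 := SigmaElem.mem_commutator_sylow hG hM hqσ hqβ S hSM hy hy'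
  have : IsMulCommutative (S : Subgroup G) := IsCyclic.isMulCommutative
  rw [commutator_eq_bot_iff_le_centralizer.mpr (le_centralizer_iff_isMulCommutative.mpr this), mem_bot] at h1
  exact ne_one_of_order hyo h1

/-- The Sylow subgroups of `M` at primes of `C_{M_σ}(K)` are uniqueness subgroups. -/
theorem sylow_unique (hG : IsMinSimpleOddOrder G) (hM : IsCoatom M)
    (hK : IsPiHallOf (kappa M) K M) (hK1 : K ≠ ⊥) (hy : y ∈ sigmaCore M ⊓ centralizer (K : Set G))
    (hyo : orderOf y = q) (T : Sylow q G) (hTM : (T : Subgroup G) ≤ M) :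
    InUniqueMaximal (T : Subgroup G) := by
  have hqσ : q ∈ sigma M := Transitivity.isPi_piCoreOf (sigma M) M q hq.out
    (hyo ▸ orderOf_dvd_natCard _ (mem_inf.mp hy).1)
  have hyM : y ∈ M := Sigma.sigmaCore_le M (mem_inf.mp hy).1
  refine (SigmaElem.main hG hM hqσ (zpowers_le.mpr hyM) (card_zpowers_eq hyo) ?_).2 T hTM
  by_cases hqβ : q ∈ beta M
  · exact Or.inl hqβ
  refine Or.inr (zpowers_le.mpr ?_)
  have hcop : (Nat.card K).Coprime (Nat.card (sigmaCore M)) := Nat.coprime_of_dvd fun t ht h1 h2 =>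
    Compl.not_dvd_sigmaCore ht (hK.2.1 t ht h1).2.2.1 h2
  obtain ⟨S₀, hyS, hKS⟩ := Coprime.exists_invariant_sylow_ge
    (hK.1.trans (Sigma.le_normalizer_sigmaCore M)) hcop
    (Or.inl (Coprime.isSolvable_of_le hK.1 (Transitivity.isSolvable_of_ne_top hG hM.1)))
    (zpowers_le.mpr (mem_inf.mp hy).1) (isPGroup_of_card (card_zpowers_eq hyo))
    (le_trans (le_centralizer_iff.mp (zpowers_le.mpr (mem_inf.mp hy).2)) (centralizer_le_normalizer _))
  obtain ⟨S, hS⟩ := MaxStruct.exists_sylow_of_core hG hM hqσ S₀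
  rw [← hS] at hyS hKS
  exact fixed_le_commutator hG hM hK hK1 hqσ hqβ S
    (hS ▸ (map_subtype_le _).trans (Sigma.sigmaCore_le M)) hKS (hyS (mem_zpowers y)) (mem_inf.mp hy).2

/-- `C_{M_σ}(K)` meets no other conjugate of `M`. -/
theorem mem_of_fixed (hG : IsMinSimpleOddOrder G) (hM : IsCoatom M)
    (hK : IsPiHallOf (kappa M) K M) (hK1 : K ≠ ⊥) (hy : y ∈ sigmaCore M ⊓ centralizer (K : Set G))
    (hy1 : y ≠ 1) {g : G} (hg : y ∈ M.map (MulAut.conj g).toMonoidHom) : g ∈ M := by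
  obtain ⟨k, hk, hk1⟩ := (bot_or_exists_ne_one K).resolve_left hK1
  obtain ⟨n, hn⟩ := exists_prime_power hk1
  obtain ⟨m, hm⟩ := exists_prime_power hy1
  have := Fact.mk hn
  have := Fact.mk hm
  have hκ := hK.2.1 _ hn (orderOf_dvd_natCard _ (pow_mem hk n))
  have hy' := pow_mem hy m
  have hC := (centralizer_le hG hM (hK.1 (pow_mem hk n)) rfl hκ.2.2.1 (rank_of_kappa hκ)
    (mem_inf.mp hy').1 rfl (mem_centralizer_iff.mp (mem_inf.mp hy').2 _ (pow_mem hk n))).2
  obtain ⟨a, ha, hag⟩ := pow_mem hg m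
  obtain ⟨b, hb, c, hc, hgc⟩ := Sigma.sigma_conj hG hM
    (Transitivity.isPi_piCoreOf (sigma M) M _ hm (orderOf_dvd_natCard _ (mem_inf.mp hy').1))
    (isPGroup_of_card (card_zpowers_eq (u := y ^ m) rfl))
    (ne_bot_of_card (card_zpowers_eq (u := y ^ m) rfl))
    (zpowers_le.mpr (Sigma.sigmaCore_le M (mem_inf.mp hy').1)) (g := g⁻¹) (by
      rw [MonoidHom.map_zpowers]
      refine zpowers_le.mpr ?_
      show g⁻¹ * y ^ m * g⁻¹⁻¹ ∈ M
      rw [← hag]
      simpa [mul_assoc] using ha)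
  rw [centralizer_zpowers] at hc
  rw [show g = c⁻¹ * b⁻¹ by rw [← mul_inv_rev, ← hgc, inv_inv]]
  exact mul_mem (inv_mem (hC hc)) (inv_mem hb)

end Cfsg.Agent.OddLocal.KappaFixed
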