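import Cfsg.Agent.OddLocal.Coprime
import Mathlib.FieldTheory.Finite.Basic
import Mathlib.GroupTheory.SpecificGroups.Cyclic.Basic

/-! Orders of cyclic groups acting without fixed points on small elementary abelian groups. -/

set_option autoImplicit false
set_option linter.unusedSectionVars false

namespace Cfsg.Agent.OddLocal.LineAut

open Subgroup

/-- An automorphism `f` of an elementary abelian group with `f y * f⁻¹ y ∈ ⟨y⟩` for all `y`, whose
nontrivial powers have no fixed points, has order dividing `p - 1` or `p + 1`. -/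
theorem orderOf_dvd {p : ℕ} [hp : Fact p.Prime] {Y : Type*} [CommGroup Y] (hexp : ∀ y : Y, y ^ p = 1)
    (f : MulAut Y) (hline : ∀ y : Y, ∃ i : ℕ, f y * f⁻¹ y = y ^ i)
    (hfpf : ∀ n : ℕ, f ^ n ≠ 1 → ∀ y : Y, (f ^ n) y = y → y = 1) :
    orderOf f ∣ p - 1 ∨ orderOf f ∣ p + 1 := by
  let L : MulAut Y →* AddMonoid.End (Additive Y) :=
    { toFun := fun a => a.toMonoidHom.toAdditive
      map_one' := rfl
      map_mul' := fun _ _ => rfl }
  have hLapp : ∀ (a : MulAut Y) (y : Y), L a (Additive.ofMul y) = Additive.ofMul (a y) := fun _ _ => rfl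
  have hp0 : ((p : ℕ) : AddMonoid.End (Additive Y)) = 0 := by
    ext z
    obtain ⟨y, rfl⟩ := Additive.ofMul.surjective z
    rw [AddMonoid.End.natCast_apply, ← ofMul_pow, hexp]
    rfl
  have hc : Commute (L f) (L f⁻¹) := (Commute.refl f).inv_right.map L
  have hsum : (L f + L f⁻¹) ^ p = L (f ^ p) + L (f⁻¹ ^ p) := by
    obtain ⟨r, hr⟩ := hc.exists_add_pow_prime_eq hp.out
    rw [hr, map_pow, map_pow, hp0]
    simp
  have hkey : ∀ y : Y, (f ^ p) y * (f⁻¹ ^ p) y = f y * f⁻¹ y := fun y => by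
    obtain ⟨i, hi⟩ := hline y
    have h1 : (L f + L f⁻¹) (Additive.ofMul y) = i • Additive.ofMul y := by
      show L f (Additive.ofMul y) + L f⁻¹ (Additive.ofMul y) = _
      rw [hLapp, hLapp, ← ofMul_mul, hi, ofMul_pow]
    have hn : ∀ n : ℕ, ((L f + L f⁻¹) ^ n) (Additive.ofMul y) = i ^ n • Additive.ofMul y := by
      intro n
      induction n with
      | zero => rw [pow_zero, pow_zero, one_smul]; rfl
      | succ n ih =>
        rw [pow_succ]
        show ((L f + L f⁻¹) ^ n) ((L f + L f⁻¹) (Additive.ofMul y)) = _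
        rw [h1, map_nsmul, ih, ← mul_smul, pow_succ, mul_comm]
    have h2 := hn p
    rw [hsum] at h2
    have h3 : Additive.ofMul ((f ^ p) y * (f⁻¹ ^ p) y) = Additive.ofMul (y ^ i ^ p) := by
      rw [ofMul_mul, ofMul_pow, ← hLapp, ← hLapp]
      exact h2
    have h4 : y ^ i ^ p = y ^ i := by
      have hmod : i ^ p ≡ i [MOD p] := by
        rw [← ZMod.natCast_eq_natCast_iff, Nat.cast_pow, ZMod.pow_card]
      exact pow_eq_pow_iff_modEq.mpr (hmod.of_dvd (orderOf_dvd_of_pow_eq_one (hexp y)))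
    rw [Additive.ofMul.injective h3, h4, hi]
  have hp1 := hp.out.one_lt
  rcases eq_or_ne (f ^ (p - 1)) 1 with h1 | h1
  · exact Or.inl (orderOf_dvd_of_pow_eq_one h1)
  refine Or.inr (orderOf_dvd_of_pow_eq_one (MulEquiv.ext fun y => ?_))
  have h2 : (f ^ (2 * p)) y * y = (f ^ (p + 1)) y * (f ^ (p - 1)) y := by
    have h3 := congrArg (fun z => (f ^ p) z) (hkey y)
    simp only [map_mul, ← MulAut.mul_apply] at h3
    rwa [← pow_add, ← two_mul, inv_pow, mul_inv_cancel, MulAut.one_apply, ← pow_succ,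
      show f ^ p * f⁻¹ = f ^ (p - 1) by
        conv_lhs => rw [show p = p - 1 + 1 by omega, pow_succ]
        rw [mul_inv_cancel_right]] at h3
  have h4 : (f ^ (p - 1)) ((f ^ (p + 1)) y / y) = (f ^ (p + 1)) y / y := by
    rw [map_div, ← MulAut.mul_apply, ← pow_add, show p - 1 + (p + 1) = 2 * p by omega, div_eq_div_iff_mul_eq_mul]
    exact h2
  exact div_eq_one.mp (hfpf _ h1 _ h4)

/-- A cyclic group whose nontrivial elements move a normalised line of order `p` has order dividing `p - 1`. -/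
theorem card_dvd_pred {G : Type*} [Group G] [Finite G] {p : ℕ} [hp : Fact p.Prime] {K Y : Subgroup G}
    (hY : Nat.card Y = p) (hn : K ≤ normalizer (Y : Set G))
    (hfix : ∀ k ∈ K, k ∈ centralizer (Y : Set G) → k = 1) : Nat.card K ∣ p - 1 := by
  let φ : K →* MulAut Y := Y.normalizerMonoidHom.comp (inclusion hn)
  have hφ : Function.Injective φ := (injective_iff_map_eq_one φ).mpr fun k hk =>
    Subtype.ext (hfix k k.2 (mem_centralizer_iff.mpr fun y hy => by
      have h1 : (φ k ⟨y, hy⟩ : G) = y := by rw [hk]; rfl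
      have h2 : (k : G) * y * (k : G)⁻¹ = y := h1
      exact (mul_inv_eq_iff_eq_mul.mp h2).symm))
  have : IsCyclic Y := isCyclic_of_prime_card (p := p) hY
  have h1 := card_dvd_of_injective φ hφ
  rwa [Nat.card_congr (IsCyclic.mulAutMulEquiv Y).toEquiv, Nat.card_eq_fintype_card (α := (ZMod _)ˣ),
    ZMod.card_units_eq_totient, hY, Nat.totient_prime hp.out] at h1

end Cfsg.Agent.OddLocal.LineAut
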