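import Cfsg.Agent.OddLocal.TypeClass
import Cfsg.Agent.OddLocal.LineAut
import Cfsg.Agent.S1419

/-! A nilpotent `M_σ` with an element of prime order whose centraliser leaves `M` (BG 15.7). -/

set_option autoImplicit false
set_option linter.unusedSectionVars false

namespace Cfsg.Agent.OddLocal.NonTI

open Cfsg Subgroup SigmaParts
open TauTwo (centralizer_zpowers)
open Cfsg.Agent.Transfer.Fusion (map_conj_eq_self_iff card_map_conj)

variable {G : Type*} [Group G] [Finite G] {M N K U P : Subgroup G} {x : G} {p : ℕ}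

/-- The configuration: `P` is the Sylow `p`-subgroup of `M_σ`. -/
structure Nbr (M N P : Subgroup G) (x : G) (p : ℕ) : Prop where
  hG : IsMinSimpleOddOrder G
  hM : IsCoatom M
  hnil : Group.IsNilpotent (sigmaCore M)
  hx : x ∈ sigmaCore M
  hxo : orderOf x = p
  hp : p.Prime
  sig : Signalizer.Sig M N x
  sylow : ∃ S : Sylow p G, (S : Subgroup G) = P
  hPσ : P ≤ sigmaCore M

theorem exists_nbr (hG : IsMinSimpleOddOrder G) (hM : IsCoatom M) (hnil : Group.IsNilpotent (sigmaCore M))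
    (hx : x ∈ sigmaCore M) (hxp : (orderOf x).Prime) (hxM : ¬ centralizer ({x} : Set G) ≤ M) :
    ∃ N P : Subgroup G, Nbr M N P x (orderOf x) := by
  have := Fact.mk hxp
  obtain ⟨N, h⟩ := Signalizer.exists_sig hG hM hx (fun e => hxp.ne_one (by rw [e, orderOf_one])) hxM
  have hσ := mem_sigma_core hx _ hxp dvd_rfl
  obtain ⟨S, hSM, -⟩ := Sigma.exists_sylow_normalizer_le hσ
  exact ⟨N, (S : Subgroup G), hG, hM, hnil, hx, rfl, hxp, h, ⟨S, rfl⟩,
    Sigma.sylow_le_sigmaCore hG hM hσ S.isPGroup' hSM⟩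

variable (c : Nbr M N P x p)
include c

theorem Nbr.x_ne : x ≠ 1 := fun e => c.hp.ne_one (by rw [← c.hxo, e, orderOf_one])

theorem Nbr.hN : IsCoatom N := c.sig.hN

theorem Nbr.pgroup : IsPGroup p P := by
  obtain ⟨S, rfl⟩ := c.sylow
  exact S.isPGroup'

theorem Nbr.p_tau : p ∈ tau2 N := c.sig.htau p c.hp (c.hxo ▸ dvd_rfl)

theorem Nbr.p_sigma : p ∈ sigma M := mem_sigma_core c.hx p c.hp (c.hxo ▸ dvd_rfl)

theorem Nbr.inter {a : G} (ha : a ∈ M) (hax : Commute a x) : a ∈ M ⊓ N :=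
  mem_inf.mpr ⟨ha, c.sig.hC (mem_centralizer_singleton_iff.mpr hax.eq)⟩

theorem Nbr.not_sigma {r : ℕ} (hr : r.Prime) {X : Subgroup G} (hX : X ≤ sigmaCore M)
    (hd : r ∣ Nat.card X) : r ∉ sigma N :=
  not_sigma_of_ne c.hG c.hM c.hN c.sig.hne
    (Transitivity.isPi_piCoreOf (sigma M) M r hr (hd.trans (card_dvd_of_le hX)))

/-- Subgroups of `M_σ` commuting with `x` are abelian. -/
theorem Nbr.comm {X : Subgroup G} (hX : X ≤ sigmaCore M) (hXx : ∀ a ∈ X, Commute a x) :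
    IsMulCommutative X :=
  SigmaCompl.nilpotent_comm c.hG c.hN
    (fun a ha => (mem_inf.mp (c.inter (Sigma.sigmaCore_le M (hX ha)) (hXx a ha))).2)
    (Cores.isNilpotent_to_le hX c.hnil) fun r hr hd => c.not_sigma hr hX hd

theorem Nbr.mem_P {X : Subgroup G} (hX : X ≤ sigmaCore M) (hp : IsPGroup p X) : X ≤ P := by
  have := Fact.mk c.hp
  obtain ⟨S, hS⟩ := c.sylow
  refine Compl.le_of_nilpotent_hall c.hnil c.hPσ hX fun q hq hd h2 => ?_
  rw [PType.eq_of_dvd_pow_card hq hp hd, ← hS] at h2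
  exact S.not_dvd_index (h2.trans (relIndex_dvd_index_of_le (hS ▸ c.hPσ)))

theorem Nbr.x_mem : x ∈ P := by
  have := Fact.mk c.hp
  exact c.mem_P (zpowers_le.mpr c.hx)
    (IsPGroup.of_card (n := 1) (by rw [Nat.card_zpowers, c.hxo, pow_one])) (mem_zpowers x)

theorem Nbr.normal : M ≤ normalizer (P : Set G) := fun a ha => by
  have := Fact.mk c.hp
  refine map_conj_eq_self_iff.mp (eq_of_le_of_card_ge ?_ (by rw [card_map_conj]))
  exact c.mem_P ((map_mono c.hPσ).trans (map_conj_eq_self_iff.mpr (Sigma.le_normalizer_sigmaCore M ha)).le)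
    (c.pgroup.map _)

/-- A `p'`-element of `M_σ` commutes with every element of `P`. -/
theorem Nbr.commute_P {a b : G} (ha : a ∈ sigmaCore M) (hb : b ∈ P) (hco : ¬ p ∣ orderOf a) :
    Commute a b := by
  have := Fact.mk c.hp
  refine CN.commute_of_mem c.hnil ha (c.hPσ hb) ?_
  obtain ⟨k, hk⟩ := IsPGroup.iff_orderOf.mp c.pgroup ⟨b, hb⟩
  rw [orderOf_mk] at hk
  rw [hk]
  exact (c.hp.coprime_iff_not_dvd.mpr hco).symm.pow_right k

/-- If `P` centralises `x` then `M_σ` is abelian. -/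
theorem Nbr.core_comm (h : ∀ a ∈ P, Commute a x) : IsMulCommutative (sigmaCore M) := by
  have := Fact.mk c.hp
  refine c.comm le_rfl fun a ha => ?_
  suffices hle : sigmaCore M ≤ centralizer ({x} : Set G) from mem_centralizer_singleton_iff.mp (hle ha)
  refine CN.le_of_forall_isPGroup fun r hr z hz hzr => mem_centralizer_singleton_iff.mpr ?_
  by_cases hrp : r = p
  · exact (h z (c.mem_P (zpowers_le.mpr hz) (hrp ▸ hzr) (mem_zpowers z))).eq
  · have := Fact.mk hr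
    refine (c.commute_P hz c.x_mem fun hd => hrp ?_).eq
    exact (PType.eq_of_dvd_pow_card c.hp hzr (hd.trans (Nat.card_zpowers z).symm.dvd)).symm

/-- An elementary abelian subgroup of rank two of `M_σ`. -/
theorem Nbr.exists_B : ∃ B : Subgroup G, B ≤ M ⊓ N ∧ B ≤ P ∧ IsElementaryAbelian p B ∧ Nat.card B = p ^ 2 := by
  have := Fact.mk c.hp
  obtain ⟨B₀, hB₀N, hB₀e, hB₀c⟩ := Unique.exists_elementary_of_not_pRankLE c.p_tau.2.2.2
  obtain ⟨b, -, hbE⟩ := Compl.exists_conj_le c.hG c.hN c.sig.compl hB₀N fun q hq hd =>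
    (show q = p from (Cores.isPi_iff_isPGroup B₀).mpr (Components.Hyperplane.isPGroup hB₀e) q hq hd) ▸
      c.p_tau.2.1
  have hBe : IsElementaryAbelian p (B₀.map (MulAut.conj b).toMonoidHom) :=
    PLocal.ThompsonSubgroup.IsElementaryAbelian.map hB₀e _
  have hBp := Components.Hyperplane.isPGroup hBe
  refine ⟨_, hbE, ?_, hBe, by rw [card_map_conj, hB₀c]⟩
  exact c.mem_P (Sigma.sylow_le_sigmaCore c.hG c.hM c.p_sigma hBp (hbE.trans inf_le_left)) hBp

theorem Nbr.sylow_nonabelian (h : ¬ IsMulCommutative P) (T : Sylow p G) :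
    ¬ IsMulCommutative (T : Subgroup G) := by
  have := Fact.mk c.hp
  obtain ⟨S, hS⟩ := c.sylow
  obtain ⟨g, hg⟩ := MulAction.exists_smul_eq G S T
  intro hT
  refine h ⟨⟨fun a b => Subtype.ext ?_⟩⟩
  have hm : ∀ a ∈ P, g * a * g⁻¹ ∈ (T : Subgroup G) := fun a ha => by
    rw [← hg, Sylow.coe_subgroup_smul]
    exact ⟨a, hS.ge ha, rfl⟩
  have h1 : g * (a : G) * g⁻¹ * (g * b * g⁻¹) = g * b * g⁻¹ * (g * a * g⁻¹) :=
    congrArg Subtype.val (hT.is_comm.comm ⟨_, hm a a.2⟩ ⟨_, hm b b.2⟩)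
  show (a : G) * b = b * a
  calc (a : G) * b = g⁻¹ * (g * (a : G) * g⁻¹ * (g * b * g⁻¹)) * g := by group
    _ = g⁻¹ * (g * b * g⁻¹ * (g * a * g⁻¹)) * g := by rw [h1]
    _ = b * a := by group

/-- With `P` nonabelian, the `p'`-part of `M_σ` is cyclic. -/
theorem Nbr.exists_cyclic (h : ¬ IsMulCommutative P) :
    ∃ D : Subgroup G, D ≤ sigmaCore M ∧ IsCyclic D ∧
      ∀ X : Subgroup G, X ≤ sigmaCore M → ¬ p ∣ Nat.card X → X ≤ D := by
  have := Fact.mk c.hp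
  have hsol : Group.IsSolvable (sigmaCore M) :=
    Transitivity.isSolvable_of_ne_top c.hG fun e => c.hM.1 (top_le_iff.mp (e ▸ Sigma.sigmaCore_le M))
  obtain ⟨D₀, hD₀, -⟩ := Hall.exists_hall_dominating {q | q ≠ p} (sigmaCore M)
  set D := D₀.map (sigmaCore M).subtype with hDdef
  have hDσ : D ≤ sigmaCore M := map_subtype_le _
  have hDp : ∀ q : ℕ, q.Prime → q ∣ Nat.card D → q ≠ p := fun q hq hd => hD₀.1 q hq (by
    rwa [hDdef, card_map_of_injective (sigmaCore M).subtype_injective] at hd)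
  have hDx : ∀ a ∈ D, Commute a x := fun a ha =>
    c.commute_P (hDσ ha) c.x_mem fun hd => hDp p c.hp (hd.trans (orderOf_dvd_natCard D ha)) rfl
  refine ⟨D, hDσ, ?_, fun X hX hpX => Compl.le_of_nilpotent_hall c.hnil hDσ hX fun q hq hd => ?_⟩
  swap
  · rw [hDdef, relIndex, subgroupOf, comap_map_eq_self_of_injective (sigmaCore M).subtype_injective]
    exact hD₀.2 q hq fun e => hpX (e ▸ hd)
  obtain ⟨A, hAE, hA⟩ := SigmaCompl.exists_ctx c.hG c.hN c.sig.compl c.p_tau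
  obtain ⟨hτ, -, -⟩ := S1419.result c.hG N c.hN _ c.sig.compl p c.p_tau (c.sylow_nonabelian h) A
    ⟨hAE, hA.hA.el, hA.hA.card⟩
  have hDN : D ≤ N := fun a ha => (mem_inf.mp (c.inter (Sigma.sigmaCore_le M (hDσ ha)) (hDx a ha))).2
  have hDc := c.comm hDσ hDx
  have hZ : IsZGroup D := ⟨fun q hq Q => by
    have := Fact.mk hq
    by_cases hd : q ∣ Nat.card D
    · have hqN := c.not_sigma hq hDσ hd
      have hr1 : PRankLE q 1 N := by_contra fun h2 => hDp q hq hd (Set.mem_singleton_iff.mp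
        (hτ ▸ (⟨hq, hqN, SigmaCompl.rank_le c.hG c.hN hq hqN, h2⟩ : q ∈ tau2 N)))
      have := Compl.isCyclic_of_rankOne c.hG hr1 (Q.isPGroup'.map D.subtype)
        ((map_subtype_le _).trans hDN)
      exact isCyclic_of_surjective _
        ((Q : Subgroup D).equivMapOfInjective D.subtype D.subtype_injective).symm.surjective
    · have hQ : (Q : Subgroup D) = ⊥ := by
        rw [← card_eq_one]
        obtain ⟨k, hk⟩ := Q.isPGroup'.exists_card_eq
        rcases k with - | k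
        · rw [hk, pow_zero]
        · exact absurd ((Dvd.intro_left _ (pow_succ q k).symm).trans
            (hk ▸ card_subgroup_dvd_card _)) hd
      rw [hQ]
      infer_instance⟩
  have : Group.IsNilpotent D := Cores.isNilpotent_to_le hDσ c.hnil
  infer_instance

/-- `[M_σ, M_σ] ≤ P` when `P` is nonabelian. -/
theorem Nbr.commutator_le_P (h : ¬ IsMulCommutative P) : ⁅sigmaCore M, sigmaCore M⁆ ≤ P := by
  have := Fact.mk c.hp
  obtain ⟨D, hDσ, hDc, hmax⟩ := c.exists_cyclic h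
  have hsplit : ∀ a ∈ sigmaCore M, ∃ a₁ ∈ P, ∃ a₂ ∈ D, ¬ p ∣ orderOf a₂ ∧ a = a₁ * a₂ := by
    intro a ha
    obtain ⟨b, d, rfl, hbd, hb, hd, hbz, hdz⟩ := exists_parts {p} a
    have hbσ : b ∈ sigmaCore M := zpowers_le.mpr ha hbz
    have hdσ : d ∈ sigmaCore M := zpowers_le.mpr ha hdz
    refine ⟨b, c.mem_P (zpowers_le.mpr hbσ) ((Cores.isPi_iff_isPGroup (zpowers b)).mp fun q hq hqd =>
      hb q hq (hqd.trans (Nat.card_zpowers b).dvd)) (mem_zpowers b), d, ?_, fun hpd => hd p c.hp hpd rfl, rfl⟩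
    exact hmax _ (zpowers_le.mpr hdσ) (fun hpd => hd p c.hp (hpd.trans (Nat.card_zpowers d).dvd) rfl)
      (mem_zpowers d)
  refine commutator_le.mpr fun a ha b hb => ?_
  obtain ⟨a₁, ha₁, a₂, ha₂, hpa, rfl⟩ := hsplit a ha
  obtain ⟨b₁, hb₁, b₂, hb₂, hpb, rfl⟩ := hsplit b hb
  have hdc : Commute a₂ b₂ := by
    let := IsCyclic.commGroup (α := D)
    exact congrArg Subtype.val (mul_comm (⟨a₂, ha₂⟩ : D) ⟨b₂, hb₂⟩)
  have h1 : Commute a₂ b₁ := c.commute_P (hDσ ha₂) hb₁ hpa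
  have h2 : Commute b₂ a₁ := c.commute_P (hDσ hb₂) ha₁ hpb
  have h3 : Commute a₂ a₁ := c.commute_P (hDσ ha₂) ha₁ hpa
  have h4 : Commute b₂ b₁ := c.commute_P (hDσ hb₂) hb₁ hpb
  rw [commutatorElement_def]
  have e : a₁ * a₂ * (b₁ * b₂) * (a₁ * a₂)⁻¹ * (b₁ * b₂)⁻¹ = a₁ * b₁ * a₁⁻¹ * b₁⁻¹ := by
    calc a₁ * a₂ * (b₁ * b₂) * (a₁ * a₂)⁻¹ * (b₁ * b₂)⁻¹
        = a₁ * ((a₂ * b₁) * b₂) * a₂⁻¹ * a₁⁻¹ * b₂⁻¹ * b₁⁻¹ := by group
      _ = a₁ * (b₁ * (a₂ * b₂)) * a₂⁻¹ * a₁⁻¹ * b₂⁻¹ * b₁⁻¹ := by rw [h1.eq, mul_assoc b₁]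
      _ = a₁ * (b₁ * (b₂ * a₂)) * a₂⁻¹ * a₁⁻¹ * b₂⁻¹ * b₁⁻¹ := by rw [hdc.eq]
      _ = a₁ * b₁ * (b₂ * a₁⁻¹) * b₂⁻¹ * b₁⁻¹ := by group
      _ = a₁ * b₁ * (a₁⁻¹ * b₂) * b₂⁻¹ * b₁⁻¹ := by rw [h2.inv_right.eq]
      _ = a₁ * b₁ * a₁⁻¹ * b₁⁻¹ := by group
  rw [e]
  exact mul_mem (mul_mem (mul_mem ha₁ hb₁) (inv_mem ha₁)) (inv_mem hb₁)

/-- Elements of order `p` of `P` commuting with `x` and with the central `z` lie in `⟨x, z⟩`. -/
theorem Nbr.mem_pair {z y : G} (hz : z ∈ P) (hzc : ∀ a ∈ P, Commute z a) (hzo : orderOf z = p)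
    (hxz : x ∉ zpowers z) (hy : y ∈ P) (hyp : y ^ p = 1) (hyx : Commute y x) :
    y ∈ zpowers x ⊔ zpowers z := by
  have := Fact.mk c.hp
  by_contra hyB
  set S : Set G := {x, z, y} with hS
  have hSP : ∀ a ∈ S, a ∈ P ∧ a ^ p = 1 := by
    rintro a (rfl | rfl | rfl)
    · exact ⟨c.x_mem, c.hxo ▸ pow_orderOf_eq_one _⟩
    · exact ⟨hz, hzo ▸ pow_orderOf_eq_one _⟩
    · exact ⟨hy, hyp⟩
  have hScomm : ∀ a ∈ S, ∀ b ∈ S, a * b = b * a := by
    rintro a (rfl | rfl | rfl) b (rfl | rfl | rfl) <;> first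
      | rfl
      | exact (hzc _ c.x_mem).eq | exact (hzc _ c.x_mem).symm.eq
      | exact (hzc _ hy).eq | exact (hzc _ hy).symm.eq
      | exact hyx.eq | exact hyx.symm.eq
  have hAc := isMulCommutative_closure hScomm
  set A := closure S
  have hAe : ∀ a ∈ A, a ^ p = 1 := fun a ha => by
    induction ha using closure_induction with
    | mem a ha => exact (hSP a ha).2
    | one => exact one_pow p
    | mul a b ha hb iha ihb =>
      have hab : Commute a b := congrArg Subtype.val (hAc.is_comm.comm ⟨a, ha⟩ ⟨b, hb⟩)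
      rw [hab.mul_pow, iha, ihb, one_mul]
    | inv a _ iha => rw [inv_pow, iha, inv_one]
  have hAN : A ≤ N := (closure_le _).mpr fun a ha => by
    refine (mem_inf.mp (c.inter (Sigma.sigmaCore_le M (c.hPσ (hSP a ha).1)) ?_)).2
    rcases ha with rfl | rfl | rfl
    exacts [Commute.refl _, hzc _ c.x_mem, hyx]
  have hN2 := c.p_tau.2.2.1 (A.subgroupOf N)
    ⟨⟨fun a b => Subtype.ext (Subtype.ext
      (congrArg Subtype.val (hAc.is_comm.comm ⟨_, a.2⟩ ⟨_, b.2⟩) :))⟩⟩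
    fun a ha => Subtype.ext (hAe _ ha)
  rw [Nat.card_congr (subgroupOfEquivOfLe hAN).toEquiv] at hN2
  have hBA : zpowers x ⊔ zpowers z < A := by
    refine lt_of_le_of_ne (sup_le (zpowers_le.mpr (subset_closure (Or.inl rfl)))
      (zpowers_le.mpr (subset_closure (Or.inr (Or.inl rfl))))) fun e => hyB ?_
    rw [e]; exact subset_closure (Or.inr (Or.inr rfl))
  have hzB : zpowers z < zpowers x ⊔ zpowers z :=
    lt_of_le_of_ne le_sup_right fun e => hxz (e.ge (mem_sup_left (mem_zpowers x)))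
  have hAp : IsPGroup p A := fun a => ⟨1, Subtype.ext (by simpa using hAe a a.2)⟩
  obtain ⟨n, hn⟩ := hAp.exists_card_eq
  obtain ⟨m, hm⟩ := (hAp.to_le hBA.le).exists_card_eq
  have h1 := Sigma.card_lt_of_lt hzB
  have h2 := Sigma.card_lt_of_lt hBA
  rw [Nat.card_zpowers, hzo, hm] at h1
  rw [hm, hn] at h2
  rw [hn] at hN2
  have h3 := (Nat.pow_le_pow_iff_right c.hp.one_lt).mp hN2
  have h4 := (Nat.pow_lt_pow_iff_right c.hp.one_lt).mp h2
  have h5 := (Nat.pow_lt_pow_iff_right c.hp.one_lt).mp (show p ^ 1 < p ^ m by rwa [pow_one])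
  omega

end Cfsg.Agent.OddLocal.NonTI
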