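import Cfsg.Agent.OddLocal.PTypeU
import Cfsg.Agent.S1417
import Cfsg.Agent.S1421
import Cfsg.Agent.S1432
import Cfsg.Agent.S1363

/-! The elements of `U` with fixed points in `M_σ` (BG 14.7, 15.2). -/

set_option autoImplicit false
set_option linter.unusedSectionVars false

namespace Cfsg.Agent.OddLocal.PType

open Cfsg Subgroup KappaStructure SigmaParts
open TauTwo (centralizer_zpowers)

variable {G : Type*} [Group G] [Finite G] {M K U : Subgroup G}

theorem isCompl_of_bot (hKU : IsSigmaDecomposition M K U) (hK : K = ⊥) :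
    IsComplIn U (sigmaCore M) M := by
  have h := KappaDecomp.isCompl hKU
  subst hK
  rwa [sup_bot_eq] at h

/-- With `K = 1` the `τ₁ ∪ τ₃` elements of the complement act regularly. -/
theorem regular_of_bot (hG : IsMinSimpleOddOrder G) (hM : IsCoatom M) (hKU : IsSigmaDecomposition M K U) (hK : K = ⊥) :
    ∀ e ∈ U, e ≠ 1 → (∀ p : ℕ, p.Prime → p ∣ orderOf e → p ∈ tau1 M ∪ tau3 M) →
      sigmaCore M ⊓ centralizer ({e} : Set G) = ⊥ := fun e he he1 hp => by
  by_contra hne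
  obtain ⟨y, hy, hy1⟩ := (bot_or_exists_ne_one _).resolve_left hne
  obtain ⟨hyσ, hyc⟩ := mem_inf.mp hy
  obtain ⟨r, hr, hrd⟩ := Nat.exists_prime_and_dvd (fun h => he1 (orderOf_eq_one_iff.mp h))
  have := Fact.mk hr
  set z := e ^ (orderOf e / r)
  have hzo : orderOf z = r := orderOf_pow_orderOf_div (orderOf_pos e).ne' hrd
  have hτ := hp r hr hrd
  have hκ : r ∈ kappa M := mem_kappa hG (hKU.compl.1 (pow_mem he _)) hzo
    (KappaDecomp.not_sigma_of_dvd hG hM hKU hr (hrd.trans (orderOf_dvd_natCard U he)))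
    (by rcases hτ with h | h; exacts [h.2.2.2.2, h.2.2.2]) hyσ hy1
    ((show Commute e y from (mem_centralizer_singleton_iff.mp hyc).symm).pow_left _).eq
  exact hKU.hall.2.2 r hr hκ (by rw [hK, relIndex_bot_left]; exact hκ.2.1)

/-- The elements of `U` with fixed points lie in an abelian subgroup. -/
theorem exists_hull (hG : IsMinSimpleOddOrder G) (hM : IsCoatom M) (hKU : IsSigmaDecomposition M K U) :
    ∃ A₀ : Subgroup G, IsMulCommutative A₀ ∧ (U : Set G) ∩ sigmaHat M ⊆ A₀ := by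
  by_cases hK : K = ⊥
  · obtain ⟨⟨A₀, -, -, hc, hle⟩, -⟩ :=
      S1421.result hG M hM U (isCompl_of_bot hKU hK) (regular_of_bot hG hM hKU hK)
    refine ⟨A₀, hc, fun a ⟨ha, _, y, hy, hy1, hay⟩ => ?_⟩
    exact hle y hy hy1 (mem_inf.mpr ⟨ha, mem_centralizer_singleton_iff.mpr hay⟩)
  · exact ⟨U, (S1363.result hG M hM K U hKU hK).1, fun a ha => ha.1⟩

/-- An element of `U` with fixed points: a `τ₂(M)`-element whose centraliser determines `M`. -/
theorem of_fixed (hG : IsMinSimpleOddOrder G) (hM : IsCoatom M) (hKU : IsSigmaDecomposition M K U)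
    {a y : G} (ha : a ∈ U) (ha1 : a ≠ 1) (hy : y ∈ sigmaCore M) (hy1 : y ≠ 1) (hay : a * y = y * a) :
    (∀ p : ℕ, p.Prime → p ∣ orderOf a → p ∈ tau2 M) ∧ centralizer ({a} : Set G) ≤ M ∧
      ∀ L : Subgroup G, IsCoatom L → centralizer ({a} : Set G) ≤ L → L = M := by
  have hd : ∀ p : ℕ, p ∣ orderOf a → p ∣ Nat.card U := fun p h => h.trans (orderOf_dvd_natCard U ha)
  rcases S1432.result hG M hM y hy hy1 a
      (mem_inf.mpr ⟨hKU.compl.1 ha, mem_centralizer_singleton_iff.mpr hay⟩) ha1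
      (fun p hp h => KappaDecomp.not_sigma_of_dvd hG hM hKU hp (hd p h)) with ⟨hκ, -⟩ | ⟨hτ, -, h1, h2⟩
  · obtain ⟨r, hr, hrd⟩ := Nat.exists_prime_and_dvd (fun h => ha1 (orderOf_eq_one_iff.mp h))
    exact absurd (hκ r hr hrd) (KappaDecomp.not_kappa_of_dvd hKU hr (hd r hrd))
  · exact ⟨hτ, h1, h2⟩

/-- A subgroup of `U` with fixed points is cyclic. -/
theorem isCyclic_of_fixed (hG : IsMinSimpleOddOrder G) (hM : IsCoatom M)
    (hKU : IsSigmaDecomposition M K U) {X : Subgroup G} (hXU : X ≤ U)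
    (hXc : sigmaCore M ⊓ centralizer (X : Set G) ≠ ⊥) : IsCyclic X := by
  obtain ⟨y, hy, hy1⟩ := (bot_or_exists_ne_one _).resolve_left hXc
  obtain ⟨hyσ, hyc⟩ := mem_inf.mp hy
  obtain ⟨A₀, hc, hA₀⟩ := exists_hull hG hM hKU
  have hXA : X ≤ A₀ := fun a ha =>
    hA₀ ⟨hXU ha, hKU.compl.1 (hXU ha), y, hyσ, hy1, mem_centralizer_iff.mp hyc a ha⟩
  have hXc' : IsMulCommutative X :=
    ⟨⟨fun a b => Subtype.ext (congrArg (Subtype.val : A₀ → G) (hc.is_comm.comm ⟨a, hXA a.2⟩ ⟨b, hXA b.2⟩))⟩⟩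
  have hZ : IsZGroup X := ⟨fun p hp P => by
    have := Fact.mk hp
    have hPM : (P : Subgroup X).map X.subtype ≤ M := (map_subtype_le _).trans (hXU.trans hKU.compl.1)
    suffices hc' : IsCyclic ((P : Subgroup X).map X.subtype : Subgroup G) from
      isCyclic_of_surjective _ ((P : Subgroup X).equivMapOfInjective X.subtype
        X.subtype_injective).symm.surjective
    by_cases hr : PRankLE p 1 ((P : Subgroup X).map X.subtype : Subgroup G)
    · exact Compl.isCyclic_of_rankOne hG hr (P.isPGroup'.map _) le_rfl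
    obtain ⟨B, hB, hBe, hBc⟩ := Unique.exists_elementary_of_not_pRankLE hr
    obtain ⟨b, hb, hb1⟩ := (bot_or_exists_ne_one B).resolve_left
      (fun e => by rw [e, card_bot] at hBc; exact absurd hBc.symm (Nat.one_lt_pow two_ne_zero hp.one_lt).ne')
    have hbX : b ∈ X := map_subtype_le _ (hB hb)
    have hbo : orderOf b = p := orderOf_eq_prime (hBe.2 b hb) hb1
    have hτ := (of_fixed hG hM hKU (hXU hbX) hb1 hyσ hy1 (mem_centralizer_iff.mp hyc b hbX)).1 p hp
      (hbo ▸ dvd_rfl)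
    obtain ⟨-, -, -, hCB, -⟩ := S1417.result hG M hM p hτ B ⟨hB.trans hPM, hBe, hBc⟩
    exact absurd (mem_bot.mp (hCB ▸ mem_inf.mpr ⟨hyσ, mem_centralizer_iff.mpr fun c hc =>
      mem_centralizer_iff.mp hyc c (map_subtype_le _ (hB hc))⟩)) hy1⟩
  have : Group.IsNilpotent X := @CommGroup.isNilpotent X
    { (inferInstance : Group X) with mul_comm := fun a b => hXc'.is_comm.comm a b }
  infer_instance

end Cfsg.Agent.OddLocal.PType
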