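import Cfsg.Agent.OddLocal.TypeClass
import Cfsg.Agent.S1361
import Cfsg.Agent.S1362

/-! The complement `U` of `M_F` for maximal subgroups of type I or II (BG 16.1). -/

set_option autoImplicit false
set_option linter.unusedSectionVars false

namespace Cfsg.Agent.OddLocal.Types

open Cfsg Subgroup SigmaParts
open Cfsg.Agent.Transfer.Fusion (map_conj_eq_self_iff card_map_conj)

variable {G : Type*} [Group G] [Finite G] {M K U V : Subgroup G}

/-- An `M`-conjugate of a standard factorisation is one. -/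
theorem decomp_conj (hKU : IsSigmaDecomposition M K U) {m : G} (hm : m ∈ M) :
    IsSigmaDecomposition M (K.map (MulAut.conj m).toMonoidHom) (U.map (MulAut.conj m).toMonoidHom) := by
  set f := (MulAut.conj m).toMonoidHom with hf
  have hfinj : Function.Injective f := (MulAut.conj m).injective
  have hMf : M.map f = M := map_conj_eq_self_iff.mpr (le_normalizer hm)
  have hσf : (sigmaCore M).map f = sigmaCore M :=
    map_conj_eq_self_iff.mpr (Sigma.le_normalizer_sigmaCore M hm)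
  obtain ⟨h1, h2, h3, h4⟩ := hKU.compl
  refine ⟨?_, ⟨(map_mono hKU.hall.1).trans hMf.le, fun p hp hd => hKU.hall.2.1 p hp (by rwa [card_map_conj] at hd),
    fun p hp hπ => by rw [← hMf, relIndex_map_map_of_injective _ _ hfinj]; exact hKU.hall.2.2 p hp hπ⟩,
    ⟨(map_mono h1).trans hMf.le, ?_, ?_, fun a ha => ?_⟩, ?_⟩
  · have := hKU.cyclic
    exact isCyclic_of_surjective _ (K.equivMapOfInjective f hfinj).surjective
  · exact sup_le ((map_mono hKU.hall.1).trans hMf.le) (Sigma.sigmaCore_le M)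
  · calc U.map f ⊓ (K.map f ⊔ sigmaCore M) = (U ⊓ (K ⊔ sigmaCore M)).map f := by
          rw [Subgroup.map_inf _ _ _ hfinj, Subgroup.map_sup, hσf]
      _ = ⊥ := by rw [h3, Subgroup.map_bot]
  · obtain ⟨a', ha', rfl⟩ := hMf.ge ha
    obtain ⟨u, hu, v, hv, rfl⟩ := h4 a' ha'
    refine ⟨f u, mem_map_of_mem f hu, f v, ?_, map_mul f u v⟩
    rw [← hσf, ← Subgroup.map_sup]
    exact mem_map_of_mem f hv
  · rw [hf, PrimeAction.normalizer_map]
    exact map_mono hKU.normal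

/-- For types I and II the complement of `M_F` belongs to a standard factorisation. -/
theorem decomp_of_compl (hG : IsMinSimpleOddOrder G) (hM : IsCoatom M)
    (hU : (IsOfTypeI M ∧ IsComplIn (fittingHallOf M) V M) ∨
      (IsOfTypeII M ∧ IsComplIn (fittingHallOf M) V ⁅M, M⁆)) :
    ∃ K : Subgroup G, IsSigmaDecomposition M K V ∧ fittingHallOf M = sigmaCore M ∧
      (IsOfTypeI M ∧ K = ⊥ ∨ ¬ IsOfTypeI M ∧ K ≠ ⊥) := by
  obtain ⟨K, U, hKU⟩ := Fcore.exists_decomp hG hM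
  rcases hU with ⟨hI, hV⟩ | ⟨hII, hV⟩
  · obtain ⟨hK, hU1⟩ := of_typeI hG hM hKU hI
    subst hK
    obtain ⟨hσ, -⟩ := sigmaCore_eq_of_U_ne hG hM hKU hU1
    obtain ⟨h1, h2, h3, h4⟩ := hV
    refine ⟨⊥, ⟨hKU.cyclic, hKU.hall, ⟨h2, ?_, ?_, fun m hm => ?_⟩, bot_le⟩, hσ.symm, Or.inl ⟨hI, rfl⟩⟩
    · rw [bot_sup_eq]; exact Sigma.sigmaCore_le M
    · rw [bot_sup_eq, inf_comm, hσ]; exact h3
    · obtain ⟨a, ha, b, hb, rfl⟩ := h4 m hm
      refine ⟨b, hb, b⁻¹ * a * b, ?_, by group⟩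
      rw [bot_sup_eq, hσ]
      exact (mem_normalizer_iff''.mp (FittingStructure.le_normalizer_fittingHallOf M (h2 hb)) a).mp ha
  · obtain ⟨hK, hU1⟩ := of_typeII hG hM hKU hII
    obtain ⟨hσ, hn⟩ := sigmaCore_eq_of_U_ne hG hM hKU hU1
    obtain ⟨m, hm, rfl⟩ := conj_U hG hM hKU hK hn hV
    refine ⟨_, decomp_conj hKU hm, hσ.symm, Or.inr ⟨fun hI => hK (of_typeI hG hM hKU hI).1, fun e => hK ?_⟩⟩
    exact (map_eq_bot_iff_of_injective _ (MulAut.conj m).injective).mp e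

/-- For types I and II, `A(M) ∖ A₁(M)` is the set `A(M) ∖ M_σ` of the standard factorisation. -/
theorem typeA_diff_eq (hG : IsMinSimpleOddOrder G) (hM : IsCoatom M) (hKU : IsSigmaDecomposition M K U)
    (hσ : fittingHallOf M = sigmaCore M) (h : IsOfTypeI M ∧ K = ⊥ ∨ ¬ IsOfTypeI M ∧ K ≠ ⊥) :
    typeA M \ typeA1 M = sigmaA M U \ (sigmaCore M : Set G) := by
  have key : ∀ (X : Subgroup G), U ⊔ sigmaCore M = X →
      typeA M = {a | a ∈ X ∧ a ≠ 1 ∧ ∃ x ∈ sigmaCore M, x ≠ 1 ∧ a * x = x * a} →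
      typeA M \ typeA1 M = sigmaA M U \ (sigmaCore M : Set G) := by
    intro X hX hA
    rw [hA, typeA1, typeCore_eq hG hM, sigmaA, hX]
    ext a
    constructor
    · rintro ⟨⟨haX, ha1, x, hx, hx1, hax⟩, ha⟩
      exact ⟨⟨⟨KappaDecomp.sup_le' hKU (hX.ge haX), x, hx, hx1, hax⟩, haX⟩, fun h => ha ⟨h, ha1⟩⟩
    · rintro ⟨⟨⟨-, x, hx, hx1, hax⟩, haX⟩, ha⟩
      exact ⟨⟨haX, fun e => ha (e ▸ one_mem (sigmaCore M)), x, hx, hx1, hax⟩, fun h => ha h.1⟩
  rcases h with ⟨hI, hK⟩ | ⟨hI, hK⟩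
  · refine key M (le_antisymm (KappaDecomp.sup_le' hKU) fun m hm => ?_) ?_
    · obtain ⟨u, hu, v, hv, rfl⟩ := hKU.compl.2.2.2 m hm
      rw [hK, bot_sup_eq] at hv
      exact mul_mem (mem_sup_left hu) (mem_sup_right hv)
    · rw [typeA, if_pos hI, hσ]
  · refine key ⁅M, M⁆ (PType.commutator_eq hG hM hKU hK).symm ?_
    rw [typeA, if_neg hI, typeCore_eq hG hM]

end Cfsg.Agent.OddLocal.Types
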