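import Cfsg.Agent.OddLocal.AppendixC
import Cfsg.Agent.S1470

/-! `p ≤ q` in the configuration of BG Appendix C. -/

set_option autoImplicit false
set_option linter.unusedSectionVars false

namespace Cfsg.Agent.OddLocal.AppendixC

open Subgroup

variable {G : Type*} [Group G] [Finite G] {F : Type*} [Field F] [Fintype F]

theorem Cfg.p_le_q {p q : ℕ} [Fact p.Prime] [Fact q.Prime] {P U Q : Subgroup G} {g : F → G} {ψ : G → F}
    {y : G} (c : Cfg p q P U Q g ψ y) (hq2 : q ≠ 2)
    (hA : Nat.Coprime ((p ^ q - 1) / (p - 1)) (p - 1)) : p ≤ q := by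
  have hp2 : p ≠ 2 := by have := c.hp5; omega
  set K := GaloisField p q
  have := c.hchar
  have hK : Nat.card K = p ^ q := GaloisField.card p q c.hq.ne_zero
  have : Fintype K := Fintype.ofFinite K
  let σ : F ≃+* K := FiniteField.ringEquivOfCardEq (by rw [c.hF, ← hK, Nat.card_eq_fintype_card])
  have hnorm : ∀ x : K, Algebra.norm (ZMod p) x = 1 ↔ x ^ Nat.card U = 1 := fun x => by
    have h := FiniteField.algebraMap_norm_eq_pow (K := ZMod p) (x := x)
    rw [hK, Nat.card_zmod, ← c.hU, Nat.mul_div_cancel _ (by have := c.hp5; omega)] at h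
    rw [← h, map_eq_one_iff _ (algebraMap (ZMod p) K).injective]
  refine S1470.result p q hp2 hq2 hA ?_ (S1471.result p q hp2 hq2 hA)
  rintro a ⟨ha1, ha2⟩
  have hb : ∀ b : K, Algebra.norm (ZMod p) b = 1 → ∃ u ∈ U, ψ u = σ.symm b := fun b hb =>
    c.exists_of_root (by rw [← map_pow, (hnorm b).mp hb, map_one])
  obtain ⟨u, hu, hue⟩ := hb a ha1
  obtain ⟨v, hv, hve⟩ := hb (2 - a) ha2
  obtain ⟨v', hv', he⟩ := c.inverse hu hv (by rw [hue, hve, ← map_add, add_sub_cancel, map_ofNat])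
  have he' : σ (ψ v') = 2 - a⁻¹ := by
    rw [eq_sub_of_add_eq' he, hue, map_sub, map_inv₀, map_ofNat, σ.apply_symm_apply]
  refine ⟨?_, (hnorm _).mpr (by rw [← he', ← map_pow, c.ψ_root hv', map_one])⟩
  rw [hnorm, inv_pow, (hnorm a).mp ha1, inv_one]

end Cfsg.Agent.OddLocal.AppendixC
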