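import Mathlib

/-! Elements of norm one whose sum is a given element of a finite field. -/

set_option autoImplicit false

open Finset

namespace Cfsg.Agent.OddLocal.NormSum

open scoped BigOperators

/-- If `U` is a finite set of elements of a finite field of order `Q` closed under multiplication, with
`Q + Q √Q < |U| ^ 2`, then every element is a sum of two elements of `U` in more than one way. -/
theorem two_le_card_sum {F : Type*} [Field F] [Fintype F] [DecidableEq F] (U : Finset F)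
    (h1 : (1 : F) ∈ U) (hmul : ∀ a ∈ U, ∀ b ∈ U, a * b ∈ U) (h0 : (0 : F) ∉ U) (c : F) (hc : c ≠ 0)
    (hbig : (Fintype.card F : ℝ) ^ 3 < ((U.card : ℝ) ^ 2 - Fintype.card F) ^ 2)
    (hpos : (Fintype.card F : ℝ) ≤ (U.card : ℝ) ^ 2) :
    2 ≤ (U.filter fun u => c - u ∈ U).card := by
  classical
  set Q := Fintype.card F with hQ
  obtain ⟨p, hchar, hpeq⟩ : ∃ p, CharP F p ∧ ringChar F = p := ⟨_, ringChar.charP F, rfl⟩
  have hp : p.Prime := CharP.char_is_prime F p
  subst hpeq
  -- a primitive character with values in ℂ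
  obtain ⟨ψ, hψ⟩ : ∃ ψ : AddChar F ℂ, ψ.IsPrimitive := by
    haveI : Fact (ringChar F).Prime := ⟨hp⟩
    let ζ : ℂ := Complex.exp (2 * Real.pi * Complex.I / (ringChar F : ℕ))
    have hζ : IsPrimitiveRoot ζ (ringChar F) := Complex.isPrimitiveRoot_exp _ hp.ne_zero
    letI : Algebra (ZMod (ringChar F)) F := ZMod.algebra _ _
    let χ := AddChar.zmodChar (ringChar F) hζ.pow_eq_one
    have hχ : χ.IsPrimitive := AddChar.zmodChar_primitive_of_primitive_root _ hζ
    refine ⟨χ.compAddMonoidHom (Algebra.trace (ZMod (ringChar F)) F).toAddMonoidHom,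
      AddChar.IsPrimitive.of_ne_one ?_⟩
    obtain ⟨a, ha⟩ := FiniteField.trace_to_zmod_nondegenerate F (a := (1 : F)) one_ne_zero
    rw [one_mul] at ha
    exact AddChar.ne_one_iff.2 ⟨a, fun hf => ha ((hχ.zmod_char_eq_one_iff _ _).mp hf)⟩
  let S : F → ℂ := fun t => ∑ u ∈ U, ψ (t * u)
  have hring : 0 < ringChar F := hp.pos
  have horth : ∀ x : F, ∑ t, ψ (t * x) = if x = 0 then (Q : ℂ) else 0 := by
    intro x
    rw [AddChar.sum_mulShift x hψ]
    split_ifs <;> simp [hQ]
  have hconj : ∀ x : F, (starRingEnd ℂ) (ψ x) = ψ (-x) := fun x => by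
    rw [AddChar.starComp_apply hring, AddChar.inv_apply]
  -- total square sum
  have htotal : ∑ t, ‖S t‖ ^ 2 = (Q : ℝ) * U.card := by
    have e : ∀ t, ((‖S t‖ ^ 2 : ℝ) : ℂ) = ∑ u ∈ U, ∑ v ∈ U, ψ (t * (v - u)) := by
      intro t
      push_cast
      rw [← Complex.conj_mul', map_sum, Finset.sum_mul]
      refine Finset.sum_congr rfl fun u _ => ?_
      rw [Finset.mul_sum]
      refine Finset.sum_congr rfl fun v _ => ?_
      rw [hconj, ← AddChar.map_add_eq_mul]
      congr 1; ring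
    apply Complex.ofReal_injective
    push_cast
    rw [Finset.sum_congr rfl (fun t _ => by simpa using e t), Finset.sum_comm]
    rw [Finset.sum_congr rfl (fun u (hu : u ∈ U) => show
        ∑ t, ∑ v ∈ U, ψ (t * (v - u)) = (Q : ℂ) by
      rw [Finset.sum_comm]
      simp only [horth, sub_eq_zero]
      rw [Finset.sum_ite_eq']
      simp [hu])]
    simp [mul_comm]
  have hinv : ∀ u ∈ U, ∀ t, S (t * u) = S t := by
    intro u hu t
    have hu0 : u ≠ 0 := fun h => h0 (h ▸ hu)
    have himg : U.image (fun v => u * v) = U := by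
      refine Finset.eq_of_subset_of_card_le (fun x hx => ?_) ?_
      · obtain ⟨v, hv, rfl⟩ := Finset.mem_image.mp hx; exact hmul u hu v hv
      · rw [Finset.card_image_of_injective _ (mul_right_injective₀ hu0)]
    show ∑ v ∈ U, ψ (t * u * v) = ∑ v ∈ U, ψ (t * v)
    conv_rhs => rw [← himg]
    rw [Finset.sum_image fun a _ b _ h => mul_right_injective₀ hu0 h]
    exact Finset.sum_congr rfl fun v _ => by rw [mul_assoc]
  have hU : (0 : ℝ) < U.card := by exact_mod_cast Finset.card_pos.mpr ⟨1, h1⟩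
  have hbound : ∀ t, t ≠ 0 → ‖S t‖ ≤ Real.sqrt Q := by
    intro t ht
    apply Real.le_sqrt_of_sq_le
    have h2 : ∑ u ∈ U, ‖S (t * u)‖ ^ 2 ≤ ∑ x, ‖S x‖ ^ 2 := by
      rw [← Finset.sum_image (f := fun x => ‖S x‖ ^ 2) fun a _ b _ h => mul_right_injective₀ ht h]
      exact Finset.sum_le_univ_sum_of_nonneg fun x => sq_nonneg _
    rw [htotal, Finset.sum_congr rfl (fun u hu => by rw [hinv u hu t]), Finset.sum_const,
      nsmul_eq_mul, mul_comm (Q : ℝ)] at h2
    exact le_of_mul_le_mul_left h2 hU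
  set M := (U.filter fun u => c - u ∈ U).card with hM
  have hcount : (Q : ℂ) * M = ∑ t, S t ^ 2 * ψ (-(t * c)) := by
    have e : ∀ t, S t ^ 2 * ψ (-(t * c)) = ∑ u ∈ U, ∑ v ∈ U, ψ (t * (v - (c - u))) := by
      intro t
      rw [sq, Finset.sum_mul_sum, Finset.sum_mul]
      refine Finset.sum_congr rfl fun u _ => ?_
      rw [Finset.sum_mul]
      refine Finset.sum_congr rfl fun v _ => ?_
      rw [← AddChar.map_add_eq_mul, ← AddChar.map_add_eq_mul]
      congr 1; ring
    rw [Finset.sum_congr rfl (fun t _ => e t), Finset.sum_comm,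
      Finset.sum_congr rfl (fun u _ => show
        ∑ t, ∑ v ∈ U, ψ (t * (v - (c - u))) = (if c - u ∈ U then (Q : ℂ) else 0) by
      rw [Finset.sum_comm]
      simp only [horth, sub_eq_zero]
      rw [Finset.sum_ite_eq'])]
    rw [← Finset.sum_filter, Finset.sum_const, nsmul_eq_mul, mul_comm]
  -- average over U
  have havg : (U.card : ℂ) * ((Q : ℂ) * M - (U.card : ℂ) ^ 2) =
      ∑ t ∈ univ.erase 0, S t ^ 2 * S (-(t * c)) := by
    have e0 : (Q : ℂ) * M - (U.card : ℂ) ^ 2 = ∑ t ∈ univ.erase 0, S t ^ 2 * ψ (-(t * c)) := by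
      rw [hcount, ← Finset.sum_erase_add _ _ (Finset.mem_univ (0 : F))]
      simp [S]
    have hrot : ∀ u ∈ U, ∑ t ∈ univ.erase (0 : F), S t ^ 2 * ψ (-(t * c)) =
        ∑ t ∈ univ.erase (0 : F), S t ^ 2 * ψ (-(t * c) * u) := by
      intro u hu
      have hu0 : u ≠ 0 := fun h => h0 (h ▸ hu)
      symm
      refine Finset.sum_bij (fun t _ => t * u) ?_ ?_ ?_ ?_
      · intro t ht; simp [hu0, (Finset.mem_erase.mp ht).1]
      · intro a _ b _ h; exact mul_left_injective₀ hu0 h
      · intro b hb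
        exact ⟨b / u, by simp [hu0, (Finset.mem_erase.mp hb).1], by field_simp⟩
      · intro t _
        rw [hinv u hu t]; congr 2; ring
    rw [e0]
    calc (U.card : ℂ) * ∑ t ∈ univ.erase 0, S t ^ 2 * ψ (-(t * c))
        = ∑ u ∈ U, ∑ t ∈ univ.erase (0 : F), S t ^ 2 * ψ (-(t * c) * u) := by
          rw [← Finset.sum_congr rfl hrot, Finset.sum_const, nsmul_eq_mul]
      _ = ∑ t ∈ univ.erase (0 : F), S t ^ 2 * S (-(t * c)) := by
          rw [Finset.sum_comm]
          refine Finset.sum_congr rfl fun t _ => ?_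
          rw [← Finset.mul_sum]
  have herr : (U.card : ℝ) * |(Q : ℝ) * M - (U.card : ℝ) ^ 2| ≤ (U.card : ℝ) * (Real.sqrt Q * Q) := by
    have h2 : ‖(U.card : ℂ) * ((Q : ℂ) * M - (U.card : ℂ) ^ 2)‖ =
        (U.card : ℝ) * |(Q : ℝ) * M - (U.card : ℝ) ^ 2| := by
      rw [norm_mul, Complex.norm_natCast, ← Real.norm_eq_abs, ← Complex.norm_real]
      push_cast; rfl
    rw [← h2, havg]
    calc ‖∑ t ∈ univ.erase (0 : F), S t ^ 2 * S (-(t * c))‖
        ≤ ∑ t ∈ univ.erase (0 : F), ‖S t‖ ^ 2 * Real.sqrt Q := by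
          refine (norm_sum_le _ _).trans (Finset.sum_le_sum fun t ht => ?_)
          rw [norm_mul, norm_pow]
          exact mul_le_mul_of_nonneg_left
            (hbound _ (neg_ne_zero.mpr (mul_ne_zero (Finset.mem_erase.mp ht).1 hc))) (sq_nonneg _)
      _ ≤ ∑ t, ‖S t‖ ^ 2 * Real.sqrt Q :=
          Finset.sum_le_univ_sum_of_nonneg fun t => by positivity
      _ = (U.card : ℝ) * (Real.sqrt Q * Q) := by rw [← Finset.sum_mul, htotal]; ring
  have herr' := (abs_le.mp (le_of_mul_le_mul_left herr hU)).1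
  have hQ0 : (0 : ℝ) < Q := by exact_mod_cast Fintype.card_pos (α := F)
  have hs : Real.sqrt Q * Q < (U.card : ℝ) ^ 2 - Q := by
    refine lt_of_pow_lt_pow_left₀ 2 (by linarith) ?_
    rw [mul_pow, Real.sq_sqrt hQ0.le]
    linarith [hbig]
  have hM1 : (1 : ℝ) < M := by
    by_contra hle
    push Not at hle
    nlinarith
  exact_mod_cast hM1

end Cfsg.Agent.OddLocal.NormSum
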