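import Cfsg.Agent.OddLocal.AppendixCBase
import Cfsg.Agent.S1471

/-! The final configuration of the odd order theorem (BG Appendix C): `p ≤ q`.

A relation among three `t`-conjugates of `P` with scalar entries gives `f_A f_B = f_1` for
`f_n = s ^ n t ^ (-n)`, which makes some power of `t` normalise `P`. -/

set_option autoImplicit false
set_option linter.unusedSectionVars false

namespace Cfsg.Agent.OddLocal.AppendixC

open Subgroup
open scoped Pointwise

variable {G : Type*} [Group G] [Finite G] {F : Type*} [Field F] [Fintype F]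

namespace Cfg

variable {p q : ℕ} {P U Q : Subgroup G} {g : F → G} {ψ : G → F} {y : G} (c : Cfg p q P U Q g ψ y)
include c

theorem br_add (n : ℤ) (a b : F) : br g y n (a + b) = br g y n a * br g y n b := by
  rw [br, br, br, c.add, conj_mul]

theorem br_neg (n : ℤ) (a : F) : br g y n (-a) = (br g y n a)⁻¹ := by
  rw [br, br, c.g_neg, conj_inv]

theorem br_sub (n : ℤ) (a b : F) : br g y n (a - b) = br g y n a * (br g y n b)⁻¹ := by
  rw [sub_eq_add_neg, c.br_add, c.br_neg]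

theorem br_zero (n : ℤ) : br g y n 0 = 1 := by
  rw [br, c.g_zero, mul_one, mul_inv_cancel]

theorem br_inj (n : ℤ) : Function.Injective (br g y n) := fun _ _ h =>
  c.inj (mul_left_cancel (mul_right_cancel h))

theorem br_zero' (a : F) : br g y 0 a = g a := by
  rw [br, zpow_zero, one_mul, inv_one, mul_one]

theorem br_shift (d n : ℤ) (a : F) : br g y (d + n) a =
    (y * g 1 * y⁻¹) ^ d * br g y n a * ((y * g 1 * y⁻¹) ^ d)⁻¹ := by
  rw [br, br, zpow_add]; group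

theorem t_mem (d : ℤ) {u : G} (hu : u ∈ U) :
    (y * g 1 * y⁻¹) ^ d * u * ((y * g 1 * y⁻¹) ^ d)⁻¹ ∈ U :=
  (mem_normalizer_iff.mp (zpow_mem c.hsU d) u).mp hu

theorem conj_br {u : G} (hu : u ∈ U) (n : ℤ) (a : F) :
    u * br g y n a * u⁻¹ = br g y n (et g ψ y (-n) u * a) := by
  rw [br, br, et, ← c.conj _ (c.t_mem (-n) hu), zpow_neg]; group

/-- The commutation of `fel i` and `fel j`, solved for a power of `s`. -/
theorem s_expand (i j : ℤ) :
    g 1 ^ i = br g y j ((i - j : ℤ) : F) * br g y (j - i) (j : F) := by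
  have h := c.commQ (c.fel_mem j) (c.fel_mem i)
  rw [fel, fel] at h
  rw [br, br, c.g_int, c.g_int]
  set t := y * g 1 * y⁻¹
  set s := g 1
  calc s ^ i = t ^ j * s ^ (-j) * (s ^ j * (t ^ j)⁻¹ * (s ^ i * (t ^ i)⁻¹)) * t ^ i := by group
    _ = t ^ j * s ^ (-j) * (s ^ i * (t ^ i)⁻¹ * (s ^ j * (t ^ j)⁻¹)) * t ^ i := by rw [h]
    _ = _ := by rw [zpow_sub, zpow_sub]; group

theorem expand (i j : ℤ) {u : G} (hu : u ∈ U) : g (i * ψ u) =
    br g y j ((i - j : ℤ) * et g ψ y (-j) u) * br g y (j - i) (j * et g ψ y (i - j) u) := by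
  rw [mul_comm (i : F), ← c.conj u hu, c.g_int, c.s_expand i j, ← conj_mul, c.conj_br hu,
    c.conj_br hu, neg_sub, mul_comm (et g ψ y (-j) u), mul_comm (et g ψ y (i - j) u)]

/-- The relation attached to `ψ u + ψ v = 2`. -/
theorem relation {u v : G} (hu : u ∈ U) (hv : v ∈ U) (huv : ψ u + ψ v = 2) :
    br g y 1 (1 - 2 * et g ψ y (-3) u) * br g y 0 (3 * et g ψ y (-2) u - et g ψ y (-2) v) *
      br g y (-1) (2 * et g ψ y (-1) v - 3) = 1 := by
  have h1 := c.expand 1 3 hu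
  have h2 := c.expand 1 2 hv
  have h3 := c.s_expand 2 3
  norm_num at h1 h2 h3
  have h4 : g (ψ u) * g (ψ v) = g 1 ^ 2 := by
    rw [← c.add, huv]; simpa using c.g_int 2
  rw [h1, h2, h3] at h4
  have key : br g y 3 (1 - 2 * et g ψ y (-3) u) * br g y 2 (3 * et g ψ y (-2) u - et g ψ y (-2) v) *
      br g y 1 (2 * et g ψ y (-1) v - 3) = 1 := by
    rw [c.br_neg 3, c.br_neg 2] at h4
    rw [c.br_neg 3] at h4
    rw [show (1 : F) - 2 * et g ψ y (-3) u = 1 + -(2 * et g ψ y (-3) u) by ring, c.br_add, c.br_neg,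
      c.br_sub, c.br_sub]
    set B := br g y 3 1
    set A := br g y 3 (2 * et g ψ y (-3) u)
    set C := br g y 2 (3 * et g ψ y (-2) u)
    set D := br g y 2 (et g ψ y (-2) v)
    set E := br g y 1 (2 * et g ψ y (-1) v)
    set H := br g y 1 3
    calc B * A⁻¹ * (C * D⁻¹) * (E * H⁻¹) = B * (A⁻¹ * C * (D⁻¹ * E)) * H⁻¹ := by group
      _ = B * (B⁻¹ * H) * H⁻¹ := by rw [h4]
      _ = 1 := by group
  have sh : ∀ (n n' : ℤ) (x : F), 2 + n = n' → br g y n' x =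
      (y * g 1 * y⁻¹) ^ (2 : ℤ) * br g y n x * ((y * g 1 * y⁻¹) ^ (2 : ℤ))⁻¹ := by
    rintro n _ x rfl; exact c.br_shift 2 n x
  rw [sh (-1) 1 _ (by norm_num), sh 0 2 _ (by norm_num), sh 1 3 _ (by norm_num), conj_mul,
    conj_mul] at key
  exact conj_eq_one_iff.mp key

/-- Distinct `t`-conjugates of `P` meet trivially. -/
theorem inter {m n : ℤ} (hmn : ((m - n : ℤ) : F) ≠ 0) {a b : F} (h : br g y m a = br g y n b) :
    a = 0 ∧ b = 0 := by
  suffices ha : a = 0 by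
    exact ⟨ha, c.br_inj n (by rw [← h, ha, c.br_zero, c.br_zero])⟩
  by_contra ha0
  let S : AddSubgroup F :=
    { carrier := {a | ∃ b, br g y m a = br g y n b}
      zero_mem' := ⟨0, by rw [c.br_zero, c.br_zero]⟩
      add_mem' := fun {a a'} ⟨b, hb⟩ ⟨b', hb'⟩ => ⟨b + b', by rw [c.br_add, c.br_add, hb, hb']⟩
      neg_mem' := fun {a} ⟨b, hb⟩ => ⟨-b, by rw [c.br_neg, c.br_neg, hb]⟩ }
  have hS : ∀ u ∈ U, ∀ a ∈ S, ψ u * a ∈ S := by
    rintro u hu a ⟨b, hb⟩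
    set v := (y * g 1 * y⁻¹) ^ m * u * ((y * g 1 * y⁻¹) ^ m)⁻¹ with hv
    have h1 := c.conj_br (c.t_mem m hu) m a
    rw [← hv, hb, c.conj_br (c.t_mem m hu)] at h1
    refine ⟨et g ψ y (-n) v * b, ?_⟩
    rw [h1]
    congr 1
    rw [et, hv, zpow_neg]; group
  refine c.not_normal_pow (n := n - m) (by rwa [Int.cast_sub, sub_ne_zero, ne_comm, ← sub_ne_zero,
    ← Int.cast_sub]) ?_
  set t := y * g 1 * y⁻¹
  have hall : ∀ z : F, ∃ b, br g y m z = br g y n b := fun z => c.stable_top S hS ⟨b, h⟩ ha0 z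
  have hmap : P ≤ P.map (MulAut.conj (t ^ (n - m))).toMonoidHom := fun x hx => by
    obtain ⟨z, rfl⟩ := c.surj x hx
    obtain ⟨b, hb⟩ := hall z
    refine ⟨g b, c.mem b, ?_⟩
    show t ^ (n - m) * g b * (t ^ (n - m))⁻¹ = g z
    calc t ^ (n - m) * g b * (t ^ (n - m))⁻¹
        = t ^ (-m) * (t ^ n * g b * (t ^ n)⁻¹) * (t ^ (-m))⁻¹ := by rw [zpow_sub]; group
      _ = g z := by
        rw [show t ^ n * g b * (t ^ n)⁻¹ = t ^ m * g z * (t ^ m)⁻¹ from hb.symm]; group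
  exact mem_normalizer_iff_map_conj_eq.mpr (eq_of_le_of_card_ge hmap
    (card_map_of_injective (MulAut.conj _).injective).le).symm

/-- A commutator with `s`. -/
def R (g : F → G) (Q : Subgroup G) (w : G) : Prop := ∃ v ∈ Q, w = g 1 * v * (g 1)⁻¹ * v⁻¹

theorem sQ1 {v : G} (hv : v ∈ Q) : g 1 * v * (g 1)⁻¹ ∈ Q := by simpa using c.sQ 1 hv

theorem R_mul {a b : G} (ha : R g Q a) (hb : R g Q b) : R g Q (a * b) := by
  obtain ⟨v, hv, rfl⟩ := ha
  obtain ⟨w, hw, rfl⟩ := hb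
  refine ⟨v * w, mul_mem hv hw, ?_⟩
  set s := g 1
  have h : v⁻¹ * (s * w * s⁻¹ * w⁻¹) = s * w * s⁻¹ * w⁻¹ * v⁻¹ :=
    c.commQ (inv_mem hv) (mul_mem (c.sQ1 hw) (inv_mem hw))
  calc s * v * s⁻¹ * v⁻¹ * (s * w * s⁻¹ * w⁻¹)
      = s * v * s⁻¹ * (v⁻¹ * (s * w * s⁻¹ * w⁻¹)) := by group
    _ = s * v * s⁻¹ * (s * w * s⁻¹ * w⁻¹ * v⁻¹) := by rw [h]
    _ = _ := by group

theorem R_inv {a : G} (ha : R g Q a) : R g Q a⁻¹ := by
  obtain ⟨v, hv, rfl⟩ := ha
  refine ⟨v⁻¹, inv_mem hv, ?_⟩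
  set s := g 1
  have h := c.commQ (inv_mem (inv_mem hv)) (c.sQ1 (inv_mem hv))
  calc (s * v * s⁻¹ * v⁻¹)⁻¹ = v⁻¹⁻¹ * (s * v⁻¹ * s⁻¹) := by group
    _ = s * v⁻¹ * s⁻¹ * v⁻¹⁻¹ := h

theorem R_fel (n : ℤ) : R g Q (fel g y n) := by
  have hstep : ∀ k : ℤ, fel g y (k + 1) =
      (g 1 * (g 1 ^ k * y * (g 1 ^ k)⁻¹) * (g 1)⁻¹ * (g 1 ^ k * y * (g 1 ^ k)⁻¹)⁻¹) * fel g y k := by
    intro k
    rw [c.fel_eq, c.fel_eq, show k + 1 = 1 + k by ring, zpow_add, zpow_one]; group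
  induction n using Int.induction_on with
  | zero => exact ⟨1, one_mem _, by rw [fel]; simp⟩
  | succ k ih =>
    rw [hstep]
    exact c.R_mul ⟨_, c.sQ k c.hy, rfl⟩ ih
  | pred k ih =>
    have h := hstep (-(k : ℤ) - 1)
    rw [sub_add_cancel] at h
    rw [eq_inv_mul_iff_mul_eq.mpr h.symm]
    exact c.R_mul (c.R_inv ⟨_, c.sQ _ c.hy, rfl⟩) ih

/-- A scalar relation between three `t`-conjugates of `P` is `fel A * fel B = fel 1`. -/
theorem coincidence {a b d : ℤ}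
    (h : br g y 1 (a : F) * br g y 0 (b : F) * br g y (-1) (d : F) = 1) :
    fel g y (a + 1) * fel g y (a + b) = fel g y 1 := by
  rw [br, br, br, c.g_int, c.g_int, c.g_int] at h
  simp only [conj_zpow] at h
  set s := g 1 with hs
  set Y : ℤ → G := fun n => s ^ n * y * (s ^ n)⁻¹ with hY
  have hYQ : ∀ n, Y n ∈ Q := fun n => c.sQ n c.hy
  set X := Y 0 * (Y 1)⁻¹ * Y (a + 1) * (Y a)⁻¹ * Y (a + b) * (Y (a + b - 1))⁻¹ *
    Y (a + b + d - 1) * (Y (a + b + d))⁻¹ with hX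
  have hX' : X * s ^ (a + b + d) = 1 := by
    rw [← h, hX, hY]
    simp only [zpow_add, zpow_sub, zpow_one, zpow_zero, zpow_neg]
    group
  have hsum : s ^ (a + b + d) = 1 := c.mem_P_Q (zpow_mem c.s_mem _) (by
    rw [eq_inv_of_mul_eq_one_right hX']
    exact inv_mem (by rw [hX]; apply_rules [mul_mem, inv_mem, hYQ]))
  have hcast : ((a + b + d : ℤ) : F) = 0 := c.inj (by rw [c.g_int, c.g_zero, ← hs, hsum])
  have hY0 : Y (a + b + d) = Y 0 := by rw [hY]; simp [hsum]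
  have hY1 : Y (a + b + d - 1) = Y (-1) := by
    rw [hY]; simp [zpow_sub, hsum]
  rw [hsum, mul_one, hX, hY0, hY1] at hX'
  have hσ : ∀ n, s * Y n * s⁻¹ = Y (n + 1) := fun n => by
    rw [hY]; simp only [zpow_add, zpow_one]; group
  have hR : R g Q (fel g y 1 * (fel g y (a + 1))⁻¹ * (fel g y (a + b))⁻¹) :=
    c.R_mul (c.R_mul (c.R_fel 1) (c.R_inv (c.R_fel _))) (c.R_inv (c.R_fel _))
  set W := fel g y 1 * (fel g y (a + 1))⁻¹ * (fel g y (a + b))⁻¹ with hW
  have hcomm : Commute s W := by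
    let : CommGroup Q := { (inferInstance : Group Q) with
      mul_comm := fun a b => Subtype.ext (c.commQ a.2 b.2) }
    set Z : ℤ → Additive Q := fun n => Additive.ofMul ⟨Y n, hYQ n⟩ with hZ
    let σ : Additive Q →+ Additive Q :=
      (MonoidHom.mk' (fun v : Q => (⟨s * v * s⁻¹, c.sQ1 v.2⟩ : Q)) fun v w => Subtype.ext (by
        show s * ((v : G) * w) * s⁻¹ = s * v * s⁻¹ * (s * w * s⁻¹)
        group)).toAdditive
    have hσZ : ∀ n, σ (Z n) = Z (n + 1) := fun n =>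
      congrArg Additive.ofMul (Subtype.ext (hσ n))
    have e0 : Z 0 - Z 1 + Z (a + 1) - Z a + Z (a + b) - Z (a + b - 1) + Z (-1) - Z 0 = 0 := by
      simp only [sub_eq_add_neg]
      exact congrArg Additive.ofMul (Subtype.ext hX' : (⟨_, hYQ 0⟩ : Q) * ⟨_, inv_mem (hYQ 1)⟩ *
        ⟨_, hYQ (a + 1)⟩ * ⟨_, inv_mem (hYQ a)⟩ * ⟨_, hYQ (a + b)⟩ * ⟨_, inv_mem (hYQ (a + b - 1))⟩ *
        ⟨_, hYQ (-1)⟩ * ⟨_, inv_mem (hYQ 0)⟩ = 1)
    have e1 := congrArg σ e0
    simp only [map_add, map_sub, hσZ, map_zero, zero_add, neg_add_cancel, sub_add_cancel] at e1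
    have e2 : σ (Z 1 + Z 0 - Z (a + 1) - Z (a + b)) = Z 1 + Z 0 - Z (a + 1) - Z (a + b) := by
      simp only [map_add, map_sub, hσZ, zero_add]
      rw [← sub_eq_zero, ← neg_eq_zero, ← e1]
      abel
    have hWZ : (Additive.toMul (Z 1 + Z 0 - Z (a + 1) - Z (a + b)) : Q).1 = W := by
      have hf : ∀ n, fel g y n = Y n * y⁻¹ := c.fel_eq
      have hy0 : Y 0 = y := by rw [hY]; simp
      show Y 1 * Y 0 / Y (a + 1) / Y (a + b) = W
      rw [hW, hf, hf, hf, hy0, div_eq_mul_inv, div_eq_mul_inv]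
      have k1 := c.commQ (c.hy) (mul_mem (inv_mem (hYQ (a + 1))) (inv_mem (hYQ (a + b))))
      have k2 := c.commQ (c.hy) (inv_mem (hYQ (a + b)))
      have k3 := c.commQ (c.hy) (inv_mem (hYQ (a + 1)))
      calc Y 1 * y * (Y (a + 1))⁻¹ * (Y (a + b))⁻¹
          = Y 1 * (y * (Y (a + 1))⁻¹) * (Y (a + b))⁻¹ := by group
        _ = Y 1 * (Y (a + 1))⁻¹ * (y * (Y (a + b))⁻¹) := by rw [k3]; group
        _ = Y 1 * y⁻¹ * (Y (a + 1) * y⁻¹)⁻¹ * (Y (a + b) * y⁻¹)⁻¹ := by group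
    have h5 : s * W * s⁻¹ = W := by
      rw [← hWZ]
      exact congrArg (fun v : Additive Q => (Additive.toMul v : Q).1) e2
    exact mul_inv_eq_iff_eq_mul.mp h5
  obtain ⟨v, hv, hWv⟩ := hR
  rw [hWv] at hcomm
  have hW1 : W = 1 := by rw [hWv]; exact c.fixed hv hcomm
  rw [hW, mul_inv_eq_one, mul_inv_eq_iff_eq_mul] at hW1
  rw [hW1]
  exact c.commQ (c.fel_mem _) (c.fel_mem _)

theorem fel_conj (n : ℤ) : (y * g 1 * y⁻¹) ^ n = (fel g y n)⁻¹ * g 1 ^ n := by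
  rw [fel]; group

/-- No coincidence `fel a * fel b = fel d` with nonzero indices. -/
theorem no_coincidence {a b d : ℤ} (hb : (b : F) ≠ 0) (ha : (a : F) ≠ 0)
    (h : fel g y a * fel g y b = fel g y d) : False := by
  set s := g 1
  set t := y * g 1 * y⁻¹ with ht
  set f := fel g y a
  set K := U ⊔ P
  have hU' : ∀ n : ℤ, ∀ u ∈ U, fel g y n * u * (fel g y n)⁻¹ ∈ K := fun n u hu => by
    rw [fel, show s ^ n * (t ^ n)⁻¹ * u * (s ^ n * (t ^ n)⁻¹)⁻¹ =
      s ^ n * (t ^ (-n) * u * (t ^ (-n))⁻¹) * (s ^ n)⁻¹ by rw [zpow_neg]; group]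
    exact mul_mem (mul_mem (mem_sup_right (zpow_mem c.s_mem n)) (mem_sup_left (c.t_mem _ hu)))
      (inv_mem (mem_sup_right (zpow_mem c.s_mem n)))
  set H := U ⊔ U.map (MulAut.conj (fel g y b)).toMonoidHom
  have hfH : ∀ x ∈ H, f * x * f⁻¹ ∈ K := by
    have : H ≤ K.comap (MulAut.conj f).toMonoidHom := by
      refine sup_le (fun u hu => hU' a u hu) ?_
      rintro _ ⟨u, hu, rfl⟩
      show f * (fel g y b * u * (fel g y b)⁻¹) * f⁻¹ ∈ K
      rw [show f * (fel g y b * u * (fel g y b)⁻¹) * f⁻¹ = f * fel g y b * u * (f * fel g y b)⁻¹ by group, h]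
      exact hU' d u hu
    exact this
  have hsU : ∀ u ∈ U, s ^ b * u * (s ^ b)⁻¹ ∈ H := fun u hu => by
    refine mem_sup_right ⟨t ^ b * u * (t ^ b)⁻¹, c.t_mem b hu, ?_⟩
    show s ^ b * (t ^ b)⁻¹ * (t ^ b * u * (t ^ b)⁻¹) * (s ^ b * (t ^ b)⁻¹)⁻¹ = _
    group
  let S : AddSubgroup F :=
    { carrier := {z | g z ∈ H}
      zero_mem' := by show g 0 ∈ H; rw [c.g_zero]; exact one_mem _
      add_mem' := fun {z z'} hz hz' => by show g (z + z') ∈ H; rw [c.add]; exact mul_mem hz hz'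
      neg_mem' := fun {z} hz => by show g (-z) ∈ H; rw [c.g_neg]; exact inv_mem hz }
  have hS : ∀ u ∈ U, ∀ z ∈ S, ψ u * z ∈ S := fun u hu z hz => by
    show g _ ∈ H
    rw [← c.conj u hu]
    exact mul_mem (mul_mem (mem_sup_left hu) hz) (inv_mem (mem_sup_left hu))
  obtain ⟨u, hu, hu1⟩ : ∃ u ∈ U, u ≠ 1 := by
    by_contra hall
    push Not at hall
    have hU1 : Nat.card U = 1 := by rw [card_eq_one, eq_bot_iff]; exact fun u hu => mem_bot.mpr (hall u hu)
    have h8 := c.hU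
    rw [hU1, one_mul] at h8
    have h9 : p ^ 2 ≤ p ^ q := Nat.pow_le_pow_right c.hp.pos c.hq.two_le
    have := c.hp5
    have h10 : p ^ q = p := by
      have := Nat.one_le_pow q p c.hp.pos
      omega
    rw [h10, sq] at h9
    nlinarith
  have hz : ψ u * (b : F) - b ∈ S := by
    show g _ ∈ H
    rw [sub_eq_add_neg, c.add, c.g_neg, ← c.conj u hu, c.g_int,
      show u * s ^ b * u⁻¹ * (s ^ b)⁻¹ = u * (s ^ b * u⁻¹ * (s ^ b)⁻¹) by group]
    exact mul_mem (mem_sup_left hu) (hsU _ (inv_mem hu))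
  have hz0 : ψ u * (b : F) - b ≠ 0 := fun e => by
    refine hu1 (c.injψ hu (one_mem _) ?_)
    rw [c.ψ_one]
    exact mul_right_cancel₀ hb ((sub_eq_zero.mp e).trans (one_mul _).symm)
  have hfP : f ∈ normalizer (P : Set G) := by
    refine mem_normalizer_iff_map_conj_eq.mpr (eq_of_le_of_card_ge ?_
      (card_map_of_injective (MulAut.conj f).injective).ge)
    rintro _ ⟨x, hx, rfl⟩
    obtain ⟨z, rfl⟩ := c.surj x hx
    have hK : f * g z * f⁻¹ ∈ K := hfH _ (c.stable_top S hS hz hz0 z)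
    have : (f * g z * f⁻¹) ∈ (U : Set G) * (P : Set G) := by
      rw [← coe_mul_of_left_le_normalizer_right U P c.normalP]; exact hK
    obtain ⟨v, hv, w, hw, hvw⟩ := Set.mem_mul.mp this
    show f * g z * f⁻¹ ∈ P
    rw [← hvw]
    suffices hv1 : v = 1 by rw [hv1, one_mul]; exact hw
    have hzp : (f * g z * f⁻¹) ^ p = 1 := by
      have h1 : ∀ n : ℕ, g z ^ n = g (n • z) := fun n => by
        induction n with
        | zero => rw [pow_zero, zero_smul, c.g_zero]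
        | succ n ih => rw [pow_succ, succ_nsmul, c.add, ih]
      have := c.hchar
      rw [conj_pow, h1, nsmul_eq_mul, CharP.cast_eq_zero, zero_mul, c.g_zero, mul_one, mul_inv_cancel]
    have hn : ∀ n : ℕ, ∃ w' ∈ P, (v * w) ^ n = v ^ n * w' := fun n => by
      induction n with
      | zero => exact ⟨1, one_mem _, by simp⟩
      | succ n ih =>
        obtain ⟨w', hw', e⟩ := ih
        refine ⟨v⁻¹ * w' * v * w, mul_mem ((mem_normalizer_iff''.mp (c.normalP hv) w').mp hw') hw, ?_⟩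
        rw [pow_succ, e, pow_succ]; group
    obtain ⟨w', hw', e⟩ := hn p
    rw [hvw, hzp] at e
    refine c.eq_one_of_pow_U hv (c.mem_P_U ?_ (pow_mem hv p))
    rw [eq_inv_of_mul_eq_one_left e.symm]
    exact inv_mem hw'
  refine c.not_normal_pow ha ?_
  rw [c.fel_conj a]
  exact mul_mem (inv_mem hfP) (zpow_mem (le_normalizer c.s_mem) a)

theorem fel_congr {m n : ℤ} (h : (m : F) = n) : fel g y m = fel g y n := by
  rw [fel, fel, conj_zpow, conj_zpow, c.s_pow_congr h]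

/-- The key step: `τ(e)⁻¹` is again in the pair set. -/
theorem step {u v : G} (hu : u ∈ U) (hv : v ∈ U) (huv : ψ u + ψ v = 2) :
    ∃ v' ∈ U, (et g ψ y (-3) u)⁻¹ + ψ v' = 2 := by
  have := c.hchar
  set t := y * g 1 * y⁻¹ with ht
  have hrel := c.relation hu hv huv
  set A := (1 : F) - 2 * et g ψ y (-3) u
  set M := 3 * et g ψ y (-2) u - et g ψ y (-2) v
  set B := 2 * et g ψ y (-1) v - 3
  have h10 : ((1 - (-1) : ℤ) : F) ≠ 0 := by
    rw [show (1 - (-1) : ℤ) = ((2 : ℕ) : ℤ) by norm_num, Int.cast_natCast, Ne, CharP.cast_eq_zero_iff F p]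
    exact fun hd => by have := Nat.le_of_dvd two_pos hd; have := c.hp5; omega
  set X := et g ψ y (-3) u with hX
  have hXu : ∀ d : ℤ, ∀ w ∈ U, et g ψ y d w ^ Nat.card U = 1 := fun d w hw => c.ψ_root (c.t_mem d hw)
  have hA : A ≠ 0 := fun hA => by
    -- `X = 1/2` would be a scalar of norm one
    have h2X : 2 * X = 1 := (sub_eq_zero.mp hA).symm
    have h2 : (2 : F) ^ Nat.card U = 1 := by
      have := congrArg (· ^ Nat.card U) h2X
      rwa [mul_pow, hX, hXu (-3) u hu, mul_one, one_pow] at this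
    have := Fact.mk c.hp
    have h3 : (2 : F) ^ (p - 1) = 1 := by
      have h4 : (2 : ZMod p) ^ (p - 1) = 1 := ZMod.pow_card_sub_one_eq_one (fun e => by
        have h5 : ((2 : ℕ) : ZMod p) = 0 := by exact_mod_cast e
        rw [ZMod.natCast_eq_zero_iff] at h5
        have := Nat.le_of_dvd two_pos h5; have := c.hp5; omega)
      have := congrArg (ZMod.castHom (dvd_refl p) F) h4
      rwa [map_pow, map_ofNat, map_one] at this
    have h6 : (2 : F) ^ Nat.gcd (Nat.card U) (p - 1) = 1 := pow_gcd_eq_one.mpr ⟨h2, h3⟩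
    rw [c.hco.gcd_eq_one, pow_one] at h6
    exact one_ne_zero (α := F) (by linear_combination h6)
  have hM : M ≠ 0 := fun hM => by
    rw [hM, c.br_zero, mul_one] at hrel
    exact hA (c.inter (b := -B) h10 (by rw [c.br_neg]; exact eq_inv_of_mul_eq_one_left hrel)).1
  obtain ⟨κ, hκ, w, hw, hMw⟩ := c.decomp hM
  -- the image of the relation under the Frobenius map
  have hφ : ∀ x z : F, (x - z) ^ p = x ^ p - z ^ p := fun x z => by
    have := Fact.mk c.hp; exact sub_pow_char x z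
  have hint : ∀ n : ℤ, (n : F) ^ p = n := fun n => by
    have := Fact.mk c.hp
    have := congrArg (ZMod.castHom (dvd_refl p) F) (ZMod.pow_card (n : ZMod p))
    rwa [map_pow, map_intCast] at this
  have hn2 : (2 : F) ^ p = 2 := by simpa using hint 2
  have hn3 : (3 : F) ^ p = 3 := by simpa using hint 3
  have hpow : ∀ d : ℤ, ∀ x ∈ U, et g ψ y d (x ^ p) = et g ψ y d x ^ p := fun d x hx => by
    rw [et, et, ← c.ψ_pow (c.t_mem d hx), conj_pow]
  have hrel' := c.relation (pow_mem hu p) (pow_mem hv p) (by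
    have := Fact.mk c.hp
    rw [c.ψ_pow hu, c.ψ_pow hv, ← add_pow_char, huv, hn2])
  rw [hpow _ u hu, hpow _ v hv, hpow _ u hu, hpow _ v hv,
    show 1 - 2 * et g ψ y (-3) u ^ p = A ^ p by rw [hφ, one_pow, mul_pow, hn2],
    show 3 * et g ψ y (-2) u ^ p - et g ψ y (-2) v ^ p = M ^ p by rw [hφ, mul_pow, hn3],
    show 2 * et g ψ y (-1) v ^ p - 3 = B ^ p by rw [hφ, mul_pow, hn2, hn3]] at hrel'
  have hp1 : p = p - 1 + 1 := by have := c.hp5; omega
  set z := w ^ (p - 1) with hz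
  have hzU : z ∈ U := pow_mem hw _
  have hMz : et g ψ y 0 z * M = M ^ p := by
    rw [et, zpow_zero, one_mul, inv_one, mul_one, hz, c.ψ_pow hw, hMw, mul_pow, hint]
    conv_rhs => rw [hp1, pow_succ]
    ring
  have hconj := congrArg (fun x => z * x * z⁻¹) hrel
  simp only [← conj_mul, c.conj_br hzU, mul_one, mul_inv_cancel, neg_zero, neg_neg, hMz] at hconj
  have hA' : et g ψ y (-1) z * A = A ^ p := by
    set a₁ := br g y 1 (et g ψ y (-1) z * A)
    set m₁ := br g y 0 (M ^ p)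
    set b₁ := br g y (-1) (et g ψ y 1 z * B)
    set a₂ := br g y 1 (A ^ p)
    set b₂ := br g y (-1) (B ^ p)
    have h1 : m₁ = a₁⁻¹ * b₁⁻¹ := by
      calc m₁ = a₁⁻¹ * (a₁ * m₁ * b₁) * b₁⁻¹ := by group
        _ = _ := by rw [hconj]; group
    have h2 : m₁ = a₂⁻¹ * b₂⁻¹ := by
      calc m₁ = a₂⁻¹ * (a₂ * m₁ * b₂) * b₂⁻¹ := by group
        _ = _ := by rw [hrel']; group
    have h3 : a₂ * a₁⁻¹ = b₂⁻¹ * b₁ := by
      calc a₂ * a₁⁻¹ = a₂ * (a₁⁻¹ * b₁⁻¹) * b₁ := by group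
        _ = b₂⁻¹ * b₁ := by rw [← h1, h2]; group
    rw [← c.br_sub, ← c.br_neg, ← c.br_add] at h3
    exact (sub_eq_zero.mp (c.inter h10 h3).1).symm
  -- hence the relation has scalar entries
  set r := et g ψ y (-1) w with hr
  have hr0 : r ≠ 0 := c.ne_zero _ (c.t_mem _ hw)
  obtain ⟨a, ha⟩ := c.exists_int (x := A / r) (by
    have h1 : et g ψ y (-1) z = r ^ (p - 1) := by rw [hz, hr, et, et, ← c.ψ_pow (c.t_mem _ hw), conj_pow]
    rw [h1] at hA'
    rw [div_pow, div_eq_div_iff (pow_ne_zero _ hr0) hr0]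
    conv_rhs => rw [hp1, pow_succ]
    linear_combination (-r) * hA')
  have hb : ∃ d : ℤ, br g y 1 (a : F) * br g y 0 (κ : F) * br g y (-1) (d : F) = 1 := by
    set r' := et g ψ y 1 w with hr'
    have hr'0 : r' ≠ 0 := c.ne_zero _ (c.t_mem _ hw)
    have hconj := congrArg (fun x => w⁻¹ * x * w⁻¹⁻¹) hrel
    simp only [← conj_mul, c.conj_br (inv_mem hw), mul_one, mul_inv_cancel, neg_zero, neg_neg] at hconj
    have hi : ∀ d : ℤ, et g ψ y d w⁻¹ = (et g ψ y d w)⁻¹ := fun d => by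
      rw [et, et, ← c.ψ_inv (c.t_mem d hw), ← conj_inv]
    rw [hi, hi, hi, ← hr, ← hr', show et g ψ y 0 w = ψ w by
      rw [et, zpow_zero, one_mul, inv_one, mul_one], hMw,
      show (ψ w)⁻¹ * (κ * ψ w) = κ by rw [mul_left_comm, inv_mul_cancel₀ (c.ne_zero w hw), mul_one],
      show r⁻¹ * A = a by rw [ha, div_eq_mul_inv, mul_comm]] at hconj
    have hfx : (r'⁻¹ * B) ^ p = r'⁻¹ * B := by
      have h1 : br g y (-1) ((r'⁻¹ * B) ^ p) = br g y (-1) (r'⁻¹ * B) := by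
        have h2 := congrArg (fun x => (w ^ p)⁻¹ * x * (w ^ p)⁻¹⁻¹) hrel'
        simp only [← conj_mul, c.conj_br (inv_mem (pow_mem hw p)), mul_one, mul_inv_cancel, neg_zero,
          neg_neg] at h2
        have hi' : ∀ d : ℤ, et g ψ y d (w ^ p)⁻¹ = (et g ψ y d w)⁻¹ ^ p := fun d => by
          rw [← inv_pow, hpow d _ (inv_mem hw), hi]
        rw [hi', hi', hi', ← mul_pow, ← mul_pow, ← mul_pow, ← hr, ← hr', show et g ψ y 0 w = ψ w by
          rw [et, zpow_zero, one_mul, inv_one, mul_one], hMw,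
          show (ψ w)⁻¹ * (κ * ψ w) = κ by rw [mul_left_comm, inv_mul_cancel₀ (c.ne_zero w hw), mul_one],
          show r⁻¹ * A = a by rw [ha, div_eq_mul_inv, mul_comm], hint, hint] at h2
        exact mul_left_cancel (h2.trans hconj.symm)
      exact c.br_inj _ h1
    obtain ⟨d, hd⟩ := c.exists_int hfx
    exact ⟨d, hd ▸ hconj⟩
  obtain ⟨d, hd⟩ := hb
  have hco := c.coincidence hd
  have ha1 : (a : F) = -1 := by
    by_contra hne
    have h0 : (((a + 1 : ℤ)) : F) ≠ 0 := by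
      rw [Int.cast_add, Int.cast_one]; exact fun e => hne (eq_neg_of_add_eq_zero_left e)
    by_cases hB : ((a + κ : ℤ) : F) = 0
    · rw [c.fel_congr (m := a + κ) (n := 0) (by rw [hB, Int.cast_zero]),
        show fel g y 0 = 1 by rw [fel]; simp, mul_one, c.fel_eq, c.fel_eq] at hco
      set s := g 1
      have h1 := mul_right_cancel hco
      have h3 : s ^ a * y * (s ^ a)⁻¹ = y := by
        calc s ^ a * y * (s ^ a)⁻¹ = s⁻¹ * (s ^ (a + 1) * y * (s ^ (a + 1))⁻¹) * s := by group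
          _ = y := by rw [h1]; group
      have h2 : (y * s * y⁻¹) ^ a = s ^ a := by
        rw [conj_zpow, ← mul_inv_eq_iff_eq_mul.mp h3, mul_inv_cancel_right]
      refine c.not_normal_pow (n := a) ?_ (h2 ▸ zpow_mem (le_normalizer c.s_mem) a)
      rw [ha]
      exact div_ne_zero hA hr0
    · exact c.no_coincidence hB h0 hco
  rw [ha, div_eq_iff hr0] at ha1
  -- `2 - X⁻¹` has norm one
  have hX0 : X ≠ 0 := c.ne_zero _ (c.t_mem _ hu)
  obtain ⟨v', hv', hv'e⟩ := c.exists_of_root (x := 2 - X⁻¹) (by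
    have h1 : 2 - X⁻¹ = r * X⁻¹ := by
      have h2 : 1 - 2 * X = -1 * r := ha1
      field_simp
      linear_combination -h2
    rw [h1, mul_pow, hXu _ w hw, inv_pow, hXu _ u hu, inv_one, one_mul])
  exact ⟨v', hv', by rw [hv'e, add_sub_cancel]⟩

/-- The pair set is closed under inversion. -/
theorem inverse {u v : G} (hu : u ∈ U) (hv : v ∈ U) (huv : ψ u + ψ v = 2) :
    ∃ v' ∈ U, (ψ u)⁻¹ + ψ v' = 2 := by
  set t := y * g 1 * y⁻¹ with ht
  have hn : ∀ n : ℕ, ∃ v' ∈ U, ψ ((t ^ (-3 * (n : ℤ)) * u * (t ^ (-3 * (n : ℤ)))⁻¹) ^ ((-1 : ℤ) ^ n)) +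
      ψ v' = 2 := by
    intro n
    induction n with
    | zero => exact ⟨v, hv, by simpa using huv⟩
    | succ n ih =>
      obtain ⟨v', hv', e⟩ := ih
      set u' := (t ^ (-3 * (n : ℤ)) * u * (t ^ (-3 * (n : ℤ)))⁻¹) ^ ((-1 : ℤ) ^ n) with hu'
      have hu'U : u' ∈ U := zpow_mem (c.t_mem _ hu) _
      obtain ⟨v'', hv'', e'⟩ := c.step hu'U hv' e
      refine ⟨v'', hv'', ?_⟩
      rw [← e']
      congr 1
      rw [et, ← c.ψ_inv (c.t_mem _ hu'U), ← ht]
      congr 1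
      rw [hu', ← conj_zpow, ← zpow_neg, pow_succ, mul_neg_one]
      congr 1
      push_cast
      rw [show -3 * ((n : ℤ) + 1) = -3 + -3 * (n : ℤ) by ring, zpow_add]; group
  obtain ⟨v', hv', e⟩ := hn p
  refine ⟨v', hv', ?_⟩
  rw [show -3 * (p : ℤ) = (p : ℤ) * (-3) by ring, zpow_mul, c.t_pow_p, one_zpow, one_mul, inv_one,
    mul_one, Odd.neg_one_pow, zpow_neg_one, c.ψ_inv hu] at e
  · exact e
  · exact c.hp.odd_of_ne_two (by have := c.hp5; omega)

end Cfg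

end Cfsg.Agent.OddLocal.AppendixC
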