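import Mathlib

/-! The final configuration of the odd order theorem (BG Appendix C): basic facts. -/

set_option autoImplicit false
set_option linter.unusedSectionVars false

namespace Cfsg.Agent.OddLocal.AppendixC

open Subgroup

variable {G : Type*} [Group G] [Finite G] {F : Type*} [Field F] [Fintype F]

/-- The configuration, with `g` inverse to the coordinate map of `P`. -/
structure Cfg (p q : ℕ) (P U Q : Subgroup G) (g : F → G) (ψ : G → F) (y : G) : Prop where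
  hp : p.Prime
  hp5 : 5 ≤ p
  hq : q.Prime
  hF : Fintype.card F = p ^ q
  hchar : CharP F p
  hU : Nat.card U * (p - 1) = p ^ q - 1
  hco : (Nat.card U).Coprime (p - 1)
  mem : ∀ a, g a ∈ P
  surj : ∀ x ∈ P, ∃ a, g a = x
  add : ∀ a b, g (a + b) = g a * g b
  inj : Function.Injective g
  conj : ∀ u ∈ U, ∀ a, u * g a * u⁻¹ = g (ψ u * a)
  normalP : U ≤ normalizer (P : Set G)
  ne_zero : ∀ u ∈ U, ψ u ≠ 0
  mul : ∀ u ∈ U, ∀ v ∈ U, ψ (u * v) = ψ u * ψ v
  injψ : Set.InjOn ψ (U : Set G)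
  hQ : IsMulCommutative Q
  hQp : (Nat.card Q).Coprime p
  hy : y ∈ Q
  hsQ : g 1 ∈ normalizer (Q : Set G)
  hsU : y * g 1 * y⁻¹ ∈ normalizer (U : Set G)

/-- `s ^ n t ^ (-n)`. -/
def fel (g : F → G) (y : G) (n : ℤ) : G := g 1 ^ n * ((y * g 1 * y⁻¹) ^ n)⁻¹

/-- `t ^ n g(x) t ^ (-n)`. -/
def br (g : F → G) (y : G) (n : ℤ) (x : F) : G :=
  (y * g 1 * y⁻¹) ^ n * g x * ((y * g 1 * y⁻¹) ^ n)⁻¹

/-- `ψ` of a `t`-conjugate. -/
def et (g : F → G) (ψ : G → F) (y : G) (d : ℤ) (u : G) : F :=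
  ψ ((y * g 1 * y⁻¹) ^ d * u * ((y * g 1 * y⁻¹) ^ d)⁻¹)

namespace Cfg

variable {p q : ℕ} {P U Q : Subgroup G} {g : F → G} {ψ : G → F} {y : G} (c : Cfg p q P U Q g ψ y)
include c

theorem g_zero : g 0 = 1 := by
  have h := c.add 0 0
  rw [add_zero] at h
  exact left_eq_mul.mp h

theorem g_neg (a : F) : g (-a) = (g a)⁻¹ := eq_inv_of_mul_eq_one_right <| by
  rw [← c.add, add_neg_cancel, c.g_zero]

theorem g_int (n : ℤ) : g (n : F) = g 1 ^ n := by
  induction n using Int.induction_on with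
  | zero => rw [Int.cast_zero, c.g_zero, zpow_zero]
  | succ n ih => rw [Int.cast_add, Int.cast_one, c.add, ih, zpow_add_one]
  | pred n ih => rw [Int.cast_sub, Int.cast_one, sub_eq_add_neg, c.add, c.g_neg, ih, zpow_sub_one]

theorem s_pow_congr {m n : ℤ} (h : (m : F) = n) : g 1 ^ m = g 1 ^ n := by
  rw [← c.g_int, ← c.g_int, h]

theorem s_mem : g 1 ∈ P := c.mem 1

theorem cast_p : ((p : ℤ) : F) = 0 := by
  have := c.hchar
  rw [Int.cast_natCast, CharP.cast_eq_zero]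

theorem s_pow_p : g 1 ^ (p : ℤ) = 1 := by rw [← c.g_int, c.cast_p, c.g_zero]

theorem t_pow_p : (y * g 1 * y⁻¹) ^ (p : ℤ) = 1 := by
  rw [conj_zpow, c.s_pow_p, mul_one, mul_inv_cancel]

theorem m_pos : 0 < Nat.card U := Nat.card_pos

theorem card_pred : Nat.card U * (p - 1) = Fintype.card F - 1 := by rw [c.hF, c.hU]

theorem not_dvd_card : ¬ p ∣ Nat.card U := fun h => by
  have h1 : p ∣ p ^ q - 1 := c.hU ▸ h.mul_right _
  have h2 : p ∣ p ^ q := dvd_pow_self p c.hq.ne_zero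
  have h3 := Nat.dvd_sub h2 h1
  rw [Nat.sub_sub_self (Nat.one_le_pow _ _ c.hp.pos)] at h3
  exact c.hp.one_lt.ne' (Nat.dvd_one.mp h3)

theorem ψ_one : ψ 1 = 1 := by
  have h := c.mul 1 (one_mem _) 1 (one_mem _)
  rw [mul_one] at h
  exact mul_left_cancel₀ (c.ne_zero 1 (one_mem _)) (h.symm.trans (mul_one _).symm)

theorem ψ_inv {u : G} (hu : u ∈ U) : ψ u⁻¹ = (ψ u)⁻¹ := eq_inv_of_mul_eq_one_right <| by
  rw [← c.mul u hu _ (inv_mem hu), mul_inv_cancel, c.ψ_one]

theorem ψ_pow {u : G} (hu : u ∈ U) (n : ℕ) : ψ (u ^ n) = ψ u ^ n := by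
  induction n with
  | zero => rw [pow_zero, pow_zero, c.ψ_one]
  | succ n ih => rw [pow_succ, pow_succ, c.mul _ (pow_mem hu n) _ hu, ih]

theorem ψ_root {u : G} (hu : u ∈ U) : ψ u ^ Nat.card U = 1 := by
  rw [← c.ψ_pow hu]
  have h : (⟨u, hu⟩ : U) ^ Nat.card U = 1 := pow_card_eq_one'
  have := congrArg Subtype.val h
  rw [SubgroupClass.coe_pow, OneMemClass.coe_one] at this
  rw [this, c.ψ_one]

/-- `ψ(U)` is the group of norm-one elements. -/
theorem exists_of_root {x : F} (hx : x ^ Nat.card U = 1) : ∃ u ∈ U, ψ u = x := by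
  classical
  have : Fintype U := Fintype.ofFinite U
  have hinj : Function.Injective fun u : U => ψ u := fun a b h => Subtype.ext (c.injψ a.2 b.2 h)
  have hsub : (Finset.univ.image fun u : U => ψ u) ⊆ Polynomial.nthRootsFinset (Nat.card U) (1 : F) := by
    intro z hz
    obtain ⟨u, -, rfl⟩ := Finset.mem_image.mp hz
    exact (Polynomial.mem_nthRootsFinset c.m_pos _).mpr (c.ψ_root u.2)
  have heq := Finset.eq_of_subset_of_card_le hsub (by
    rw [Finset.card_image_of_injective _ hinj, Finset.card_univ, ← Nat.card_eq_fintype_card,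
      Polynomial.nthRootsFinset]
    exact ((Multiset.toFinset_card_le _).trans (Polynomial.card_nthRoots _ _)))
  obtain ⟨u, -, hu⟩ := Finset.mem_image.mp (heq.ge ((Polynomial.mem_nthRootsFinset c.m_pos _).mpr hx))
  exact ⟨u, u.2, hu⟩

/-- The elements of the prime field are the integers. -/
theorem exists_int {x : F} (hx : x ^ p = x) : ∃ n : ℤ, (n : F) = x := by
  classical
  have := c.hchar
  have := Fact.mk c.hp
  let R : Polynomial F := Polynomial.X ^ p - Polynomial.X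
  have hR : R ≠ 0 := FiniteField.X_pow_card_sub_X_ne_zero F c.hp.one_lt
  have hinj : Function.Injective fun r : ZMod p => ZMod.castHom (dvd_refl p) F r :=
    (ZMod.castHom (dvd_refl p) F).injective
  have hsub : (Finset.univ.image fun r : ZMod p => ZMod.castHom (dvd_refl p) F r) ⊆ R.roots.toFinset := by
    intro z hz
    obtain ⟨r, -, rfl⟩ := Finset.mem_image.mp hz
    rw [Multiset.mem_toFinset, Polynomial.mem_roots hR, Polynomial.IsRoot, Polynomial.eval_sub,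
      Polynomial.eval_pow, Polynomial.eval_X, ← map_pow, ZMod.pow_card, sub_self]
  have heq := Finset.eq_of_subset_of_card_le hsub (by
    rw [Finset.card_image_of_injective _ hinj, Finset.card_univ, ZMod.card]
    exact (Multiset.toFinset_card_le _).trans ((Polynomial.card_roots' R).trans
      (FiniteField.X_pow_card_sub_X_natDegree_eq F c.hp.one_lt).le))
  obtain ⟨r, -, hr⟩ := Finset.mem_image.mp (heq.ge (show x ∈ R.roots.toFinset by
    rw [Multiset.mem_toFinset, Polynomial.mem_roots hR, Polynomial.IsRoot, Polynomial.eval_sub,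
      Polynomial.eval_pow, Polynomial.eval_X, hx, sub_self]))
  refine ⟨(r.val : ℤ), ?_⟩
  rw [← hr, Int.cast_natCast]
  exact (by rw [map_natCast] : ((r.val : F)) = ZMod.castHom (dvd_refl p) F (r.val : ZMod p)).trans
    (by rw [ZMod.natCast_zmod_val])

/-- `F* = F_p* × ψ(U)`. -/
theorem decomp {x : F} (hx : x ≠ 0) : ∃ n : ℤ, (n : F) ≠ 0 ∧ ∃ u ∈ U, x = n * ψ u := by
  set m := Nat.card U
  have h1 : (x ^ m) ^ (p - 1) = 1 := by
    rw [← pow_mul, c.card_pred, FiniteField.pow_card_sub_one_eq_one x hx]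
  obtain ⟨r, -, hr⟩ := Nat.exists_mul_mod_eq_one_of_coprime c.hco (by have := c.hp5; omega)
  set κ := (x ^ m) ^ r
  have hκ0 : κ ≠ 0 := pow_ne_zero _ (pow_ne_zero _ hx)
  have hκ : κ ^ p = κ := by
    conv_lhs => rw [show p = p - 1 + 1 by have := c.hp5; omega]
    rw [pow_succ, ← pow_mul, mul_comm r, pow_mul, h1, one_pow, one_mul]
  obtain ⟨n, hn⟩ := c.exists_int hκ
  obtain ⟨u, hu, huv⟩ := c.exists_of_root (x := x / κ) (by
    have h2 : κ ^ m = x ^ m := by
      rw [← pow_mul, mul_comm r]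
      conv_lhs => rw [← Nat.div_add_mod (m * r) (p - 1), hr, pow_add, pow_mul, h1, one_pow, one_mul, pow_one]
    rw [div_pow, h2, div_self (pow_ne_zero _ hx)])
  refine ⟨n, hn ▸ hκ0, u, hu, ?_⟩
  rw [hn, huv, mul_div_cancel₀ _ hκ0]

/-- A nonzero additive subgroup stable under `ψ(U)` is everything. -/
theorem stable_top (S : AddSubgroup F) (hS : ∀ u ∈ U, ∀ a ∈ S, ψ u * a ∈ S) {a : F} (ha : a ∈ S)
    (ha0 : a ≠ 0) (z : F) : z ∈ S := by
  rcases eq_or_ne z 0 with rfl | hz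
  · exact zero_mem _
  obtain ⟨n, -, u, hu, he⟩ := c.decomp (div_ne_zero hz ha0)
  have h : z = n • (ψ u * a) := by
    rw [zsmul_eq_mul, ← mul_assoc, ← he, div_mul_cancel₀ _ ha0]
  rw [h]
  exact zsmul_mem (hS u hu a ha) n

theorem mem_P_Q {x : G} (hP : x ∈ P) (hQ' : x ∈ Q) : x = 1 := by
  obtain ⟨a, rfl⟩ := c.surj x hP
  have h1 : orderOf (g a) ∣ p := orderOf_dvd_of_pow_eq_one (by
    have hn : ∀ n : ℕ, g a ^ n = g (n • a) := fun n => by
      induction n with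
      | zero => rw [pow_zero, zero_smul, c.g_zero]
      | succ n ih => rw [pow_succ, succ_nsmul, c.add, ih]
    have := c.hchar
    rw [hn, nsmul_eq_mul, CharP.cast_eq_zero, zero_mul, c.g_zero])
  exact orderOf_eq_one_iff.mp (Nat.eq_one_of_dvd_coprimes c.hQp (orderOf_dvd_natCard Q hQ') h1)

theorem eq_one_of_pow_U {u : G} (hu : u ∈ U) (h : u ^ p = 1) : u = 1 :=
  orderOf_eq_one_iff.mp (Nat.eq_one_of_dvd_coprimes (c.hp.coprime_iff_not_dvd.mpr c.not_dvd_card)
    (orderOf_dvd_of_pow_eq_one h) (orderOf_dvd_natCard U hu))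

theorem mem_P_U {x : G} (hP : x ∈ P) (hU' : x ∈ U) : x = 1 := by
  obtain ⟨a, rfl⟩ := c.surj x hP
  refine c.eq_one_of_pow_U hU' ?_
  have h : ∀ n : ℕ, g a ^ n = g (n • a) := fun n => by
    induction n with
    | zero => rw [pow_zero, zero_smul, c.g_zero]
    | succ n ih => rw [pow_succ, succ_nsmul, c.add, ih]
  have := c.hchar
  rw [h, nsmul_eq_mul, CharP.cast_eq_zero, zero_mul, c.g_zero]

theorem sQ (n : ℤ) {v : G} (hv : v ∈ Q) : g 1 ^ n * v * (g 1 ^ n)⁻¹ ∈ Q :=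
  (mem_normalizer_iff.mp (zpow_mem c.hsQ n) v).mp hv

theorem commQ {a b : G} (ha : a ∈ Q) (hb : b ∈ Q) : a * b = b * a :=
  congrArg Subtype.val (c.hQ.is_comm.comm ⟨a, ha⟩ ⟨b, hb⟩)

theorem fel_eq (n : ℤ) : fel g y n = g 1 ^ n * y * (g 1 ^ n)⁻¹ * y⁻¹ := by
  rw [fel, conj_zpow]; group

theorem fel_mem (n : ℤ) : fel g y n ∈ Q := by
  rw [c.fel_eq]; exact mul_mem (c.sQ n c.hy) (inv_mem c.hy)

/-- A commutator with `s` in `Q` that commutes with `s` is trivial. -/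
theorem fixed {v : G} (hv : v ∈ Q) (h : Commute (g 1) (g 1 * v * (g 1)⁻¹ * v⁻¹)) :
    g 1 * v * (g 1)⁻¹ * v⁻¹ = 1 := by
  set s := g 1
  set w := s * v * s⁻¹ * v⁻¹ with hw
  have hwQ : w ∈ Q := mul_mem (by simpa using c.sQ 1 hv) (inv_mem hv)
  have hn : ∀ n : ℕ, s ^ n * v * (s ^ n)⁻¹ = w ^ n * v := fun n => by
    induction n with
    | zero => simp
    | succ n ih =>
      calc s ^ (n + 1) * v * (s ^ (n + 1))⁻¹ = s * (s ^ n * v * (s ^ n)⁻¹) * s⁻¹ := by group
        _ = (s * w ^ n) * (v * s⁻¹) := by rw [ih]; group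
        _ = (w ^ n * s) * (v * s⁻¹) := by rw [(h.pow_right n).eq]
        _ = w ^ (n + 1) * v := by rw [pow_succ, hw]; group
  have h1 := hn p
  have h2 : s ^ p = 1 := by simpa using c.s_pow_p
  rw [h2, one_mul, inv_one, mul_one, right_eq_mul] at h1
  exact orderOf_eq_one_iff.mp (Nat.eq_one_of_dvd_coprimes c.hQp (orderOf_dvd_natCard Q hwQ)
    (orderOf_dvd_of_pow_eq_one h1))

theorem not_normal (h : y * g 1 * y⁻¹ ∈ normalizer (P : Set G)) : False := by
  set s := g 1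
  have hs := c.s_mem
  set w := s * y * s⁻¹ * y⁻¹ with hw
  have hwQ : w ∈ Q := mul_mem (by simpa using c.sQ 1 c.hy) (inv_mem c.hy)
  have hwN : w ∈ normalizer (P : Set G) := by
    rw [show w = s * (y * s * y⁻¹)⁻¹ by rw [hw]; group]
    exact mul_mem (le_normalizer hs) (inv_mem h)
  have h1 : w * s * w⁻¹ * s⁻¹ = 1 := by
    refine c.mem_P_Q (mul_mem ((mem_normalizer_iff.mp hwN s).mp hs) (inv_mem hs)) ?_
    rw [show w * s * w⁻¹ * s⁻¹ = w * (s * w⁻¹ * s⁻¹) by group]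
    exact mul_mem hwQ (by simpa using c.sQ 1 (inv_mem hwQ))
  have h2 : w = 1 := c.fixed c.hy (mul_inv_eq_iff_eq_mul.mp (mul_inv_eq_one.mp h1)).symm
  have h3 : y * s * y⁻¹ = s := by
    have h4 : s * y * s⁻¹ = y := mul_inv_eq_one.mp h2
    calc y * s * y⁻¹ = (s * y * s⁻¹) * s * y⁻¹ := by rw [h4]
      _ = s := by group
  have hsU := c.hsU
  rw [h3] at hsU
  have h5 : ∀ u ∈ U, u = 1 := fun u hu => by
    have h6 : u * s * u⁻¹ * s⁻¹ = 1 := c.mem_P_U
      (mul_mem ((mem_normalizer_iff.mp (c.normalP hu) s).mp hs) (inv_mem hs))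
      (by rw [show u * s * u⁻¹ * s⁻¹ = u * (s * u⁻¹ * s⁻¹) by group]
          exact mul_mem hu ((mem_normalizer_iff.mp hsU _).mp (inv_mem hu)))
    have h7 := mul_inv_eq_one.mp h6
    rw [c.conj u hu 1, mul_one] at h7
    exact c.injψ hu (one_mem _) ((c.inj h7).trans c.ψ_one.symm)
  have hU1 : Nat.card U = 1 := by
    rw [card_eq_one, eq_bot_iff]
    exact fun u hu => mem_bot.mpr (h5 u hu)
  have h8 := c.hU
  rw [hU1, one_mul] at h8
  have h9 : p ^ 2 ≤ p ^ q := Nat.pow_le_pow_right c.hp.pos c.hq.two_le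
  have := c.hp5
  have h10 : p ^ q = p := by
    have := Nat.one_le_pow q p c.hp.pos
    omega
  rw [h10, sq] at h9
  nlinarith

theorem not_normal_pow {n : ℤ} (hn : (n : F) ≠ 0)
    (h : (y * g 1 * y⁻¹) ^ n ∈ normalizer (P : Set G)) : False := by
  refine c.not_normal ?_
  have := c.hchar
  have hco : IsCoprime n (p : ℤ) := by
    refine (Int.isCoprime_iff_gcd_eq_one).mpr ?_
    have h1 : ¬ (p : ℤ) ∣ n := fun hd => hn ((CharP.intCast_eq_zero_iff F p n).mpr hd)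
    rw [Int.gcd_comm]
    exact Nat.Coprime.gcd_eq_one ((c.hp.coprime_iff_not_dvd).mpr fun hd =>
      h1 (Int.natCast_dvd.mpr hd))
  obtain ⟨a, b, hab⟩ := hco
  have h2 : y * g 1 * y⁻¹ = ((y * g 1 * y⁻¹) ^ n) ^ a := by
    rw [← zpow_mul, show n * a = 1 - (p : ℤ) * b by linarith, zpow_sub, zpow_mul, c.t_pow_p, one_zpow,
      zpow_one, inv_one, mul_one]
  rw [h2]
  exact zpow_mem h a

end Cfg

end Cfsg.Agent.OddLocal.AppendixC
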