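import Cfsg.Agent.OddLocal.Transitivity
import Cfsg.Agent.Lib.CharP.Sylow
import Cfsg.Agent.Lib.CharP.PReduced
import Cfsg.Agent.Lib.Cores.Fitting
import Cfsg.Agent.Lib.Cores.Nilpotent
import Cfsg.Agent.Lib.Components.Balance
import Cfsg.Agent.Lib.Coprime.Commutator
import Cfsg.Agent.Lib.Coprime.PGroup
import Cfsg.Agent.Lib.Coprime.Sylow
import Cfsg.Agent.Lib.Coprime.OmegaDetect
import Cfsg.Agent.Lib.PLocal.Cores
import Cfsg.Agent.Solvable.Fitting
import Cfsg.Prelude.Def_OddOrderLocal

/-! Bender's method: subgroups containing enough of the Fitting subgroup of a maximal local subgroup. -/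

set_option autoImplicit false
set_option linter.unusedSectionVars false

namespace Cfsg.Agent.OddLocal.Bender

open Cfsg Subgroup
open scoped commutatorElement

variable {G : Type*} [Group G] [Finite G]

/-! ### General facts -/

theorem le_centralizer_of_mutual {A B : Subgroup G} (hAB : A ≤ normalizer (B : Set G))
    (hBA : B ≤ normalizer (A : Set G)) (h : A ⊓ B = ⊥) : A ≤ centralizer (B : Set G) := by
  rw [← commutator_eq_bot_iff_le_centralizer, eq_bot_iff, ← h]
  exact le_inf (Coprime.commutator_le_of_le_normalizer hBA)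
    (commutator_comm A B ▸ Coprime.commutator_le_of_le_normalizer hAB)

theorem inf_eq_bot_of_coprime {A B : Subgroup G} (h : (Nat.card A).Coprime (Nat.card B)) :
    A ⊓ B = ⊥ := disjoint_iff.mp (disjoint_of_coprime_natCard h)

theorem coprime_of_isPGroup {A : Subgroup G} {r : ℕ} [hr : Fact r.Prime] (hA : IsPGroup r A) {n : ℕ}
    (h : ¬ r ∣ n) : (Nat.card A).Coprime n := by
  obtain ⟨k, hk⟩ := hA.exists_card_eq
  rw [hk]
  exact (hr.out.coprime_iff_not_dvd.mpr h).pow_left k

theorem fittingOf_le (H : Subgroup G) : fittingOf H ≤ H := map_subtype_le _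

theorem le_normalizer_fittingOf (H : Subgroup G) : H ≤ normalizer (fittingOf H : Set G) := by
  refine le_normalizer_of_normal_subgroupOf (hK := ?_) (fittingOf_le H)
  rw [fittingOf, subgroupOf, comap_map_eq_self_of_injective H.subtype_injective]
  infer_instance

theorem fittingOf_isNilpotent (H : Subgroup G) : Group.IsNilpotent (fittingOf H) :=
  Cores.isNilpotent_map _ _ Cores.fittingSubgroup_isNilpotent

theorem pCoreOf_le_fittingOf (r : ℕ) [Fact r.Prime] (H : Subgroup G) : pCoreOf r H ≤ fittingOf H :=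
  map_mono (Cores.pCore_le_fitting r)

theorem le_pCoreOf_of_le_fittingOf {r : ℕ} [Fact r.Prime] {H T : Subgroup G} (hT : T ≤ fittingOf H)
    (hTp : IsPGroup r T) : T ≤ pCoreOf r H := by
  rw [← map_subgroupOf_eq_of_le (hT.trans (fittingOf_le H))]
  refine map_mono ?_
  have hTF : T.subgroupOf H ≤ fittingSubgroup H := fun x hx => by
    obtain ⟨y, hy, he⟩ := hT hx
    exact (Subtype.ext he : y = x) ▸ hy
  have hTp' : IsPGroup r (T.subgroupOf H) := hTp.comap_subtype
  obtain ⟨U, hU⟩ := (hTp'.comap_subtype : IsPGroup r ((T.subgroupOf H).subgroupOf (fittingSubgroup H))).exists_le_sylow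
  exact (map_subgroupOf_eq_of_le hTF).symm.le.trans ((map_mono hU).trans (Cores.sylow_fitting_map U).le)

theorem pCoreOf_ne_bot {r : ℕ} [hr : Fact r.Prime] {H : Subgroup G} (h : r ∣ Nat.card (fittingOf H)) :
    pCoreOf r H ≠ ⊥ := by
  intro he
  obtain ⟨x, hx⟩ := exists_prime_orderOf_dvd_card' (G := fittingOf H) r h
  rw [← orderOf_coe] at hx
  have h1 : zpowers (x : G) ≤ pCoreOf r H := le_pCoreOf_of_le_fittingOf (zpowers_le.mpr x.2)
    (IsPGroup.of_card (n := 1) (by rw [Nat.card_zpowers, hx, pow_one]))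
  rw [he, le_bot_iff, zpowers_eq_bot] at h1
  rw [h1, orderOf_one] at hx
  exact hr.out.ne_one hx.symm

theorem dvd_card_fittingOf {r : ℕ} [Fact r.Prime] {H : Subgroup G} (h : pCoreOf r H ≠ ⊥) :
    r ∣ Nat.card (fittingOf H) := by
  obtain ⟨k, hk⟩ := (CharP.isPGroup_pCoreOf r H).exists_card_eq
  have hk0 : k ≠ 0 := fun e => h (eq_bot_of_card_eq _ (by rw [hk, e, pow_zero]))
  exact (dvd_pow_self r hk0).trans (hk ▸ card_dvd_of_le (pCoreOf_le_fittingOf r H))

/-- A nilpotent subgroup of `F(H)` is centralized by whatever centralizes its primary parts. -/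
theorem le_centralizer_of_parts {H M : Subgroup G} (hM : M ≤ fittingOf H) {x : G}
    (h : ∀ r : ℕ, ∀ [Fact r.Prime], ∀ m ∈ M ⊓ pCoreOf r H, Commute m x) : ∀ m ∈ M, Commute m x := by
  intro m hm
  have htop : (centralizer ({x} : Set G)).subgroupOf M = ⊤ := by
    refine Cores.eq_top_of_sylow_le fun r hr _ => ?_
    have := Fact.mk hr
    obtain ⟨S⟩ := (inferInstance : Nonempty (Sylow r M))
    refine ⟨S, fun y hy => mem_centralizer_singleton_iff.mpr ?_⟩
    exact h r y ⟨y.2, le_pCoreOf_of_le_fittingOf ((map_subtype_le (S : Subgroup M)).trans hM)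
      (S.isPGroup'.map M.subtype) ⟨y, hy, rfl⟩⟩
  have h1 : (⟨m, hm⟩ : M) ∈ (centralizer ({x} : Set G)).subgroupOf M := htop ▸ mem_top _
  exact mem_centralizer_singleton_iff.mp h1

theorem commute_pCoreOf {r s : ℕ} [Fact r.Prime] [Fact s.Prime] (hne : r ≠ s) {H : Subgroup G} {x y : G}
    (hx : x ∈ pCoreOf r H) (hy : y ∈ pCoreOf s H) : Commute x y := by
  obtain ⟨x, hx, rfl⟩ := hx
  obtain ⟨y, hy, rfl⟩ := hy
  exact (Cores.pCore_commute hne hx hy).map H.subtype

/-- An element of order prime to `|F(H)|` fixing a self-centralizing subgroup of `F(H)` fixes `F(H)`. -/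
theorem centralizes_fittingOf {H M : Subgroup G} (hM : M ≤ fittingOf H)
    (hCM : fittingOf H ⊓ centralizer (M : Set G) ≤ M) {x : G} (hxH : x ∈ H)
    (hx : (orderOf x).Coprime (Nat.card (fittingOf H))) (hxM : x ∈ centralizer (M : Set G)) :
    x ∈ centralizer (fittingOf H : Set G) := by
  refine mem_centralizer_iff.mpr fun f hf => (le_centralizer_of_parts (H := H) le_rfl (fun r _ y hy => ?_) f hf).eq
  rcases eq_or_ne (pCoreOf r H) ⊥ with h | h
  · rw [show y = 1 from mem_bot.mp (h ▸ hy.2)]
    exact Commute.one_left x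
  have hxr : (orderOf x).Coprime r := hx.coprime_dvd_right (dvd_card_fittingOf h)
  have hcen : zpowers x ≤ centralizer (pCoreOf r H : Set G) := by
    refine Coprime.le_centralizer_of_pxq (P := M ⊓ pCoreOf r H) ((CharP.isPGroup_pCoreOf r H).to_le inf_le_right)
      (by rwa [Nat.card_zpowers]) (CharP.isPGroup_pCoreOf r H) ?_ (inf_le_right.trans le_normalizer)
      ((zpowers_le.mpr hxH).trans (CharP.le_normalizer_pCoreOf r H)) ?_
    · intro m hm
      refine mem_centralizer_iff.mpr fun z hz => ?_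
      obtain ⟨i, rfl⟩ := mem_zpowers_iff.mp hz
      exact ((show Commute m x from (mem_centralizer_iff.mp hxM m hm.1)).zpow_right i).eq.symm
    · rintro u ⟨hu, huc⟩
      refine mem_centralizer_iff.mpr fun z hz => ?_
      have huM : u ∈ M := hCM ⟨pCoreOf_le_fittingOf r H hu, mem_centralizer_iff.mpr fun m hm => by
        refine (le_centralizer_of_parts hM (fun s _ v hv => ?_) m hm).eq
        by_cases hsr : s = r
        · subst hsr
          exact mem_centralizer_iff.mp huc v hv
        · exact commute_pCoreOf hsr hv.2 hu⟩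
      obtain ⟨i, rfl⟩ := mem_zpowers_iff.mp hz
      exact ((show Commute u x from (mem_centralizer_iff.mp hxM u huM)).zpow_right i).eq.symm
  exact mem_centralizer_iff.mp (hcen (mem_zpowers x)) y hy.2

/-- A solvable subgroup of `C_H(F(H))` normalised by `C_H(F(H))` lies in `F(H)`. -/
theorem inf_centralizer_fittingOf_le {H R : Subgroup G} (hR : Group.IsSolvable R)
    (hXR : H ⊓ centralizer (fittingOf H : Set G) ≤ normalizer (R : Set G)) :
    R ⊓ (H ⊓ centralizer (fittingOf H : Set G)) ≤ fittingOf H := by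
  set X := centralizer (fittingSubgroup H : Set H) with hX
  set ι : X →* G := H.subtype.comp X.subtype with hι
  have hιX : ∀ y : X, ι y ∈ H ⊓ centralizer (fittingOf H : Set G) := fun y => by
    refine ⟨y.1.2, mem_centralizer_iff.mpr ?_⟩
    rintro _ ⟨f, hf, rfl⟩
    exact congrArg Subtype.val (mem_centralizer_iff.mp y.2 f hf)
  have hιinj : Function.Injective ι := H.subtype_injective.comp X.subtype_injective
  set D := R.comap ι with hD
  have hDn : D.Normal := ⟨fun d hd g => by
    rw [hD, mem_comap, map_mul, map_mul, map_inv]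
    exact (mem_normalizer_iff.mp (hXR (hιX g)) _).mp hd⟩
  have hDs : Group.IsSolvable D := by
    let f : D →* R :=
      { toFun := fun d => ⟨ι d, d.2⟩
        map_one' := Subtype.ext (map_one ι)
        map_mul' := fun _ _ => Subtype.ext (map_mul ι _ _) }
    exact solvable_of_solvable_injective (f := f)
      fun a b hab => Subtype.ext (hιinj (congrArg (fun r : R => (r : G)) hab))
  have hFD : ((fittingSubgroup D).map D.subtype).map X.subtype ≤ fittingSubgroup H :=
    (map_mono (Cores.map_fittingSubgroup_subtype_le D)).trans (Cores.map_fittingSubgroup_subtype_le X)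
  have htop : fittingSubgroup D = ⊤ := top_le_iff.mp fun d _ =>
    Cores.centralizer_fittingSubgroup_le (mem_centralizer_iff.mpr fun f hf => by
      exact Subtype.ext (Subtype.ext (mem_centralizer_iff.mp d.1.2 _ (hFD ⟨_, ⟨f, hf, rfl⟩, rfl⟩))))
  rintro x ⟨hxR, hxH, hxc⟩
  let y : X := ⟨⟨x, hxH⟩, mem_centralizer_iff.mpr fun f hf =>
    Subtype.ext (mem_centralizer_iff.mp hxc f ⟨f, hf, rfl⟩)⟩
  exact ⟨(y : H), hFD ⟨y, ⟨⟨y, hxR⟩, htop ▸ mem_top _, rfl⟩, rfl⟩, rfl⟩

/-- The centre of `O_r(H)`. -/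
def centerCore (r : ℕ) (H : Subgroup G) : Subgroup G :=
  pCoreOf r H ⊓ centralizer (pCoreOf r H : Set G)

theorem centerCore_isPGroup (r : ℕ) (H : Subgroup G) : IsPGroup r (centerCore r H) :=
  (CharP.isPGroup_pCoreOf r H).to_le inf_le_left

theorem centerCore_le (r : ℕ) (H : Subgroup G) : centerCore r H ≤ H :=
  inf_le_left.trans (CharP.pCoreOf_le r H)

theorem le_normalizer_centerCore (r : ℕ) (H : Subgroup G) : H ≤ normalizer (centerCore r H : Set G) :=
  (le_inf (CharP.le_normalizer_pCoreOf r H) ((CharP.le_normalizer_pCoreOf r H).trans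
    (CharP.normalizer_le_normalizer_centralizer _))).trans inf_normalizer_le_normalizer_inf

theorem centerCore_ne_bot {r : ℕ} [Fact r.Prime] {H : Subgroup G} (h : pCoreOf r H ≠ ⊥) :
    centerCore r H ≠ ⊥ := by
  have hP := CharP.isPGroup_pCoreOf r H
  have := hP.isNilpotent
  have hnt : Nontrivial (pCoreOf r H) := (nontrivial_iff_ne_bot _).mpr h
  obtain ⟨z, hz, hz1⟩ := (bot_or_exists_ne_one (center (pCoreOf r H))).resolve_left
    ((nontrivial_iff_ne_bot _).mp hP.center_nontrivial)
  exact fun he => hz1 (Subtype.ext (mem_bot.mp (he ▸ (⟨z.2, mem_centralizer_iff.mpr fun g hg =>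
    congrArg Subtype.val (mem_center_iff.mp hz ⟨g, hg⟩)⟩ : (z : G) ∈ centerCore r H))))

theorem centerCore_le_fittingOf_centralizer (r : ℕ) [Fact r.Prime] (H : Subgroup G) :
    centerCore r H ≤ fittingOf H ⊓ centralizer (fittingOf H : Set G) := by
  refine le_inf (inf_le_left.trans (pCoreOf_le_fittingOf r H)) fun z hz => ?_
  refine mem_centralizer_iff.mpr fun f hf => (le_centralizer_of_parts (H := H) le_rfl (fun s _ v hv => ?_) f hf).eq
  by_cases hsr : s = r
  · subst hsr
    exact mem_centralizer_iff.mp hz.2 v hv.2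
  · exact commute_pCoreOf hsr hv.2 hz.1

theorem centralizer_centerCore_le {r : ℕ} {H : Subgroup G}
    (hN : normalizer (centerCore r H : Set G) ≤ H) : centralizer (centerCore r H : Set G) ≤ H :=
  (centralizer_le_normalizer _).trans hN

/-! ### Invariant subgroups of order prime to `|F(H)|` -/

section Invariant

variable {H M R : Subgroup G} (hN : ∀ r : ℕ, r.Prime → r ∣ Nat.card (fittingOf H) →
    normalizer (centerCore r H : Set G) ≤ H) (hF2 : 2 ≤ (Nat.card (fittingOf H)).primeFactors.card)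
  (hM : M ≤ fittingOf H) (hCM : fittingOf H ⊓ centralizer (M : Set G) ≤ M)
  (hR : Group.IsSolvable R) (hMR : M ≤ normalizer (R : Set G))
  (hXR : H ⊓ centralizer (fittingOf H : Set G) ≤ normalizer (R : Set G))
include hN hF2 hM hCM hR hMR hXR

theorem centerCore_le_M (r : ℕ) [Fact r.Prime] : centerCore r H ≤ M := fun _ hz =>
  hCM ⟨(centerCore_le_fittingOf_centralizer r H hz).1,
    centralizer_le hM (centerCore_le_fittingOf_centralizer r H hz).2⟩

/-- Fixed points of `Z(O_s(H))` on an `M`-invariant subgroup of order prime to `|F(H)|` are trivial. -/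
theorem fpf {Y : Subgroup G} (hYR : Y ≤ R) (hMY : M ≤ normalizer (Y : Set G))
    (hY : (Nat.card Y).Coprime (Nat.card (fittingOf H))) {s : ℕ} [hs : Fact s.Prime]
    (hsF : s ∣ Nat.card (fittingOf H)) : Y ⊓ centralizer (centerCore s H : Set G) = ⊥ := by
  set Q := Y ⊓ centralizer (centerCore s H : Set G) with hQ
  have hQH : Q ≤ H := inf_le_right.trans (centralizer_centerCore_le (hN s hs.out hsF))
  have hMQ : M ≤ normalizer (Q : Set G) := by
    refine (le_inf hMY ?_).trans inf_normalizer_le_normalizer_inf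
    exact (hM.trans (fittingOf_le H)).trans ((le_normalizer_centerCore s H).trans
      (CharP.normalizer_le_normalizer_centralizer _))
  have hQF : Q ⊓ fittingOf H = ⊥ := inf_eq_bot_of_coprime (hY.coprime_dvd_left (card_dvd_of_le inf_le_left))
  rw [eq_bot_iff, ← hQF]
  intro x hx
  refine ⟨hx, inf_centralizer_fittingOf_le hR hXR ⟨hYR hx.1, hQH hx,
    centralizes_fittingOf hM hCM (hQH hx) (hY.coprime_dvd_left (Y.orderOf_dvd_natCard hx.1)) ?_⟩⟩
  refine mem_centralizer_iff.mpr fun m hm => commutatorElement_eq_one_iff_mul_comm.mp ?_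
  refine mem_bot.mp (hQF ▸ (⟨?_, ?_⟩ : ⁅m, x⁆ ∈ Q ⊓ fittingOf H))
  · show m * x * m⁻¹ * x⁻¹ ∈ Q
    exact mul_mem ((mem_normalizer_iff.mp (hMQ hm) x).mp hx) (inv_mem hx)
  · have h := (mem_normalizer_iff.mp (le_normalizer_fittingOf H (hQH hx)) m⁻¹).mp (inv_mem (hM hm))
    rw [show ⁅m, x⁆ = m * (x * m⁻¹ * x⁻¹) by simp only [commutatorElement_def]; group]
    exact mul_mem (hM hm) h

/-- An `M`-invariant `q`-subgroup of `R` lies in `O_{π'}(R)`, `π = π(F(H))`. -/
theorem le_core {q : ℕ} [hq : Fact q.Prime] (hqF : ¬ q ∣ Nat.card (fittingOf H)) {Y : Subgroup G}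
    (hYR : Y ≤ R) (hMY : M ≤ normalizer (Y : Set G)) (hY : IsPGroup q Y) :
    Y ≤ piCoreOf (primesNotDvd (Nat.card (fittingOf H))) R := by
  classical
  have hYF := coprime_of_isPGroup hY hqF
  set σ := primesNotDvd (Nat.card (fittingOf H)) with hσ
  set O := piCoreOf σ R with hO
  have hOR : O ≤ R := map_subtype_le _
  have hOσ : ∀ r : ℕ, r.Prime → r ∣ Nat.card O → r ∈ σ := Transitivity.isPi_piCoreOf σ R
  have hRO : normalizer (R : Set G) ≤ normalizer (O : Set G) := by
    haveI : (piCore σ R).Characteristic :=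
      characteristic_iff_map_eq.mpr fun e => Cores.map_piCore_eq e σ
    exact Coprime.OmegaDetect.normalizer_le_normalizer_char R (piCore σ R)
  set NR := normalizer (O : Set G) with hNR
  have hRN : R ≤ NR := le_normalizer.trans hRO
  have hMN : M ≤ NR := hMR.trans hRO
  set f := QuotientGroup.mk' (O.subgroupOf NR) with hf
  have hfs : Function.Surjective f := QuotientGroup.mk'_surjective _
  have hf1 : ∀ {x : NR}, f x = 1 ↔ (x : G) ∈ O := fun {x} => QuotientGroup.eq_one_iff x
  set Rb := (R.subgroupOf NR).map f with hRb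
  have hVker : ∀ {V : Subgroup (NR ⧸ O.subgroupOf NR)}, V ≤ Rb → (V.comap f).map NR.subtype ≤ R := by
    rintro V hV _ ⟨x, hx, rfl⟩
    obtain ⟨y, hy, he⟩ := hV hx
    have h1 : ((y⁻¹ * x : NR) : G) ∈ O := hf1.mp (by rw [map_mul, map_inv, he, inv_mul_cancel])
    have h2 := mul_mem (show (y : G) ∈ R from hy) (hOR h1)
    rwa [show (y : G) * ((y⁻¹ * x : NR) : G) = x by simp] at h2
  have key : ∀ (r : ℕ) [Fact r.Prime], (Y.subgroupOf NR).map f ≤
      centralizer ((pCoreOf r Rb : Subgroup _) : Set (NR ⧸ O.subgroupOf NR)) ∧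
      (¬ r ∣ Nat.card (fittingOf H) → pCoreOf r Rb = ⊥) := by
    intro r _
    have hr : r.Prime := Fact.out
    set V := pCoreOf r Rb with hV
    have hVp : IsPGroup r V := CharP.isPGroup_pCoreOf r Rb
    set U := (V.comap f).map NR.subtype with hU
    have hUR : U ≤ R := hVker (CharP.pCoreOf_le r Rb)
    have hcardU : Nat.card U = Nat.card (V.comap f) := card_map_of_injective NR.subtype_injective
    have hUdvd : ∀ t : ℕ, t.Prime → t ∣ Nat.card U → t = r ∨ t ∈ σ := by
      intro t ht hd
      rw [hcardU, PLocal.Cores.card_comap_eq V hfs, QuotientGroup.ker_mk',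
        Nat.card_congr (subgroupOfEquivOfLe (le_normalizer : O ≤ NR)).toEquiv] at hd
      rcases ht.dvd_mul.mp hd with h | h
      · first
          | exact Or.inr (hOσ t ht h)
          | exact Or.inl ((Cores.isPi_iff_isPGroup V).mpr hVp t ht h)
      · first
          | exact Or.inl ((Cores.isPi_iff_isPGroup V).mpr hVp t ht h)
          | exact Or.inr (hOσ t ht h)
    have hnorm : ∀ X : Subgroup G, X ≤ NR → (X.subgroupOf NR).map f ≤ normalizer (V : Set _) →
        X ≤ normalizer (U : Set G) := by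
      intro X hX hXV x hx
      have h1 : (⟨x, hX hx⟩ : NR) ∈ normalizer ((V.comap f : Subgroup NR) : Set NR) :=
        le_normalizer_comap f (mem_comap.mpr (hXV ⟨⟨x, hX hx⟩, hx, rfl⟩))
      exact le_normalizer_map NR.subtype ⟨_, h1, rfl⟩
    have hRbV : Rb ≤ normalizer (V : Set _) := CharP.le_normalizer_pCoreOf r Rb
    have hnR : normalizer (Rb : Set (NR ⧸ O.subgroupOf NR)) ≤ normalizer (V : Set (NR ⧸ O.subgroupOf NR)) :=
      Coprime.OmegaDetect.normalizer_le_normalizer_char Rb (pCore r Rb)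
    have hMV : (M.subgroupOf NR).map f ≤ normalizer (V : Set _) := by
      refine le_trans ?_ hnR
      refine le_trans (map_mono fun x hx => ?_) (le_normalizer_map f)
      exact le_normalizer_comap NR.subtype (hMR hx)
    have hMU : M ≤ normalizer (U : Set G) := hnorm M hMN hMV
    have hbot : ¬ r ∣ Nat.card (fittingOf H) → V = ⊥ := by
      intro hrF
      have hUO : U ≤ O := Transitivity.le_piCoreOf_of_normal hUR (hnorm R hRN hRbV) fun t ht hd => by
        rcases hUdvd t ht hd with rfl | h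
        · exact ⟨ht, hrF⟩
        · exact h
      rw [eq_bot_iff]
      intro v hv
      obtain ⟨x, rfl⟩ := hfs v
      exact mem_bot.mpr (hf1.mpr (hUO ⟨x, hv, rfl⟩))
    refine ⟨?_, hbot⟩
    by_cases hrF : r ∣ Nat.card (fittingOf H)
    swap
    · rw [hbot hrF]
      intro y _
      exact mem_centralizer_iff.mpr fun v hv => by rw [mem_bot.mp hv, one_mul, mul_one]
    obtain ⟨s, hs, hsr⟩ := Finset.exists_mem_ne (s := (Nat.card (fittingOf H)).primeFactors) (by omega) r
    have hsp := Nat.prime_of_mem_primeFactors hs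
    have := Fact.mk hsp
    have hsF := Nat.dvd_of_mem_primeFactors hs
    have hsU : ¬ s ∣ Nat.card U := fun hd => by
      rcases hUdvd s hsp hd with h | h
      · exact hsr h
      · exact h.2 hsF
    set A := centerCore r H with hA
    set B := centerCore s H with hB
    have hAM : A ≤ M := centerCore_le_M hN hF2 hM hCM hR hMR hXR r
    have hBM : B ≤ M := centerCore_le_M hN hF2 hM hCM hR hMR hXR s
    have hAB : B ≤ centralizer (A : Set G) := fun b hb => mem_centralizer_iff.mpr fun a ha =>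
      (commute_pCoreOf hsr hb.1 ha.1).eq.symm
    have hrO : ¬ r ∣ Nat.card O := fun hd => (hOσ r hr hd).2 hrF
    set W := U ⊓ centralizer (A : Set G) with hW
    have hWB : W ≤ centralizer (B : Set G) := by
      refine le_centralizer_of_mutual ?_ ?_ ?_
      · exact inf_le_right.trans ((centralizer_centerCore_le (hN r hr hrF)).trans (le_normalizer_centerCore s H))
      · refine (le_inf (hBM.trans hMU) ?_).trans inf_normalizer_le_normalizer_inf
        exact hAB.trans le_normalizer
      · exact inf_eq_bot_of_coprime ((coprime_of_isPGroup (centerCore_isPGroup s H)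
          (fun hd => hsU (hd.trans (card_dvd_of_le inf_le_left)))).symm)
    have hBC : (B.subgroupOf NR).map f ≤ centralizer (V : Set _) := by
      refine Coprime.le_centralizer_of_pxq (P := (A.subgroupOf NR).map f) (p := r) ?_ ?_ hVp ?_ ?_ ?_ ?_
      · exact ((centerCore_isPGroup r H).comap_subtype).map f
      · exact coprime_of_isPGroup (((centerCore_isPGroup s H).comap_subtype).map f)
          (fun hd => hsr ((Nat.prime_dvd_prime_iff_eq hsp hr).mp hd))
      · rintro _ ⟨a, ha, rfl⟩
        refine mem_centralizer_iff.mpr ?_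
        rintro _ ⟨b, hb, rfl⟩
        rw [← map_mul, ← map_mul]
        exact congrArg f (Subtype.ext (mem_centralizer_iff.mp (hAB hb) a ha).symm)
      · exact (map_mono (comap_mono hAM)).trans hMV
      · exact (map_mono (comap_mono hBM)).trans hMV
      · rintro v ⟨hv, hvc⟩
        obtain ⟨u, rfl⟩ := hfs v
        obtain ⟨n, hn, hun⟩ := Coprime.exists_fixed_in_coset (A := A) (N := O) (k := (u : G))
          (hAM.trans hMN) (coprime_of_isPGroup (centerCore_isPGroup r H) hrO)
          (Or.inr (Coprime.isSolvable_of_le hOR hR)) (fun a ha => by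
            have h1 : f (u⁻¹ * (⟨a, hMN (hAM ha)⟩ * u * ⟨a, hMN (hAM ha)⟩⁻¹)) = 1 := by
              have h2 := mem_centralizer_iff.mp hvc _ ⟨⟨a, hMN (hAM ha)⟩, ha, rfl⟩
              rw [map_mul, map_mul, map_mul, h2, map_inv, map_inv, mul_inv_cancel_right, inv_mul_cancel]
            exact hf1.mp h1)
        have hnN : n ∈ NR := le_normalizer hn
        have hunU : (u : G) * n ∈ W := by
          refine ⟨⟨u * ⟨n, hnN⟩, ?_, rfl⟩, hun⟩
          rw [SetLike.mem_coe, mem_comap, map_mul, hf1.mpr (show ((⟨n, hnN⟩ : NR) : G) ∈ O from hn), mul_one]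
          exact hv
        refine mem_centralizer_iff.mpr ?_
        rintro _ ⟨b, hb, rfl⟩
        have h3 : (b : NR) * (u * ⟨n, hnN⟩) = u * ⟨n, hnN⟩ * b :=
          Subtype.ext (mem_centralizer_iff.mp (hWB hunU) b hb)
        have h4 := congrArg f h3
        simp only [map_mul, hf1.mpr (show ((⟨n, hnN⟩ : NR) : G) ∈ O from hn), mul_one] at h4
        exact h4
    have hYV : (Y.subgroupOf NR).map f ≤ normalizer (V : Set _) :=
      (map_mono (comap_mono hYR)).trans hRbV
    have hBY : B ≤ normalizer (Y : Set G) := hBM.trans hMY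
    have hsY : ¬ s ∣ Nat.card Y := fun hd => hqF ((Cores.isPi_iff_isPGroup Y).mpr hY s hsp hd ▸ hsF :)
    have hYcomm : ⁅Y, B⁆ = Y := by
      have h1 := Coprime.commutator_sup_inf_centralizer hBY
        (coprime_of_isPGroup (centerCore_isPGroup s H) hsY) (Or.inr (Coprime.isSolvable_of_le hYR hR))
      rwa [fpf hN hF2 hM hCM hR hMR hXR hYR hMY hYF hsF, sup_bot_eq] at h1
    have hYN : Y ≤ NR := hYR.trans hRN
    have hBN : B ≤ NR := hBM.trans hMN
    have hcomm : Y.subgroupOf NR = ⁅Y.subgroupOf NR, B.subgroupOf NR⁆ := by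
      refine map_injective NR.subtype_injective ?_
      rw [map_commutator, map_subgroupOf_eq_of_le hYN, map_subgroupOf_eq_of_le hBN, hYcomm]
    rw [hcomm, map_commutator, commutator_le]
    intro y hy z hz
    have hyC : y ∈ normalizer ((centralizer (V : Set (NR ⧸ O.subgroupOf NR)) :
        Subgroup (NR ⧸ O.subgroupOf NR)) : Set (NR ⧸ O.subgroupOf NR)) :=
      CharP.normalizer_le_normalizer_centralizer V (hYV hy)
    show y * z * y⁻¹ * z⁻¹ ∈ centralizer (V : Set _)
    exact mul_mem ((mem_normalizer_iff.mp hyC z).mp (hBC hz)) (inv_mem (hBC hz))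
  set Yb := (Y.subgroupOf NR).map f with hYb
  have hYbR : Yb ≤ Rb := map_mono (comap_mono hYR)
  have hRbs : Group.IsSolvable Rb :=
    Coprime.isSolvable_map f (solvable_of_solvable_injective (f := (subgroupOfEquivOfLe hRN).toMonoidHom)
      (subgroupOfEquivOfLe hRN).injective)
  have hYF' : Yb ≤ fittingOf Rb := by
    intro y hy
    refine ⟨⟨y, hYbR hy⟩, Cores.centralizer_fittingSubgroup_le (mem_centralizer_iff.mpr fun g hg => ?_), rfl⟩
    refine Subtype.ext (le_centralizer_of_parts (H := Rb) (M := fittingOf Rb) le_rfl (fun r _ m hm => ?_)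
      (g : NR ⧸ O.subgroupOf NR) ⟨g, hg, rfl⟩).eq
    exact mem_centralizer_iff.mp ((key r).1 hy) m hm.2
  have hYb0 : Yb = ⊥ := le_bot_iff.mp ((key q).2 hqF ▸
    le_pCoreOf_of_le_fittingOf hYF' ((hY.comap_subtype).map f))
  intro y hy
  have h1 : f ⟨y, hRN (hYR hy)⟩ ∈ Yb := ⟨_, hy, rfl⟩
  rw [hYb0, mem_bot] at h1
  exact hf1.mp h1

/-- There is a unique maximal `M`-invariant `q`-subgroup of `R`; it is a Sylow subgroup of `O_{π'}(R)`. -/
theorem unique_max {q : ℕ} [hq : Fact q.Prime] (hqF : ¬ q ∣ Nat.card (fittingOf H)) :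
    ∃! Q : Subgroup G, Q ∈ maxInvSubgroups R M {q} ∧ (∀ Q' : Subgroup G, Q' ∈ maxInvSubgroups R M {q} →
      Q' ≤ piCoreOf (primesNotDvd (Nat.card (fittingOf H))) R ∧
        ¬ q ∣ Q'.relIndex (piCoreOf (primesNotDvd (Nat.card (fittingOf H))) R)) := by
  set σ := primesNotDvd (Nat.card (fittingOf H)) with hσ
  set O := piCoreOf σ R with hO
  have hOR : O ≤ R := map_subtype_le _
  have hOσ : ∀ r : ℕ, r.Prime → r ∣ Nat.card O → r ∈ σ := Transitivity.isPi_piCoreOf σ R
  have hOF : (Nat.card O).Coprime (Nat.card (fittingOf H)) :=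
    Nat.coprime_of_dvd fun r hr h1 h2 => (hOσ r hr h1).2 h2
  have hcop : (Nat.card M).Coprime (Nat.card O) := (hOF.coprime_dvd_right (card_dvd_of_le hM)).symm
  have hMO : M ≤ normalizer (O : Set G) := by
    haveI : (piCore σ R).Characteristic :=
      characteristic_iff_map_eq.mpr fun e => Cores.map_piCore_eq e σ
    exact hMR.trans (Coprime.OmegaDetect.normalizer_le_normalizer_char R (piCore σ R))
  have hsolv : Group.IsSolvable M ∨ Group.IsSolvable O := Or.inr (Coprime.isSolvable_of_le hOR hR)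
  have hfix : O ⊓ centralizer (M : Set G) = ⊥ := by
    obtain ⟨s, hs, -⟩ := Finset.exists_mem_ne (s := (Nat.card (fittingOf H)).primeFactors) (by omega) 0
    have := Fact.mk (Nat.prime_of_mem_primeFactors hs)
    rw [eq_bot_iff, ← fpf hN hF2 hM hCM hR hMR hXR hOR hMO hOF (Nat.dvd_of_mem_primeFactors hs)]
    exact inf_le_inf_left _ (centralizer_le (centerCore_le_M hN hF2 hM hCM hR hMR hXR s))
  have huniq : ∀ P P' : Sylow q O, M ≤ normalizer (((P : Subgroup O).map O.subtype : Subgroup G) : Set G) →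
      M ≤ normalizer (((P' : Subgroup O).map O.subtype : Subgroup G) : Set G) → P = P' := by
    intro P P' hP hP'
    obtain ⟨c, hc, hcP⟩ := Coprime.exists_centralizer_conj_sylow hMO hcop hsolv P P' hP hP'
    have h1 : c = 1 := Subtype.ext (mem_bot.mp (hfix ▸ (⟨c.2, hc⟩ : (c : G) ∈ O ⊓ centralizer (M : Set G))))
    rwa [h1, map_one, one_smul] at hcP
  obtain ⟨P, hP⟩ := Coprime.exists_invariant_sylow q hMO hcop hsolv
  set P' := (P : Subgroup O).map O.subtype with hP'
  have hinv : P' ∈ invSubgroups R M {q} := ⟨(map_subtype_le _).trans hOR,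
    fun r hr hd => (Cores.isPi_iff_isPGroup P').mpr (P.isPGroup'.map O.subtype) r hr hd, hP⟩
  have hle : ∀ Y ∈ invSubgroups R M {q}, Y ≤ P' := by
    intro Y hY
    have hYq : IsPGroup q Y := Transitivity.isPGroup_of_mem hY.2.1
    have hYO := le_core hN hF2 hM hCM hR hMR hXR hqF hY.1 hY.2.2 hYq
    obtain ⟨S, hS, hSM⟩ := Coprime.exists_invariant_sylow_ge hMO hcop hsolv hYO hYq hY.2.2
    rwa [huniq S P hSM hP] at hS
  have hmax : P' ∈ maxInvSubgroups R M {q} := ⟨hinv, fun Y hY h => le_antisymm (hle Y hY) h⟩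
  refine ⟨P', ⟨hmax, fun Q' hQ' => ?_⟩, fun Q hQ => (hQ.1.2 P' hinv (hle Q hQ.1.1)).symm⟩
  rw [← hQ'.2 P' hinv (hle Q' hQ'.1)]
  refine ⟨map_subtype_le _, ?_⟩
  rw [relIndex, hP', subgroupOf, comap_map_eq_self_of_injective O.subtype_injective]
  exact P.not_dvd_index

end Invariant

end Cfsg.Agent.OddLocal.Bender
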