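import Cfsg.Agent.OddLocal.Bender

/-! Bender's uniqueness criterion in a minimal simple group of odd order. -/

set_option autoImplicit false
set_option linter.unusedSectionVars false

namespace Cfsg.Agent.OddLocal.BenderUnique

open Cfsg Subgroup Cfsg.Agent.OddLocal.Bender

variable {G : Type*} [Group G] [Finite G]

theorem normalizer_eq_of_coatom (hG : IsMinSimpleOddOrder G) {H Y : Subgroup G} (hH : IsCoatom H)
    (hY : Y ≠ ⊥) (hYH : Y ≤ H) (hn : H ≤ normalizer (Y : Set G)) : normalizer (Y : Set G) = H := by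
  by_contra hne
  exact Transitivity.normalizer_ne_top hG hY (fun e => hH.1 (top_le_iff.mp (e ▸ hYH)))
    (hH.2 _ (lt_of_le_of_ne hn (Ne.symm hne)))

theorem normalizer_centerCore_le (hG : IsMinSimpleOddOrder G) {H : Subgroup G} (hH : IsCoatom H) {r : ℕ}
    (hr : r.Prime) (hd : r ∣ Nat.card (fittingOf H)) : normalizer (centerCore r H : Set G) ≤ H := by
  have := Fact.mk hr
  exact (normalizer_eq_of_coatom hG hH (centerCore_ne_bot (pCoreOf_ne_bot hd)) (centerCore_le r H)
    (le_normalizer_centerCore r H)).le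

/-- `Z(O_s(H))` centralizes `O_r(L)`. -/
theorem centerCore_centralizes {H L : Subgroup G} {r s : ℕ} [hr : Fact r.Prime] [hs : Fact s.Prime]
    (hrs : r ≠ s) (hN : normalizer (centerCore r H : Set G) ≤ H) (hA : centerCore r H ≤ L)
    (hB : centerCore s H ≤ L) : centerCore s H ≤ centralizer (pCoreOf r L : Set G) := by
  set V := pCoreOf r L with hV
  have hVp : IsPGroup r V := CharP.isPGroup_pCoreOf r L
  have hcop : (Nat.card (centerCore s H)).Coprime r := coprime_of_isPGroup (centerCore_isPGroup s H)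
    fun hd => hrs ((Nat.prime_dvd_prime_iff_eq hs.out hr.out).mp hd).symm
  refine Coprime.le_centralizer_of_pxq (centerCore_isPGroup r H) hcop hVp ?_
    (hA.trans (CharP.le_normalizer_pCoreOf r L)) (hB.trans (CharP.le_normalizer_pCoreOf r L)) ?_
  · exact fun a ha => mem_centralizer_iff.mpr fun b hb => (commute_pCoreOf hrs ha.1 hb.1).eq.symm
  · have hBA : centerCore s H ≤ centralizer (centerCore r H : Set G) := fun b hb =>
      mem_centralizer_iff.mpr fun a ha => (commute_pCoreOf hrs ha.1 hb.1).eq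
    refine le_centralizer_of_mutual ?_ ?_ ?_
    · exact inf_le_right.trans ((centralizer_centerCore_le hN).trans (le_normalizer_centerCore s H))
    · refine (le_inf (hB.trans (CharP.le_normalizer_pCoreOf r L)) ?_).trans
        inf_normalizer_le_normalizer_inf
      exact hBA.trans le_normalizer
    · obtain ⟨k, hk⟩ := (hVp.to_le (inf_le_left : V ⊓ centralizer (centerCore r H : Set G) ≤ V)).exists_card_eq
      exact Bender.inf_eq_bot_of_coprime (hk ▸ (hcop.pow_right k).symm)

/-- `O_{r'}(C_L(R)) ≤ O_{r'}(L)` for an `r`-subgroup `R` of a solvable group `L`. -/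
theorem goldschmidt {L R Y : Subgroup G} {r : ℕ} [Fact r.Prime] (hL : Group.IsSolvable L)
    (hR : IsPGroup r R) (hRL : R ≤ L) (hYL : Y ≤ L) (hYR : Y ≤ centralizer (R : Set G))
    (hn : L ⊓ centralizer (R : Set G) ≤ normalizer (Y : Set G)) (hY : (Nat.card Y).Coprime r) :
    Y.subgroupOf L ≤ pPrimeCore r L := by
  refine Components.Balance.le_pPrimeCore_of_normalized Components.Balance.pLayer_eq_bot_of_isSolvable
    (hR.comap_subtype : IsPGroup r (R.subgroupOf L)) ?_ ?_ ?_
  · intro y hy
    exact mem_centralizer_iff.mpr fun x hx => Subtype.ext (mem_centralizer_iff.mp (hYR hy) x hx)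
  · intro g hg
    refine le_normalizer_comap L.subtype (hn ⟨g.2, mem_centralizer_iff.mpr fun x hx => ?_⟩)
    exact congrArg Subtype.val (mem_centralizer_iff.mp hg ⟨x, hRL hx⟩ hx)
  · rwa [Nat.card_congr (subgroupOfEquivOfLe hYL).toEquiv]

/-- The primes outside `F(H)` together with `s`. -/
def sig (H : Subgroup G) (s : ℕ) : Set ℕ := {q | q.Prime ∧ (q = s ∨ ¬ q ∣ Nat.card (fittingOf H))}

theorem le_piCoreOf_sig {H L Y : Subgroup G} {s : ℕ} (hYL : Y ≤ L)
    (h : ∀ r : ℕ, r.Prime → r ∣ Nat.card (fittingOf H) → r ≠ s → Y.subgroupOf L ≤ pPrimeCore r L) :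
    Y ≤ piCoreOf (sig H s) L := by
  set J : Subgroup L := ⨅ r : {r : (Nat.card (fittingOf H)).primeFactors // (r : ℕ) ≠ s},
    pPrimeCore (r.1 : ℕ) L with hJ
  have hJn : J.Normal := normal_iInf_normal fun r => inferInstance
  have hJσ : ∀ q : ℕ, q.Prime → q ∣ Nat.card J → q ∈ sig H s := by
    intro q hq hd
    refine ⟨hq, or_iff_not_imp_left.mpr fun hqs hqF => ?_⟩
    have := Fact.mk hq
    have hle : J ≤ pPrimeCore q L := iInf_le_of_le
      ⟨⟨q, Nat.mem_primeFactors.mpr ⟨hq, hqF, Nat.card_pos.ne'⟩⟩, hqs⟩ le_rfl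
    exact (hq.coprime_iff_not_dvd.mp (Cores.pPrimeCore_card_coprime (G := L) q).symm)
      (hd.trans (card_dvd_of_le hle))
  rw [← map_subgroupOf_eq_of_le hYL]
  refine map_mono (le_trans ?_ (Cores.le_piCore (N := J) hJσ))
  exact le_iInf fun r =>
    h _ (Nat.prime_of_mem_primeFactors r.1.2) (Nat.dvd_of_mem_primeFactors r.1.2) r.2

section Symmetric

variable {H L : Subgroup G} (hHs : Group.IsSolvable H) (hLs : Group.IsSolvable L)
  (hH : ∀ r : ℕ, r.Prime → r ∣ Nat.card (fittingOf H) → normalizer (centerCore r H : Set G) ≤ H)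
  (hL : ∀ r : ℕ, r.Prime → r ∣ Nat.card (fittingOf H) → normalizer (centerCore r L : Set G) ≤ L)
  (hF2 : 2 ≤ (Nat.card (fittingOf H)).primeFactors.card)
  (hHL : ∀ r : ℕ, r.Prime → pCoreOf r H ≤ L) (hLH : ∀ r : ℕ, r.Prime → pCoreOf r L ≤ H)
  (hcore : piCoreOf (primesNotDvd (Nat.card (fittingOf H))) L = ⊥)
include hHs hLs hH hL hF2 hHL hLH hcore

theorem pCoreOf_le_sig {s : ℕ} [Fact s.Prime] : pCoreOf s H ≤ piCoreOf (sig H s) L := by
  refine le_piCoreOf_sig (hHL s Fact.out) fun r hr hrF hrs => ?_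
  have := Fact.mk hr
  refine goldschmidt hLs (CharP.isPGroup_pCoreOf r H) (hHL r hr) (hHL s Fact.out) ?_ ?_ ?_
  · exact fun y hy => mem_centralizer_iff.mpr fun x hx => (commute_pCoreOf hrs hx hy).eq
  · exact inf_le_right.trans (((centralizer_le (s := (centerCore r H : Set G)) fun _ hz => hz.1).trans
      (centralizer_centerCore_le (hH r hr hrF))).trans (CharP.le_normalizer_pCoreOf s H))
  · exact coprime_of_isPGroup (CharP.isPGroup_pCoreOf s H)
      fun hd => hrs ((Nat.prime_dvd_prime_iff_eq Fact.out hr).mp hd).symm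

theorem sig_core_le {s : ℕ} [Fact s.Prime] : piCoreOf (sig H s) L ≤ piCoreOf (sig H s) H := by
  set N := piCoreOf (sig H s) L with hN
  have hNσ := Transitivity.isPi_piCoreOf (sig H s) L
  have hNn : L ≤ normalizer (N : Set G) := Transitivity.le_normalizer_piCoreOf _ L
  have hcopN : ∀ r : ℕ, r.Prime → r ∣ Nat.card (fittingOf H) → r ≠ s → (Nat.card N).Coprime r :=
    fun r hr hrF hrs => (hr.coprime_iff_not_dvd.mpr fun hd =>
      (hNσ r hr hd).2.elim hrs fun h => h hrF).symm
  have hNH : N ≤ H := by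
    obtain ⟨r, hr, hrs⟩ := Finset.exists_mem_ne (s := (Nat.card (fittingOf H)).primeFactors) (by omega) s
    have hrp := Nat.prime_of_mem_primeFactors hr
    have := Fact.mk hrp
    have hrF := Nat.dvd_of_mem_primeFactors hr
    have h1 := pCoreOf_le_sig hHs hLs hH hL hF2 hHL hLH hcore (s := r)
    set K := piCoreOf (sig H r) L
    have hd : N ⊓ K = ⊥ := le_bot_iff.mp (hcore ▸ Transitivity.le_piCoreOf_of_normal
      (inf_le_left.trans (Transitivity.piCoreOf_le _ L))
      ((le_inf hNn (Transitivity.le_normalizer_piCoreOf _ L)).trans inf_normalizer_le_normalizer_inf)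
      fun t ht htd => by
        have h2 := hNσ t ht (htd.trans (card_dvd_of_le inf_le_left))
        have h3 := Transitivity.isPi_piCoreOf (sig H r) L t ht (htd.trans (card_dvd_of_le inf_le_right))
        refine ⟨ht, fun htF => ?_⟩
        rcases h2.2 with rfl | h2
        · rcases h3.2 with rfl | h3
          · exact hrs rfl
          · exact h3 htF
        · exact h2 htF)
    have hc : N ≤ centralizer (pCoreOf r H : Set G) := by
      refine le_centralizer_of_mutual (A := N) (B := K) ?_ ?_ hd |>.trans (centralizer_le h1)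
      · exact (Transitivity.piCoreOf_le _ L).trans (Transitivity.le_normalizer_piCoreOf _ L)
      · exact (Transitivity.piCoreOf_le _ L).trans hNn
    exact hc.trans ((centralizer_le (s := (centerCore r H : Set G)) fun _ hz => hz.1).trans
      (centralizer_centerCore_le (hH r hrp hrF)))
  refine le_piCoreOf_sig hNH fun r hr hrF hrs => ?_
  have := Fact.mk hr
  refine goldschmidt hHs (CharP.isPGroup_pCoreOf r L) (hLH r hr) hNH ?_ ?_ (hcopN r hr hrF hrs)
  · refine le_centralizer_of_mutual ?_ ((CharP.pCoreOf_le r L).trans hNn) ?_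
    · exact (Transitivity.piCoreOf_le _ L).trans (CharP.le_normalizer_pCoreOf r L)
    · obtain ⟨k, hk⟩ := (CharP.isPGroup_pCoreOf r L).exists_card_eq
      exact Bender.inf_eq_bot_of_coprime (hk ▸ (hcopN r hr hrF hrs).pow_right k)
  · exact inf_le_right.trans (((centralizer_le (s := (centerCore r L : Set G)) fun _ hz => hz.1).trans
      (centralizer_centerCore_le (hL r hr hrF))).trans hNn)

end Symmetric

/-- Bender's uniqueness theorem. -/
theorem eq_of_coatom (hG : IsMinSimpleOddOrder G) {H : Subgroup G} (hH : IsCoatom H)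
    (hF2 : 2 ≤ (Nat.card (fittingOf H)).primeFactors.card) {M : Subgroup G}
    (hZM : fittingOf H ⊓ centralizer (fittingOf H : Set G) ≤ M)
    (hinv : ∀ Y ∈ invSubgroups ⊤ M (primesNotDvd (Nat.card (fittingOf H))), Y = ⊥)
    {L : Subgroup G} (hL : IsCoatom L) (hML : M ≤ L) : L = H := by
  have hHs := Transitivity.isSolvable_of_ne_top hG hH.1
  have hLs := Transitivity.isSolvable_of_ne_top hG hL.1
  set π := Nat.card (fittingOf H) with hπ
  have hNH : ∀ r : ℕ, r.Prime → r ∣ π → normalizer (centerCore r H : Set G) ≤ H :=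
    fun r hr hd => normalizer_centerCore_le hG hH hr hd
  have hZL : ∀ r : ℕ, r.Prime → centerCore r H ≤ L := fun r hr => by
    have := Fact.mk hr
    exact ((centerCore_le_fittingOf_centralizer r H).trans hZM).trans hML
  have hbot : ∀ r : ℕ, ∀ [Fact r.Prime], ¬ r ∣ π → pCoreOf r L = ⊥ := fun r _ hr =>
    hinv _ ⟨le_top, fun t ht hd => by
      rw [(Cores.isPi_iff_isPGroup _).mpr (CharP.isPGroup_pCoreOf r L) t ht hd]
      exact ⟨Fact.out, hr⟩, hML.trans (CharP.le_normalizer_pCoreOf r L)⟩
  have hsame : ∀ r : ℕ, r.Prime → (r ∣ Nat.card (fittingOf L) ↔ r ∣ π) := by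
    intro r hr
    have := Fact.mk hr
    refine ⟨fun hd => by_contra fun h => pCoreOf_ne_bot hd (hbot r h), fun hd => ?_⟩
    refine dvd_card_fittingOf fun he => centerCore_ne_bot (pCoreOf_ne_bot hd : pCoreOf r H ≠ ⊥) ?_
    refine le_bot_iff.mp (he ▸ le_pCoreOf_of_le_fittingOf (fun z hz => ?_) (centerCore_isPGroup r H))
    refine ⟨⟨z, hZL r hr hz⟩, Cores.centralizer_fittingSubgroup_le (mem_centralizer_iff.mpr fun g hg => ?_), rfl⟩
    refine Subtype.ext (le_centralizer_of_parts (H := L) (M := fittingOf L) le_rfl (fun t _ m hm => ?_)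
      (g : G) ⟨g, hg, rfl⟩).eq
    by_cases htr : t = r
    · subst htr
      rw [show m = 1 from mem_bot.mp (he ▸ hm.2)]
      exact Commute.one_left z
    by_cases htF : t ∣ π
    · exact mem_centralizer_iff.mp
        (centerCore_centralizes htr (hNH t Fact.out htF) (hZL t Fact.out) (hZL r hr) hz) m hm.2
    · rw [show m = 1 from mem_bot.mp (hbot t htF ▸ hm.2)]
      exact Commute.one_left z
  have hNL : ∀ r : ℕ, r.Prime → r ∣ π → normalizer (centerCore r L : Set G) ≤ L :=
    fun r hr hd => normalizer_centerCore_le hG hL hr ((hsame r hr).mpr hd)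
  have hLH : ∀ r : ℕ, r.Prime → pCoreOf r L ≤ H := by
    intro r hr
    have := Fact.mk hr
    by_cases hrF : r ∣ π
    swap
    · rw [hbot r hrF]; exact bot_le
    obtain ⟨s, hs, hsr⟩ := Finset.exists_mem_ne (s := π.primeFactors) (by omega) r
    have := Fact.mk (Nat.prime_of_mem_primeFactors hs)
    exact (le_centralizer_iff.mp (centerCore_centralizes hsr.symm (hNH r hr hrF) (hZL r hr)
      (hZL s Fact.out))).trans (centralizer_centerCore_le (hNH s Fact.out (Nat.dvd_of_mem_primeFactors hs)))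
  have hHL : ∀ r : ℕ, r.Prime → pCoreOf r H ≤ L := by
    intro r hr
    have := Fact.mk hr
    by_cases hrF : r ∣ π
    swap
    · rw [show pCoreOf r H = ⊥ from by_contra fun h => hrF (dvd_card_fittingOf h)]; exact bot_le
    obtain ⟨s, hs, hsr⟩ := Finset.exists_mem_ne (s := π.primeFactors) (by omega) r
    have := Fact.mk (Nat.prime_of_mem_primeFactors hs)
    exact (le_centralizer_iff.mp (centerCore_centralizes hsr.symm (hNL r hr hrF)
      (inf_le_left.trans (hLH r hr)) (inf_le_left.trans (hLH s Fact.out)))).trans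
      (centralizer_centerCore_le (hNL s Fact.out (Nat.dvd_of_mem_primeFactors hs)))
  have hcoreL : piCoreOf (primesNotDvd π) L = ⊥ := hinv _ ⟨le_top, Transitivity.isPi_piCoreOf _ L,
    hML.trans (Transitivity.le_normalizer_piCoreOf _ L)⟩
  have hMH : ∀ r : ℕ, r.Prime → centerCore r H ≤ H := fun r _ => centerCore_le r H
  obtain ⟨s, hs⟩ := Finset.card_pos.mp (show 0 < π.primeFactors.card by omega)
  have := Fact.mk (Nat.prime_of_mem_primeFactors hs)
  have h1 := pCoreOf_le_sig hHs hLs hNH hNL hF2 hHL hLH hcoreL (s := s)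
  have h2 := sig_core_le hHs hLs hNH hNL hF2 hHL hLH hcoreL (s := s)
  have hset : sig H s = sig L s := by
    ext q
    exact and_congr_right fun hq => or_congr_right (not_congr (hsame q hq).symm)
  have hF2L : 2 ≤ (Nat.card (fittingOf L)).primeFactors.card := by
    rwa [show (Nat.card (fittingOf L)).primeFactors = π.primeFactors by
      ext q
      simp only [Nat.mem_primeFactors, ne_eq]
      exact ⟨fun h => ⟨h.1, (hsame q h.1).mp h.2.1, Nat.card_pos.ne'⟩,
        fun h => ⟨h.1, (hsame q h.1).mpr h.2.1, Nat.card_pos.ne'⟩⟩]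
  have hcoreH : piCoreOf (primesNotDvd (Nat.card (fittingOf L))) H = ⊥ := by
    set K := piCoreOf (primesNotDvd (Nat.card (fittingOf L))) H with hK
    by_contra hne
    have hKn : Nontrivial K := (nontrivial_iff_ne_bot _).mpr hne
    have hKs : Group.IsSolvable K := Coprime.isSolvable_of_le (map_subtype_le _) hHs
    obtain ⟨t, ht⟩ : ∃ t : ℕ, t.Prime ∧ pCore t K ≠ ⊥ := by
      by_contra hcon
      push Not at hcon
      exact Cores.fittingSubgroup_ne_bot (Cores.fittingSubgroup_eq_bot_iff.mpr hcon)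
    have := Fact.mk ht.1
    have hdvd : t ∣ Nat.card K := by
      obtain ⟨k, hk⟩ := (Cores.pCore_isPGroup (G := K) t).exists_card_eq
      have hk0 : k ≠ 0 := fun e => ht.2 (eq_bot_of_card_eq _ (by rw [hk, e, pow_zero]))
      exact (dvd_pow_self t hk0).trans (hk ▸ card_subgroup_dvd_card _)
    have hnorm : H ≤ normalizer ((((pCore t K).map K.subtype : Subgroup G)) : Set G) :=
      (Transitivity.le_normalizer_piCoreOf _ H).trans
        (Coprime.OmegaDetect.normalizer_le_normalizer_char K (pCore t K))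
    have h3 : pCoreOf t H = ⊥ := by_contra fun h4 =>
      (Transitivity.isPi_piCoreOf _ H t ht.1 hdvd).2 ((hsame t ht.1).mpr (dvd_card_fittingOf h4))
    refine ht.2 ((map_eq_bot_iff_of_injective _ K.subtype_injective).mp (le_bot_iff.mp (h3 ▸ ?_)))
    exact CharP.le_pCoreOf ((map_subtype_le _).trans (map_subtype_le _)) hnorm
      ((Cores.pCore_isPGroup t).map _)
  have h3 := sig_core_le hLs hHs (fun r hr hd => hNL r hr ((hsame r hr).mp hd))
    (fun r hr hd => hNH r hr ((hsame r hr).mp hd)) hF2L hLH hHL hcoreH (s := s)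
  rw [← hset] at h3
  set N := piCoreOf (sig H s) L with hN
  have hEq : piCoreOf (sig H s) H = N := le_antisymm h3 h2
  have hN0 : N ≠ ⊥ := fun he => pCoreOf_ne_bot (Nat.dvd_of_mem_primeFactors hs : s ∣ Nat.card (fittingOf H))
    (le_bot_iff.mp (he ▸ h1))
  have e1 := normalizer_eq_of_coatom hG hL hN0 (Transitivity.piCoreOf_le _ L)
    (Transitivity.le_normalizer_piCoreOf _ L)
  have e2 := normalizer_eq_of_coatom hG hH hN0 (hEq ▸ Transitivity.piCoreOf_le _ H)
    (hEq ▸ Transitivity.le_normalizer_piCoreOf _ H)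
  exact e1.symm.trans e2

end Cfsg.Agent.OddLocal.BenderUnique
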