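import Cfsg.Agent.OddLocal.CNHall

/-! Maximal nilpotent subgroups of CN-groups. -/

set_option autoImplicit false
set_option linter.unusedSectionVars false

namespace Cfsg.Agent.OddLocal.CN

open Cfsg Subgroup

universe u

variable {G : Type u} [Group G] [Finite G] {H : Subgroup G}

/-- `H` is a maximal nilpotent subgroup. -/
def IsMaxNilpotent (H : Subgroup G) : Prop :=
  Group.IsNilpotent H ∧ ∀ L : Subgroup G, Group.IsNilpotent L → H ≤ L → L = H

theorem IsMaxNilpotent.conj (hH : IsMaxNilpotent H) (g : G) :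
    IsMaxNilpotent (H.map (MulAut.conj g).toMonoidHom) := by
  refine ⟨Cores.isNilpotent_map _ _ hH.1, fun L hL hle => ?_⟩
  have e : ∀ (a b : G) (Q : Subgroup G), (Q.map (MulAut.conj b).toMonoidHom).map
      (MulAut.conj a).toMonoidHom = Q.map (MulAut.conj (a * b)).toMonoidHom := fun a b Q => by
    rw [Subgroup.map_map]; congr 1; ext y; simp [mul_assoc]
  have e1 : ∀ Q : Subgroup G, Q.map (MulAut.conj (1 : G)).toMonoidHom = Q := fun Q => by
    ext y; simp
  have h := hH.2 _ (Cores.isNilpotent_map L (MulAut.conj g⁻¹).toMonoidHom hL) (by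
    refine le_trans (le_of_eq ?_) (map_mono hle)
    rw [e, inv_mul_cancel, e1])
  rw [← h, e, mul_inv_cancel, e1]

theorem IsMaxNilpotent.centralizer_eq (hCN : IsCNGroup G) (hH : IsMaxNilpotent H) {u : G}
    (hu : u ∈ H) (huc : ∀ y ∈ H, Commute y u) (hu1 : u ≠ 1) : centralizer ({u} : Set G) = H :=
  hH.2 _ (hCN u hu1) fun y hy => mem_centralizer_singleton_iff.mpr (huc y hy).eq

theorem IsMaxNilpotent.exists_central (hH : IsMaxNilpotent H) {q : ℕ} [Fact q.Prime]
    (hq : q ∣ Nat.card H) : ∃ v ∈ H, orderOf v = q ∧ ∀ y ∈ H, Commute y v := by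
  have := hH.1
  obtain ⟨S⟩ := (inferInstance : Nonempty (Sylow q H))
  have : (S : Subgroup H).Normal :=
    S.normal_of_normalizerCondition Group.normalizerCondition_of_isNilpotent
  have hS1 : (S : Subgroup H) ≠ ⊥ := S.ne_bot_of_dvd_card hq
  have hne := OddLocal.Coprime.inf_center_ne_bot (G := H) inferInstance hS1
  have hp : IsPGroup q ((S : Subgroup H) ⊓ center H : Subgroup H) := S.isPGroup'.to_le inf_le_left
  have : Nontrivial ((S : Subgroup H) ⊓ center H : Subgroup H) :=
    (nontrivial_iff_ne_bot _).mpr hne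
  obtain ⟨m, hm0, hm⟩ := hp.nontrivial_iff_card.mp inferInstance
  obtain ⟨w, hw⟩ := exists_prime_orderOf_dvd_card'
    (G := ((S : Subgroup H) ⊓ center H : Subgroup H)) q (hm ▸ dvd_pow_self q hm0.ne')
  refine ⟨((w : H) : G), (w : H).2, by rw [orderOf_coe, orderOf_coe, hw], fun y hy => ?_⟩
  exact congrArg Subtype.val (mem_center_iff.mp w.2.2 ⟨y, hy⟩)

theorem le_of_normal_sylow {K : Type u} [Group K] [Finite K] {q : ℕ} [Fact q.Prime] {U : Subgroup K}
    (hU : IsPGroup q U) (S : Sylow q K) (hS : (S : Subgroup K).Normal) : U ≤ (S : Subgroup K) := by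
  obtain ⟨T, hT⟩ := hU.exists_le_sylow
  have := Sylow.unique_of_normal S hS
  exact Subsingleton.elim T S ▸ hT

/-- A Sylow subgroup of a maximal nilpotent subgroup is a Sylow subgroup of the whole group. -/
theorem IsMaxNilpotent.sylow_map (hCN : IsCNGroup G) (hH : IsMaxNilpotent H) {q : ℕ} [Fact q.Prime]
    (hq : q ∣ Nat.card H) (S : Sylow q H) :
    ∃ P : Sylow q G, (P : Subgroup G) = (S : Subgroup H).map H.subtype := by
  set S' := (S : Subgroup H).map H.subtype with hS'
  have hS'H : S' ≤ H := map_subtype_le _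
  have hS'p : IsPGroup q S' := S.isPGroup'.map _
  obtain ⟨P, hP⟩ := hS'p.exists_le_sylow
  refine ⟨P, le_antisymm ?_ hP⟩
  by_contra hne
  have hlt : S' < (P : Subgroup G) := lt_of_le_not_ge hP hne
  set N := normalizer (S' : Set G) ⊓ (P : Subgroup G) with hN
  have hS'N : S' ≤ N := le_inf le_normalizer hP
  have hNp : IsPGroup q N := P.isPGroup'.to_le inf_le_right
  have hS'ne : S' ≠ ⊥ := fun h => S.ne_bot_of_dvd_card hq
    ((Subgroup.map_eq_bot_iff_of_injective _ H.subtype_injective).mp h)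
  have := hNp.isNilpotent
  have : (S'.subgroupOf N).Normal :=
    (normal_subgroupOf_iff_le_normalizer hS'N).mpr inf_le_left
  obtain ⟨u, hu, hu1⟩ := (bot_or_exists_ne_one _).resolve_left
    (OddLocal.Coprime.inf_center_ne_bot (G := N) (N := S'.subgroupOf N) inferInstance (fun h =>
      hS'ne (by rw [← map_subgroupOf_eq_of_le hS'N, h, Subgroup.map_bot])))
  have hug : (u : G) ≠ 1 := fun h => hu1 (Subtype.ext h)
  have huN : ∀ y ∈ N, Commute y (u : G) := fun y hy =>
    congrArg Subtype.val (mem_center_iff.mp hu.2 ⟨y, hy⟩)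
  have huS : (u : G) ∈ S' := hu.1
  have hnil := hH.1
  have hSn : (S : Subgroup H).Normal :=
    S.normal_of_normalizerCondition Group.normalizerCondition_of_isNilpotent
  have huH : ∀ y ∈ H, Commute y (u : G) := by
    have key : centralizer ({(⟨u, hS'H huS⟩ : H)} : Set H) = ⊤ := by
      refine Cores.eq_top_of_sylow_le fun r hr _ => ?_
      have := Fact.mk hr
      rcases eq_or_ne r q with rfl | hrq
      · refine ⟨S, fun y hy => mem_centralizer_singleton_iff.mpr (Subtype.ext ?_)⟩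
        exact (huN (y : G) (hS'N ⟨y, hy, rfl⟩)).eq
      · obtain ⟨R⟩ := (inferInstance : Nonempty (Sylow r H))
        refine ⟨R, fun y hy => mem_centralizer_singleton_iff.mpr
          (commute_of_coprime (a := y) (b := (⟨u, hS'H huS⟩ : H)) ?_).eq⟩
        obtain ⟨i, hi⟩ := IsPGroup.iff_orderOf.mp R.isPGroup' ⟨y, hy⟩
        obtain ⟨j, hj⟩ := IsPGroup.iff_orderOf.mp hS'p ⟨u, huS⟩
        rw [orderOf_mk] at hi hj
        rw [hi, orderOf_mk, hj]
        exact ((Nat.coprime_primes hr Fact.out).mpr hrq).pow i j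
    intro y hy
    have h1 : (⟨y, hy⟩ : H) ∈ centralizer ({(⟨u, hS'H huS⟩ : H)} : Set H) := by rw [key]; trivial
    exact congrArg Subtype.val (mem_centralizer_singleton_iff.mp h1)
  have hNH : N ≤ H := fun y hy => (hH.centralizer_eq hCN (hS'H huS) huH hug) ▸
    mem_centralizer_singleton_iff.mpr (huN y hy).eq
  have hNS : N ≤ S' := by
    rw [← map_subgroupOf_eq_of_le hNH]
    exact map_mono (le_of_normal_sylow (hNp.comap_of_injective H.subtype H.subtype_injective) S hSn)
  have hnc := Group.normalizerCondition_of_isNilpotent (h := P.isPGroup'.isNilpotent)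
    (G := (P : Subgroup G)) (S'.subgroupOf (P : Subgroup G))
    (lt_top_iff_ne_top.mpr fun h => hne (subgroupOf_eq_top.mp h))
  rw [← subgroupOf_normalizer_eq hP] at hnc
  refine hnc.not_ge fun y hy => ?_
  exact hNS ⟨hy, y.2⟩

theorem IsMaxNilpotent.coprime (hCN : IsCNGroup G) (hH : IsMaxNilpotent H) :
    (Nat.card H).Coprime H.index := by
  refine Nat.coprime_of_dvd fun q hq h1 h2 => ?_
  have := Fact.mk hq
  obtain ⟨S⟩ := (inferInstance : Nonempty (Sylow q H))
  obtain ⟨P, hP⟩ := hH.sylow_map hCN h1 S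
  refine P.not_dvd_index ?_
  rw [hP, index_map_subtype]
  exact h2.trans (dvd_mul_left _ _)

/-- An `r`-element centralising a nontrivial element of another prime order in `H` lies in `H`. -/
theorem IsMaxNilpotent.mem_of_commute (hCN : IsCNGroup G) (hH : IsMaxNilpotent H) {x y : G} {p r : ℕ}
    (hx : x ∈ H) (hp : p.Prime) (hxo : orderOf x = p) [Fact r.Prime] (hrp : r ≠ p) (hr : r ∣ Nat.card H)
    (hy : Commute y x) (hyr : IsPGroup r (zpowers y)) : y ∈ H := by
  have := hH.1
  have hx1 : x ≠ 1 := fun h => hp.ne_one (by rw [← hxo, h, orderOf_one])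
  obtain ⟨S⟩ := (inferInstance : Nonempty (Sylow r H))
  obtain ⟨P, hP⟩ := hH.sylow_map hCN hr S
  set C := centralizer ({x} : Set G) with hC
  have hSC : (P : Subgroup G) ≤ C := by
    rw [hP]
    rintro _ ⟨s, hs, rfl⟩
    refine mem_centralizer_singleton_iff.mpr (commute_of_mem hH.1 s.2 hx ?_).eq
    obtain ⟨j, hj⟩ := IsPGroup.iff_orderOf.mp S.isPGroup' ⟨s, hs⟩
    rw [orderOf_mk] at hj
    show (orderOf (s : G)).Coprime (orderOf x)
    rw [orderOf_coe, hj, hxo]
    exact ((Nat.coprime_primes Fact.out hp).mpr hrp).pow_left j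
  have : Group.IsNilpotent C := hCN x hx1
  have hPn : ((P.subtype hSC : Sylow r C) : Subgroup C).Normal :=
    (P.subtype hSC).normal_of_normalizerCondition Group.normalizerCondition_of_isNilpotent
  have hyC : zpowers y ≤ C := zpowers_le.mpr (mem_centralizer_singleton_iff.mpr hy.eq)
  have h := le_of_normal_sylow (hyr.comap_of_injective C.subtype C.subtype_injective)
    (P.subtype hSC) hPn
  have hyP : y ∈ (P : Subgroup G) := h (show (⟨y, hyC (mem_zpowers y)⟩ : C) ∈
    (zpowers y).comap C.subtype from mem_zpowers y)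
  rw [hP] at hyP
  exact map_subtype_le _ hyP

theorem IsMaxNilpotent.ti (hCN : IsCNGroup G) (hH : IsMaxNilpotent H)
    (hnpp : ¬ IsPrimePow (Nat.card H)) (g : G)
    (hne : H.map (MulAut.conj g).toMonoidHom ≠ H) : H ⊓ H.map (MulAut.conj g).toMonoidHom = ⊥ := by
  set H' := H.map (MulAut.conj g).toMonoidHom with hH'
  by_contra hbot
  have hH'm : IsMaxNilpotent H' := hH.conj g
  have hcard : Nat.card H' = Nat.card H := card_map_of_injective (MulAut.conj g).injective
  obtain ⟨p, hp, hpd⟩ := Nat.exists_prime_and_dvd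
    (fun h => hbot (eq_bot_of_card_eq _ h) : Nat.card (H ⊓ H' : Subgroup G) ≠ 1)
  have := Fact.mk hp
  obtain ⟨⟨x, hxH, hxH'⟩, hxo⟩ := exists_prime_orderOf_dvd_card' p hpd
  replace hxo : orderOf x = p := by rw [← hxo, ← orderOf_coe]
  have hpH : p ∣ Nat.card H := hxo ▸ H.orderOf_dvd_natCard hxH
  obtain ⟨q, hq, hqd, hqp⟩ : ∃ q : ℕ, q.Prime ∧ q ∣ Nat.card H ∧ q ≠ p := by
    by_contra hall
    push Not at hall
    refine hnpp ((isPrimePow_nat_iff _).mpr ⟨p, (Nat.card H).primeFactorsList.length, hp, ?_, ?_⟩)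
    · refine List.length_pos_of_mem (a := p) ?_
      exact (Nat.mem_primeFactorsList Nat.card_pos.ne').mpr ⟨hp, hpH⟩
    · exact (Nat.eq_prime_pow_of_unique_prime_dvd Nat.card_pos.ne'
        (fun {d} hd hdd => hall d hd hdd)).symm
  have := Fact.mk hq
  obtain ⟨v, hvH, hvo, hvc⟩ := hH.exists_central hqd
  have hv1 : v ≠ 1 := fun h => hq.ne_one (by rw [← hvo, h, orderOf_one])
  have hCv := hH.centralizer_eq hCN hvH hvc hv1
  have hvH' : v ∈ H' := hH'm.mem_of_commute hCN hxH' hp hxo hqp (hcard ▸ hqd) (hvc x hxH).symm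
    (IsPGroup.of_card (n := 1) (by rw [Nat.card_zpowers, hvo, pow_one]))
  refine hne (hH'm.2 H hH.1 ?_).symm
  rw [← subgroupOf_eq_top]
  refine Cores.eq_top_of_sylow_le fun r hr hrd => ?_
  have := Fact.mk hr
  obtain ⟨R⟩ := (inferInstance : Nonempty (Sylow r H'))
  refine ⟨R, fun y hy => ?_⟩
  show (y : G) ∈ H
  obtain ⟨j, hj⟩ := IsPGroup.iff_orderOf.mp R.isPGroup' ⟨y, hy⟩
  rw [orderOf_mk, ← orderOf_coe] at hj
  rcases eq_or_ne r p with rfl | hrp
  · rw [← hCv]
    refine mem_centralizer_singleton_iff.mpr (commute_of_mem hH'm.1 y.2 hvH' ?_).eq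
    rw [hj, hvo]
    exact ((Nat.coprime_primes hr hq).mpr hqp.symm).pow_left j
  · refine hH.mem_of_commute hCN hxH hp hxo hrp (hcard ▸ hrd) ?_
      (IsPGroup.of_card (n := j) (by rw [Nat.card_zpowers, hj]))
    refine commute_of_mem hH'm.1 y.2 hxH' ?_
    rw [hj, hxo]
    exact ((Nat.coprime_primes hr hp).mpr hrp).pow_left j

theorem IsMaxNilpotent.centralizer_le (hCN : IsCNGroup G) (hH : IsMaxNilpotent H)
    (hti : ∀ g : G, H.map (MulAut.conj g).toMonoidHom ≠ H →
      H ⊓ H.map (MulAut.conj g).toMonoidHom = ⊥) {x : G} (hx : x ∈ H) (hx1 : x ≠ 1) :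
    centralizer ({x} : Set G) ≤ H := by
  intro y hy
  have hyx : y * x * y⁻¹ = x := by
    rw [mem_centralizer_singleton_iff.mp hy, mul_inv_cancel_right]
  have hyN : H.map (MulAut.conj y).toMonoidHom = H := by
    by_contra hne
    exact hx1 (mem_bot.mp (hti y hne ▸ ⟨hx, x, hx, hyx⟩))
  have hcop := hH.coprime hCN
  set N := normalizer (H : Set G) with hN
  have hyN' : y ∈ N := mem_normalizer_iff_map_conj_eq.mpr hyN
  have : (H.subgroupOf N).Normal := (normal_subgroupOf_iff_le_normalizer le_normalizer).mpr le_rfl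
  have key : ∀ w : G, w ∈ N → w ^ Nat.card H = 1 → w ∈ H := by
    intro w hw hwpow
    have h1 : ((⟨w, hw⟩ : N) : N ⧸ H.subgroupOf N) = 1 := by
      refine orderOf_eq_one_iff.mp (Nat.eq_one_of_dvd_coprimes hcop ?_ ?_)
      · refine orderOf_dvd_of_pow_eq_one ?_
        rw [← QuotientGroup.mk_pow, show (⟨w, hw⟩ : N) ^ Nat.card H = 1 from Subtype.ext hwpow]
        rfl
      · exact (_root_.orderOf_dvd_natCard _).trans (relIndex_dvd_index_of_le (le_normalizer (H := H)))
    exact (QuotientGroup.eq_one_iff (⟨w, hw⟩ : N)).mp h1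
  refine key y hyN' ?_
  set y' := y ^ Nat.card H with hy'
  have hdvd : orderOf y' ∣ H.index := by
    refine orderOf_dvd_of_pow_eq_one ?_
    rw [hy', ← pow_mul, card_mul_index, pow_card_eq_one']
  have hcop' : (orderOf y').Coprime (Nat.card H) := hcop.symm.coprime_dvd_left hdvd
  obtain ⟨q, hq, hqd⟩ := Nat.exists_prime_and_dvd
    (fun h => hx1 (mem_bot.mp ((eq_bot_of_card_eq H h) ▸ hx)) : Nat.card H ≠ 1)
  have := Fact.mk hq
  obtain ⟨v, hvH, hvo, hvc⟩ := hH.exists_central hqd
  have hv1 : v ≠ 1 := fun h => hq.ne_one (by rw [← hvo, h, orderOf_one])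
  have hyH : y' ∈ H := by
    rw [← hH.centralizer_eq hCN hvH hvc hv1]
    refine mem_centralizer_singleton_iff.mpr ?_
    exact (mem_centralizer_iff.mp (mem_centralizer_of_commute hCN hH.1 hx hx1
      ((show Commute y x from mem_centralizer_singleton_iff.mp hy).pow_left _) hcop') v hvH).symm
  exact orderOf_eq_one_iff.mp (Nat.eq_one_of_dvd_coprimes hcop (H.orderOf_dvd_natCard hyH) hdvd)

end Cfsg.Agent.OddLocal.CN
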