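import Cfsg.Agent.OddLocal.TransitivityLocal
import Cfsg.Agent.InvChar.PConstrained
import Cfsg.Agent.S1302
import Cfsg.Agent.Lib.Cores.Fitting

/-! Thompson transitivity with `p`-constrained `p`-local subgroups. -/

set_option autoImplicit false

namespace Cfsg.Agent.OddLocal.ConstrainedTransitivity

open Cfsg Subgroup
open scoped commutatorElement

variable {X : Type*} [Group X] [Finite X] {p : ℕ} [hp : Fact p.Prime]

/-- Sylow subgroups of class at most two: invariant subgroups of order prime to `p` lie in the core. -/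
theorem le_core_of_class_two (hX : IsPConstrained p X) {A : Subgroup X} (hAc : IsMulCommutative A)
    (hAp : IsPGroup p A) (hfull : ∀ x ∈ centralizer (A : Set X), IsPGroup p (zpowers x) → x ∈ A)
    (hcl : ∀ R : Subgroup X, IsPGroup p R → ⁅⁅R, R⁆, R⁆ = ⊥)
    {Q : Subgroup X} (hQ : (Nat.card Q).Coprime p) (hAQ : A ≤ normalizer (Q : Set X)) :
    Q ≤ pPrimeCore p X := by
  set O := pPrimeCore p X
  set f := QuotientGroup.mk' O with hf
  have hfs : Function.Surjective f := QuotientGroup.mk'_surjective O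
  set P := pCore p (X ⧸ O) with hP
  have hcons : centralizer (P : Set (X ⧸ O)) ≤ P := InvChar.PConstrained.iff_char.mp hX
  have hPp : IsPGroup p P := Cores.pCore_isPGroup p
  have hPn : P.Normal := inferInstance
  have hO : (Nat.card O).Coprime p := Cores.pPrimeCore_card_coprime p
  set A' := A.map f with hA'
  set Q' := Q.map f with hQ'
  have hA'p : IsPGroup p A' := hAp.map f
  have hQ'c : (Nat.card Q').Coprime p := hQ.coprime_dvd_left (card_map_dvd _ _)
  have hA'Q' : A' ≤ normalizer (Q' : Set (X ⧸ O)) := (map_mono hAQ).trans (le_normalizer_map f)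
  have hdisj : P ⊓ Q' = ⊥ := PLocal.Cores.inf_eq_bot_of_isPGroup_of_coprime hPp hQ'c
  have hAP : A' ≤ normalizer (P : Set (X ⧸ O)) := le_normalizer_of_normal
  have hQP : Q' ≤ normalizer (P : Set (X ⧸ O)) := le_normalizer_of_normal
  -- fixed points of `A` in the core lie in `A`
  have hfix : P ⊓ centralizer (A' : Set (X ⧸ O)) ≤ A' := by
    intro x hx
    obtain ⟨hxP, hxc⟩ := mem_inf.mp hx
    rw [hA', ← Components.Local.map_centralizer_eq hAp hO] at hxc
    obtain ⟨c, hc, hcx⟩ := hxc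
    obtain ⟨k, hk⟩ := hPp ⟨x, hxP⟩
    replace hk : x ^ p ^ k = 1 := congrArg Subtype.val hk
    obtain ⟨t, ht, ht0⟩ := Nat.chineseRemainder (hO.symm.pow_left k) 1 0
    have h1 : (c ^ p ^ k) ∈ O := by
      rw [← QuotientGroup.eq_one_iff]
      show f (c ^ p ^ k) = 1
      rw [map_pow, hcx, hk]
    obtain ⟨u, rfl⟩ := Nat.modEq_zero_iff_dvd.mp ht0
    have h2 : (c ^ (Nat.card O * u)) ^ p ^ k = 1 := by
      rw [← pow_mul, show Nat.card O * u * p ^ k = p ^ k * Nat.card O * u by ring, pow_mul, pow_mul,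
        show (c ^ p ^ k) ^ Nat.card O = 1 from congrArg Subtype.val
          (pow_card_eq_one' (x := (⟨_, h1⟩ : O))), one_pow]
    refine ⟨c ^ (Nat.card O * u), hfull _ (pow_mem hc _) ?_, ?_⟩
    · obtain ⟨j, -, hj⟩ := (Nat.dvd_prime_pow hp.out).mp (orderOf_dvd_of_pow_eq_one h2)
      exact IsPGroup.of_card (n := j) (by rw [Nat.card_zpowers, hj])
    · rw [map_pow, hcx]
      conv_rhs => rw [← pow_one x]
      exact pow_eq_pow_iff_modEq.mpr (ht.of_dvd (orderOf_dvd_of_pow_eq_one hk))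
  have hfixQ : P ⊓ A' ≤ centralizer (Q' : Set (X ⧸ O)) := by
    rw [← Coprime.commutator_eq_bot_iff_le_centralizer', eq_bot_iff, ← hdisj]
    refine le_inf ?_ ?_
    · exact (commutator_mono le_rfl inf_le_left).trans (commutator_le_right _ _)
    · exact le_normalizer_iff_commutator_le_left.mp (inf_le_right.trans hA'Q')
  have hR : IsPGroup p (P ⊔ A' : Subgroup (X ⧸ O)) := hPp.to_sup_of_normal_left' hA'p hAP
  have hcl' : ⁅⁅P ⊔ A', P ⊔ A'⁆, P ⊔ A'⁆ = ⊥ := by
    obtain ⟨T, hT⟩ := hR.exists_le_sylow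
    obtain ⟨S, rfl⟩ := Sylow.mapSurjective_surjective hfs p T
    rw [Sylow.coe_mapSurjective] at hT
    refine le_bot_iff.mp ((commutator_mono (commutator_mono hT hT) hT).trans (le_of_eq ?_))
    rw [← map_commutator, ← map_commutator, hcl _ S.isPGroup', Subgroup.map_bot]
  set K := ⁅P, A'⁆ with hK
  have hKP : K ≤ P := le_normalizer_iff_commutator_le_left.mp hAP
  have hKR : K ≤ centralizer ((P ⊔ A' : Subgroup (X ⧸ O)) : Set (X ⧸ O)) := by
    rw [← commutator_eq_bot_iff_le_centralizer, ← le_bot_iff]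
    exact (commutator_mono (commutator_mono le_sup_left le_sup_right) le_rfl).trans hcl'.le
  have hKA : K ≤ A' := le_trans (le_inf hKP (hKR.trans (centralizer_le (show (A' : Set (X ⧸ O)) ⊆ _ from
    (le_sup_right : A' ≤ P ⊔ A'))))) hfix
  have hKQ : K ≤ centralizer (Q' : Set (X ⧸ O)) := (le_inf hKP hKA).trans hfixQ
  have hKc : ∀ k ∈ K, ∀ z ∈ A', z * k * z⁻¹ = k := fun k hk z hz => by
    rw [mem_centralizer_iff.mp (hKR hk) z ((le_sup_right : A' ≤ P ⊔ A') hz), mul_inv_cancel_right]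
  have hKy : ∀ k ∈ K, ∀ y ∈ Q', y * k * y⁻¹ = k := fun k hk y hy => by
    rw [mem_centralizer_iff.mp (hKQ hk) y hy, mul_inv_cancel_right]
  -- `[Q, A]` stabilises the series `1 ≤ K ≤ P`
  have hT : ⁅Q', A'⁆ = ⊥ := by
    set T := ⁅Q', A'⁆ with hTdef
    have hTQ : T ≤ Q' := le_normalizer_iff_commutator_le_left.mp hA'Q'
    have hTK : T ≤ centralizer (K : Set (X ⧸ O)) := hTQ.trans (le_centralizer_iff.mp hKQ)
    have hTcop : (Nat.card T).Coprime (Nat.card P) := by
      obtain ⟨k, hk⟩ := hPp.exists_card_eq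
      rw [hk]
      exact (hQ'c.coprime_dvd_left (card_dvd_of_le hTQ)).pow_right k
    let N : Subgroup (X ⧸ O) :=
      { carrier := {x | ∀ r ∈ P, x * r * x⁻¹ * r⁻¹ ∈ K ∧ ∀ k ∈ K, x * k * x⁻¹ = k}
        one_mem' := fun r _ => ⟨by simp, fun k _ => by simp⟩
        mul_mem' := fun {x y} hx hy r hr => ⟨by
            have hy' := (hy r hr).1
            have h1 := (hx r hr).1
            rw [show x * y * r * (x * y)⁻¹ * r⁻¹ =
              x * (y * r * y⁻¹ * r⁻¹) * x⁻¹ * (x * r * x⁻¹ * r⁻¹) by group, (hx r hr).2 _ hy']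
            exact mul_mem hy' h1,
          fun k hk => by
            rw [show x * y * k * (x * y)⁻¹ = x * (y * k * y⁻¹) * x⁻¹ by group, (hy r hr).2 k hk,
              (hx r hr).2 k hk]⟩
        inv_mem' := fun {x} hx r hr => by
          have hk : ∀ k ∈ K, x⁻¹ * k * x⁻¹⁻¹ = k := fun k hk => by
            conv_lhs => rw [← (hx r hr).2 k hk]
            group
          refine ⟨?_, hk⟩
          have hs : x⁻¹ * r * x ∈ P := by
            have h := hPn.conj_mem r hr x⁻¹
            rwa [inv_inv] at h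
          convert inv_mem (hx _ hs).1 using 1
          group }
    have hTN : T ≤ N := by
      rw [hTdef, commutator_le]
      intro y hy a ha r hr
      have hP' : ∀ z : X ⧸ O, ∀ s ∈ P, z * s * z⁻¹ ∈ P := fun z s hs => hPn.conj_mem s hs z
      have hA1 : ∀ z ∈ A', ∀ s ∈ P, ∃ k ∈ K, z * s * z⁻¹ = s * k := fun z hz s hs =>
        ⟨s⁻¹ * z * s * z⁻¹, by
          have h := commutator_mem_commutator (inv_mem hs) hz
          rwa [commutatorElement_def, inv_inv] at h, by group⟩
      obtain ⟨k₁, hk₁, e₁⟩ := hA1 a⁻¹ (inv_mem ha) r hr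
      obtain ⟨k₂, hk₂, e₂⟩ := hA1 a ha _ (hP' y⁻¹ r hr)
      rw [inv_inv] at e₁ e₂
      refine ⟨?_, fun k hk => ?_⟩
      · have ey : y⁻¹ * k₁ * y = k₁ := by
          have h := hKy k₁ hk₁ y⁻¹ (inv_mem hy)
          rwa [inv_inv] at h
        have e3 : ⁅y, a⁆ * r * ⁅y, a⁆⁻¹ = r * (k₂ * k₁) := by
          calc ⁅y, a⁆ * r * ⁅y, a⁆⁻¹ = y * (a * (y⁻¹ * (a⁻¹ * r * a) * y) * a⁻¹) * y⁻¹ := by
                rw [commutatorElement_def]; group
            _ = y * (a * (y⁻¹ * (r * k₁) * y) * a⁻¹) * y⁻¹ := by rw [e₁]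
            _ = y * ((a * (y⁻¹ * r * y) * a⁻¹) * (a * (y⁻¹ * k₁ * y) * a⁻¹)) * y⁻¹ := by group
            _ = y * ((y⁻¹ * r * y * k₂) * k₁) * y⁻¹ := by rw [e₂, ey, hKc k₁ hk₁ a ha]
            _ = r * ((y * k₂ * y⁻¹) * (y * k₁ * y⁻¹)) := by group
            _ = _ := by rw [hKy k₁ hk₁ y hy, hKy k₂ hk₂ y hy]
        rw [e3]
        have hk : k₂ * k₁ ∈ K := mul_mem hk₂ hk₁
        rw [mem_centralizer_iff.mp (hKR hk) r ((le_sup_left : P ≤ P ⊔ A') hr), mul_inv_cancel_right]
        exact hk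
      · have hyk : y⁻¹ * k * y = k := by
          have h := hKy k hk y⁻¹ (inv_mem hy)
          rwa [inv_inv] at h
        calc ⁅y, a⁆ * k * ⁅y, a⁆⁻¹ = y * (a * (y⁻¹ * (a⁻¹ * k * a⁻¹⁻¹) * y) * a⁻¹) * y⁻¹ := by
              rw [commutatorElement_def]; group
          _ = _ := by rw [hKc k hk _ (inv_mem ha), hyk, hKc k hk a ha, hKy k hk y hy]
    have hTP : T ≤ centralizer (P : Set (X ⧸ O)) := Coprime.le_centralizer_of_series
      le_normalizer_of_normal hTcop (Or.inr (Coprime.isSolvable_of_isPGroup hPp)) hTK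
      (by
        rw [commutator_le]
        intro r hr t ht
        have h1 := inv_mem (hTN ht r hr).1
        rw [commutatorElement_def]
        convert h1 using 1
        group)
    rw [eq_bot_iff, ← hdisj]
    exact le_inf (hTP.trans hcons) hTQ
  have hQA : A' ≤ centralizer (Q' : Set (X ⧸ O)) := Coprime.commutator_eq_bot_iff_le_centralizer'.mp hT
  have hQP' : Q' ≤ centralizer (P : Set (X ⧸ O)) := Coprime.le_centralizer_of_pxq hA'p hQ'c hPp hQA hAP hQP
    ((le_inf inf_le_left hfix).trans hfixQ)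
  intro r hr
  rw [← QuotientGroup.eq_one_iff]
  have := le_inf (hQP'.trans hcons) le_rfl (mem_map_of_mem f hr : f r ∈ Q')
  rwa [hdisj, mem_bot] at this

/-- A full abelian `p`-subgroup: invariant subgroups of order prime to `p` lie in the core. -/
theorem le_core (hX : IsPConstrained p X) (hcl : p = 2 → ∀ R : Subgroup X, IsPGroup p R → ⁅⁅R, R⁆, R⁆ = ⊥)
    {A : Subgroup X} (hAc : IsMulCommutative A) (hAp : IsPGroup p A)
    (hfull : ∀ x ∈ centralizer (A : Set X), IsPGroup p (zpowers x) → x ∈ A)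
    {Q : Subgroup X} (hQ : (Nat.card Q).Coprime p) (hAQ : A ≤ normalizer (Q : Set X)) :
    Q ≤ pPrimeCore p X := by
  by_cases h2 : p = 2
  · exact le_core_of_class_two hX hAc hAp hfull (hcl h2) hQ hAQ
  · exact S1302.result p h2 hX A hAc hAp (fun x hx hxo => hfull x hx
      (IsPGroup.of_card (n := 1) (by rw [Nat.card_zpowers, hxo, pow_one]))) Q
      (hp.out.coprime_iff_not_dvd.mp hQ.symm) hAQ

variable {G : Type*} [Group G] [Finite G]

/-- The hypothesis of the transitivity theorem in the centraliser of an element of `E`. -/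
theorem core_centralizer
    (hloc : ∀ T : Subgroup G, IsPGroup p T → T ≠ ⊥ → IsPConstrained p ↥(normalizer (T : Set G)))
    (h2 : p = 2 → ∀ R : Subgroup G, IsPGroup p R → ⁅⁅R, R⁆, R⁆ = ⊥)
    {E : Subgroup G} (hEp : IsPGroup p E) (hEc : IsMulCommutative E)
    (hEfull : ∀ x ∈ centralizer (E : Set G), IsPGroup p (zpowers x) → x ∈ E)
    {b : G} (hb : b ∈ E) (hb1 : b ≠ 1) {Y : Subgroup G} (hYC : Y ≤ centralizer ({b} : Set G))
    (hY : (Nat.card Y).Coprime p) (hEY : E ≤ normalizer (Y : Set G)) :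
    Y ≤ centralizerPPrimeCore p b := by
  set C := centralizer ({b} : Set G) with hC
  set T := zpowers b with hT
  have hTp : IsPGroup p T := hEp.to_le (zpowers_le.mpr hb)
  have eC : centralizer (T : Set G) = C := by rw [hT, zpowers_eq_closure, centralizer_closure]
  have hCN : C ≤ normalizer (T : Set G) := eC ▸ centralizer_le_normalizer _
  have hCc : IsPConstrained p C := by
    have hn : (C.subgroupOf (normalizer (T : Set G))).Normal := by
      rw [← eC]; infer_instance
    exact InvChar.PConstrained.constrained_of_equiv (subgroupOfEquivOfLe hCN)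
      (InvChar.PConstrained.normal_constrained (hloc T hTp (zpowers_ne_bot.mpr hb1)) _)
  have hEC : E ≤ C := fun e he => mem_centralizer_singleton_iff.mpr (setLike_mul_comm (s := E) he hb)
  have h := le_core (Q := Y.subgroupOf C) (A := E.subgroupOf C) hCc
    (fun e R hR => by
      rw [← map_eq_bot_iff_of_injective _ C.subtype_injective, Subgroup.map_commutator,
        Subgroup.map_commutator]
      exact h2 e _ (hR.map _))
    ⟨⟨fun a c => Subtype.ext (Subtype.ext (setLike_mul_comm (s := E) a.2 c.2))⟩⟩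
    hEp.comap_subtype
    (fun x hx hxp => mem_subgroupOf.mpr (hEfull x
      (mem_centralizer_iff.mpr fun e he => congrArg Subtype.val (mem_centralizer_iff.mp hx ⟨e, hEC he⟩ he))
      (by
        have h := hxp.map C.subtype
        rwa [MonoidHom.map_zpowers] at h)))
    (by rwa [Nat.card_congr (subgroupOfEquivOfLe hYC).toEquiv])
    (by
      intro x hx
      rw [mem_normalizer_iff]
      intro y
      simp only [mem_subgroupOf, Subgroup.coe_mul, Subgroup.coe_inv]
      exact mem_normalizer_iff.mp (hEY hx) (y : G))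
  rw [← map_subgroupOf_eq_of_le hYC]
  exact map_mono h

/-- If `E` holds all `p`-elements of its centraliser then `C(E) = O_{p'}(C(E)) E`. -/
theorem centralizer_eq_core_mul {E : Subgroup G} (hEp : IsPGroup p E) (hEc : IsMulCommutative E)
    (hEfull : ∀ x ∈ centralizer (E : Set G), IsPGroup p (zpowers x) → x ∈ E)
    {c : G} (hc : c ∈ centralizer (E : Set G)) :
    ∃ k ∈ piCoreOf (primesNotDvd p) (centralizer (E : Set G)), ∃ e ∈ E, c = k * e := by
  set C := centralizer (E : Set G) with hC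
  have hEC : E ≤ C := fun e he => mem_centralizer_iff.mpr fun y hy => setLike_mul_comm (s := E) hy he
  obtain ⟨S, hS⟩ := (hEp.comap_subtype (K := C)).exists_le_sylow
  have hSE : (S : Subgroup C) ≤ E.subgroupOf C := fun x hx => mem_subgroupOf.mpr (hEfull x x.2 (by
    have h := (S.isPGroup'.to_le (zpowers_le.mpr hx)).map C.subtype
    rwa [MonoidHom.map_zpowers] at h))
  set Z := E.subgroupOf C with hZ
  have hZn : Z.Normal := ⟨fun z hz g => mem_subgroupOf.mpr (by
    have h1 : (z : G) * g = g * z := mem_centralizer_iff.mp g.2 z (mem_subgroupOf.mp hz)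
    rw [Subgroup.coe_mul, Subgroup.coe_mul, Subgroup.coe_inv, ← h1, mul_inv_cancel_right]
    exact mem_subgroupOf.mp hz)⟩
  have hcop : (Nat.card Z).Coprime Z.index := by
    obtain ⟨j, hj⟩ := (hEp.comap_subtype (K := C)).exists_card_eq
    rw [show Nat.card Z = p ^ j from hj]
    refine (hp.out.coprime_iff_not_dvd.mpr fun hd => S.not_dvd_index ?_).pow_left j
    rwa [le_antisymm hSE hS]
  obtain ⟨K, hK⟩ := exists_right_complement'_of_coprime (N := Z) hcop
  have hcomm : ∀ z ∈ Z, ∀ g : C, z * g = g * z := fun z hz g =>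
    Subtype.ext (mem_centralizer_iff.mp g.2 z (mem_subgroupOf.mp hz))
  have hKn : K.Normal := by
    refine normalizer_eq_top_iff.mp (top_le_iff.mp ?_)
    rw [← hK.sup_eq_top]
    refine sup_le (fun z hz => centralizer_le_normalizer _ ?_) le_normalizer
    exact mem_centralizer_iff.mpr fun g _ => (hcomm z hz g).symm
  have hKp : (Nat.card K).Coprime p := by
    rw [← hK.symm.index_eq_card]
    refine (hp.out.coprime_iff_not_dvd.mpr fun hd => S.not_dvd_index ?_).symm
    rwa [le_antisymm hSE hS]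
  have hle : K ≤ piCore (primesNotDvd p) C := Cores.le_piCore fun r hr hd => ⟨hr, fun hrp => by
    have h1 := Nat.eq_one_of_dvd_coprimes hKp hd hrp
    exact hr.ne_one h1⟩
  obtain ⟨z, hz, k, hk, e⟩ := mem_sup_of_normal_left.mp (hK.sup_eq_top.ge (mem_top (⟨c, hc⟩ : C)))
  exact ⟨k, mem_map_of_mem _ (hle hk), z, mem_subgroupOf.mp hz, congrArg Subtype.val
    (e.symm.trans (hcomm z hz k))⟩

/-- Thompson's transitivity theorem. -/
theorem transitive
    (hloc : ∀ T : Subgroup G, IsPGroup p T → T ≠ ⊥ → IsPConstrained p ↥(normalizer (T : Set G)))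
    (h2 : p = 2 → ∀ R : Subgroup G, IsPGroup p R → ⁅⁅R, R⁆, R⁆ = ⊥)
    {E : Subgroup G} (hEp : IsPGroup p E) (hEc : IsMulCommutative E) (hE3 : ¬ PRankLE p 2 E)
    (hEfull : ∀ x ∈ centralizer (E : Set G), IsPGroup p (zpowers x) → x ∈ E)
    {q : ℕ} [Fact q.Prime] (hqp : q ≠ p) {Q₁ Q₂ : Subgroup G}
    (h₁ : Q₁ ∈ maxInvSubgroups ⊤ E {q}) (h₂ : Q₂ ∈ maxInvSubgroups ⊤ E {q}) :
    ∃ k ∈ piCoreOf (primesNotDvd p) (centralizer (E : Set G)), Q₂ = Q₁.map (MulAut.conj k).toMonoidHom := by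
  obtain ⟨E₀, hE₀E, hE₀, hE₀c⟩ : ∃ E₀ : Subgroup G, E₀ ≤ E ∧ IsElementaryAbelian p E₀ ∧
      Nat.card E₀ = p ^ 3 := by
    simp only [PRankLE, not_forall, not_le] at hE3
    obtain ⟨B, hBc, hB, hlt⟩ := hE3
    obtain ⟨m, hm⟩ := (hEp.to_subgroup B).exists_card_eq
    have hm3 : 2 < m := (Nat.pow_lt_pow_iff_right hp.out.one_lt).mp (hm ▸ hlt)
    obtain ⟨C, hC⟩ := Sylow.exists_subgroup_card_pow_prime p (n := 3) (G := B) (hm ▸ Nat.pow_dvd_pow p hm3)
    refine ⟨(C.map B.subtype).map E.subtype, map_subtype_le _, ⟨⟨⟨?_⟩⟩, ?_⟩, ?_⟩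
    · rintro ⟨_, _, ⟨a, _, rfl⟩, rfl⟩ ⟨_, _, ⟨b, _, rfl⟩, rfl⟩
      exact Subtype.ext (congrArg (fun x : B => ((x : E) : G)) (hBc.is_comm.comm a b))
    · rintro _ ⟨_, ⟨a, _, rfl⟩, rfl⟩
      exact congrArg Subtype.val (hB a a.2)
    · rw [card_map_of_injective E.subtype_injective, card_map_of_injective B.subtype_injective, hC]
  obtain ⟨c, hc, hcQ⟩ := TransitivityLocal.transitive hEp hE₀E
    (fun e he => mem_centralizer_iff.mpr fun y hy => setLike_mul_comm (s := E) (hE₀E hy) he)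
    hE₀ hE₀c hqp (fun b hb hb1 Y hYC hY hEY =>
      core_centralizer hloc h2 hEp hEc hEfull (hE₀E hb) hb1 hYC hY hEY) h₁ h₂
  obtain ⟨k, hk, e, he, rfl⟩ := centralizer_eq_core_mul hEp hEc hEfull hc
  refine ⟨k, hk, ?_⟩
  rw [hcQ, ← Transitivity.map_conj_map, show Q₁.map (MulAut.conj e).toMonoidHom = Q₁ from mem_normalizer_iff_map_conj_eq.mp (h₁.1.2.2 he)]

end Cfsg.Agent.OddLocal.ConstrainedTransitivity
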