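import Cfsg.Agent.OddLocal.NonNilpotent
import Cfsg.Agent.OddLocal.KappaFixed

/-! `M_F` is not cyclic for `K ≠ 1` (BG 15.2). -/

set_option autoImplicit false
set_option linter.unusedSectionVars false

namespace Cfsg.Agent.OddLocal.CyclicFixed

open Cfsg Subgroup

variable {G : Type*} [Group G] [Finite G] {M K U Q : Subgroup G} {q : ℕ}

theorem not_isCyclic_sigmaCore (hG : IsMinSimpleOddOrder G) (hM : IsCoatom M)
    (hKU : IsSigmaDecomposition M K U) (hK1 : K ≠ ⊥)
    (hne : sigmaCore M ⊓ centralizer (K : Set G) ≠ ⊥) : ¬ IsCyclic (sigmaCore M) := by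
  intro hcyc
  obtain ⟨q, hq, hqd⟩ := Nat.exists_prime_and_dvd (fun e => hne (card_eq_one.mp e))
  have := Fact.mk hq
  have hqσ : q ∈ sigma M := Transitivity.isPi_piCoreOf (sigma M) M q hq (hqd.trans (card_dvd_of_le inf_le_left))
  obtain ⟨S, hSM, -⟩ := Sigma.exists_sylow_normalizer_le hqσ
  have hSσ : (S : Subgroup G) ≤ sigmaCore M := Sigma.sylow_le_sigmaCore hG hM hqσ S.isPGroup' hSM
  have hSc : IsCyclic (S : Subgroup G) :=
    isCyclic_of_injective (inclusion hSσ) (inclusion_injective _)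
  have hKn : K ≤ normalizer ((S : Subgroup G) : Set G) := by
    intro k hk
    refine Transfer.Fusion.map_conj_eq_self_iff.mp (eq_of_le_of_card_ge ?_
      (by rw [Transfer.Fusion.card_map_conj]))
    rintro _ ⟨x, hx, rfl⟩
    have hxσ : k * x * k⁻¹ ∈ sigmaCore M :=
      (mem_normalizer_iff.mp (Sigma.le_normalizer_sigmaCore M (hKU.hall.1 hk)) x).mp (hSσ hx)
    have hn : ((S : Subgroup G).subgroupOf (sigmaCore M)).Normal := by
      have := hcyc.commutative
      exact ⟨fun a ha b => by rwa [this.is_comm.comm b a, mul_inv_cancel_right]⟩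
    refine KappaDecomp.mem_of_normal_coprime ((normal_subgroupOf_iff_le_normalizer hSσ).mp hn) hSσ hxσ
      (Nat.coprime_of_dvd fun p hp h1 h2 => ?_)
    have hpq : p = q := PType.eq_of_dvd_pow_card hp S.isPGroup'
      ((((MulAut.conj k).orderOf_eq x).symm ▸ h1 : p ∣ orderOf x).trans (orderOf_dvd_natCard _ hx))
    rw [hpq] at h2
    exact S.not_dvd_index (h2.trans (Dvd.intro _ (relIndex_mul_index hSσ)))
  have hn : sigmaCore M ≤ normalizer ((S : Subgroup G) : Set G) := by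
    have := hcyc.commutative
    exact (normal_subgroupOf_iff_le_normalizer hSσ).mp
      ⟨fun a ha b => by rwa [this.is_comm.comm b a, mul_inv_cancel_right]⟩
  obtain ⟨c, hc⟩ := exists_prime_orderOf_dvd_card' q hqd
  rw [← orderOf_coe] at hc
  have hcS : (c : G) ∈ (S : Subgroup G) := KappaDecomp.mem_of_normal_coprime hn hSσ c.2.1
    (hc.symm ▸ hq.coprime_iff_not_dvd.mpr fun h =>
      S.not_dvd_index (h.trans (Dvd.intro _ (relIndex_mul_index hSσ))))
  have hSab : IsMulCommutative (S : Subgroup G) :=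
    ⟨⟨fun a b => Subtype.ext (congrArg (Subtype.val : sigmaCore M → G)
      (hcyc.commutative.is_comm.comm ⟨a, hSσ a.2⟩ ⟨b, hSσ b.2⟩))⟩⟩
  have hco : (Nat.card K).Coprime (Nat.card (S : Subgroup G)) := by
    refine Nat.Coprime.coprime_dvd_right (card_dvd_of_le hSσ) ?_
    exact Nat.coprime_of_dvd fun p hp h1 h2 => KappaDecomp.kappa_not_sigma (hKU.hall.2.1 p hp h1)
      (Transitivity.isPi_piCoreOf (sigma M) M p hp h2)
  have hW : ⁅(S : Subgroup G), K⁆ = ⊥ := by
    by_contra hW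
    obtain ⟨w, hw, hw1⟩ := (bot_or_exists_ne_one _).resolve_left hW
    have hwS : w ∈ (S : Subgroup G) := Cfsg.Agent.Coprime.commutator_le_of_le_normalizer hKn hw
    obtain ⟨n, hn'⟩ := (S.isPGroup'.to_le (zpowers_le.mpr hwS)).exists_card_eq
    rw [Nat.card_zpowers] at hn'
    set v := w ^ (orderOf w / q)
    have hvo : orderOf v = q := orderOf_pow_orderOf_div (orderOf_pos w).ne'
      (hn' ▸ dvd_pow_self q fun e => hw1 (orderOf_eq_one_iff.mp (by rw [hn', e, pow_zero])))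
    have hvW : v ∈ ⁅(S : Subgroup G), K⁆ := pow_mem hw _
    have hcv : (c : G) ∈ zpowers v := TauTwo.mem_zpowers_of_cyclic hSc (pow_mem hwS _) hcS hvo
      (hc ▸ pow_orderOf_eq_one _)
    have h1 : (c : G) = 1 := mem_bot.mp ((Cfsg.Agent.Coprime.inf_centralizer_inf_commutator hKn hco).le
      (mem_inf.mpr ⟨mem_inf.mpr ⟨hcS, c.2.2⟩, (zpowers_le.mpr hvW) hcv⟩))
    exact KappaCentral.ne_one_of_order hc h1
  exact KappaFixed.not_le_fixed hG hM hKU.hall hK1 hqσ S hSM (le_inf hSσ (le_centralizer_iff.mp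
    (Cfsg.Agent.Coprime.commutator_eq_bot_iff_le_centralizer'.mp hW)))

theorem not_isCyclic_core (hG : IsMinSimpleOddOrder G) (hM : IsCoatom M)
    (hKU : IsSigmaDecomposition M K U) (c : NonNilpotent.Core M K Q q) : ¬ IsCyclic Q := by
  intro hcyc
  have := Fact.mk c.hq
  have hq := c.hq
  have : (Q.subgroupOf (sigmaCore M)).Normal := (normal_subgroupOf_iff_le_normalizer c.le).mpr
    ((Sigma.sigmaCore_le M).trans c.normal)
  obtain ⟨D₁, hD₁⟩ := exists_right_complement'_of_coprime (N := Q.subgroupOf (sigmaCore M)) (by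
      obtain ⟨k, hk⟩ := c.pgroup.exists_card_eq
      rw [Nat.card_congr (subgroupOfEquivOfLe c.le).toEquiv, hk]
      exact Nat.Coprime.pow_left _ (hq.coprime_iff_not_dvd.mpr c.index))
  have hD : IsComplIn Q (D₁.map (sigmaCore M).subtype) (sigmaCore M) := by
    refine ⟨c.le, map_subtype_le _, eq_bot_iff.mpr fun x hx => ?_, fun x hx => ?_⟩
    · obtain ⟨hxQ, d, hd, rfl⟩ := mem_inf.mp hx
      exact mem_bot.mpr (congrArg Subtype.val (mem_bot.mp
        (hD₁.disjoint.le_bot (mem_inf.mpr ⟨hxQ, hd⟩))))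
    · obtain ⟨⟨⟨a, ha⟩, ⟨b, hb⟩⟩, hab⟩ := hD₁.2 ⟨x, hx⟩
      exact ⟨a, ha, b, mem_map_of_mem _ hb, (congrArg Subtype.val hab).symm⟩
  obtain ⟨-, -, -, hcard, hpow, -⟩ := c.compl _ hD
  set Q₀ := Q ⊓ centralizer ((D₁.map (sigmaCore M).subtype : Subgroup G) : Set G) with hQ₀
  obtain ⟨g, rfl⟩ := (Subgroup.isCyclic_iff_exists_zpowers_eq_top Q).mp hcyc
  have hg : g ^ q ∈ Q₀ := (hpow g (mem_zpowers g) g (mem_zpowers g)).1
  have h1 : orderOf g ∣ q * Nat.card Q₀ := by
    refine (orderOf_dvd_of_pow_eq_one ?_)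
    rw [pow_mul]
    exact congrArg Subtype.val (pow_card_eq_one' (x := (⟨g ^ q, hg⟩ : Q₀)))
  rw [Nat.card_zpowers] at hcard
  rw [hcard, mul_comm] at h1
  have h2 : q ^ Nat.card K ∣ q ^ 1 := by
    rw [pow_one]
    exact Nat.dvd_of_mul_dvd_mul_right Nat.card_pos h1
  have h3 := (Nat.pow_dvd_pow_iff_le_right hq.one_lt).mp h2
  exact absurd c.hKp.two_le (by omega)

end Cfsg.Agent.OddLocal.CyclicFixed
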