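import Mathlib

/-! Dimension count: an automorphism of an extraspecial group acting without fixed points modulo the
centre always fixes a vector in a faithful module, unless the group is small. -/

set_option autoImplicit false
set_option linter.unusedSectionVars false

namespace Cfsg.Agent.OddLocal.ExtraspecialCount

open Module

variable {K : Type*} [Field K] {U : Type*} [AddCommGroup U] [Module K U]

/-- Spectral projection of an endomorphism of order `r`. -/
noncomputable def proj (g : Module.End K U) (ζ : K) (r j : ℕ) : Module.End K U :=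
  (r : K)⁻¹ • ∑ i ∈ Finset.range r, (ζ ^ (i * j))⁻¹ • g ^ i

variable {g : Module.End K U} {ζ : K} {r : ℕ}

theorem mul_proj (hζ : ζ ^ r = 1) (hg : g ^ r = 1) (j : ℕ) : g * proj g ζ r j = ζ ^ j • proj g ζ r j := by
  rcases Nat.eq_zero_or_pos r with rfl | hr
  · simp [proj]
  have hζ0 : ζ ≠ 0 := fun e => by rw [e, zero_pow hr.ne'] at hζ; exact zero_ne_one hζ
  rw [proj, mul_smul_comm, smul_comm (ζ ^ j)]
  congr 1
  rw [Finset.mul_sum, Finset.smul_sum]
  set f : ℕ → Module.End K U := fun i => ζ ^ j • (ζ ^ (i * j))⁻¹ • g ^ i with hf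
  have h1 : ∀ i, g * ((ζ ^ (i * j))⁻¹ • g ^ i) = f (i + 1) := fun i => by
    simp only [hf]
    rw [mul_smul_comm, ← pow_succ', smul_smul]
    congr 1
    rw [add_mul, one_mul, pow_add, mul_inv]
    field_simp
  simp only [h1]
  have h2 := Finset.sum_range_succ' f r
  rw [Finset.sum_range_succ f r] at h2
  have h3 : f r = f 0 := by
    rw [hf]
    simp only [zero_mul, pow_zero, inv_one, one_smul]
    rw [pow_mul, hζ, one_pow, inv_one, one_smul, hg]
  rw [h3] at h2
  exact (add_right_cancel h2).symm

theorem sum_proj {K : Type*} [Field K] {U : Type*} [AddCommGroup U] [Module K U] {g : Module.End K U} {ζ : K} {r : ℕ}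
    (hr : 0 < r) (hr0 : (r : K) ≠ 0) (hζ : IsPrimitiveRoot ζ r) :
    ∑ j ∈ Finset.range r, proj g ζ r j = 1 := by
  simp only [proj, ← Finset.smul_sum]
  rw [Finset.sum_comm, Finset.sum_eq_single 0]
  · simp [Finset.sum_const, smul_smul, inv_mul_cancel₀ hr0, ← Nat.cast_smul_eq_nsmul K]
  · intro i hi hi0
    rw [← Finset.sum_smul]
    have hne : ζ⁻¹ ^ i ≠ 1 := by
      rw [inv_pow, ne_eq, inv_eq_one, hζ.pow_eq_one_iff_dvd]
      exact fun h => absurd (Nat.le_of_dvd (Nat.pos_of_ne_zero hi0) h) (not_le.mpr (Finset.mem_range.mp hi))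
    have hsum : ∑ j ∈ Finset.range r, (ζ ^ (i * j))⁻¹ = (0 : K) := by
      simp only [pow_mul, ← inv_pow]
      rw [geom_sum_eq hne, ← pow_mul, mul_comm, pow_mul, inv_pow, hζ.pow_eq_one, inv_one, one_pow, sub_self, zero_div]
    rw [hsum, zero_smul]
  · simp [hr]

theorem proj_zero (h : ∑ i ∈ Finset.range r, g ^ i = 0) : proj g ζ r 0 = 0 := by
  simp [proj, h]

theorem pow_proj (hζ : ζ ^ r = 1) (hg : g ^ r = 1) (j n : ℕ) :
    g ^ n * proj g ζ r j = ζ ^ (n * j) • proj g ζ r j := by
  induction n with
  | zero => simp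
  | succ n ih =>
    rw [pow_succ', mul_assoc, ih, mul_smul_comm, mul_proj hζ hg, smul_smul, ← pow_add, add_mul, one_mul]

theorem proj_mul_proj (hr : 0 < r) (hr0 : (r : K) ≠ 0) (hζ : IsPrimitiveRoot ζ r) (hg : g ^ r = 1) {j k : ℕ}
    (hj : j < r) (hk : k < r) : proj g ζ r j * proj g ζ r k = if j = k then proj g ζ r k else 0 := by
  conv_lhs => arg 1; rw [proj]
  rw [smul_mul_assoc, Finset.sum_mul]
  simp only [smul_mul_assoc, pow_proj hζ.pow_eq_one hg, smul_smul]
  rw [← Finset.sum_smul, smul_smul]
  have hζ0 : ζ ≠ 0 := hζ.ne_zero hr.ne'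
  have hterm : ∀ i, (ζ ^ (i * j))⁻¹ * ζ ^ (i * k) = ((ζ ^ j)⁻¹ * ζ ^ k) ^ i := fun i => by
    rw [mul_pow, inv_pow, ← pow_mul, ← pow_mul, mul_comm i j, mul_comm i k]
  simp only [hterm]
  split_ifs with h
  · subst h
    simp [inv_mul_cancel₀ (pow_ne_zero j hζ0), inv_mul_cancel₀ hr0]
  · have hne : (ζ ^ j)⁻¹ * ζ ^ k ≠ 1 := fun e => h ((hζ.pow_inj hj hk) (inv_mul_eq_one₀ (pow_ne_zero j hζ0) |>.mp e))
    rw [geom_sum_eq hne, mul_pow, inv_pow, ← pow_mul, ← pow_mul, mul_comm j, mul_comm k, pow_mul, pow_mul,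
      hζ.pow_eq_one]
    simp

/-- The centralizer of a set of endomorphisms, as a subspace. -/
def commutant {ι : Type*} (T : ι → Module.End K U) : Submodule K (Module.End K U) where
  carrier := {f | ∀ v, T v * f = f * T v}
  add_mem' := fun {a b} ha hb v => by rw [mul_add, add_mul, ha v, hb v]
  zero_mem' := fun v => by rw [mul_zero, zero_mul]
  smul_mem' := fun c a ha v => by rw [mul_smul_comm, smul_mul_assoc, ha v]

variable [FiniteDimensional K U]

/-- Lower bound on the dimension of the commutant of a fixed-point-free element of order `r`. -/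
theorem sq_finrank_le (hr : 0 < r) (hr0 : (r : K) ≠ 0) (hζ : IsPrimitiveRoot ζ r) (hg : g ^ r = 1)
    (h0 : ∑ i ∈ Finset.range r, g ^ i = 0) :
    finrank K U ^ 2 ≤ (r - 1) * finrank K (commutant (fun _ : Unit => g)) := by
  classical
  set J := (Finset.range r).erase 0 with hJ
  set e : J → Module.End K U := fun j => proj g ζ r j.1 with he
  have hlt : ∀ j : J, (j : ℕ) < r := fun j => Finset.mem_range.mp (Finset.mem_of_mem_erase j.2)
  have hsum : ∑ j : J, e j = 1 := by
    rw [← sum_proj hr hr0 hζ (g := g), ← Finset.sum_erase_add _ _ (Finset.mem_range.mpr hr), proj_zero h0,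
      add_zero]
    exact Finset.sum_coe_sort J fun j => proj g ζ r j
  have hmul : ∀ j k : J, e j * e k = if j = k then e k else 0 := fun j k => by
    rw [he]
    simp only
    rw [proj_mul_proj hr hr0 hζ hg (hlt j) (hlt k)]
    by_cases h : j = k
    · simp [h]
    · rw [if_neg h, if_neg fun h' => h (Subtype.ext h')]
  have hid : ∀ (j : J) (u : LinearMap.range (e j)), e j u = u := by
    rintro j ⟨_, u, rfl⟩
    show (e j * e j) u = e j u
    rw [hmul, if_pos rfl]
  have hne : ∀ (j k : J), j ≠ k → ∀ u : LinearMap.range (e k), e j u = 0 := by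
    rintro j k hjk ⟨_, u, rfl⟩
    show (e j * e k) u = 0
    rw [hmul, if_neg hjk]
    rfl
  -- `U` is the direct sum of the eigenspaces
  let Φ : U →ₗ[K] (Π j : J, LinearMap.range (e j)) := LinearMap.pi fun j => (e j).rangeRestrict
  have hΦ : Function.Bijective Φ := by
    refine ⟨(injective_iff_map_eq_zero Φ).mpr fun u hu => ?_, fun c => ⟨∑ j, (c j : U), ?_⟩⟩
    · have h1 : ∀ j : J, e j u = 0 := fun j => congrArg Subtype.val (congrFun hu j)
      have h2 := LinearMap.congr_fun hsum u
      rw [LinearMap.sum_apply, Finset.sum_eq_zero fun j _ => h1 j] at h2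
      exact h2.symm
    · funext j
      refine Subtype.ext ?_
      show e j (∑ k, (c k : U)) = c j
      rw [map_sum, Finset.sum_eq_single j (fun k _ hk => hne j k (Ne.symm hk) _) (by simp)]
      exact hid j _
  have hdim : finrank K U = ∑ j : J, finrank K (LinearMap.range (e j)) := by
    rw [(LinearEquiv.ofBijective Φ hΦ).finrank_eq, Module.finrank_pi_fintype]
  -- block diagonal endomorphisms commute with `g`
  let Ψ : (Π j : J, Module.End K (LinearMap.range (e j))) →ₗ[K] Module.End K U :=
    { toFun := fun c => ∑ j, (LinearMap.range (e j)).subtype ∘ₗ (c j) ∘ₗ (e j).rangeRestrict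
      map_add' := fun a b => by
        rw [← Finset.sum_add_distrib]
        exact Finset.sum_congr rfl fun j _ => by ext u; simp
      map_smul' := fun a b => by
        rw [RingHom.id_apply, Finset.smul_sum]
        exact Finset.sum_congr rfl fun j _ => by ext u; simp }
  have hΨ : ∀ c, Ψ c ∈ commutant (fun _ : Unit => g) := by
    intro c _
    show g * _ = _ * g
    simp only [Ψ, LinearMap.coe_mk, AddHom.coe_mk]
    rw [Finset.mul_sum, Finset.sum_mul]
    refine Finset.sum_congr rfl fun j _ => ?_
    ext u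
    have hge : ∀ w : LinearMap.range (e j), g w = ζ ^ (j : ℕ) • (w : U) := by
      rintro ⟨_, w, rfl⟩
      exact LinearMap.congr_fun (mul_proj hζ.pow_eq_one hg j) w
    have hcomm : e j * g = g * e j := by
      rw [he]
      simp only [proj, smul_mul_assoc, mul_smul_comm, Finset.sum_mul, Finset.mul_sum, ← pow_succ, ← pow_succ']
    have h1 : (e j).rangeRestrict (g u) = ζ ^ (j : ℕ) • (e j).rangeRestrict u := by
      refine Subtype.ext ?_
      show (e j * g) u = _
      rw [hcomm]
      exact hge ((e j).rangeRestrict u)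
    show g _ = (LinearMap.range (e j)).subtype (c j ((e j).rangeRestrict (g u)))
    rw [h1, map_smul, map_smul]
    exact hge _
  have hΨinj : Function.Injective Ψ := by
    refine (injective_iff_map_eq_zero Ψ).mpr fun c hc => funext fun j => LinearMap.ext fun w => ?_
    refine Subtype.ext ?_
    have h1 := LinearMap.congr_fun hc (w : U)
    simp only [Ψ, LinearMap.coe_mk, AddHom.coe_mk, LinearMap.sum_apply, LinearMap.zero_apply] at h1
    rw [Finset.sum_eq_single j] at h1
    · have h2 : (e j).rangeRestrict (w : U) = w := Subtype.ext (hid j w)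
      simpa [h2] using h1
    · intro k _ hk
      have h2 : (e k).rangeRestrict (w : U) = 0 := Subtype.ext (hne k j hk w)
      simp [h2]
    · simp
  have hle : ∑ j : J, finrank K (LinearMap.range (e j)) ^ 2 ≤ finrank K (commutant (fun _ : Unit => g)) := by
    have h := LinearMap.finrank_le_finrank_of_injective
      (f := Ψ.codRestrict _ hΨ) (fun a b h => hΨinj (congrArg Subtype.val h))
    simp only [Module.finrank_pi_fintype, Module.finrank_linearMap, ← sq] at h
    exact h
  rw [hdim]
  refine le_trans sq_sum_le_card_mul_sum_sq ?_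
  refine Nat.mul_le_mul (le_of_eq ?_) hle
  rw [Finset.card_univ, Fintype.card_coe, hJ, Finset.card_erase_of_mem (Finset.mem_range.mpr hr), Finset.card_range]
  rfl

variable {Q : Type*} [Group Q] [Finite Q]

/-- The count: `r * N ≤ (r - 1) * (N + r - 1)` for `N = |Q / Z(Q)|`. -/
theorem count_le [Nontrivial U] (ρ : Q →* Module.End K U) (ω : Subgroup.center Q →* K)
    (hω : ∀ z : Subgroup.center Q, ρ z = ω z • 1) (hωinj : Function.Injective ω)
    (hcomm : commutator Q ≤ Subgroup.center Q) (hQK : (Nat.card Q : K) ≠ 0)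
    (a : MulAut Q) (haZ : ∀ z ∈ Subgroup.center Q, a z = z)
    (hr : r.Prime) (hr0 : (r : K) ≠ 0) (hζ : IsPrimitiveRoot ζ r) (har : a ^ r = 1)
    (hafix : ∀ v : Q, v⁻¹ * a v ∈ Subgroup.center Q → v ∈ Subgroup.center Q)
    (hg : g ^ r = 1) (hga : ∀ v, g * ρ v = ρ (a v) * g) (h0 : ∑ i ∈ Finset.range r, g ^ i = 0) :
    r * (Subgroup.center Q).index ≤ (r - 1) * ((Subgroup.center Q).index + (r - 1)) ∧
      r ∣ (Subgroup.center Q).index + (r - 1) := by
  classical
  have := Fintype.ofFinite Q
  set W := Q ⧸ (Subgroup.center Q) with hW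
  have := Fintype.ofFinite W
  have hinv : ∀ v, ρ v * ρ v⁻¹ = 1 := fun v => by rw [← map_mul, mul_inv_cancel, map_one]
  have hinv' : ∀ v, ρ v⁻¹ * ρ v = 1 := fun v => by rw [← map_mul, inv_mul_cancel, map_one]
  -- the commutator character
  have hcm : ∀ v x : Q, v * x * v⁻¹ * x⁻¹ ∈ (Subgroup.center Q) := fun v x =>
    hcomm (Subgroup.commutator_mem_commutator (Subgroup.mem_top v) (Subgroup.mem_top x))
  set χ : Q → Q → K := fun x v => ω ⟨v * x * v⁻¹ * x⁻¹, hcm v x⟩ with hχ
  have hconj : ∀ x v, ρ v * ρ x = χ x v • (ρ x * ρ v) := fun x v => by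
    have h : v * x = (v * x * v⁻¹ * x⁻¹) * (x * v) := by group
    rw [← map_mul, ← map_mul, h, map_mul, hω ⟨_, hcm v x⟩, smul_mul_assoc, one_mul]
  have hχ1 : ∀ x v w, χ x (v * w) = χ x v * χ x w := fun x v w => by
    rw [hχ]
    simp only
    rw [← map_mul]
    refine congrArg ω (Subtype.ext ?_)
    have h := Subgroup.mem_center_iff.mp (hcm w x) v
    show v * w * x * (v * w)⁻¹ * x⁻¹ = v * x * v⁻¹ * x⁻¹ * (w * x * w⁻¹ * x⁻¹)
    calc v * w * x * (v * w)⁻¹ * x⁻¹ = v * (w * x * w⁻¹ * x⁻¹) * (x * v⁻¹ * x⁻¹) := by group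
      _ = (w * x * w⁻¹ * x⁻¹) * v * (x * v⁻¹ * x⁻¹) := by rw [h]
      _ = (w * x * w⁻¹ * x⁻¹) * (v * x * v⁻¹ * x⁻¹) := by group
      _ = _ := (Subgroup.mem_center_iff.mp (hcm w x) _).symm
  have hχ0 : ∀ x, χ x 1 = 1 := fun x => by
    rw [hχ]; simp only; rw [← map_one ω]; exact congrArg ω (Subtype.ext (by simp))
  have hχne : ∀ x v, χ x v ≠ 0 := fun x v e => by
    have h := hχ1 x v v⁻¹
    rw [mul_inv_cancel, hχ0, e, zero_mul] at h
    exact one_ne_zero h
  have hχswap : ∀ x v, χ x v * χ v x = 1 := fun x v => by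
    rw [hχ]
    simp only
    rw [← map_mul, ← map_one ω]
    refine congrArg ω (Subtype.ext ?_)
    show v * x * v⁻¹ * x⁻¹ * (x * v * x⁻¹ * v⁻¹) = 1
    group
  -- orthogonality
  have horth : ∀ v, ∑ x : Q, (χ x v)⁻¹ = if v ∈ (Subgroup.center Q) then (Fintype.card Q : K) else 0 := by
    intro v
    have hswap : ∀ x, (χ x v)⁻¹ = χ v x := fun x =>
      inv_eq_of_mul_eq_one_right (hχswap x v)
    simp only [hswap]
    split_ifs with hv
    · have : ∀ x, χ v x = 1 := fun x => by
        rw [hχ]; simp only; rw [← map_one ω]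
        refine congrArg ω (Subtype.ext ?_)
        show x * v * x⁻¹ * v⁻¹ = 1
        rw [Subgroup.mem_center_iff.mp hv x]; group
      simp [this, Finset.card_univ]
    · obtain ⟨y, hy⟩ : ∃ y, χ v y ≠ 1 := by
        by_contra hcon
        refine hv (Subgroup.mem_center_iff.mpr fun y => ?_)
        have h : χ v y = 1 := by_contra fun h => hcon ⟨y, h⟩
        have h1 : (⟨y * v * y⁻¹ * v⁻¹, hcm y v⟩ : (Subgroup.center Q)) = 1 := hωinj (by rw [map_one]; exact h)
        have h2 : y * v * y⁻¹ * v⁻¹ = 1 := congrArg Subtype.val h1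
        exact mul_inv_eq_iff_eq_mul.mp (mul_inv_eq_one.mp h2)
      have h : χ v y * ∑ x, χ v x = ∑ x, χ v x := by
        rw [Finset.mul_sum]
        refine Fintype.sum_equiv (Equiv.mulLeft y) _ _ fun x => ?_
        rw [Equiv.coe_mulLeft, hχ1]
      by_contra hne
      exact hy (mul_right_cancel₀ hne (h.trans (one_mul _).symm))
  -- weight components
  let π : Q → Module.End K U →ₗ[K] Module.End K U := fun x =>
    { toFun := fun f => (Fintype.card Q : K)⁻¹ • ∑ v, (χ x v)⁻¹ • (ρ v * f * ρ v⁻¹)
      map_add' := fun f f' => by simp [mul_add, add_mul, smul_add, Finset.sum_add_distrib]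
      map_smul' := fun c f => by
        simp only [RingHom.id_apply, mul_smul_comm, smul_mul_assoc, Finset.smul_sum]
        exact Finset.sum_congr rfl fun v _ => by module }
  have hπ : ∀ x f, π x f = (Fintype.card Q : K)⁻¹ • ∑ v, (χ x v)⁻¹ • (ρ v * f * ρ v⁻¹) := fun _ _ => rfl
  have hQ0 : (Fintype.card Q : K) ≠ 0 := by rwa [← Nat.card_eq_fintype_card]
  have hcompl : ∀ f, ∑ x, π x f = (Fintype.card (Subgroup.center Q) : K) • f := by
    intro f
    simp only [hπ, ← Finset.smul_sum]
    rw [Finset.sum_comm]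
    simp only [← Finset.sum_smul, horth, ite_smul, zero_smul]
    rw [← Finset.sum_filter]
    have : ∀ v ∈ Finset.univ.filter (fun v => v ∈ (Subgroup.center Q)), (Fintype.card Q : K) • (ρ v * f * ρ v⁻¹) =
        (Fintype.card Q : K) • f := fun v hv => by
      have hv' := (Finset.mem_filter.mp hv).2
      have hcc : ρ v * f = f * ρ v := by rw [hω ⟨v, hv'⟩, smul_mul_assoc, one_mul, mul_smul_comm, mul_one]
      rw [hcc, mul_assoc, hinv, mul_one]
    rw [Finset.sum_congr rfl this, Finset.sum_const, ← Fintype.card_subtype, ← Nat.cast_smul_eq_nsmul K,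
      smul_smul, smul_smul]
    congr 1
    field_simp
  have heig : ∀ x f u, ρ u * π x f * ρ u⁻¹ = χ x u • π x f := by
    intro x f u
    simp only [hπ, mul_smul_comm, smul_mul_assoc, Finset.mul_sum, Finset.sum_mul, smul_comm (χ x u)]
    congr 1
    rw [Finset.smul_sum]
    refine Fintype.sum_equiv (Equiv.mulLeft u) _ _ fun v => ?_
    rw [Equiv.coe_mulLeft, hχ1, mul_inv, smul_smul, mul_inv_cancel_left₀ (hχne x u),
      mul_inv_rev, map_mul, map_mul]
    simp only [mul_assoc]
  have hc_mem : ∀ x f, ρ x⁻¹ * π x f ∈ commutant (fun v => ρ v) := by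
    intro x f v
    show ρ v * _ = _ * ρ v
    have h1 : ρ v * π x f = χ x v • (π x f * ρ v) := by
      rw [← smul_mul_assoc, ← heig, mul_assoc _ (ρ v⁻¹), hinv', mul_one]
    have h2 : ρ v * ρ x⁻¹ = (χ x v)⁻¹ • (ρ x⁻¹ * ρ v) := by
      have h := hconj x v
      have h' : ρ x⁻¹ * ρ v = χ x v • (ρ v * ρ x⁻¹) := by
        calc ρ x⁻¹ * ρ v = ρ x⁻¹ * (ρ v * ρ x) * ρ x⁻¹ := by
              rw [mul_assoc, mul_assoc (ρ v), hinv, mul_one]
          _ = _ := by rw [h, mul_smul_comm, smul_mul_assoc, ← mul_assoc (ρ x⁻¹), hinv', one_mul]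
      rw [h', smul_smul, inv_mul_cancel₀ (hχne x v), one_smul]
    rw [← mul_assoc, h2, smul_mul_assoc, mul_assoc, h1, mul_smul_comm, smul_smul,
      inv_mul_cancel₀ (hχne x v), one_smul, mul_assoc]
  have hχZ : ∀ x y : Q, x⁻¹ * y ∈ (Subgroup.center Q) → χ x = χ y := by
    intro x y h
    funext v
    rw [hχ]
    simp only
    refine congrArg ω (Subtype.ext ?_)
    show v * x * v⁻¹ * x⁻¹ = v * y * v⁻¹ * y⁻¹
    have hz := Subgroup.mem_center_iff.mp h
    calc v * x * v⁻¹ * x⁻¹ = v * x * v⁻¹ * ((x⁻¹ * y) * (x⁻¹ * y)⁻¹) * x⁻¹ := by group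
      _ = v * x * (v⁻¹ * (x⁻¹ * y)) * (x⁻¹ * y)⁻¹ * x⁻¹ := by group
      _ = v * x * ((x⁻¹ * y) * v⁻¹) * (x⁻¹ * y)⁻¹ * x⁻¹ := by rw [hz]
      _ = _ := by group
  set C := commutant (fun v => ρ v) with hC
  -- lower bound
  have hlow : (Subgroup.center Q).index * finrank K C ≤ finrank K U ^ 2 := by
    let Φ : (W → C) →ₗ[K] Module.End K U :=
      { toFun := fun c => ∑ w, ρ w.out * (c w : Module.End K U)
        map_add' := fun a b => by simp [mul_add, Finset.sum_add_distrib]
        map_smul' := fun a b => by simp [Finset.smul_sum] }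
    have hΦ : Function.Injective Φ := by
      refine (injective_iff_map_eq_zero Φ).mpr fun c hc => funext fun w₀ => ?_
      have h1 : π w₀.out (Φ c) = ρ w₀.out * (c w₀ : Module.End K U) := by
        show π w₀.out (∑ w, ρ w.out * (c w : Module.End K U)) = _
        rw [map_sum, Finset.sum_eq_single w₀]
        · rw [hπ]
          have : ∀ v, (χ w₀.out v)⁻¹ • (ρ v * (ρ w₀.out * (c w₀ : Module.End K U)) * ρ v⁻¹) =
              ρ w₀.out * (c w₀ : Module.End K U) := fun v => by
            rw [← mul_assoc, hconj, smul_mul_assoc, smul_mul_assoc, smul_smul, inv_mul_cancel₀ (hχne _ _),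
              one_smul, mul_assoc (ρ _) (ρ v), (c w₀).2 v, mul_assoc, mul_assoc, hinv, mul_one]
          rw [Finset.sum_congr rfl fun v _ => this v, Finset.sum_const, Finset.card_univ,
            ← Nat.cast_smul_eq_nsmul K, smul_smul, inv_mul_cancel₀ hQ0, one_smul]
        · intro w _ hw
          rw [hπ]
          have : ∀ v, (χ w₀.out v)⁻¹ • (ρ v * (ρ w.out * (c w : Module.End K U)) * ρ v⁻¹) =
              ((χ w₀.out v)⁻¹ * χ w.out v) • (ρ w.out * (c w : Module.End K U)) := fun v => by
            rw [← mul_assoc, hconj, smul_mul_assoc, smul_mul_assoc, smul_smul,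
              mul_assoc (ρ _) (ρ v), (c w).2 v, mul_assoc, mul_assoc, hinv, mul_one]
          rw [Finset.sum_congr rfl fun v _ => this v, ← Finset.sum_smul]
          have hz : ∑ v, (χ w₀.out v)⁻¹ * χ w.out v = 0 := by
            obtain ⟨y, hy⟩ : ∃ y, (χ w₀.out y)⁻¹ * χ w.out y ≠ 1 := by
              by_contra hcon
              refine hw ?_
              have hall : ∀ y, χ w₀.out y = χ w.out y := fun y =>
                (inv_mul_eq_one₀ (hχne _ _)).mp (by_contra fun h => hcon ⟨y, h⟩)
              rw [← QuotientGroup.out_eq' w, ← QuotientGroup.out_eq' w₀, QuotientGroup.eq,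
                Subgroup.mem_center_iff]
              intro y
              have h := hωinj (hall y)
              have h' : y * w₀.out * y⁻¹ * w₀.out⁻¹ = y * w.out * y⁻¹ * w.out⁻¹ := congrArg Subtype.val h
              have h2 := Subgroup.mem_center_iff.mp (hcm y w.out)
              have e1 : y * w₀.out * y⁻¹ = (y * w.out * y⁻¹ * w.out⁻¹) * w₀.out := by rw [← h']; group
              have e2 : y * w.out⁻¹ * y⁻¹ = w.out⁻¹ * (y * w.out * y⁻¹ * w.out⁻¹)⁻¹ := by group
              have e3 : y * (w.out⁻¹ * w₀.out) * y⁻¹ = w.out⁻¹ * w₀.out := by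
                calc y * (w.out⁻¹ * w₀.out) * y⁻¹ = (y * w.out⁻¹ * y⁻¹) * (y * w₀.out * y⁻¹) := by group
                  _ = _ := by rw [e1, e2]; group
              exact mul_inv_eq_iff_eq_mul.mp e3
            have h : ((χ w₀.out y)⁻¹ * χ w.out y) * ∑ v, (χ w₀.out v)⁻¹ * χ w.out v =
                ∑ v, (χ w₀.out v)⁻¹ * χ w.out v := by
              rw [Finset.mul_sum]
              refine Fintype.sum_equiv (Equiv.mulLeft y) _ _ fun v => ?_
              rw [Equiv.coe_mulLeft, hχ1, hχ1]
              ring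
            by_contra hne
            exact hy (mul_right_cancel₀ hne (h.trans (one_mul _).symm))
          rw [hz, zero_smul, smul_zero]
        · simp
      rw [hc, map_zero] at h1
      refine Subtype.ext ?_
      calc (c w₀ : Module.End K U) = ρ w₀.out⁻¹ * (ρ w₀.out * c w₀) := by rw [← mul_assoc, hinv', one_mul]
        _ = 0 := by rw [← h1, mul_zero]
    have h := LinearMap.finrank_le_finrank_of_injective hΦ
    rw [Module.finrank_pi_fintype, Finset.sum_const, Finset.card_univ, Module.finrank_linearMap] at h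
    rw [Subgroup.index_eq_card, Nat.card_eq_fintype_card, sq]
    simpa using h
  -- the action of `a` on `W`
  have hχa : ∀ x v, χ (a x) (a v) = χ x v := fun x v => by
    rw [hχ]
    simp only
    refine congrArg ω (Subtype.ext ?_)
    show a v * a x * (a v)⁻¹ * (a x)⁻¹ = v * x * v⁻¹ * x⁻¹
    rw [← map_inv, ← map_inv, ← map_mul, ← map_mul, ← map_mul]
    exact haZ _ (hcm v x)
  have hga' : ∀ x f, g * f = f * g → g * π x f = π (a x) f * g := by
    intro x f hf
    simp only [hπ, mul_smul_comm, smul_mul_assoc, Finset.mul_sum, Finset.sum_mul]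
    congr 1
    refine Fintype.sum_equiv a.toEquiv _ _ fun v => ?_
    show _ = (χ (a x) (a v))⁻¹ • (ρ (a v) * f * ρ (a v)⁻¹ * g)
    rw [hχa, ← map_inv a, mul_assoc _ (ρ (a v⁻¹)), ← hga, ← mul_assoc, ← mul_assoc, hga]
    congr 1
    simp only [mul_assoc]
    rw [← mul_assoc g f, hf, mul_assoc]
  set σ : Equiv.Perm W := (QuotientGroup.congr (Subgroup.center Q) (Subgroup.center Q) a (by
    refine le_antisymm ?_ fun z hz => ⟨z, hz, haZ z hz⟩
    rintro _ ⟨z, hz, rfl⟩
    exact (haZ z hz).symm ▸ hz)).toEquiv with hσ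
  have hσmk : ∀ x : Q, σ (QuotientGroup.mk x) = QuotientGroup.mk (a x) := fun x => rfl
  have hσr : σ ^ r = 1 := by
    have h : ∀ (n : ℕ) (x : Q), (σ ^ n) (QuotientGroup.mk x) = QuotientGroup.mk ((a ^ n) x) := by
      intro n
      induction n with
      | zero => intro x; rfl
      | succ n ih =>
        intro x
        rw [pow_succ', pow_succ', Equiv.Perm.mul_apply, ih, hσmk, MulAut.mul_apply]
    refine Equiv.ext fun w => ?_
    induction w using QuotientGroup.induction_on with
    | _ x => rw [h, har]; rfl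
  have := Fintype.ofFinite (Quotient (MulAction.orbitRel (Subgroup.zpowers σ) W))
  set O := Fintype.card (Quotient (MulAction.orbitRel (Subgroup.zpowers σ) W)) with hO
  -- upper bound
  have hup : finrank K (commutant (fun _ : Unit => g)) ≤ O * finrank K C := by
    let Θ : commutant (fun _ : Unit => g) →ₗ[K] (Quotient (MulAction.orbitRel (Subgroup.zpowers σ) W) → C) :=
      { toFun := fun f o => ⟨ρ o.out.out⁻¹ * π o.out.out f, hc_mem _ _⟩
        map_add' := fun f f' => funext fun o => Subtype.ext (by simp [mul_add])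
        map_smul' := fun c f => funext fun o => Subtype.ext (by simp) }
    have hΘ : Function.Injective Θ := by
      refine (injective_iff_map_eq_zero Θ).mpr fun f hf => Subtype.ext ?_
      have hcong : ∀ x y : Q, (QuotientGroup.mk x : W) = QuotientGroup.mk y →
          π x (f : Module.End K U) = π y f := fun x y h => by
        rw [hπ, hπ, hχZ x y (QuotientGroup.eq.mp h)]
      have hrep : ∀ w : W, π w.out (f : Module.End K U) = 0 := by
        intro w
        set o : Quotient (MulAction.orbitRel (Subgroup.zpowers σ) W) := Quotient.mk'' w with ho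
        obtain ⟨⟨s, hs⟩, e⟩ : w ∈ MulAction.orbit (Subgroup.zpowers σ) o.out :=
          MulAction.orbitRel_apply.mp (Quotient.exact (Quotient.out_eq o).symm)
        obtain ⟨n, rfl⟩ := (isOfFinOrder_of_finite σ).mem_zpowers_iff_mem_range_orderOf.mp hs |> Finset.mem_image.mp
          |>.imp fun n hn => hn.2
        have h0' : ρ o.out.out⁻¹ * π o.out.out (f : Module.End K U) = 0 :=
          congrArg Subtype.val (congrFun hf o)
        have h1 : π o.out.out (f : Module.End K U) = 0 := by
          calc π o.out.out (f : Module.End K U) = ρ o.out.out * (ρ o.out.out⁻¹ * π o.out.out f) := by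
                rw [← mul_assoc, hinv, one_mul]
            _ = 0 := by rw [h0', mul_zero]
        have h2 : ∀ m, π ((σ ^ m) o.out).out (f : Module.End K U) = 0 := by
          intro m
          induction m with
          | zero => exact h1
          | succ m ih =>
            rw [pow_succ', Equiv.Perm.mul_apply, hcong _ (a ((σ ^ m) o.out).out) (by
              rw [QuotientGroup.out_eq', ← hσmk, QuotientGroup.out_eq'])]
            have hgr : g * g ^ (r - 1) = 1 := by
              rw [← pow_succ', Nat.sub_add_cancel hr.one_le, hg]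
            have h3 := hga' ((σ ^ m) o.out).out f (f.2 ())
            rw [ih, mul_zero] at h3
            calc π (a ((σ ^ m) o.out).out) (f : Module.End K U)
                = π (a ((σ ^ m) o.out).out) f * g * g ^ (r - 1) := by rw [mul_assoc, hgr, mul_one]
              _ = 0 := by rw [← h3, zero_mul]
        have h2' := h2 n
        rwa [show (σ ^ n) o.out = w from e] at h2'
      have hall : ∀ x : Q, π x (f : Module.End K U) = 0 := fun x => by
        rw [hcong x (QuotientGroup.mk x : W).out (QuotientGroup.out_eq' _).symm]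
        exact hrep _
      have h := hcompl (f : Module.End K U)
      rw [Finset.sum_eq_zero fun x _ => hall x] at h
      refine (smul_eq_zero.mp h.symm).resolve_left ?_
      intro e
      refine hQK ?_
      rw [Subgroup.card_eq_card_quotient_mul_card_subgroup (Subgroup.center Q), Nat.cast_mul, Nat.card_eq_fintype_card (α := (Subgroup.center Q)), e,
        mul_zero]
    have h := LinearMap.finrank_le_finrank_of_injective hΘ
    rw [Module.finrank_pi_fintype, Finset.sum_const, Finset.card_univ, smul_eq_mul] at h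
    exact h
  -- counting orbits
  have horb : r * O = (Subgroup.center Q).index + (r - 1) := by
    have hsz : ∀ o : Quotient (MulAction.orbitRel (Subgroup.zpowers σ) W),
        Nat.card (MulAction.orbit (Subgroup.zpowers σ) o.out) =
          if o = Quotient.mk'' (1 : W) then 1 else r := by
      intro o
      have hd : Nat.card (MulAction.orbit (Subgroup.zpowers σ) o.out) ∣ r := by
        refine (Dvd.intro (Nat.card (MulAction.stabilizer (Subgroup.zpowers σ) o.out)) ?_).trans
          (orderOf_dvd_of_pow_eq_one hσr)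
        rw [← Nat.card_prod, Nat.card_congr (MulAction.orbitProdStabilizerEquivGroup _ _), Nat.card_zpowers]
      have h1 : ∀ z ∈ MulAction.orbit (Subgroup.zpowers σ) (1 : W), z = 1 := by
        rintro _ ⟨⟨s, hs⟩, rfl⟩
        have hσ1 : σ 1 = 1 := map_one (QuotientGroup.congr (Subgroup.center Q) (Subgroup.center Q) a _)
        obtain ⟨n, rfl⟩ := Subgroup.mem_zpowers_iff.mp hs
        exact Equiv.Perm.zpow_apply_eq_self_of_apply_eq_self hσ1 n
      split_ifs with ho
      · subst ho
        rw [MulAction.orbit_eq_iff.mpr (MulAction.orbitRel_apply.mp (Quotient.exact (Quotient.out_eq _)))]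
        have : MulAction.orbit (Subgroup.zpowers σ) (1 : W) = {1} :=
          Set.eq_singleton_iff_unique_mem.mpr ⟨MulAction.mem_orbit_self _, h1⟩
        rw [this]
        simp
      · refine ((Nat.dvd_prime hr).mp hd).resolve_left fun h => ho ?_
        have hmem : σ o.out ∈ MulAction.orbit (Subgroup.zpowers σ) o.out :=
          ⟨⟨σ, Subgroup.mem_zpowers σ⟩, rfl⟩
        have hsub := (Nat.card_eq_one_iff_unique.mp h).1
        have hfix : σ o.out = o.out :=
          congrArg Subtype.val (hsub.elim ⟨_, hmem⟩ ⟨_, MulAction.mem_orbit_self _⟩)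
        rw [← Quotient.out_eq o]
        refine congrArg Quotient.mk'' ?_
        rw [← QuotientGroup.out_eq' o.out]
        refine (QuotientGroup.eq_one_iff _).mpr (hafix _ (QuotientGroup.eq.mp ?_))
        rw [← hσmk, QuotientGroup.out_eq', hfix]
    have h := Nat.card_congr (MulAction.selfEquivSigmaOrbits (Subgroup.zpowers σ) W)
    rw [Nat.card_sigma, Finset.sum_congr rfl fun o _ => hsz o, Finset.sum_ite, Finset.sum_const,
      Finset.sum_const, Finset.filter_eq', if_pos (Finset.mem_univ _), Finset.card_singleton,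
      Finset.filter_ne', Finset.card_erase_of_mem (Finset.mem_univ _), Finset.card_univ, ← hO] at h
    rw [Subgroup.index_eq_card, h]
    have hO1 : 0 < O := Fintype.card_pos_iff.mpr ⟨Quotient.mk'' (1 : W)⟩
    simp only [smul_eq_mul, mul_one]
    obtain ⟨O', hO'⟩ := Nat.exists_eq_add_of_le hO1
    have := hr.one_le
    rw [hO', Nat.succ_eq_add_one, zero_add]
    rw [show 1 + O' - 1 = O' by omega, mul_add, mul_one, mul_comm O' r]
    omega
  have hcpos : 0 < finrank K C := by
    refine Module.finrank_pos_iff_exists_ne_zero.mpr ⟨⟨1, fun v => by rw [mul_one, one_mul]⟩, ?_⟩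
    intro h
    obtain ⟨u, hu⟩ := exists_ne (0 : U)
    exact hu (LinearMap.congr_fun (congrArg Subtype.val h) u)
  have h := hlow.trans ((sq_finrank_le hr.pos hr0 hζ hg h0).trans (Nat.mul_le_mul_left _ hup))
  rw [← mul_assoc] at h
  have h' := Nat.le_of_mul_le_mul_right h hcpos
  refine ⟨?_, Dvd.intro O horb⟩
  calc r * (Subgroup.center Q).index ≤ r * ((r - 1) * O) := Nat.mul_le_mul_left _ h'
    _ = (r - 1) * (r * O) := by ring
    _ = _ := by rw [horb]

end Cfsg.Agent.OddLocal.ExtraspecialCount
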