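import Cfsg.Agent.OddLocal.ZGroupCore
import Cfsg.Agent.Lib.Coprime.Generation

/-! An element of prime order without fixed points on a module: commutators with it act trivially
(the odd order case of the Hall--Higman theorem), and consequences for solvable groups. -/

set_option autoImplicit false

namespace Cfsg.Agent.OddLocal.FPFAction

open Cfsg Subgroup
open scoped commutatorElement

universe u

variable {G : Type u} [Group G] [Finite G] {p q r : ℕ}

/-- The hypotheses. -/
structure Hyp (p q r : ℕ) (V Q X : Subgroup G) : Prop where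
  hp : p.Prime
  hq : q.Prime
  hr : r.Prime
  hpq : p ≠ q
  hpr : p ≠ r
  hqr : q ≠ r
  hq2 : q ≠ 2
  hV : IsElementaryAbelian p V
  hQ : IsPGroup q Q
  hX : Nat.card X = r
  hXQ : X ≤ normalizer (Q : Set G)
  hQV : Q ≤ normalizer (V : Set G)
  hXV : X ≤ normalizer (V : Set G)
  hC : V ⊓ centralizer (X : Set G) = ⊥

/-- The induction hypothesis, for all groups at once. -/
def IH (p q r n : ℕ) : Prop :=
  ∀ {G : Type u} [Group G] [Finite G] (V Q X : Subgroup G), Hyp p q r V Q X →
    Nat.card V * Nat.card Q < n → ⁅Q, X⁆ ≤ centralizer (V : Set G)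

theorem Hyp.mono {V Q X V₀ Q₀ : Subgroup G} (h : Hyp p q r V Q X) (hV : V₀ ≤ V) (hQ : Q₀ ≤ Q)
    (hXQ : X ≤ normalizer (Q₀ : Set G)) (hQV : Q₀ ≤ normalizer (V₀ : Set G))
    (hXV : X ≤ normalizer (V₀ : Set G)) : Hyp p q r V₀ Q₀ X :=
  { h with
    hV := Components.Hyperplane.isElementaryAbelian_of_le h.hV hV
    hQ := h.hQ.to_le hQ
    hXQ := hXQ
    hQV := hQV
    hXV := hXV
    hC := le_bot_iff.mp ((inf_le_inf_right _ hV).trans h.hC.le) }

theorem Hyp.coprimeXQ {V Q X : Subgroup G} (h : Hyp p q r V Q X) :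
    (Nat.card X).Coprime (Nat.card Q) := by
  have := Fact.mk h.hq
  obtain ⟨k, hk⟩ := h.hQ.exists_card_eq
  rw [h.hX, hk]
  exact ((Nat.coprime_primes h.hr h.hq).mpr (Ne.symm h.hqr)).pow_right k

theorem Hyp.coprimeQV {V Q X : Subgroup G} (h : Hyp p q r V Q X) :
    (Nat.card Q).Coprime (Nat.card V) := by
  have := Fact.mk h.hp
  have := Fact.mk h.hq
  obtain ⟨k, hk⟩ := h.hQ.exists_card_eq
  obtain ⟨m, hm⟩ := (Components.Hyperplane.isPGroup h.hV).exists_card_eq
  rw [hk, hm]
  exact ((Nat.coprime_primes h.hq h.hp).mpr (Ne.symm h.hpq)).pow k m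

theorem Hyp.isSolvableX {V Q X : Subgroup G} (h : Hyp p q r V Q X) : Group.IsSolvable X := by
  have := Fact.mk h.hr
  exact Coprime.isSolvable_of_isPGroup (IsPGroup.of_card (p := r) (n := 1) (by rw [h.hX, pow_one]))

/-- Pass to the semidirect product with the automorphism group of `V`. -/
theorem of_not_faithful {n : ℕ} (ih : IH.{u} p q r n) {V Q X : Subgroup G} (h : Hyp p q r V Q X)
    (hn : Nat.card V * Nat.card Q ≤ n) (hne : Q ⊓ centralizer (V : Set G) ≠ ⊥) :
    ⁅Q, X⁆ ≤ centralizer (V : Set G) := by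
  have := Fact.mk h.hr
  have := Fact.mk h.hq
  set N := normalizer (V : Set G) with hN
  let G' := SemidirectProduct V (MulAut V) (MonoidHom.id _)
  have hfin : Finite G' := Finite.of_equiv _ SemidirectProduct.equivProd.symm
  let g : N →* MulAut V := V.normalizerMonoidHom
  let ψ : N →* G' := (SemidirectProduct.inr).comp g
  let V' : Subgroup G' := (⊤ : Subgroup V).map SemidirectProduct.inl
  let Q' : Subgroup G' := (Q.subgroupOf N).map ψ
  let X' : Subgroup G' := (X.subgroupOf N).map ψ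
  have hconj : ∀ (a : N) (v : V), ψ a * SemidirectProduct.inl v * (ψ a)⁻¹ = SemidirectProduct.inl (g a v) :=
    fun a v => by
      show SemidirectProduct.inr (g a) * _ * (SemidirectProduct.inr (g a))⁻¹ = _
      rw [← map_inv]
      exact (SemidirectProduct.inl_aut (g a) v).symm
  have hg : ∀ (a : N) (v : V), (g a v : G) = a * v * (a : G)⁻¹ := fun a v => rfl
  have hcen : ∀ a : N, ψ a ∈ centralizer (V' : Set G') ↔ (a : G) ∈ centralizer (V : Set G) := by
    intro a
    constructor
    · intro ha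
      refine mem_centralizer_iff.mpr fun v hv => ?_
      have h1 := mem_centralizer_iff.mp ha _ (mem_map_of_mem (SemidirectProduct.inl (φ := MonoidHom.id (MulAut V))) (mem_top (⟨v, hv⟩ : V)))
      have h2 := hconj a ⟨v, hv⟩
      rw [← h1, mul_inv_cancel_right] at h2
      have h3 := congrArg Subtype.val (SemidirectProduct.inl_injective h2)
      rw [hg] at h3
      exact eq_mul_inv_iff_mul_eq.mp h3
    · intro ha
      refine mem_centralizer_iff.mpr ?_
      rintro _ ⟨v, -, rfl⟩
      have h2 := hconj a v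
      rw [show g a v = v from Subtype.ext (by
        rw [hg, ← mem_centralizer_iff.mp ha v v.2, mul_inv_cancel_right])] at h2
      exact (mul_inv_eq_iff_eq_mul.mp h2).symm
  have hnorm : ∀ a : N, ψ a ∈ normalizer (V' : Set G') := by
    intro a
    refine mem_normalizer_fintype ?_
    rintro _ ⟨v, -, rfl⟩
    exact ⟨g a v, mem_top _, (hconj a v).symm⟩
  have hQN : Q ≤ N := h.hQV
  have hXN : X ≤ N := h.hXV
  by_cases hXc : X ≤ centralizer (V : Set G)
  · rw [commutator_le]
    intro a ha b hb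
    have hV0 : V = ⊥ := le_bot_iff.mp ((le_inf le_rfl (le_centralizer_iff.mp hXc)).trans h.hC.le)
    refine mem_centralizer_iff.mpr fun v hv => ?_
    rw [hV0, SetLike.mem_coe, mem_bot] at hv
    rw [hv, one_mul, mul_one]
  have hX' : Nat.card X' = r := by
    have h1 : Nat.card X' ∣ r := by
      refine (card_map_dvd _ _).trans (dvd_of_eq ?_)
      rw [Nat.card_congr (subgroupOfEquivOfLe hXN).toEquiv, h.hX]
    refine ((Nat.dvd_prime h.hr).mp h1).resolve_left fun e => hXc fun x hx => ?_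
    refine (hcen ⟨x, hXN hx⟩).mp ?_
    have h2 : ψ ⟨x, hXN hx⟩ ∈ X' := mem_map_of_mem _ hx
    rw [card_eq_one.mp e, mem_bot] at h2
    rw [h2]
    exact one_mem _
  have hQ' : Nat.card Q' < Nat.card Q := by
    obtain ⟨y, hy, hy1⟩ := (bot_or_exists_ne_one _).resolve_left hne
    obtain ⟨hyQ, hyC⟩ := mem_inf.mp hy
    rw [← Nat.card_congr (subgroupOfEquivOfLe hQN).toEquiv]
    refine lt_of_le_of_ne (Nat.card_le_card_of_surjective _ (ψ.subgroupMap_surjective (Q.subgroupOf N)))
      fun heq => hy1 ?_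
    have hinj : Function.Injective (ψ.subgroupMap (Q.subgroupOf N)) :=
      ((Nat.bijective_iff_surjective_and_card _).mpr ⟨ψ.subgroupMap_surjective (Q.subgroupOf N), heq.symm⟩).1
    have hk : ψ ⟨y, hQN hyQ⟩ = 1 := by
      have hg1 : g ⟨y, hQN hyQ⟩ = 1 := MulEquiv.ext fun v => Subtype.ext (by
        rw [hg, MulAut.one_apply]
        rw [← mem_centralizer_iff.mp hyC v v.2, mul_inv_cancel_right])
      show SemidirectProduct.inr (g _) = 1
      rw [hg1, map_one]
    have h3 := @hinj ⟨⟨y, hQN hyQ⟩, hyQ⟩ 1 (Subtype.ext (hk.trans (map_one ψ).symm))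
    exact congrArg Subtype.val (congrArg Subtype.val h3)
  have hV' : Nat.card V' = Nat.card V := by
    rw [card_map_of_injective SemidirectProduct.inl_injective, card_top]
  have hXQ' : X' ≤ normalizer (Q' : Set G') := by
    rintro _ ⟨a, ha, rfl⟩
    refine le_normalizer_map ψ ⟨a, ?_, rfl⟩
    refine mem_normalizer_fintype fun z hz => ?_
    exact (mem_normalizer_iff.mp (h.hXQ ha) (z : G)).mp hz
  have hQV' : Q' ≤ normalizer (V' : Set G') := by rintro _ ⟨a, -, rfl⟩; exact hnorm a
  have hXV' : X' ≤ normalizer (V' : Set G') := by rintro _ ⟨a, -, rfl⟩; exact hnorm a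
  have hVel : IsElementaryAbelian p V' := by
    refine ⟨⟨⟨?_⟩⟩, ?_⟩
    · rintro ⟨_, v, -, rfl⟩ ⟨_, w, -, rfl⟩
      apply Subtype.ext
      simp only [Subgroup.coe_mul]
      rw [← map_mul, ← map_mul, h.hV.1.is_comm.comm v w]
    · rintro _ ⟨v, -, rfl⟩
      rw [← map_pow, show v ^ p = 1 from Subtype.ext (h.hV.2 _ v.2), map_one]
  have hC' : V' ⊓ centralizer (X' : Set G') = ⊥ := by
    rw [eq_bot_iff]
    rintro _ ⟨⟨v, -, rfl⟩, hv⟩
    rw [mem_bot, show v = 1 from ?_, map_one]
    have h1 : (v : G) ∈ V ⊓ centralizer (X : Set G) := mem_inf.mpr ⟨v.2, mem_centralizer_iff.mpr fun x hx => by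
      have h2 := mem_centralizer_iff.mp hv _ (mem_map_of_mem ψ (show (⟨x, hXN hx⟩ : N) ∈ X.subgroupOf N from hx))
      have h3 := hconj ⟨x, hXN hx⟩ v
      rw [h2, mul_inv_cancel_right] at h3
      have h4 := congrArg Subtype.val (SemidirectProduct.inl_injective h3)
      rw [hg] at h4
      exact (eq_mul_inv_iff_mul_eq.mp h4).symm⟩
    rw [h.hC, mem_bot] at h1
    exact Subtype.ext h1
  have := ih V' Q' X' { h with
    hV := hVel
    hQ := h.hQ.comap_subtype.map ψ
    hX := hX'
    hXQ := hXQ'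
    hQV := hQV'
    hXV := hXV'
    hC := hC' } (by
      rw [hV']
      exact lt_of_lt_of_le (Nat.mul_lt_mul_of_pos_left hQ' Nat.card_pos) hn)
  rw [commutator_le] at this ⊢
  intro a ha b hb
  have h2 := this _ (mem_map_of_mem ψ (show (⟨a, hQN ha⟩ : N) ∈ Q.subgroupOf N from ha)) _
    (mem_map_of_mem ψ (show (⟨b, hXN hb⟩ : N) ∈ X.subgroupOf N from hb))
  rw [← map_commutatorElement] at h2
  exact (hcen _).mp h2

/-- One step: `V` is faithful for `Q`. -/
theorem faithful_step {n : ℕ} (ih : IH.{u} p q r n) {V Q X : Subgroup G} (h : Hyp p q r V Q X)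
    (hn : Nat.card V * Nat.card Q ≤ n) (hf : Q ⊓ centralizer (V : Set G) = ⊥) :
    ⁅Q, X⁆ ≤ centralizer (V : Set G) := by
  classical
  have hp := h.hp
  have hq := h.hq
  have := Fact.mk h.hp
  have := Fact.mk h.hq
  have := Fact.mk h.hr
  have := h.hV.1
  have hXs := h.isSolvableX
  have hcXQ := h.coprimeXQ
  have hQn := h.hQ.isNilpotent
  have hQs : Group.IsSolvable Q := Coprime.isSolvable_of_isPGroup h.hQ
  have hTQ : ⁅Q, X⁆ ≤ Q := Coprime.commutator_le_of_le_normalizer h.hXQ
  have hlt : ∀ {A B : Subgroup G}, A ≤ B → A ≠ B → Nat.card A < Nat.card B := fun hle hne =>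
    lt_of_le_of_ne (card_le_of_le hle) fun e => hne (eq_of_le_of_card_ge hle e.ge)
  have hsub : ∀ Q₀ : Subgroup G, Q₀ ≤ Q → Q₀ ≠ Q → X ≤ normalizer (Q₀ : Set G) →
      X ≤ centralizer (Q₀ : Set G) := by
    intro Q₀ hle hne hX₀
    refine Coprime.commutator_eq_bot_iff_le_centralizer'.mp (le_bot_iff.mp ?_)
    rw [← hf]
    refine le_inf ((Coprime.commutator_le_of_le_normalizer hX₀).trans hle) ?_
    exact ih V Q₀ X (h.mono le_rfl hle hX₀ (hle.trans h.hQV) h.hXV)
      (lt_of_lt_of_le (Nat.mul_lt_mul_of_pos_left (hlt hle hne) Nat.card_pos) hn)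
  -- `Q = [Q, X]`
  by_cases hQX : ⁅Q, X⁆ = Q
  swap
  · have h1 := hsub _ hTQ hQX (normalizer_commutator_ge_right Q X)
    have h2 : ⁅⁅Q, X⁆, X⁆ = ⊥ := Coprime.commutator_eq_bot_iff_le_centralizer'.mpr h1
    rw [Coprime.commutator_commutator_eq h.hXQ hcXQ (Or.inl hXs)] at h2
    rw [h2]; exact bot_le
  by_cases hQ0 : Q = ⊥
  · rw [hQX, hQ0]; exact bot_le
  exfalso
  -- nontrivial invariant subgroups act without fixed points
  have hsplit : ∀ S : Subgroup G, S ≤ Q → S ≠ ⊥ → Q ≤ normalizer (S : Set G) → X ≤ normalizer (S : Set G) →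
      V ⊓ centralizer (S : Set G) = ⊥ := by
    intro S hSQ hS0 hQS hXS
    by_contra hW
    set W := V ⊓ centralizer (S : Set G) with hWdef
    set V' := ⁅V, S⁆ with hV'
    have hSV : S ≤ normalizer (V : Set G) := hSQ.trans h.hQV
    have hV'V : V' ≤ V := Coprime.commutator_le_of_le_normalizer hSV
    have hcSV : (Nat.card S).Coprime (Nat.card V) := h.coprimeQV.coprime_dvd_left (card_dvd_of_le hSQ)
    have hN : ∀ {A : Subgroup G}, A ≤ normalizer (V : Set G) → A ≤ normalizer (S : Set G) →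
        A ≤ normalizer (W : Set G) ∧ A ≤ normalizer (V' : Set G) := fun hAV hAS =>
      ⟨le_trans (le_inf hAV (hAS.trans (CharP.normalizer_le_normalizer_centralizer S)))
          inf_normalizer_le_normalizer_inf,
        fun a ha => Coprime.FrobeniusPGroup.mem_normalizer_commutator (hAV ha) (hAS ha)⟩
    have hWV : W ≠ V := fun e => hS0 (le_bot_iff.mp (hf ▸ le_inf hSQ
      (le_centralizer_iff.mp (inf_eq_left.mp e))))
    have hV'ne : V' ≠ V := by
      intro e
      have h1 := Coprime.inf_centralizer_inf_commutator hSV hcSV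
      rw [← hV', e, ← hWdef, inf_eq_left.mpr (inf_le_left : W ≤ V)] at h1
      exact hW h1
    have hcase : ∀ V₀ : Subgroup G, V₀ ≤ V → V₀ ≠ V → Q ≤ normalizer (V₀ : Set G) →
        X ≤ normalizer (V₀ : Set G) → Q ≤ centralizer (V₀ : Set G) := by
      intro V₀ hle hne hQ₀ hX₀
      have h1 := ih V₀ Q X (h.mono hle le_rfl h.hXQ hQ₀ hX₀)
        (lt_of_lt_of_le (Nat.mul_lt_mul_of_pos_right (hlt hle hne) Nat.card_pos) hn)
      rwa [hQX] at h1
    have h1 := hcase W inf_le_left hWV (hN h.hQV hQS).1 (hN h.hXV hXS).1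
    have h2 := hcase V' hV'V hV'ne (hN h.hQV hQS).2 (hN h.hXV hXS).2
    refine hQ0 (le_bot_iff.mp (hf ▸ le_inf le_rfl (le_centralizer_iff.mp ?_)))
    rw [← Coprime.commutator_sup_inf_centralizer hSV hcSV (Or.inr (Coprime.isSolvable_of_isMulCommutative V)),
      sup_le_iff]
    exact ⟨le_centralizer_iff.mp h2, le_centralizer_iff.mp h1⟩
  -- characteristic proper subgroups are centralized by `X`
  have hchar : ∀ T : Subgroup Q, T.Characteristic → T ≠ ⊤ → X ≤ centralizer ((T.map Q.subtype : Subgroup G) : Set G) := by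
    intro T hT hTne
    have := hT
    refine hsub _ (map_subtype_le T) (fun e => hTne ?_) (h.hXQ.trans (Coprime.OmegaDetect.normalizer_le_normalizer_char Q T))
    refine map_injective Q.subtype_injective (e.trans ?_)
    rw [← MonoidHom.range_eq_map, range_subtype]
  have hΦne : frattini Q ≠ ⊤ := fun e => hQ0 (by
    have h1 := frattini_nongenerating (K := (⊥ : Subgroup Q)) (by rw [e, sup_top_eq])
    have : Subsingleton Q := subsingleton_iff.mp (subsingleton_of_bot_eq_top h1)
    exact eq_bot_of_subsingleton Q)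
  have hΦ : (frattini Q).map Q.subtype ≤ Q ⊓ centralizer (X : Set G) :=
    le_inf (map_subtype_le _) (le_centralizer_iff.mp (hchar _ inferInstance hΦne))
  have hpow : ∀ x ∈ Q, x ^ q ∈ Q ⊓ centralizer (X : Set G) := fun x hx =>
    hΦ ⟨(⟨x, hx⟩ : Q) ^ q, Solvable.Basics.pow_mem_frattini h.hQ _, rfl⟩
  have hQ' : ⁅Q, Q⁆ ≤ Q ⊓ centralizer (X : Set G) := by
    rw [← map_subtype_commutator]
    exact (map_mono (Coprime.commutator_le_frattini Q)).trans hΦ
  set C := Q ⊓ centralizer (X : Set G) with hC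
  -- the fixed points are central
  have hCc : ∀ c ∈ C, ∀ y ∈ Q, y * c = c * y := by
    have h1 : ⁅⁅X, C⁆, Q⁆ = ⊥ := by
      rw [commutator_eq_bot_iff_le_centralizer.mpr
        (le_centralizer_iff.mp (inf_le_right : C ≤ centralizer (X : Set G))), commutator_bot_left]
    have h2 : ⁅⁅C, Q⁆, X⁆ = ⊥ := commutator_eq_bot_iff_le_centralizer.mpr
      (((commutator_mono inf_le_left le_rfl).trans hQ').trans inf_le_right)
    have h3 := commutator_commutator_eq_bot_of_rotate h1 h2
    rw [hQX] at h3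
    intro c hc y hy
    exact (mem_centralizer_iff.mp (commutator_eq_bot_iff_le_centralizer.mp h3 hy) c hc).symm
  by_cases hab : IsMulCommutative Q
  · have hC0 : C = ⊥ := by
      have h1 := Coprime.inf_centralizer_inf_commutator h.hXQ hcXQ
      rwa [hQX, ← hC, inf_eq_left.mpr (inf_le_left : C ≤ Q)] at h1
    have hE : IsElementaryAbelian q Q := ⟨hab, fun x hx => by
      have h1 := hpow x hx
      rwa [hC0, mem_bot] at h1⟩
    have hCQ : V ⊓ centralizer (Q : Set G) = ⊥ := hsplit Q le_rfl hQ0 le_normalizer h.hXQ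
    have S : WeightSpaces.Setting p q r V Q X :=
      ⟨hp, hq, h.hr, h.hpq, h.hpr, h.hqr, h.hV, hE, h.hX, h.hQV, h.hXV, h.hXQ, hCQ,
        by rw [h.hC, card_bot]; exact hp.one_lt.le⟩
    have hV0 : V ≠ ⊥ := fun e => hQ0 (le_bot_iff.mp (hf ▸ le_inf le_rfl (fun y _ => by
      rw [e, mem_centralizer_iff]
      intro v hv
      rw [SetLike.mem_coe, mem_bot] at hv
      rw [hv, one_mul, mul_one])))
    refine hQ0 (le_bot_iff.mp (hf ▸ le_inf le_rfl (S.le_centralizer le_rfl (fun _ => hV0) fun M hM => ?_)))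
    exact hQX.ge.trans (S.no_fixed_points h.hC hM).2
  -- the non-abelian case: the centre
  have hD0 : ⁅Q, Q⁆ ≠ ⊥ := fun e => hab ⟨⟨fun a b => Subtype.ext (commutatorElement_eq_one_iff_mul_comm.mp
    ((eq_bot_iff_forall _).mp e _ (commutator_mem_commutator a.2 b.2)))⟩⟩
  have hZC : (center Q).map Q.subtype = C := by
    refine le_antisymm (le_inf (map_subtype_le _) (le_centralizer_iff.mp (hchar _ inferInstance fun e => hab ?_))) ?_
    · exact ⟨⟨fun a b => (mem_center_iff.mp (e ▸ mem_top a) b).symm⟩⟩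
    · intro c hc
      exact ⟨⟨c, (mem_inf.mp hc).1⟩, mem_center_iff.mpr fun y => Subtype.ext (hCc c hc y y.2), rfl⟩
  have hexpD : ∀ a ∈ Q, ∀ b ∈ Q, ⁅a, b⁆ ^ q = 1 := by
    intro a ha b hb
    have hc : ⁅a, b⁆ ∈ C := hQ' (commutator_mem_commutator ha hb)
    have hca : Commute ⁅a, b⁆ b := (hCc _ hc b hb).symm
    have e1 : a * b * a⁻¹ = ⁅a, b⁆ * b := by rw [commutatorElement_def]; group
    have e2 : a * b ^ q * a⁻¹ = ⁅a, b⁆ ^ q * b ^ q := by rw [← conj_pow, e1, hca.mul_pow]
    rw [hCc _ (hpow b hb) a ha, mul_inv_cancel_right] at e2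
    exact (right_eq_mul.mp e2 :)
  -- exponent `q`
  have hexp : ∀ x ∈ Q, x ^ q = 1 := by
    have hmul : ∀ u ∈ Q, ∀ v ∈ Q, (u * v) ^ q = u ^ q * v ^ q := by
      intro u hu v hv
      have hc : ⁅v, u⁆ ∈ C := hQ' (commutator_mem_commutator hv hu)
      rw [Coprime.mul_pow_of_central_commutator (c := ⁅v, u⁆) (by rw [commutatorElement_def]; group)
        (hCc _ hc u hu).symm (hCc _ hc v hv).symm q]
      obtain ⟨m, hm⟩ := hq.dvd_choose_self (by norm_num : (2 : ℕ) ≠ 0)
        (lt_of_le_of_ne hq.two_le (Ne.symm h.hq2))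
      rw [hm, pow_mul, hexpD v hv u hu, one_pow, one_mul]
    let K : Subgroup G :=
      { carrier := {z | z ∈ Q ∧ z ^ q = 1}
        one_mem' := ⟨one_mem _, one_pow _⟩
        mul_mem' := fun {a b} ha hb => ⟨mul_mem ha.1 hb.1, by rw [hmul a ha.1 b hb.1, ha.2, hb.2, one_mul]⟩
        inv_mem' := fun {a} ha => ⟨inv_mem ha.1, by rw [inv_pow, ha.2, inv_one]⟩ }
    have hle : ⁅Q, X⁆ ≤ K := by
      rw [commutator_le]
      intro y hy x hx
      have hxy : x * y⁻¹ * x⁻¹ ∈ Q := (mem_normalizer_iff.mp (h.hXQ hx) _).mp (inv_mem hy)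
      have e : ⁅y, x⁆ = y * (x * y⁻¹ * x⁻¹) := by rw [commutatorElement_def]; group
      refine ⟨e ▸ mul_mem hy hxy, ?_⟩
      rw [e, hmul y hy _ hxy, conj_pow, inv_pow]
      have hfix := mem_centralizer_iff.mp (mem_inf.mp (inv_mem (hpow y hy))).2 x hx
      rw [hfix, mul_inv_cancel_right, mul_inv_cancel]
    intro x hx
    exact (hle (hQX.ge hx)).2
  -- the centre is cyclic of order `q`
  have hCab : IsMulCommutative C := ⟨⟨fun a b => Subtype.ext (hCc b b.2 a (mem_inf.mp a.2).1)⟩⟩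
  have hCQ : C ≤ Q := inf_le_left
  have hQC : Q ≤ centralizer (C : Set G) := fun y hy => mem_centralizer_iff.mpr fun c hc => (hCc c hc y hy).symm
  have hCcyc : IsCyclic C := by
    by_contra hnc
    have hVs := Coprime.fixedGen_eq hnc (hCQ.trans h.hQV) (h.coprimeQV.coprime_dvd_left (card_dvd_of_le hCQ))
    have hzero : Coprime.fixedGen C V ≤ ⊥ := iSup₂_le fun z hz => by
      have h1 : centralizer ({z} : Set G) = centralizer (zpowers z : Set G) := by
        rw [zpowers_eq_closure, centralizer_closure]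
      rw [h1]
      refine (hsplit _ ((zpowers_le.mpr hz.1).trans hCQ) (zpowers_ne_bot.mpr hz.2) ?_ ?_).le
      · exact (hQC.trans (centralizer_le (zpowers_le.mpr hz.1))).trans (centralizer_le_normalizer _)
      · exact ((le_centralizer_iff.mp (inf_le_right : C ≤ centralizer (X : Set G))).trans
          (centralizer_le (zpowers_le.mpr hz.1))).trans (centralizer_le_normalizer _)
    rw [hVs] at hzero
    refine hQ0 (le_bot_iff.mp (hf ▸ le_inf le_rfl ?_))
    rw [le_bot_iff.mp hzero]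
    intro y _
    simp [mem_centralizer_iff]
  have hcC : Nat.card C ≤ q := ZGroupCore.card_le_of_cyclic hq.pos fun w hw => hexp w (hCQ hw)
  have hcC' : Nat.card C = q := by
    refine le_antisymm hcC ?_
    obtain ⟨z, hz, hz1⟩ := (bot_or_exists_ne_one _).resolve_left
      (fun e : C = ⊥ => hD0 (le_bot_iff.mp (hQ'.trans e.le)))
    rw [← orderOf_eq_prime (hexp z (hCQ hz)) hz1]
    exact Nat.le_of_dvd Nat.card_pos (orderOf_dvd_natCard _ hz)
  have hcZ : Nat.card (center Q) = q := by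
    rw [← card_map_of_injective Q.subtype_injective (K := center Q), hZC, hcC']
  have hes : IsExtraspecial q Q := by
    refine ⟨⟨h.hQ, ?_, ?_⟩, hcZ⟩
    · refine ZGroupCore.eq_of_le_prime (hcZ.symm ▸ hq) ?_ fun e => hD0 ?_
      · rw [← map_subtype_le_map_subtype, hZC]; exact hΦ
      · rw [← map_subtype_commutator, eq_bot_iff]
        exact (map_mono (Coprime.commutator_le_frattini Q)).trans (by rw [e, Subgroup.map_bot])
    · refine ZGroupCore.eq_of_le_prime (hcZ.symm ▸ hq) ?_ fun e => hD0 ?_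
      · rw [← map_subtype_le_map_subtype, hZC, map_subtype_commutator]; exact hQ'
      · rw [← map_subtype_commutator, e, Subgroup.map_bot]
  refine h.hq2 (ExtraspecialFixed.fixed_exception hp hq h.hr h.hpq h.hpr h.hqr X Q V h.hX hes h.hXQ
    (hC ▸ hZC.symm) h.hV h.hXV h.hQV ?_ h.hC).1
  have hXprime : (Nat.card X).Prime := h.hX ▸ h.hr
  have hrQ : ¬ Nat.card X ∣ Nat.card Q := hXprime.coprime_iff_not_dvd.mp hcXQ
  by_contra hne
  set K := (X ⊔ Q) ⊓ centralizer (V : Set G) with hK
  by_cases hd : Nat.card X ∣ Nat.card K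
  · obtain ⟨u, hu, hle'⟩ := ZGroupCore.exists_conj_le h.hXQ hXprime (inf_le_left.trans (sup_comm X Q).le) hd hrQ
    have hXC : X ≤ centralizer (V : Set G) := by
      refine hle'.trans ((map_mono inf_le_right).trans (le_of_eq ?_))
      exact Transfer.Fusion.map_conj_eq_self_iff.mpr (CharP.normalizer_le_normalizer_centralizer V (h.hQV hu))
    refine hQ0 (le_bot_iff.mp (hf ▸ le_inf le_rfl ?_))
    rw [le_bot_iff.mp ((le_inf le_rfl (le_centralizer_iff.mp hXC)).trans h.hC.le)]
    intro y _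
    simp [mem_centralizer_iff]
  · refine hne (le_bot_iff.mp (hf ▸ le_inf ?_ inf_le_right))
    exact ZGroupCore.le_of_not_dvd h.hXQ hXprime (inf_le_left.trans (sup_comm X Q).le) hd hrQ

theorem all (p q r : ℕ) : ∀ n, IH.{u} p q r n := by
  intro n
  induction n with
  | zero => intro G _ _ V Q X _ hlt; exact absurd hlt (Nat.not_lt_zero _)
  | succ n ih =>
    intro G _ _ V Q X h hlt
    by_cases hf : Q ⊓ centralizer (V : Set G) = ⊥
    · exact faithful_step ih h (Nat.lt_succ_iff.mp hlt) hf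
    · exact of_not_faithful ih h (Nat.lt_succ_iff.mp hlt) hf

/-- `X` of prime order without fixed points on the elementary abelian group `V`. -/
theorem commutator_le_centralizer {V Q X : Subgroup G} (h : Hyp p q r V Q X) :
    ⁅Q, X⁆ ≤ centralizer (V : Set G) :=
  all p q r _ V Q X h (Nat.lt_succ_self _)

end Cfsg.Agent.OddLocal.FPFAction
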