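import Cfsg.Agent.Lib.Coprime.SchurZassenhaus

/-! Frattini's argument for a coprime complement. -/

set_option autoImplicit false

namespace Cfsg.Agent.OddLocal

open Subgroup
open scoped Pointwise

variable {G : Type*} [Group G] [Finite G]

/-- If `K` is normal, `W ⊔ K` is normal and `|W|` is prime to `|K|`, then `G = K N(W)`. -/
theorem sup_normalizer_eq_top_of_sup_normal {K W : Subgroup G} [K.Normal] (hMn : (W ⊔ K).Normal)
    (hcop : (Nat.card K).Coprime (Nat.card W))
    (hsolv : Group.IsSolvable K ∨ ∀ g : G, Group.IsSolvable (W.map (MulAut.conj g).toMonoidHom)) :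
    K ⊔ normalizer (W : Set G) = ⊤ := by
  refine top_le_iff.mp fun g _ => ?_
  set W' := W.map (MulAut.conj g).toMonoidHom with hW'
  have hM : (W ⊔ K).map (MulAut.conj g).toMonoidHom = W ⊔ K :=
    mem_normalizer_iff_map_conj_eq.mp (le_normalizer_of_normal (mem_top g))
  have hK : K.map (MulAut.conj g).toMonoidHom = K :=
    mem_normalizer_iff_map_conj_eq.mp (le_normalizer_of_normal (mem_top g))
  have heq : K ⊔ W' = K ⊔ W := by
    rw [sup_comm K W, ← hM, Subgroup.map_sup, hK, sup_comm]
  have hcard : Nat.card W' = Nat.card W :=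
    Nat.card_congr (W.equivMapOfInjective _ (MulAut.conj g).injective).toEquiv.symm
  obtain ⟨x, hx, hxe⟩ := Cfsg.Agent.Coprime.exists_conj_eq_of_sup_eq
    (le_normalizer_of_normal (K := W') (H := K)) (le_normalizer_of_normal (K := W) (H := K))
    heq (hcard ▸ hcop) hcop (hsolv.imp id fun h => h g)
  have hxg : x * g ∈ normalizer (W : Set G) := by
    rw [mem_normalizer_iff_map_conj_eq]
    rw [hW'] at hxe
    conv_rhs => rw [← hxe]
    show W.map (MulAut.conj (x * g)).toMonoidHom =
      (W.map (MulAut.conj g).toMonoidHom).map (MulAut.conj x).toMonoidHom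
    rw [Subgroup.map_map]
    congr 1
    ext y
    simp [mul_assoc]
  have : g = x⁻¹ * (x * g) := by group
  rw [this]
  exact mul_mem_sup (inv_mem hx) hxg

end Cfsg.Agent.OddLocal
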