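import Cfsg.Agent.Lib.Coprime.Action
import Cfsg.Agent.Lib.Coprime.Commutator
import Cfsg.Agent.Lib.Coprime.Sylow
import Mathlib.GroupTheory.Abelianization.Defs
import Mathlib.Data.ZMod.Basic
import Mathlib.Algebra.Field.ZMod

/-! In a Frobenius action, the fixed points of a complement detect the action of the kernel. -/

set_option autoImplicit false
set_option linter.unusedSectionVars false

namespace Cfsg.Agent.OddLocal.FrobeniusFix

open Subgroup
open scoped commutatorElement

/-- The abelian case. -/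
theorem fixed_of_abelian {A H : Type*} [CommGroup A] [Group H] (ρ : H →* MulAut A) {a b : H} {p q r : ℕ}
    [hq : Fact q.Prime] (hp : 0 < p) (ha : a ^ q = 1) (hb : b ^ p = 1) (hr : b * a * b⁻¹ = a ^ r)
    (hr1 : ∀ i, 0 < i → i < p → (r : ZMod q) ^ i ≠ 1)
    (hfix : ∀ v, ρ b v = v → ρ a v = v) (hinj : Function.Injective fun v : A => v ^ q) (v : A) :
    ρ a v = v := by
  classical
  have : NeZero q := ⟨hq.out.ne_zero⟩
  -- powers of `a` indexed by residues
  set α : ZMod q → H := fun k => a ^ k.val with hα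
  have hpow : ∀ n : ℕ, a ^ n = α (n : ZMod q) := fun n => by
    show a ^ n = a ^ (n : ZMod q).val
    rw [ZMod.val_natCast, ← pow_mod_orderOf, eq_comm, ← pow_mod_orderOf]
    congr 1
    exact Nat.ModEq.of_dvd (orderOf_dvd_of_pow_eq_one ha) (Nat.mod_modEq n q)
  have hadd : ∀ k l, α (k + l) = α k * α l := fun k l => by
    show a ^ (k + l).val = a ^ k.val * a ^ l.val
    rw [← pow_add, hpow (k.val + l.val), Nat.cast_add, ZMod.natCast_zmod_val, ZMod.natCast_zmod_val]
  have hα1 : α 1 = a := by
    have := hpow 1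
    rwa [pow_one, Nat.cast_one, eq_comm] at this
  have hconj : ∀ (i : ℕ) (k : ZMod q), b ^ i * α k = α ((r : ZMod q) ^ i * k) * b ^ i := by
    intro i
    induction i with
    | zero => intro k; simp
    | succ i ih =>
      intro k
      have h1 : b * α k = α ((r : ZMod q) * k) * b := by
        have : b * a ^ k.val * b⁻¹ = a ^ (r * k.val) := by rw [← conj_pow, hr, ← pow_mul]
        rw [hpow (r * k.val), Nat.cast_mul, ZMod.natCast_zmod_val] at this
        exact mul_inv_eq_iff_eq_mul.mp this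
      rw [pow_succ, mul_assoc, h1, ← mul_assoc, ih, pow_succ, ← mul_assoc ((r : ZMod q) ^ i), mul_assoc]
  set S : A → A := fun x => ∏ i ∈ Finset.range p, ρ (b ^ i) x with hS
  have hSfix : ∀ x, ρ a (S x) = S x := by
    refine fun x => hfix _ ?_
    show ρ b (∏ i ∈ Finset.range p, ρ (b ^ i) x) = ∏ i ∈ Finset.range p, ρ (b ^ i) x
    rw [map_prod]
    simp only [← MulAut.mul_apply, ← map_mul, ← pow_succ']
    obtain ⟨p', rfl⟩ := Nat.exists_eq_add_of_le' hp
    rw [Finset.prod_range_succ, Finset.prod_range_succ' (fun i => ρ (b ^ i) x) p', hb, pow_zero]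
  have hSα : ∀ x (k : ZMod q), ρ (α k) (S x) = S x := by
    intro x k
    have : ∀ n : ℕ, ρ (a ^ n) (S x) = S x := by
      intro n
      induction n with
      | zero => simp
      | succ n ih => rw [pow_succ, map_mul, MulAut.mul_apply, hSfix, ih]
    exact this _
  set N : A → A := fun x => ∏ k : ZMod q, ρ (α k) x with hN
  have hNfix : ∀ x, ρ a (N x) = N x := by
    intro x
    show ρ a (∏ k : ZMod q, ρ (α k) x) = ∏ k : ZMod q, ρ (α k) x
    rw [map_prod]
    simp only [← MulAut.mul_apply, ← map_mul]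
    refine Fintype.prod_equiv (Equiv.addLeft (1 : ZMod q)) _ _ fun k => ?_
    rw [Equiv.coe_addLeft, hadd, hα1]
  -- the double product
  have key : ∀ x, ρ a (x ^ q) = x ^ q := by
    intro x
    set Φ : ℕ → A := fun i => ∏ k : ZMod q, ρ (α k) (ρ (b ^ i) (ρ (α (-k)) x)) with hΦ
    have htot : ρ a (∏ i ∈ Finset.range p, Φ i) = ∏ i ∈ Finset.range p, Φ i := by
      have e : ∏ i ∈ Finset.range p, Φ i = ∏ k : ZMod q, S (ρ (α (-k)) x) := by
        simp only [hΦ]
        rw [Finset.prod_comm]
        refine Finset.prod_congr rfl fun k _ => ?_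
        rw [← hSα (ρ (α (-k)) x) k, hS, map_prod]
      rw [e, map_prod]
      exact Finset.prod_congr rfl fun k _ => hSfix _
    have hi : ∀ i, 0 < i → i < p → ρ a (Φ i) = Φ i := by
      intro i hi0 hip
      have hc : (1 : ZMod q) - (r : ZMod q) ^ i ≠ 0 := sub_ne_zero.mpr (Ne.symm (hr1 i hi0 hip))
      have e : Φ i = N (ρ (b ^ i) x) := by
        refine Fintype.prod_equiv (Equiv.mulLeft₀ _ hc) _ _ fun k => ?_
        show _ = ρ (α ((1 - (r : ZMod q) ^ i) * k)) (ρ (b ^ i) x)
        rw [sub_mul, one_mul, sub_eq_add_neg, hadd, ← mul_neg]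
        simp only [← MulAut.mul_apply, ← map_mul]
        rw [mul_assoc, hconj i (-k)]
      rw [e]; exact hNfix _
    obtain ⟨p', rfl⟩ := Nat.exists_eq_add_of_le' hp
    rw [Finset.prod_range_succ', map_mul, map_prod] at htot
    rw [Finset.prod_congr rfl (g := fun i => Φ (i + 1)) fun i hi' =>
      hi (i + 1) i.succ_pos (by rw [Finset.mem_range] at hi'; omega)] at htot
    have h0 : Φ 0 = x ^ q := by
      simp only [hΦ]
      rw [Finset.prod_congr rfl (g := fun _ => x) fun k _ => ?_]
      · simp [Finset.card_univ, ZMod.card]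
      rw [pow_zero, map_one, MulAut.one_apply, ← MulAut.mul_apply, ← map_mul, ← hadd, add_neg_cancel,
        show α 0 = 1 from by rw [hα]; simp, map_one, MulAut.one_apply]
    exact h0 ▸ mul_left_cancel htot
  exact hinj (by simpa [map_pow] using key v)

variable {G : Type*} [Group G] [Finite G]

/-- If `C_V(e)` is centralized by `ω` and `e` acts nontrivially on `⟨ω⟩`, then `ω` centralizes `V`. -/
theorem le_centralizer_of_fixed {p q : ℕ} [hp : Fact p.Prime] [hq : Fact q.Prime] {e ω : G}
    (hep : e ^ p = 1) (hω : ω ^ q = 1) (hn : e * ω * e⁻¹ ∈ zpowers ω) (hne : ¬ Commute e ω)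
    {V : Subgroup G} (hV : Group.IsSolvable V) (hcp : (Nat.card V).Coprime p)
    (hcq : (Nat.card V).Coprime q) (heV : e ∈ normalizer (V : Set G)) (hωV : ω ∈ normalizer (V : Set G))
    (hfix : ∀ x ∈ V, Commute e x → Commute ω x) : ∀ x ∈ V, Commute ω x := by
  induction hc : Nat.card V using Nat.strong_induction_on generalizing V with
  | _ n ih => ?_
  by_cases hV0 : V = ⊥
  · intro x hx
    rw [hV0, mem_bot] at hx
    exact hx ▸ Commute.one_right ω
  have hlt := Coprime.commutator_lt_of_isSolvable hV hV0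
  set N := ⁅V, V⁆ with hNdef
  have hNn : ∀ g ∈ normalizer (V : Set G), g ∈ normalizer (N : Set G) := fun g hg =>
    mem_normalizer_iff_map_conj_eq.mpr (by
      rw [hNdef, Subgroup.map_commutator, mem_normalizer_iff_map_conj_eq.mp hg])
  have hcard : Nat.card N < n := hc ▸ lt_of_le_of_ne (card_le_of_le hlt.le) fun e' =>
    hlt.ne (eq_of_le_of_card_ge hlt.le e'.ge)
  have hN : ∀ x ∈ N, Commute ω x := ih _ hcard (Coprime.isSolvable_of_le hlt.le hV)
    (hcp.coprime_dvd_left (card_dvd_of_le hlt.le)) (hcq.coprime_dvd_left (card_dvd_of_le hlt.le))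
    (hNn e heV) (hNn ω hωV) (fun x hx => hfix x (hlt.le hx)) rfl
  -- the action on the abelianization
  set H := normalizer (V : Set G) with hH
  let φ : H →* MulAut V := V.normalizerMonoidHom
  let ρ : H →* MulAut (Abelianization V) :=
    { toFun := fun g => (φ g).abelianizationCongr
      map_one' := by
        ext u
        obtain ⟨y, rfl⟩ := QuotientGroup.mk'_surjective (commutator V) u
        show Abelianization.of (φ 1 y) = Abelianization.of y
        rw [map_one, MulAut.one_apply]
      map_mul' := fun g h => by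
        ext u
        obtain ⟨y, rfl⟩ := QuotientGroup.mk'_surjective (commutator V) u
        show Abelianization.of (φ (g * h) y) = Abelianization.of (φ g (φ h y))
        rw [map_mul, MulAut.mul_apply] }
  obtain ⟨r, hr⟩ : ∃ r : ℕ, e * ω * e⁻¹ = ω ^ r := by
    obtain ⟨r, hr⟩ := (isOfFinOrder_of_finite ω).mem_powers_iff_mem_zpowers.mpr hn
    exact ⟨r, hr.symm⟩
  have hr1 : ∀ i, 0 < i → i < p → (r : ZMod q) ^ i ≠ 1 := by
    intro i hi0 hip h
    refine hne ?_
    have h1 : ∀ j : ℕ, e ^ j * ω * (e ^ j)⁻¹ = ω ^ (r ^ j) := by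
      intro j
      induction j with
      | zero => simp
      | succ j ihj =>
        calc e ^ (j + 1) * ω * (e ^ (j + 1))⁻¹ = e ^ j * (e * ω * e⁻¹) * (e ^ j)⁻¹ := by
              rw [pow_succ]; group
          _ = (e ^ j * ω * (e ^ j)⁻¹) ^ r := by rw [hr, conj_pow]
          _ = ω ^ (r ^ (j + 1)) := by rw [ihj, ← pow_mul, pow_succ]
    have h2 : ω ^ (r ^ i) = ω ^ 1 := pow_eq_pow_iff_modEq.mpr
      (Nat.ModEq.of_dvd (orderOf_dvd_of_pow_eq_one hω)
        ((ZMod.natCast_eq_natCast_iff _ _ _).mp (by rw [Nat.cast_pow, h, Nat.cast_one])))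
    have h3 : Commute (e ^ i) ω := mul_inv_eq_iff_eq_mul.mp ((h1 i).trans (h2.trans (pow_one ω)))
    obtain ⟨m, hm⟩ := Nat.exists_mul_mod_eq_one_of_coprime
      ((hp.out.coprime_iff_not_dvd.mpr (Nat.not_dvd_of_pos_of_lt hi0 hip)).symm) hp.out.one_lt
    have h4 := h3.pow_left m
    rwa [← pow_mul, ← pow_mod_orderOf, orderOf_eq_prime hep (fun he1 => hne (he1 ▸ Commute.one_left ω)),
      hm.2, pow_one] at h4
  have hab : ∀ u : Abelianization V, ρ ⟨ω, hωV⟩ u = u := by
    refine fixed_of_abelian ρ (a := ⟨ω, hωV⟩) (b := ⟨e, heV⟩) (p := p) (q := q) (r := r) hp.out.pos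
      (Subtype.ext hω) (Subtype.ext hep) (Subtype.ext (by simpa using hr)) hr1 (fun u hu => ?_) ?_
    · obtain ⟨y, rfl⟩ := QuotientGroup.mk'_surjective (commutator V) u
      have hfixN : ∀ a ∈ zpowers e, a * (y : G) * a⁻¹ * (y : G)⁻¹ ∈ N := by
        have hb : ∀ j : ℕ, e ^ j * (y : G) * (e ^ j)⁻¹ * (y : G)⁻¹ ∈ N := by
          intro j
          induction j with
          | zero => simp
          | succ j ihj =>
            have h0 : φ ⟨e, heV⟩ y * y⁻¹ ∈ commutator V := by
              rw [← div_eq_mul_inv]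
              exact QuotientGroup.eq_iff_div_mem.mp hu
            have h1 : e * (y : G) * e⁻¹ * (y : G)⁻¹ ∈ N := by
              have := Subgroup.mem_map_of_mem V.subtype h0
              rwa [map_subtype_commutator] at this
            have h2 := (mem_normalizer_iff.mp (hNn _ (pow_mem heV j)) _).mp h1
            have := N.mul_mem h2 ihj
            convert this using 1
            rw [pow_succ]; group
        intro a ha
        obtain ⟨j, rfl⟩ := (isOfFinOrder_of_finite e).mem_powers_iff_mem_zpowers.mpr ha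
        exact hb j
      obtain ⟨z, hz, hzy⟩ : ∃ z : V, Abelianization.of z = Abelianization.of y ∧ Commute e (z : G) := by
        obtain ⟨c', hc', hcN⟩ := Coprime.exists_fixed_mod (A := zpowers e) (K := V) (N := N) (k := (y : G))
          ((hcp.symm.coprime_dvd_left (by
            rw [Nat.card_zpowers]; exact orderOf_dvd_of_pow_eq_one hep)))
          (Or.inr hV) hlt.le (fun g hg => hNn g (le_normalizer hg))
          (zpowers_le.mpr (hNn e heV)) y.2 hfixN
        refine ⟨⟨c', hc'.1⟩, ?_, (mem_centralizer_iff.mp hc'.2 e (mem_zpowers e))⟩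
        refine (QuotientGroup.eq (s := commutator V)).mpr ?_
        have h4 : ((⟨c', hc'.1⟩ : V)⁻¹ * y : V) ∈ (⁅V, V⁆).subgroupOf V := by
          have := N.inv_mem hcN
          rwa [mul_inv_rev, inv_inv] at this
        rwa [← map_subtype_commutator, subgroupOf, comap_map_eq_self_of_injective V.subtype_injective] at h4
      show Abelianization.of (φ ⟨ω, hωV⟩ y) = Abelianization.of y
      have h6 : φ ⟨ω, hωV⟩ z = z := Subtype.ext
        (mul_inv_eq_iff_eq_mul.mpr (hfix _ z.2 hzy).eq)
      have h7 := congrArg (ρ ⟨ω, hωV⟩) hz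
      exact h7.symm.trans ((congrArg Abelianization.of h6).trans hz)
    · exact (powCoprime (n := q) (hcq.coprime_dvd_left (card_quotient_dvd_card _))).injective
  intro x hx
  have hmem : ω * x * ω⁻¹ * x⁻¹ ∈ N := by
    have h0 := hab (Abelianization.of ⟨x, hx⟩)
    have h1 : φ ⟨ω, hωV⟩ ⟨x, hx⟩ * (⟨x, hx⟩ : V)⁻¹ ∈ commutator V := by
      rw [← div_eq_mul_inv]
      exact QuotientGroup.eq_iff_div_mem.mp h0
    have := Subgroup.mem_map_of_mem V.subtype h1
    rwa [map_subtype_commutator] at this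
  -- stability: `ω` has order prime to `|N|`
  set c := ω * x * ω⁻¹ * x⁻¹ with hc'
  have hk : ∀ j : ℕ, ω ^ j * x * (ω ^ j)⁻¹ = c ^ j * x := by
    intro j
    induction j with
    | zero => simp
    | succ j ihj =>
      have h2 : ω * c ^ j * ω⁻¹ = c ^ j := by
        rw [((hN c hmem).pow_right j).eq, mul_inv_cancel_right]
      calc ω ^ (j + 1) * x * (ω ^ (j + 1))⁻¹ = ω * (ω ^ j * x * (ω ^ j)⁻¹) * ω⁻¹ := by
            rw [pow_succ']; group
        _ = (ω * c ^ j * ω⁻¹) * (ω * x * ω⁻¹) := by rw [ihj]; group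
        _ = c ^ j * (c * x) := by rw [h2, show ω * x * ω⁻¹ = c * x from (inv_mul_cancel_right _ x).symm]
        _ = c ^ (j + 1) * x := by rw [pow_succ]; exact (mul_assoc (c ^ j) c x).symm
  have hcq1 : c ^ q = 1 := by
    have := hk q
    rw [hω, one_mul, inv_one, mul_one] at this
    exact (mul_eq_right.mp this.symm)
  have hc1 : c = 1 := orderOf_eq_one_iff.mp (Nat.eq_one_of_dvd_coprimes hcq.symm
    (orderOf_dvd_of_pow_eq_one hcq1) (V.orderOf_dvd_natCard (hlt.le hmem)))
  rw [hc', mul_inv_eq_one, mul_inv_eq_iff_eq_mul] at hc1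
  exact hc1

end Cfsg.Agent.OddLocal.FrobeniusFix
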