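import Mathlib

/-! A group with a regularly permuted set of weights: the module is free over the complement. -/

set_option autoImplicit false

namespace Cfsg.Agent.OddLocal.FrobeniusModule

open Module

variable {H : Type*} [Group H] {k : Type*} [Field k] {M : Type*} [AddCommGroup M] [Module k M]

/-- The projection on a character of `Z`. -/
noncomputable def eps (Z : Subgroup H) [Fintype Z] (ρ : H →* Module.End k M) (χ : Z →* kˣ) : Module.End k M :=
  (Fintype.card Z : k)⁻¹ • ∑ z : Z, ((χ z⁻¹ : kˣ) : k) • ρ z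

variable {Z : Subgroup H} [Fintype Z] {ρ : H →* Module.End k M}

theorem map_mul_eps (χ : Z →* kˣ) (y : Z) : ρ y * eps Z ρ χ = ((χ y : kˣ) : k) • eps Z ρ χ := by
  rw [eps, mul_smul_comm, smul_comm]
  congr 1
  rw [Finset.mul_sum, Finset.smul_sum]
  refine Fintype.sum_equiv (Equiv.mulLeft y) _ _ fun z => ?_
  rw [mul_smul_comm, smul_smul, Equiv.coe_mulLeft, mul_inv_rev, map_mul, Units.val_mul, Subgroup.coe_mul,
    map_mul]
  congr 1
  rw [mul_comm ((χ z⁻¹ : kˣ) : k), ← mul_assoc, ← Units.val_mul, ← map_mul, mul_inv_cancel, map_one,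
    Units.val_one, one_mul]

theorem eps_mul_eps [DecidableEq (Z →* kˣ)] (hn : (Fintype.card Z : k) ≠ 0) (χ ψ : Z →* kˣ) :
    eps Z ρ χ * eps Z ρ ψ = if χ = ψ then eps Z ρ ψ else 0 := by
  classical
  have e : eps Z ρ χ * eps Z ρ ψ =
      ((Fintype.card Z : k)⁻¹ * ∑ z : Z, (((χ⁻¹ * ψ) z : kˣ) : k)) • eps Z ρ ψ := by
    conv_lhs => arg 1; rw [eps]
    rw [smul_mul_assoc, Finset.sum_mul, mul_smul, Finset.sum_smul]
    congr 1
    refine Finset.sum_congr rfl fun z _ => ?_
    rw [smul_mul_assoc, map_mul_eps, smul_smul, MonoidHom.mul_apply, MonoidHom.inv_apply, Units.val_mul,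
      map_inv]
  rw [e]
  split_ifs with h
  · simp [h, hn]
  · have hne : (Units.coeHom k).comp (χ⁻¹ * ψ) ≠ 1 := fun h1 => h (MonoidHom.ext fun z => by
      have h2 := DFunLike.congr_fun h1 z
      simp only [MonoidHom.coe_comp, Function.comp_apply, Units.coeHom_apply, MonoidHom.one_apply,
        Units.val_eq_one, MonoidHom.mul_apply, MonoidHom.inv_apply] at h2
      exact inv_mul_eq_one.mp h2)
    have h2 : ∑ z : Z, (((χ⁻¹ * ψ) z : kˣ) : k) = 0 := sum_hom_units_eq_zero _ hne
    rw [h2, mul_zero, zero_smul]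

variable {E : Subgroup H} [Fintype E]

/-- The hypotheses: `E` permutes the non-trivial characters of `Z` regularly and `Z` fixes nothing. -/
structure Hyp (Z E : Subgroup H) [Fintype Z] [Fintype E] (ρ : H →* Module.End k M) : Prop where
  comm : ∀ x ∈ Z, ∀ y ∈ Z, x * y = y * x
  norm : ∀ a ∈ E, ∀ z ∈ Z, a * z * a⁻¹ ∈ Z
  fpf : ∀ a ∈ E, a ≠ 1 → ∀ z ∈ Z, a * z = z * a → z = 1
  sum0 : ∑ z : Z, ρ z = 0
  hn : (Fintype.card Z : k) ≠ 0
  he : (Fintype.card E : k) ≠ 0
  hasRoots : HasEnoughRootsOfUnity k (Monoid.exponent Z)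

variable (h : Hyp Z E ρ)
include h

theorem sum_eps [Fintype (Z →* kˣ)] : ∑ χ : Z →* kˣ, eps Z ρ χ = 1 := by
  classical
  let : CommGroup Z := { (inferInstance : Group Z) with mul_comm := fun a b => Subtype.ext (h.comm a a.2 b b.2) }
  have := h.hasRoots
  have hzero : ∀ z : Z, z ≠ 1 → ∑ χ : Z →* kˣ, ((χ z : kˣ) : k) = 0 := by
    intro z hz
    obtain ⟨φ, hφ⟩ := CommGroup.exists_apply_ne_one_of_hasEnoughRootsOfUnity Z k hz
    have e : ((φ z : kˣ) : k) * ∑ χ : Z →* kˣ, ((χ z : kˣ) : k) = ∑ χ : Z →* kˣ, ((χ z : kˣ) : k) := by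
      rw [Finset.mul_sum]
      exact Fintype.sum_equiv (Equiv.mulLeft φ) _ _ fun χ => by simp
    by_contra hne
    exact hφ (Units.ext (mul_right_cancel₀ hne (e.trans (one_mul _).symm)))
  calc ∑ χ : Z →* kˣ, eps Z ρ χ
      = (Fintype.card Z : k)⁻¹ • ∑ z : Z, (∑ χ : Z →* kˣ, ((χ z⁻¹ : kˣ) : k)) • ρ z := by
        simp only [eps, ← Finset.smul_sum]
        rw [Finset.sum_comm]
        simp only [Finset.sum_smul]
    _ = (Fintype.card Z : k)⁻¹ • ((Fintype.card Z : k) • (1 : Module.End k M)) := by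
        rw [Finset.sum_eq_single (1 : Z) (fun z _ hz => by rw [hzero _ (inv_ne_one.mpr hz), zero_smul])
          (fun h1 => absurd (Finset.mem_univ _) h1)]
        have hc : Fintype.card (Z →* kˣ) = Fintype.card Z := by
          rw [← Nat.card_eq_fintype_card, ← Nat.card_eq_fintype_card,
            CommGroup.card_monoidHom_of_hasEnoughRootsOfUnity]
        simp [hc]
    _ = 1 := inv_smul_smul₀ h.hn 1

omit h in
theorem eps_one (h0 : ∑ z : Z, ρ z = 0) : eps Z ρ (1 : Z →* kˣ) = 0 := by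
  simp [eps, h0]

/-- The conjugation of `Z` by an element of `E`. -/
def conjHom (a : E) : Z →* Z where
  toFun z := ⟨(a : H)⁻¹ * z * a, by simpa using h.norm _ (inv_mem a.2) z z.2⟩
  map_one' := Subtype.ext (by simp)
  map_mul' x y := Subtype.ext (by simp [mul_assoc])

theorem map_mul_eps_conj (a : E) (χ : Z →* kˣ) :
    ρ a * eps Z ρ χ = eps Z ρ (χ.comp (conjHom h a)) * ρ a := by
  rw [eps, eps, mul_smul_comm, smul_mul_assoc]
  congr 1
  rw [Finset.mul_sum, Finset.sum_mul]
  let e : Z ≃ Z :=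
    { toFun := fun z => ⟨(a : H) * z * (a : H)⁻¹, h.norm _ a.2 z z.2⟩
      invFun := fun z => ⟨(a : H)⁻¹ * z * a, by simpa using h.norm _ (inv_mem a.2) z z.2⟩
      left_inv := fun z => Subtype.ext (by simp [mul_assoc])
      right_inv := fun z => Subtype.ext (by simp [mul_assoc]) }
  refine Fintype.sum_equiv e _ _ fun z => ?_
  have e1 : conjHom h a (e z)⁻¹ = z⁻¹ := by
    rw [map_inv]
    exact congrArg (·⁻¹) (Subtype.ext (by simp [conjHom, e, mul_assoc]))
  rw [MonoidHom.comp_apply, e1, smul_mul_assoc, mul_smul_comm, ← map_mul, ← map_mul]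
  congr 2
  simp [e]

theorem exists_transversal :
    ∃ T : Module.End k M, (∀ a : E, a ≠ 1 → T * ρ a * T = 0) ∧ T * T = T ∧
      ∑ a : E, ρ a * T * ρ (a⁻¹ : H) = 1 ∧
      ∀ χ : Z →* kˣ, χ ≠ 1 → ∃ a : E, T * (ρ (a⁻¹ : H) * eps Z ρ χ * ρ a) = ρ (a⁻¹ : H) * eps Z ρ χ * ρ a := by
  classical
  let : CommGroup Z := { (inferInstance : Group Z) with mul_comm := fun a b => Subtype.ext (h.comm a a.2 b b.2) }
  have := h.hasRoots
  have : Finite (Z →* kˣ) := by
    refine Nat.finite_of_card_ne_zero ?_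
    rw [CommGroup.card_monoidHom_of_hasEnoughRootsOfUnity]
    exact Nat.card_pos.ne'
  have := Fintype.ofFinite (Z →* kˣ)
  let X := {χ : Z →* kˣ // χ ≠ 1}
  let act : E → (Z →* kˣ) → (Z →* kˣ) := fun a χ => χ.comp (conjHom h a)
  have hact1 : ∀ χ, act 1 χ = χ := fun χ => MonoidHom.ext fun z => by
    show χ (conjHom h 1 z) = χ z
    exact congrArg χ (Subtype.ext (by simp [conjHom]))
  have hactm : ∀ a b χ, act (a * b) χ = act a (act b χ) := fun a b χ => MonoidHom.ext fun z => by
    show χ (conjHom h (a * b) z) = χ (conjHom h b (conjHom h a z))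
    exact congrArg χ (Subtype.ext (by simp [conjHom, mul_assoc]))
  have hfree : ∀ (a : E) (χ : Z →* kˣ), act a χ = χ → χ ≠ 1 → a = 1 := by
    intro a χ he hχ
    by_contra ha
    have ha' : (a : H) ≠ 1 := fun e => ha (Subtype.ext e)
    refine hχ (MonoidHom.ext fun z => ?_)
    have hinj : Function.Injective fun z : Z => z⁻¹ * conjHom h a z := by
      intro x y e
      have e1 : conjHom h a (x * y⁻¹) = x * y⁻¹ := by
        have e2 : conjHom h a x = x * (y⁻¹ * conjHom h a y) := by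
          rw [← show x⁻¹ * conjHom h a x = y⁻¹ * conjHom h a y from e, mul_inv_cancel_left]
        rw [map_mul, map_inv, e2]
        group
      have e3 := h.fpf a a.2 ha' _ (x * y⁻¹).2 (by
        have e4 := congrArg (fun w : Z => (a : H) * w) e1
        simp only [conjHom, MonoidHom.coe_mk, OneHom.coe_mk] at e4
        rw [show (a : H) * ((a : H)⁻¹ * ((x * y⁻¹ : Z) : H) * a) = ((x * y⁻¹ : Z) : H) * a by group] at e4
        exact e4.symm)
      exact mul_inv_eq_one.mp (Subtype.ext e3)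
    obtain ⟨y, rfl⟩ := (Finite.injective_iff_surjective.mp hinj) z
    show χ (y⁻¹ * conjHom h a y) = 1
    rw [map_mul, map_inv, show χ (conjHom h a y) = χ y from DFunLike.congr_fun he y, inv_mul_cancel]
  have hne1 : ∀ (a : E) (χ : X), act a χ.1 ≠ 1 := by
    intro a χ e
    apply χ.2
    have e1 := congrArg (act a⁻¹) e
    rw [← hactm, inv_mul_cancel, hact1] at e1
    rw [e1]
    exact MonoidHom.ext fun _ => rfl
  let : MulAction E X :=
    { smul := fun a χ => ⟨act a χ.1, hne1 a χ⟩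
      one_smul := fun χ => Subtype.ext (hact1 χ.1)
      mul_smul := fun a b χ => Subtype.ext (hactm a b χ.1) }
  let Ω := MulAction.orbitRel.Quotient E X
  let f : E × Ω → X := fun x => x.1 • x.2.out
  have hf : Function.Bijective f := by
    constructor
    · rintro ⟨a, ω⟩ ⟨b, η⟩ e
      have e' : a • ω.out = b • η.out := e
      have h1 : ω = η := by
        rw [← Quotient.out_eq ω, ← Quotient.out_eq η]
        refine Quotient.sound ⟨a⁻¹ * b, ?_⟩
        show (a⁻¹ * b) • η.out = ω.out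
        rw [mul_smul, ← e', inv_smul_smul]
      subst h1
      have h2 : (b⁻¹ * a) • ω.out = ω.out := by rw [mul_smul, e', inv_smul_smul]
      rw [inv_mul_eq_one.mp (hfree _ _ (congrArg Subtype.val h2) ω.out.2)]
    · intro χ
      obtain ⟨a, ha⟩ := Quotient.exact (Quotient.out_eq (Quotient.mk (MulAction.orbitRel E X) χ))
      exact ⟨⟨a⁻¹, Quotient.mk _ χ⟩, inv_smul_eq_iff.mpr ha.symm⟩
  have hea : ∀ (a : E) (χ : Z →* kˣ), ρ a * eps Z ρ χ * ρ (a⁻¹ : H) = eps Z ρ (act a χ) := by
    intro a χ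
    rw [map_mul_eps_conj h, mul_assoc, ← map_mul, mul_inv_cancel, map_one, mul_one]
  let T : Module.End k M := ∑ ω : Ω, eps Z ρ ω.out.1
  have hTe : ∀ (a : E), ρ a * T * ρ (a⁻¹ : H) = ∑ ω : Ω, eps Z ρ (a • ω.out).1 := by
    intro a
    rw [Finset.mul_sum, Finset.sum_mul]
    exact Finset.sum_congr rfl fun ω _ => hea a _
  have hTχ : ∀ ω : Ω, T * eps Z ρ ω.out.1 = eps Z ρ ω.out.1 := by
    intro ω
    rw [Finset.sum_mul, Finset.sum_eq_single ω (fun η _ hne => by
      rw [eps_mul_eps h.hn, if_neg fun e => hne (congrArg Prod.snd (@hf.1 (1, η) (1, ω)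
        (by simp only [f, one_smul]; exact Subtype.ext e)))]) (fun h1 => absurd (Finset.mem_univ _) h1),
      eps_mul_eps h.hn, if_pos rfl]
  refine ⟨T, fun a ha => ?_, ?_, ?_, fun χ hχ => ?_⟩
  · have h1 : T * (ρ a * T * ρ (a⁻¹ : H)) = 0 := by
      rw [hTe, Finset.sum_mul]
      refine Finset.sum_eq_zero fun ω _ => ?_
      rw [Finset.mul_sum]
      refine Finset.sum_eq_zero fun η _ => ?_
      rw [eps_mul_eps h.hn, if_neg]
      intro e
      have e2 := @hf.1 (1, ω) (a, η) (by simp only [f, one_smul]; exact Subtype.ext e)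
      exact ha (congrArg Prod.fst e2).symm
    calc T * ρ a * T = T * (ρ a * T * ρ (a⁻¹ : H)) * ρ a := by
          simp only [mul_assoc, ← map_mul, inv_mul_cancel, map_one, mul_one]
      _ = 0 := by rw [h1, zero_mul]
  · rw [Finset.mul_sum]
    exact Finset.sum_congr rfl fun ω _ => hTχ ω
  · simp only [hTe]
    rw [← Fintype.sum_prod_type' (f := fun (a : E) (ω : Ω) => eps Z ρ (a • ω.out).1),
      Fintype.sum_bijective f hf _ (fun χ : X => eps Z ρ χ.1) (fun _ => rfl), ← sum_eps h]
    exact (Finset.sum_subtype_eq_sum_filter (p := fun χ : Z →* kˣ => χ ≠ 1) (fun χ => eps Z ρ χ) (s := Finset.univ)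
      |> fun e => by
        rw [← Finset.subtype_univ, e]
        refine Finset.sum_subset (Finset.subset_univ _) fun χ _ hχ => ?_
        have : χ = 1 := by simpa using hχ
        rw [this, eps_one h.sum0])
  · obtain ⟨⟨a, ω⟩, e⟩ := hf.2 ⟨χ, hχ⟩
    refine ⟨a, ?_⟩
    have e1 : ρ (a⁻¹ : H) * eps Z ρ χ * ρ a = eps Z ρ ω.out.1 := by
      have e2 : act a ω.out.1 = χ := congrArg Subtype.val e
      rw [← e2, ← hea]
      simp only [mul_assoc, ← map_mul, inv_mul_cancel, map_one, mul_one]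
      rw [← mul_assoc, ← map_mul, inv_mul_cancel, map_one, one_mul]
    rw [e1]
    exact hTχ ω

/-- The module is free over `E`; if its fixed points form at most a line, the centraliser of `Z` acts
through a commutative group. -/
theorem main [FiniteDimensional k M] :
    finrank k M = Fintype.card E * finrank k (LinearMap.range (∑ a : E, ρ a)) ∧
      (finrank k (LinearMap.range (∑ a : E, ρ a)) ≤ 1 → ∀ u v : H,
        (∀ z ∈ Z, u * z = z * u) → (∀ z ∈ Z, v * z = z * v) → ρ u * ρ v = ρ v * ρ u) := by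
  classical
  obtain ⟨T, horth, hTT, hsum, hcov⟩ := exists_transversal h
  have hinv : ∀ a : E, ρ a * ρ (a⁻¹ : H) = 1 := fun a => by rw [← map_mul, mul_inv_cancel, map_one]
  have hTT' : ∀ w, T (T w) = T w := fun w => LinearMap.congr_fun hTT w
  have hsum' : ∀ w, ∑ a : E, ρ a (T (ρ (a⁻¹ : H) w)) = w := fun w => by
    have := LinearMap.congr_fun hsum w
    simpa using this
  have hcoord : ∀ (c : E → LinearMap.range T) (b : E), T (ρ (b⁻¹ : H) (∑ a : E, ρ a (c a : M))) = c b := by
    intro c b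
    have hfix : ∀ a, T (c a : M) = (c a : M) := fun a => by
      obtain ⟨w, hw⟩ := (c a).2
      rw [← hw, hTT']
    rw [map_sum, map_sum, Finset.sum_eq_single b ?_ (fun h1 => absurd (Finset.mem_univ _) h1)]
    · rw [← Module.End.mul_apply (ρ (b⁻¹ : H)), ← map_mul, inv_mul_cancel, map_one, Module.End.one_apply, hfix]
    · intro a _ hab
      rw [← Module.End.mul_apply (ρ (b⁻¹ : H)), ← map_mul, ← hfix a]
      exact LinearMap.congr_fun (horth (b⁻¹ * a) fun e => hab (inv_mul_eq_one.mp e).symm) _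
  let Φ : (E → LinearMap.range T) ≃ₗ[k] M :=
    { toFun := fun c => ∑ a : E, ρ a (c a : M)
      map_add' := fun c d => by simp [Finset.sum_add_distrib]
      map_smul' := fun r c => by simp [Finset.smul_sum]
      invFun := fun w a => ⟨T (ρ (a⁻¹ : H) w), LinearMap.mem_range_self _ _⟩
      left_inv := fun c => funext fun b => Subtype.ext (hcoord c b)
      right_inv := fun w => hsum' w }
  set P : Module.End k M := ∑ a : E, ρ a with hP
  have hPT : ∀ w, P (T (P w)) = (Fintype.card E : k)⁻¹ • P (P w) := by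
    intro w
    have hfix : ∀ b : E, ρ b (P w) = P w := fun b => by
      rw [hP, LinearMap.sum_apply, map_sum]
      exact Fintype.sum_equiv (Equiv.mulLeft b) _ _ fun a => by simp
    have e1 : P (T (P w)) = P w := by
      conv_rhs => rw [← hsum' (P w)]
      conv_lhs => rw [hP, LinearMap.sum_apply]
      exact Finset.sum_congr rfl fun a _ => by
        have h1 : ρ (a⁻¹ : H) (P w) = P w := hfix a⁻¹
        rw [h1]
    have e2 : P (P w) = (Fintype.card E : k) • P w := by
      conv_lhs => arg 1; rw [hP]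
      rw [LinearMap.sum_apply, Finset.sum_congr rfl fun a _ => hfix a, Finset.sum_const, Finset.card_univ,
        Nat.cast_smul_eq_nsmul]
    rw [e1, e2, inv_smul_smul₀ h.he]
  let Ψ : LinearMap.range T ≃ₗ[k] LinearMap.range P :=
    LinearEquiv.ofBijective ((P.comp (LinearMap.range T).subtype).codRestrict (LinearMap.range P)
      fun u => LinearMap.mem_range_self P u.1)
      ⟨fun u v e => by
        have e' : P (u : M) = P (v : M) := congrArg Subtype.val e
        have h1 := congrArg (fun w => T (ρ ((1 : E)⁻¹ : H) w)) e'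
        simp only [hP, LinearMap.sum_apply] at h1
        have h2 := hcoord (fun _ => u) 1
        have h3 := hcoord (fun _ => v) 1
        exact Subtype.ext (h2.symm.trans (h1.trans h3)),
      fun w => by
        obtain ⟨v, hv⟩ := w.2
        refine ⟨(Fintype.card E : k) • ⟨T ((Fintype.card E : k)⁻¹ • P v), LinearMap.mem_range_self _ _⟩, Subtype.ext ?_⟩
        show P ((Fintype.card E : k) • T ((Fintype.card E : k)⁻¹ • P v)) = (w : M)
        rw [map_smul, map_smul, map_smul, smul_inv_smul₀ h.he, ← hv]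
        have hfix : ∀ b : E, ρ b (P v) = P v := fun b => by
          rw [hP, LinearMap.sum_apply, map_sum]
          exact Fintype.sum_equiv (Equiv.mulLeft b) _ _ fun a => by simp
        conv_rhs => rw [← hsum' (P v)]
        conv_lhs => rw [hP, LinearMap.sum_apply]
        exact Finset.sum_congr rfl fun a _ => by
          have h1 : ρ (a⁻¹ : H) (P v) = P v := hfix a⁻¹
          rw [h1]⟩
  refine ⟨?_, fun hle u v hu hv => ?_⟩
  · rw [← Φ.finrank_eq, Module.finrank_pi_fintype, Finset.sum_const, Finset.card_univ, smul_eq_mul, Ψ.finrank_eq]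
  let : CommGroup Z := { (inferInstance : Group Z) with mul_comm := fun a b => Subtype.ext (h.comm a a.2 b b.2) }
  have := h.hasRoots
  have : Finite (Z →* kˣ) := by
    refine Nat.finite_of_card_ne_zero ?_
    rw [CommGroup.card_monoidHom_of_hasEnoughRootsOfUnity]
    exact Nat.card_pos.ne'
  have := Fintype.ofFinite (Z →* kˣ)
  have hce : ∀ w : H, (∀ z ∈ Z, w * z = z * w) → ∀ χ, ρ w * eps Z ρ χ = eps Z ρ χ * ρ w := by
    intro w hw χ
    rw [eps, mul_smul_comm, smul_mul_assoc, Finset.mul_sum, Finset.sum_mul]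
    congr 1
    exact Finset.sum_congr rfl fun z _ => by rw [mul_smul_comm, smul_mul_assoc, ← map_mul, ← map_mul, hw z z.2]
  rw [← Ψ.finrank_eq] at hle
  suffices ∀ χ, ρ u * ρ v * eps Z ρ χ = ρ v * ρ u * eps Z ρ χ by
    calc ρ u * ρ v = ρ u * ρ v * ∑ χ, eps Z ρ χ := by rw [sum_eps h, mul_one]
      _ = ρ v * ρ u * ∑ χ, eps Z ρ χ := by rw [Finset.mul_sum, Finset.mul_sum]; exact Finset.sum_congr rfl fun χ _ => this χ
      _ = ρ v * ρ u := by rw [sum_eps h, mul_one]
  intro χ
  by_cases hχ : χ = 1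
  · rw [hχ, eps_one h.sum0, mul_zero, mul_zero]
  set ε := eps Z ρ χ with hε
  have hεε : ε * ε = ε := by rw [hε, eps_mul_eps h.hn, if_pos rfl]
  obtain ⟨a, ha⟩ := hcov χ hχ
  have hsub : LinearMap.range ε ≤ (LinearMap.range T).map (ρ a) := by
    rintro _ ⟨w, rfl⟩
    refine ⟨ρ (a⁻¹ : H) (ε w), ⟨ρ (a⁻¹ : H) (ε w), ?_⟩, ?_⟩
    · have h1 := LinearMap.congr_fun ha (ρ (a⁻¹ : H) w)
      simp only [Module.End.mul_apply] at h1
      rw [← Module.End.mul_apply (ρ a), hinv a, Module.End.one_apply] at h1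
      exact h1
    · rw [← Module.End.mul_apply (ρ a), hinv a, Module.End.one_apply]
  have hdim : finrank k (LinearMap.range ε) ≤ 1 :=
    ((Submodule.finrank_mono hsub).trans (Submodule.finrank_map_le _ _)).trans hle
  have hscal : ∀ w : H, (∀ z ∈ Z, w * z = z * w) → ∃ c : k, ρ w * ε = c • ε := by
    intro w hw
    obtain ⟨x, hx⟩ := finrank_le_one_iff.mp hdim
    obtain ⟨c, hc⟩ := hx ⟨ρ w x.1, by
      obtain ⟨y, hy⟩ := x.2
      exact ⟨ρ w y, by rw [← hy, ← Module.End.mul_apply, ← Module.End.mul_apply, hce w hw χ]⟩⟩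
    refine ⟨c, LinearMap.ext fun y => ?_⟩
    obtain ⟨d, hd⟩ := hx ⟨ε y, LinearMap.mem_range_self _ _⟩
    have hd' : d • (x : M) = ε y := congrArg Subtype.val hd
    have hc' : c • (x : M) = ρ w x := congrArg Subtype.val hc
    rw [Module.End.mul_apply, LinearMap.smul_apply, ← hd', map_smul, ← hc', smul_comm]
  obtain ⟨c, hc⟩ := hscal u hu
  obtain ⟨d, hd⟩ := hscal v hv
  rw [mul_assoc, hd, mul_smul_comm, hc, mul_assoc, hc, mul_smul_comm, hd, smul_smul, smul_smul, mul_comm]

end Cfsg.Agent.OddLocal.FrobeniusModule
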