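import Cfsg.Agent.OddLocal.FcoreStructure
import Cfsg.Agent.OddLocal.PTypeSupport

/-! Hall subgroups of `M_σ` (BG 15.3). -/

set_option autoImplicit false
set_option linter.unusedSectionVars false

namespace Cfsg.Agent.OddLocal.HallCore

open Cfsg Subgroup SigmaParts
open Cfsg.Agent.Transfer.Fusion (card_map_conj map_conj_eq_self_iff)

variable {G : Type*} [Group G] [Finite G] {M K U H Q : Subgroup G} {q : ℕ}

/-- A Hall subgroup of a nilpotent group is normal. -/
theorem normal_of_nilpotent {X : Type*} [Group X] [Finite X] (hn : Group.IsNilpotent X) {H : Subgroup X}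
    (hH : (Nat.card H).Coprime H.index) : H.Normal := by
  have := hn
  refine normalizer_eq_top_iff.mp (top_le_iff.mp (CN.le_of_forall_isPGroup fun p hp z _ hzp => ?_))
  have := Fact.mk hp
  by_cases hd : p ∣ Nat.card H
  · refine le_normalizer ?_
    obtain ⟨P⟩ : Nonempty (Sylow p H) := inferInstance
    set T := (P : Subgroup H).map H.subtype with hT
    have hidx : ¬ p ∣ T.index := by
      rw [← relIndex_mul_index (map_subtype_le (P : Subgroup H))]
      intro h
      rcases hp.dvd_mul.mp h with h1 | h1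
      · rw [relIndex, subgroupOf, comap_map_eq_self_of_injective H.subtype_injective] at h1
        exact P.not_dvd_index h1
      · exact hp.ne_one (Nat.eq_one_of_dvd_coprimes hH hd h1)
    obtain ⟨S, hS⟩ : ∃ S : Sylow p X, (S : Subgroup X) = T :=
      ⟨IsPGroup.toSylow (P := T) (P.isPGroup'.map _) hidx, IsPGroup.toSylow_coe _ _⟩
    have hSn : (S : Subgroup X).Normal :=
      (Group.isNilpotent_of_finite_tfae.out 0 3 rfl rfl).1 hn p inferInstance S
    obtain ⟨S', hS'⟩ := hzp.exists_le_sylow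
    have := Sylow.unique_of_normal S hSn
    rw [Subsingleton.elim S' S, hS] at hS'
    exact map_subtype_le _ (hS' (mem_zpowers z))
  · refine centralizer_le_normalizer _ (mem_centralizer_iff.mpr fun h hh => ?_)
    obtain ⟨k, hk⟩ := hzp.exists_card_eq
    rw [Nat.card_zpowers] at hk
    exact (CN.commute_of_coprime (G := X) (by
      rw [hk]
      exact (Nat.Coprime.pow_left k (hp.coprime_iff_not_dvd.mpr hd)).coprime_dvd_right
        (orderOf_dvd_natCard H hh) |>.symm : (orderOf h).Coprime (orderOf z))).eq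

/-- A Hall subgroup of `M_σ` over a normal `R` with nilpotent quotient is normal in `M`. -/
theorem le_normalizer_of_quotient (hG : IsMinSimpleOddOrder G) (hM : IsCoatom M) (hH : H ≤ sigmaCore M)
    (hHall : (Nat.card H).Coprime (H.relIndex (sigmaCore M))) {R : Subgroup (sigmaCore M)} [R.Normal]
    (hR : R ≤ H.subgroupOf (sigmaCore M)) (hnil : Group.IsNilpotent (sigmaCore M ⧸ R)) :
    M ≤ normalizer (H : Set G) := by
  set f := QuotientGroup.mk' R with hf
  set H₁ := H.subgroupOf (sigmaCore M) with hH₁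
  have hcard : Nat.card H₁ = Nat.card H := Nat.card_congr (subgroupOfEquivOfLe hH).toEquiv
  have hn := normal_of_nilpotent hnil (H := H₁.map f) (by
    refine ((hcard.symm ▸ hHall : (Nat.card H₁).Coprime H₁.index).coprime_dvd_left
      (card_map_dvd _ _)).coprime_dvd_right ?_
    exact index_map_dvd _ (QuotientGroup.mk'_surjective R))
  have hH₁n : H₁.Normal := by
    have h1 : (H₁.map f).comap f = H₁ := by
      rw [comap_map_eq, QuotientGroup.ker_mk', sup_of_le_left hR]
    exact h1 ▸ hn.comap f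
  have hσH := (normal_subgroupOf_iff_le_normalizer hH).mp hH₁n
  intro m hm
  refine map_conj_eq_self_iff.mp (eq_of_le_of_card_ge ?_ (by rw [card_map_conj]))
  rintro _ ⟨x, hx, rfl⟩
  refine KappaDecomp.mem_of_normal_coprime hσH hH
    ((mem_normalizer_iff.mp (Sigma.le_normalizer_sigmaCore M hm) x).mp (hH hx)) ?_
  show (orderOf (MulAut.conj m x)).Coprime _
  rw [MulEquiv.orderOf_eq]
  exact hHall.coprime_dvd_left (orderOf_dvd_natCard H hx)

theorem quotient_nilpotent (hG : IsMinSimpleOddOrder G) (c : NonNilpotent.Core M K Q q)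
    {R : Subgroup (sigmaCore M)} [R.Normal] (hR : R = Q.subgroupOf (sigmaCore M)) :
    Group.IsNilpotent (sigmaCore M ⧸ R) := by
  obtain ⟨D, hD⟩ := Fcore.exists_core_compl hG c
  have := (c.compl D hD).1
  refine Group.nilpotent_of_surjective
    ((QuotientGroup.mk' R).comp (inclusion hD.2.1)) fun w => ?_
  obtain ⟨⟨x, hx⟩, rfl⟩ := QuotientGroup.mk'_surjective R w
  obtain ⟨a, ha, b, hb, e⟩ := hD.2.2.2 x hx
  refine ⟨⟨b, hb⟩, (QuotientGroup.eq (s := R)).mpr ?_⟩
  rw [hR, mem_subgroupOf]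
  show b⁻¹ * x ∈ Q
  rw [e]
  have := (mem_normalizer_iff''.mp (c.normal (Sigma.sigmaCore_le M (hD.2.1 hb))) a).mp ha
  simpa [mul_assoc] using this

/-- `M` controls the fusion in `H` through `N_M(H)`. -/
theorem fusion (hG : IsMinSimpleOddOrder G) (hM : IsCoatom M) (hH : H ≤ sigmaCore M)
    (hHall : (Nat.card H).Coprime (H.relIndex (sigmaCore M))) {x g : G} (hx : x ∈ H)
    (hgx : g * x * g⁻¹ ∈ H) : ∃ n ∈ M ⊓ normalizer (H : Set G), n * x * n⁻¹ = g * x * g⁻¹ := by
  obtain ⟨m, hm, he⟩ := Signalizer.fusion_core hG hM (hH hx) (g := g)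
    (Sigma.sigmaCore_le M (hH hgx))
  by_cases hn : Group.IsNilpotent (sigmaCore M)
  · have hMH : M ≤ normalizer (H : Set G) :=
      le_normalizer_of_quotient hG hM hH hHall (R := ⊥) bot_le
        (Group.nilpotent_of_surjective (QuotientGroup.mk' ⊥) (QuotientGroup.mk'_surjective _))
    exact ⟨m, mem_inf.mpr ⟨hm, hMH hm⟩, he⟩
  obtain ⟨K, U, hKU⟩ := Fcore.exists_decomp hG hM
  obtain ⟨q, Q, c⟩ := NonNilpotent.exists_core hG hM hKU hn
  have := Fact.mk c.hq
  have hQn : (Q.subgroupOf (sigmaCore M)).Normal := (normal_subgroupOf_iff_le_normalizer c.le).mpr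
    ((Sigma.sigmaCore_le M).trans c.normal)
  have hrel : ∀ X : Subgroup G, X ≤ sigmaCore M →
      Nat.card X * X.relIndex (sigmaCore M) = Nat.card (sigmaCore M) := fun X hX => by
    rw [← relIndex_bot_left, ← relIndex_bot_left, relIndex_mul_relIndex ⊥ X _ bot_le hX]
  by_cases hqH : q ∣ Nat.card H
  · have hQH : Q ≤ H := fun a ha => by
      obtain ⟨P⟩ : Nonempty (Sylow q H) := inferInstance
      set T := (P : Subgroup H).map H.subtype with hT
      have hTp : IsPGroup q T := P.isPGroup'.map _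
      have hTσ : T ≤ sigmaCore M := (map_subtype_le _).trans hH
      have hidx : ¬ q ∣ T.relIndex (sigmaCore M) := by
        rw [← relIndex_mul_relIndex T H (sigmaCore M) (map_subtype_le _) hH]
        intro h
        rcases c.hq.dvd_mul.mp h with h1 | h1
        · rw [relIndex, subgroupOf, comap_map_eq_self_of_injective H.subtype_injective] at h1
          exact P.not_dvd_index h1
        · exact c.hq.ne_one (Nat.eq_one_of_dvd_coprimes hHall hqH h1)
      have hTQ : T ≤ Q := fun t ht => KappaDecomp.mem_of_normal_coprime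
        ((Sigma.sigmaCore_le M).trans c.normal) c.le (hTσ ht) (Nat.coprime_of_dvd fun r hr h1 h2 =>
          c.index (by
            have := PType.eq_of_dvd_pow_card hr hTp (h1.trans (orderOf_dvd_natCard T ht))
            exact this ▸ h2))
      have heq : T = Q := eq_of_le_of_card_ge hTQ (by
        refine Nat.le_of_dvd Nat.card_pos ?_
        obtain ⟨k, hk⟩ := c.pgroup.exists_card_eq
        refine (hk ▸ Nat.Coprime.pow_left k (c.hq.coprime_iff_not_dvd.mpr hidx) :
          (Nat.card Q).Coprime (T.relIndex (sigmaCore M))).dvd_of_dvd_mul_right ?_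
        rw [hrel T hTσ]
        exact card_dvd_of_le c.le)
      exact map_subtype_le _ (heq.ge ha)
    have hMH : M ≤ normalizer (H : Set G) := le_normalizer_of_quotient hG hM hH hHall
      (R := Q.subgroupOf (sigmaCore M)) (fun a ha => hQH ha) (quotient_nilpotent hG c rfl)
    exact ⟨m, mem_inf.mpr ⟨hm, hMH hm⟩, he⟩
  -- `H Q` is normal in `M`
  set J := Q ⊔ H with hJ
  have hHQn : H ≤ normalizer (Q : Set G) := (hH.trans (Sigma.sigmaCore_le M)).trans c.normal
  have hJσ : J ≤ sigmaCore M := sup_le c.le hH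
  have hdj : Disjoint Q H := disjoint_iff.mpr (inf_eq_bot_of_coprime (by
    obtain ⟨k, hk⟩ := c.pgroup.exists_card_eq
    rw [hk]
    exact Nat.Coprime.pow_left k (c.hq.coprime_iff_not_dvd.mpr hqH)))
  have hJc : Nat.card J = Nat.card Q * Nat.card H := Coprime.card_sup_of_disjoint hHQn hdj
  have hHJ : IsPiHallOf {r | r ∣ Nat.card H} H J := by
    refine ⟨le_sup_right, fun r _ hd => hd, fun r hr hd h => ?_⟩
    refine hr.ne_one (Nat.eq_one_of_dvd_coprimes hHall hd (h.trans ?_))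
    rw [← relIndex_mul_relIndex H J (sigmaCore M) le_sup_right hJσ]
    exact dvd_mul_right _ _
  have hMJ : M ≤ normalizer (J : Set G) := by
    refine le_normalizer_of_quotient hG hM hJσ ?_ (R := Q.subgroupOf (sigmaCore M))
      (fun a ha => mem_sup_left (ha : (a : G) ∈ Q)) (quotient_nilpotent hG c rfl)
    have h1 : J.relIndex (sigmaCore M) ∣ H.relIndex (sigmaCore M) := by
      rw [← relIndex_mul_relIndex H J (sigmaCore M) le_sup_right hJσ]
      exact dvd_mul_left _ _
    rw [hJc]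
    refine Nat.Coprime.mul_left ?_ (hHall.coprime_dvd_right h1)
    obtain ⟨k, hk⟩ := c.pgroup.exists_card_eq
    rw [hk]
    refine Nat.Coprime.pow_left k (c.hq.coprime_iff_not_dvd.mpr fun h => c.index (h.trans ?_))
    rw [← relIndex_mul_relIndex Q J (sigmaCore M) le_sup_left hJσ]
    exact dvd_mul_left _ _
  obtain ⟨a, ha, hle⟩ := PType.exists_conj_le_hall_solvable
    (Transitivity.isSolvable_of_ne_top hG fun e => hM.1 (top_le_iff.mp (e ▸ hJσ.trans (Sigma.sigmaCore_le M))))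
    hHJ (Y := H.map (MulAut.conj m).toMonoidHom) (by
      rintro _ ⟨h, hh, rfl⟩
      exact (mem_normalizer_iff.mp (hMJ hm) h).mp (mem_sup_right hh))
    (fun r _ hd => by rwa [card_map_conj] at hd)
  have heq := eq_of_le_of_card_ge hle (by rw [card_map_conj, card_map_conj])
  obtain ⟨w, hw, h₀, hh₀, rfl⟩ := KappaDecomp.exists_mul_sup hHQn ha
  have hwhM : w * h₀ ∈ M := Sigma.sigmaCore_le M (hJσ (mul_mem_sup hw hh₀))
  set n := h₀ * ((w * h₀)⁻¹ * m) with hn'
  have hnH : n ∈ normalizer (H : Set G) := by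
    refine mul_mem (le_normalizer hh₀) (map_conj_eq_self_iff.mp ?_)
    rw [Transfer.Fusion.map_conj_mul, heq, Transfer.Fusion.map_conj_inv_cancel]
  have hnM : n ∈ M := mul_mem (Sigma.sigmaCore_le M (hH hh₀)) (mul_mem (inv_mem hwhM) hm)
  refine ⟨n, mem_inf.mpr ⟨hnM, hnH⟩, ?_⟩
  have hx' : n * x * n⁻¹ ∈ H := (mem_normalizer_iff.mp hnH x).mp hx
  have hmn : g * x * g⁻¹ = w * (n * x * n⁻¹) * w⁻¹ := by rw [← he, hn']; group
  have hcomm : w * (n * x * n⁻¹) * w⁻¹ * (n * x * n⁻¹)⁻¹ ∈ Q ⊓ H := by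
    refine mem_inf.mpr ⟨?_, mul_mem (hmn ▸ hgx) (inv_mem hx')⟩
    have h1 := (mem_normalizer_iff.mp (hHQn hx') w⁻¹).mp (inv_mem hw)
    simpa [mul_assoc] using mul_mem hw h1
  rw [hdj.eq_bot, mem_bot, mul_inv_eq_one] at hcomm
  rw [hmn, hcomm]

/-- `C_M(H) = C_{M_σ}(H) X`. -/
theorem centralizer_split (hG : IsMinSimpleOddOrder G) (hM : IsCoatom M) (hH : H ≤ sigmaCore M)
    (hH1 : H ≠ ⊥) (hHall : (Nat.card H).Coprime (H.relIndex (sigmaCore M))) :
    ∃ X : Subgroup G, IsCyclic X ∧ (∀ p : ℕ, p.Prime → p ∣ Nat.card X → p ∈ tau2 M) ∧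
      M ⊓ centralizer (H : Set G) = (sigmaCore M ⊓ centralizer (H : Set G)) ⊔ X := by
  obtain ⟨K, U, hKU⟩ := Fcore.exists_decomp hG hM
  set C := M ⊓ centralizer (H : Set G) with hC
  set N := sigmaCore M ⊓ centralizer (H : Set G) with hN
  have hNC : N ≤ C := inf_le_inf_right _ (Sigma.sigmaCore_le M)
  have : (N.subgroupOf C).Normal := by
    refine (normal_subgroupOf_iff_le_normalizer hNC).mpr ((le_inf ?_ ?_).trans inf_normalizer_le_normalizer_inf)
    · exact inf_le_left.trans (Sigma.le_normalizer_sigmaCore M)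
    · exact inf_le_right.trans le_normalizer
  have hNπ : ∀ p : ℕ, p.Prime → p ∣ Nat.card N → p ∈ sigma M := fun p hp hd =>
    Transitivity.isPi_piCoreOf (sigma M) M p hp (hd.trans (card_dvd_of_le inf_le_left))
  have hidx : ∀ p : ℕ, p.Prime → p ∣ (N.subgroupOf C).index → p ∉ sigma M := fun p hp hd hσ => by
    refine (Sigma.sigmaCore_hall hG hM).1.2.2 p hp hσ (hd.trans ?_)
    have h1 : N = sigmaCore M ⊓ C := by
      rw [hC, ← inf_assoc, inf_eq_left.mpr (Sigma.sigmaCore_le M)]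
    show N.relIndex C ∣ (sigmaCore M).relIndex M
    rw [h1, inf_relIndex_right]
    have : ((sigmaCore M).subgroupOf M).Normal :=
      (normal_subgroupOf_iff_le_normalizer (Sigma.sigmaCore_le M)).mpr (Sigma.le_normalizer_sigmaCore M)
    rw [← relIndex_subgroupOf (inf_le_left : C ≤ M)]
    exact relIndex_dvd_index_of_normal _ _
  obtain ⟨X₁, hX₁⟩ := exists_right_complement'_of_coprime (N := N.subgroupOf C)
    (Nat.coprime_of_dvd fun p hp h1 h2 => hidx p hp h2 (hNπ p hp (by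
      rwa [Nat.card_congr (subgroupOfEquivOfLe hNC).toEquiv] at h1)))
  set X := X₁.map C.subtype with hX
  have hXC : X ≤ C := map_subtype_le _
  have hXσ : ∀ p : ℕ, p.Prime → p ∣ Nat.card X → p ∉ sigma M := fun p hp hd => hidx p hp (by
    rw [hX, card_map_of_injective C.subtype_injective] at hd
    rwa [hX₁.symm.index_eq_card])
  have hCX : C = N ⊔ X := by
    refine le_antisymm (fun z hz => ?_) (sup_le hNC hXC)
    obtain ⟨⟨⟨a, ha⟩, ⟨b, hb⟩⟩, e⟩ := hX₁.2 ⟨z, hz⟩
    have e' : (a : G) * b = z := congrArg Subtype.val e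
    exact e' ▸ mul_mem_sup (ha : (a : G) ∈ N) (mem_map_of_mem _ hb)
  rcases eq_or_ne X ⊥ with hX1 | hX1
  · exact ⟨X, by rw [hX1]; infer_instance, fun p hp hd => absurd (Nat.dvd_one.mp (by
      rwa [hX1, card_bot] at hd)) hp.ne_one, hCX⟩
  have hXM : X ≤ M := hXC.trans inf_le_left
  obtain ⟨h, hh, hh1⟩ := (bot_or_exists_ne_one H).resolve_left hH1
  have hcomm : ∀ z ∈ X, ∀ a ∈ H, a * z = z * a := fun z hz a ha =>
    mem_centralizer_iff.mp (hXC hz).2 a ha
  -- no `κ`-primes
  have hXκ : ∀ p : ℕ, p.Prime → p ∣ Nat.card X → p ∉ kappa M := fun p hp hd hκ => by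
    have := Fact.mk hp
    obtain ⟨k, hk⟩ := exists_prime_orderOf_dvd_card' p hd
    rw [← orderOf_coe] at hk
    obtain ⟨m, hm, hle⟩ := PType.exists_conj_le_hall hG hM hKU.hall (zpowers_le.mpr (hXM k.2))
      (fun r hr hr' => by
        rw [Nat.card_zpowers, hk] at hr'
        rw [(Nat.prime_dvd_prime_iff_eq hr hp).mp hr']; exact hκ)
    obtain ⟨k', hk', hkk⟩ := hle (mem_zpowers (k : G))
    have hkk' : (k : G) = m * k' * m⁻¹ := hkk.symm
    have hk'1 : k' ≠ 1 := fun e => KappaCentral.ne_one_of_order hk (by rw [hkk', e]; group)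
    have hK1 : K ≠ ⊥ := fun e => hk'1 (mem_bot.mp (e ▸ hk'))
    have hd := KappaDecomp.data_of hG hM hKU hK1
    obtain ⟨s, hs, hsd⟩ := Nat.exists_prime_and_dvd (fun e : Nat.card H = 1 => hH1 (card_eq_one.mp e))
    have := Fact.mk hs
    have hsσ : s ∈ sigma M :=
      Transitivity.isPi_piCoreOf (sigma M) M s hs (hsd.trans (card_dvd_of_le hH))
    set H' := H.map (MulAut.conj m⁻¹).toMonoidHom with hH'
    have hH'K : H' ≤ sigmaCore M ⊓ centralizer (K : Set G) := by
      rintro _ ⟨a, ha, rfl⟩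
      refine ((hd.fixed k' hk' hk'1).le) (mem_inf.mpr
        ⟨(mem_normalizer_iff.mp (Sigma.le_normalizer_sigmaCore M (inv_mem hm)) a).mp (hH ha),
          mem_centralizer_singleton_iff.mpr ?_⟩)
      show m⁻¹ * a * m⁻¹⁻¹ * k' = k' * (m⁻¹ * a * m⁻¹⁻¹)
      have := hcomm k k.2 a ha
      rw [hkk'] at this
      calc m⁻¹ * a * m⁻¹⁻¹ * k' = m⁻¹ * (a * (m * k' * m⁻¹)) * m := by group
        _ = m⁻¹ * (m * k' * m⁻¹ * a) * m := by rw [this]
        _ = k' * (m⁻¹ * a * m⁻¹⁻¹) := by group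
    obtain ⟨P⟩ : Nonempty (Sylow s H') := inferInstance
    set T := (P : Subgroup H').map H'.subtype with hT
    have hH'σ : H' ≤ sigmaCore M := hH'K.trans inf_le_left
    have hidxT : ¬ s ∣ T.index := by
      intro h
      rw [← relIndex_mul_index ((map_subtype_le _).trans hH'σ : T ≤ sigmaCore M),
        ← relIndex_mul_relIndex T H' (sigmaCore M) (map_subtype_le _) hH'σ] at h
      rcases hs.dvd_mul.mp h with h1 | h1
      rcases hs.dvd_mul.mp h1 with h2 | h2
      · rw [relIndex, subgroupOf, comap_map_eq_self_of_injective H'.subtype_injective] at h2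
        exact P.not_dvd_index h2
      · have h3 : Nat.card H' * H'.relIndex (sigmaCore M) = Nat.card H * H.relIndex (sigmaCore M) := by
          simp only [← relIndex_bot_left, relIndex_mul_relIndex ⊥ H' _ bot_le hH'σ,
            relIndex_mul_relIndex ⊥ H _ bot_le hH]
        rw [card_map_conj] at h3
        exact hs.ne_one (Nat.eq_one_of_dvd_coprimes hHall hsd
          (Nat.eq_of_mul_eq_mul_left Nat.card_pos h3 ▸ h2))
      · have h4 := (Sigma.sigmaCore_hall hG hM).2
        exact h4.2 s hs hsσ h1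
    obtain ⟨S, hS⟩ : ∃ S : Sylow s G, (S : Subgroup G) = T :=
      ⟨IsPGroup.toSylow (P := T) (P.isPGroup'.map _) hidxT, IsPGroup.toSylow_coe _ _⟩
    exact KappaFixed.not_le_fixed hG hM hKU.hall hK1 hsσ S
      (hS ▸ ((map_subtype_le _).trans hH'σ).trans (Sigma.sigmaCore_le M))
      (hS ▸ (map_subtype_le _).trans hH'K)
  have hXUσ : X ≤ U ⊔ sigmaCore M := fun z hz => KappaDecomp.mem_sup_of_not_kappa hG hM hKU (hXM hz)
    fun p hp hd => hXκ p hp (hd.trans (orderOf_dvd_natCard X hz))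
  obtain ⟨n, hn, hle⟩ := PType.exists_conj_le_hall_solvable
    (Transitivity.isSolvable_of_ne_top hG fun e => hM.1 (top_le_iff.mp (e ▸ KappaDecomp.sup_le' hKU)))
    (PType.hall_U hG hM hKU) hXUσ hXσ
  have hnM : n ∈ M := KappaDecomp.sup_le' hKU hn
  set X' := X.map (MulAut.conj n⁻¹).toMonoidHom with hX'
  have hX'U : X' ≤ U := by
    rintro _ ⟨z, hz, rfl⟩
    obtain ⟨w, hw, rfl⟩ := hle hz
    simpa [mul_assoc] using hw
  have hyσ : n⁻¹ * h * n⁻¹⁻¹ ∈ sigmaCore M :=
    (mem_normalizer_iff.mp (Sigma.le_normalizer_sigmaCore M (inv_mem hnM)) h).mp (hH hh)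
  have hy1 : n⁻¹ * h * n⁻¹⁻¹ ≠ 1 := fun e => hh1 (conj_eq_one_iff.mp e)
  have hyc : ∀ z ∈ X, n⁻¹ * z * n⁻¹⁻¹ * (n⁻¹ * h * n⁻¹⁻¹) = n⁻¹ * h * n⁻¹⁻¹ * (n⁻¹ * z * n⁻¹⁻¹) :=
    fun z hz => by
      calc n⁻¹ * z * n⁻¹⁻¹ * (n⁻¹ * h * n⁻¹⁻¹) = n⁻¹ * (z * h) * n := by group
        _ = n⁻¹ * (h * z) * n := by rw [hcomm z hz h hh]
        _ = n⁻¹ * h * n⁻¹⁻¹ * (n⁻¹ * z * n⁻¹⁻¹) := by group
  have hcyc' : IsCyclic X' := PType.isCyclic_of_fixed hG hM hKU hX'U fun e =>
    hy1 (mem_bot.mp (e ▸ mem_inf.mpr ⟨hyσ, mem_centralizer_iff.mpr (by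
      rintro _ ⟨z, hz, rfl⟩
      exact hyc z hz)⟩))
  refine ⟨X, isCyclic_of_surjective _
    (X.equivMapOfInjective (MulAut.conj n⁻¹).toMonoidHom (MulAut.conj n⁻¹).injective).symm.surjective,
    fun p hp hd => ?_, hCX⟩
  have := Fact.mk hp
  obtain ⟨z, hz⟩ := exists_prime_orderOf_dvd_card' p hd
  rw [← orderOf_coe] at hz
  exact (PType.of_fixed hG hM hKU (hX'U ⟨z, z.2, rfl⟩)
    (fun e => KappaCentral.ne_one_of_order hz (conj_eq_one_iff.mp e)) hyσ hy1 (hyc z z.2)).1 p hp
    (((MulAut.conj n⁻¹).orderOf_eq (z : G)).symm ▸ hz.symm ▸ dvd_rfl)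

end Cfsg.Agent.OddLocal.HallCore
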