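import Cfsg.Agent.OddLocal.KappaOver

/-! Prime action of a complement with a nonregular element at a prime of `τ₃(M)` (BG 13.10). -/

set_option autoImplicit false
set_option linter.unusedSectionVars false

namespace Cfsg.Agent.OddLocal.KappaAction

open Cfsg Subgroup PrimeAction KappaCentral KappaOver
open scoped commutatorElement Pointwise
open TauTwo (centralizer_zpowers mem_zpowers_of_cyclic)

variable {G : Type*} [Group G] [Finite G] {M L E : Subgroup G} {p q r : ℕ} [hp : Fact p.Prime]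
  [hq : Fact q.Prime] [hr : Fact r.Prime] {u y e : G}

theorem mem_inf_centralizer {K : Subgroup G} {x v : G} :
    x ∈ K ⊓ centralizer ({v} : Set G) ↔ x ∈ K ∧ x * v = v * x := by
  rw [mem_inf, mem_centralizer_singleton_iff]

/-- BG 13.4 for elements. -/
theorem tau1_le (hG : IsMinSimpleOddOrder G) (hM : IsCoatom M) (hE : IsComplIn E (sigmaCore M) M)
    (hpM : ¬ p ∣ Nat.card ↥⁅M, M⁆) (hp1 : PRankLE p 1 M) (heE : e ∈ E) (heo : orderOf e = p) (huE : u ∈ E)
    (huo : orderOf u = r) (heu : e * u = u * e) :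
    sigmaCore M ⊓ centralizer ({e} : Set G) ≤ sigmaCore M ⊓ centralizer ({u} : Set G) := by
  rw [← centralizer_zpowers, ← centralizer_zpowers]
  exact le_inf inf_le_left (le_centralizer_of_tau1 hG hM hpM
    (Compl.not_sigma hG hM hE hp.out (heo ▸ orderOf_dvd_natCard _ heE)) hp1 (zpowers_le.mpr (hE.1 heE))
    (card_zpowers_eq heo) (zpowers_le.mpr (hE.1 huE)) (card_zpowers_eq huo)
    (Compl.not_sigma hG hM hE hr.out (huo ▸ orderOf_dvd_natCard _ huE))
    (zpowers_le.mpr (mem_centralizer_zpowers heu.symm)))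

/-- The partner of `u`: an element of `τ₁(M)` in `σ(L)` with the same fixed points. -/
theorem exists_partner (h : Tau3 M L r q u y) (hE : IsComplIn E (sigmaCore M) M) (huE : u ∈ E) :
    ∃ (p : ℕ) (e : G), p.Prime ∧ e ∈ E ∧ orderOf e = p ∧ ¬ p ∣ Nat.card ↥⁅M, M⁆ ∧ e * u = u * e ∧
      e ∈ sigmaCore L ∧
      sigmaCore M ⊓ centralizer ({e} : Set G) = sigmaCore M ⊓ centralizer ({u} : Set G) := by
  have hG := h.hG
  have hM := h.hM
  obtain ⟨g, hg, hgu⟩ := exists_mover hG hM hE h.hrσ h.hr1 h.hrM huE h.huo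
  obtain ⟨p, hp, T₀, hT₀⟩ : ∃ p : ℕ, p.Prime ∧ ∃ T : Sylow p E,
      ¬ (T : Subgroup E).map E.subtype ≤ centralizer ({u} : Set G) := by
    by_contra hcon
    push Not at hcon
    refine hgu (mem_centralizer_singleton_iff.mp ((?_ : E ≤ centralizer ({u} : Set G)) hg))
    rw [← subgroupOf_eq_top]
    refine Cores.eq_top_of_sylow_le fun p hp _ => ?_
    have := Fact.mk hp
    obtain ⟨T⟩ : Nonempty (Sylow p E) := inferInstance
    exact ⟨T, fun z hz => mem_subgroupOf.mpr (hcon p hp T (mem_map_of_mem _ hz))⟩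
  have := Fact.mk hp
  set T := (T₀ : Subgroup E).map E.subtype with hT
  have hTE : T ≤ E := map_subtype_le _
  have hTp : IsPGroup p T := T₀.isPGroup'.map _
  have hT1 : T ≠ ⊥ := fun e => hT₀ (e ▸ bot_le)
  have hpE : p ∣ Nat.card E := (PrimeAction.dvd_card_of_ne_bot hTp hT1).trans (card_dvd_of_le hTE)
  have hpσ : p ∉ sigma M := Compl.not_sigma hG hM hE hp hpE
  have hp1 := h.rank_one hp hpσ
  have hTc : IsCyclic T := Compl.isCyclic_of_rankOne hG hp1 hTp (hTE.trans hE.1)
  have hpM : ¬ p ∣ Nat.card ↥⁅M, M⁆ := fun hd => hT₀ fun z hz => mem_centralizer_singleton_iff.mpr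
    (comm_commutator hG hM hE (pgroup_le_commutator hG hE hp1 (Compl.dvd_commutator hG hM hE hpσ hd)
      hTp hTE hz) (mem_commutator hG hM hE h.hrσ h.hr1 h.hrM huE h.huo))
  obtain ⟨e₁, he₁⟩ := exists_prime_orderOf_dvd_card' p (PrimeAction.dvd_card_of_ne_bot hTp hT1)
  rw [← orderOf_coe] at he₁
  set e : G := (e₁ : G)
  have heT : e ∈ T := e₁.2
  have heu := h.centralizes_line hE huE (hTE heT) he₁ hpM
  have hle := tau1_le hG hM hE hpM hp1 (hTE heT) he₁ huE h.huo heu
  have heM : e ∈ M := hE.1 (hTE heT)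
  have hEL := h.compl_le hE huE
  have heL : e ∈ L := hEL (hTE heT)
  have hpL : p ∈ sigma L := by
    by_contra hpL
    by_cases hpL1 : PRankLE p 1 L
    · refine hT₀ fun z hz => mem_centralizer_singleton_iff.mpr ?_
      exact (mem_centralizer_iff.mp (le_centralizer_of_cyclic hG h.hL hpL hpL1 (card_zpowers_eq he₁) hTp
        hTc (zpowers_le.mpr heT) (hTE.trans hEL)
        (mem_inf.mpr ⟨h.huL, mem_centralizer_zpowers heu.symm⟩)) z hz)
    by_cases hey : e * y = y * e
    · obtain ⟨H, hH, hNH⟩ := exists_normalizer_le hG (ne_bot_of_card (card_zpowers_eq he₁))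
        (zpowers_le.mpr heM) hM
      have hpH := (over_sigma hG hM heM he₁ hpσ hp1 h.hy h.hyo hey hH hNH).1
      have hu := (SigmaCompl.centralizer_unique hG h.hL heL (ne_one_of_order he₁) (fun s hs hd => by
        rw [he₁] at hd
        rw [(Nat.prime_dvd_prime_iff_eq hs hp).mp hd]
        exact ⟨hp, hpL, SigmaCompl.rank_le hG h.hL hp hpL, hpL1⟩) h.huL (ne_one_of_order h.huo) heu).2 H hH
        (by rw [← centralizer_zpowers]; exact (centralizer_le_normalizer _).trans hNH)
      exact hpL (hu ▸ hpH)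
    set c := ⁅e, y⁆ with hc
    have hc1 : c ≠ 1 := fun e' => hey (commutatorElement_eq_one_iff_mul_comm.mp e')
    have hcK : c ∈ sigmaCore M := by
      have h2 := mul_mem ((mem_normalizer_iff.mp (Sigma.le_normalizer_sigmaCore M heM) y).mp h.hy)
        (inv_mem h.hy)
      simpa [hc, commutatorElement_def] using h2
    have hcL' : c ∈ ⁅L, L⁆ := commutator_mem_commutator heL h.hyL
    have hc1' : orderOf c ≠ 1 := fun e' => hc1 (orderOf_eq_one_iff.mp e')
    have := Fact.mk (Nat.minFac_prime hc1')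
    set v := c ^ (orderOf c / (orderOf c).minFac) with hv
    have hvo : orderOf v = (orderOf c).minFac :=
      orderOf_pow_orderOf_div (orderOf_pos c).ne' (Nat.minFac_dvd _)
    have hvK : v ∈ sigmaCore M := pow_mem hcK _
    have hvL' : v ∈ ⁅L, L⁆ := pow_mem hcL' _
    have huv : u * v = v * u := (mem_centralizer_singleton_iff.mp (inter_le hG hM h.hu h.huo h.hrσ h.hr1
      h.hL h.hN (mem_inf.mpr ⟨hvK, commutator_le_self L hvL'⟩))).symm
    have h' : Tau3 M L r (orderOf c).minFac u v :=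
      ⟨hG, hM, h.hL, h.hu, h.huo, h.hrσ, h.hr1, h.hrM, hvK, hvo, huv, h.hN⟩
    have hs : Tau3 L M (orderOf c).minFac r v u := ⟨hG, h.hL, hM, h'.hyL, hvo, h'.hqL, h'.hq1,
      hvo ▸ orderOf_dvd_natCard _ hvL', h.huL, h.huo, huv.symm, h'.hNy⟩
    exact hpL1 (hs.rank_one hp hpL)
  have heK : e ∈ sigmaCore L := Sigma.sylow_le_sigmaCore hG h.hL hpL
    (isPGroup_of_card (card_zpowers_eq he₁)) (zpowers_le.mpr heL) (mem_zpowers e)
  refine ⟨p, e, hp, hTE heT, he₁, hpM, heu, heK, le_antisymm hle fun x hx => ?_⟩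
  obtain ⟨hxK, hxu⟩ := mem_inf_centralizer.mp hx
  exact mem_inf_centralizer.mpr
    ⟨hxK, inter_comm hG hM h.hL h.hne hxK (h.hN (mem_normalizer_of_comm hxu)) heK heM⟩

/-- Every element of prime order in `E'` has the fixed point `y`. -/
theorem commutator_fixed (h : Tau3 M L r q u y) (hE : IsComplIn E (sigmaCore M) M) (huE : u ∈ E)
    {s : ℕ} [Fact s.Prime] {f : G} (hf : f ∈ ⁅E, E⁆) (hfo : orderOf f = s) : f * y = y * f := by
  have hG := h.hG
  have hM := h.hM
  obtain ⟨p, e, hp, heE, heo, hpM, heu, heK, hfix⟩ := exists_partner h hE huE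
  have := Fact.mk hp
  have hfE : f ∈ E := commutator_le_self E hf
  have hsσ : s ∉ sigma M := Compl.not_sigma hG hM hE Fact.out (hfo ▸ orderOf_dvd_natCard _ hfE)
  have hs1 := h.rank_one Fact.out hsσ
  have hsM : s ∣ Nat.card ↥⁅M, M⁆ := hfo ▸ orderOf_dvd_natCard _ (commutator_mono hE.1 hE.1 hf)
  by_contra hfy
  have hef : e * f = f * e := by
    have hfN := normalizes_line hG hM hE hsσ hs1 hsM hfE hfo heE
    have hfL : f ∈ L := h.compl_le hE huE hfE
    by_cases hsL : s ∈ sigma L
    · exact absurd ((inter_comm hG hM h.hL h.hne h.hy h.hyL (Sigma.sylow_le_sigmaCore hG h.hL hsL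
        (isPGroup_of_card (card_zpowers_eq hfo)) (zpowers_le.mpr hfL) (mem_zpowers f)) (hE.1 hfE)).symm) hfy
    have h1 : ⁅e, f⁆ ∈ sigmaCore L ⊓ zpowers f := mem_inf.mpr ⟨?_, ?_⟩
    · have h0 : sigmaCore L ⊓ zpowers f = ⊥ := (Coprime.disjoint_of_coprime (N := sigmaCore L)
        (H := zpowers f) (by
          rw [card_zpowers_eq hfo]
          exact ((Fact.out : s.Prime).coprime_iff_not_dvd.mpr
            (Compl.not_dvd_sigmaCore Fact.out hsL)).symm)).eq_bot
      rwa [h0, mem_bot, commutatorElement_eq_one_iff_mul_comm] at h1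
    · have h2 := mul_mem heK
        ((mem_normalizer_iff.mp (Sigma.le_normalizer_sigmaCore L hfL) e⁻¹).mp (inv_mem heK))
      simpa [commutatorElement_def, mul_assoc] using h2
    · exact mul_mem ((mem_normalizer_iff.mp hfN f).mp (mem_zpowers f)) (inv_mem (mem_zpowers f))
  have hp1 := h.rank_one hp (Compl.not_sigma hG hM hE hp (heo ▸ orderOf_dvd_natCard _ heE))
  have hy : y ∈ sigmaCore M ⊓ centralizer ({e} : Set G) :=
    hfix.symm ▸ mem_inf_centralizer.mpr ⟨h.hy, h.huy.symm⟩
  exact hfy (mem_inf_centralizer.mp (tau1_le hG hM hE hpM hp1 heE heo hfE hfo hef hy)).2.symm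

/-- The elements of prime order at `τ₁(M)` are central in the complement. -/
theorem tau1_central (h : Tau3 M L r q u y) (hE : IsComplIn E (sigmaCore M) M) (huE : u ∈ E)
    (heE : e ∈ E) (heo : orderOf e = p) (hpM : ¬ p ∣ Nat.card ↥⁅M, M⁆) :
    e ∈ centralizer (E : Set G) := by
  have hG := h.hG
  have hM := h.hM
  set D := ⁅E, E⁆ with hD
  have hpD : ¬ p ∣ Nat.card D := fun hd => hpM (hd.trans (card_dvd_of_le (commutator_mono hE.1 hE.1)))
  have hDE : D ≤ E := commutator_le_self E
  have hEDn : E ≤ normalizer (D : Set G) := Coprime.le_normalizer_commutator_self le_normalizer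
  have heD : D ≤ centralizer ({e} : Set G) := by
    rw [← subgroupOf_eq_top]
    refine Cores.eq_top_of_sylow_le fun s hs hd => ?_
    have := Fact.mk hs
    have hsp : s ≠ p := fun e' => hpD (e' ▸ hd)
    have hsσ : s ∉ sigma M := Compl.not_sigma hG hM hE hs (hd.trans (card_dvd_of_le hDE))
    have hcop : (Nat.card (zpowers e)).Coprime (Nat.card D) := by
      rw [card_zpowers_eq heo]; exact hp.out.coprime_iff_not_dvd.mpr hpD
    obtain ⟨S, hS⟩ := Coprime.exists_invariant_sylow s (zpowers_le.mpr (hEDn heE)) hcop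
      (Or.inl (Coprime.isSolvable_of_isPGroup (isPGroup_of_card (card_zpowers_eq heo))))
    have hs2 : s ≠ 2 := Unique.ne_two hG (hd.trans (card_dvd_of_le (hDE.trans hE.1)))
    have hle := Coprime.le_centralizer_of_fix_order_p (p := s) hs2 (S.isPGroup'.map D.subtype) hS
      (by rw [card_zpowers_eq heo]; exact (Nat.coprime_primes hp.out hs).mpr hsp.symm) ?_
    · exact ⟨S, fun z hz => mem_subgroupOf.mpr (mem_centralizer_singleton_iff.mpr
        (mem_centralizer_iff.mp (hle (mem_zpowers e)) z (mem_map_of_mem _ hz)))⟩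
    intro x hx hxs a ha
    rcases eq_or_ne x 1 with rfl | hx1
    · simp
    have hxD : x ∈ D := map_subtype_le _ hx
    have hxo : orderOf x = s := orderOf_eq_prime hxs hx1
    have hfy := commutator_fixed h hE huE hxD hxo
    obtain ⟨Lx, hLx, hNx⟩ := exists_normalizer_le hG (ne_bot_of_card (card_zpowers_eq hxo))
      (zpowers_le.mpr (hE.1 (hDE hxD))) hM
    have hx' : Tau3 M Lx s q x y := ⟨hG, hM, hLx, hE.1 (hDE hxD), hxo, hsσ, h.rank_one hs hsσ,
      hd.trans (card_dvd_of_le (commutator_mono hE.1 hE.1)), h.hy, h.hyo, hfy, hNx⟩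
    have hex := hx'.centralizes_line hE (hDE hxD) heE heo hpM
    obtain ⟨i, rfl⟩ := mem_zpowers_iff.mp ha
    exact ((show Commute e x from hex).zpow_left i).eq
  refine mem_centralizer_iff.mpr fun g hg => ?_
  have hc : ⁅g, e⁆ ∈ D := commutator_mem_commutator hg heE
  have hcom : Commute ⁅g, e⁆ e := mem_centralizer_singleton_iff.mp (heD hc)
  have h1 : ⁅g, e⁆ * e = g * e * g⁻¹ := by rw [commutatorElement_def]; group
  have h2 : ⁅g, e⁆ ^ p = 1 := by
    have := hcom.mul_pow p
    rw [h1, conj_pow, pow_eq_one_of_order heo, mul_one, mul_one, mul_inv_cancel] at this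
    exact this.symm
  refine commutatorElement_eq_one_iff_mul_comm.mp (orderOf_eq_one_iff.mp ?_)
  exact Nat.eq_one_of_dvd_coprimes (hp.out.coprime_iff_not_dvd.mpr hpD) (orderOf_dvd_of_pow_eq_one h2)
    (orderOf_dvd_natCard _ hc)

/-- All elements of prime order of the complement have the same fixed points, `C_{M_σ}(E)`, and span
normal subgroups of it. -/
theorem prime_action (h : Tau3 M L r q u y) (hE : IsComplIn E (sigmaCore M) M) (huE : u ∈ E)
    {s : ℕ} [hs : Fact s.Prime] {v : G} (hvE : v ∈ E) (hvo : orderOf v = s) :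
    sigmaCore M ⊓ centralizer ({v} : Set G) = sigmaCore M ⊓ centralizer (E : Set G) ∧
      E ≤ normalizer ((zpowers v : Subgroup G) : Set G) ∧ y ∈ centralizer (E : Set G) := by
  have hG := h.hG
  have hM := h.hM
  obtain ⟨p, e, hp', heE, heo, hpM, heu, heK, hfix⟩ := exists_partner h hE huE
  have := Fact.mk hp'
  have hp1 := h.rank_one hp' (Compl.not_sigma hG hM hE hp' (heo ▸ orderOf_dvd_natCard _ heE))
  set W := sigmaCore M ⊓ centralizer ({e} : Set G) with hW
  have key : ∀ (t : ℕ) (g : G), t.Prime → g ∈ E → orderOf g = t →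
      sigmaCore M ⊓ centralizer ({g} : Set G) = W ∧ E ≤ normalizer ((zpowers g : Subgroup G) : Set G) := by
    intro t g ht hgE hgo
    have := Fact.mk ht
    have htσ : t ∉ sigma M := Compl.not_sigma hG hM hE ht (hgo ▸ orderOf_dvd_natCard _ hgE)
    have ht1 := h.rank_one ht htσ
    have hone : ∀ (a : ℕ) (x : G) [Fact a.Prime], x ∈ E → orderOf x = a → ¬ a ∣ Nat.card ↥⁅M, M⁆ →
        sigmaCore M ⊓ centralizer ({x} : Set G) = W := fun a x _ hxE hxo haM => by
      have hc := mem_centralizer_iff.mp (tau1_central h hE huE hxE hxo haM) e heE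
      have ha1 := h.rank_one (Fact.out : a.Prime)
        (Compl.not_sigma hG hM hE Fact.out (hxo ▸ orderOf_dvd_natCard _ hxE))
      exact le_antisymm (tau1_le hG hM hE haM ha1 hxE hxo heE heo hc.symm)
        (tau1_le hG hM hE hpM hp1 heE heo hxE hxo hc)
    by_cases htM : t ∣ Nat.card ↥⁅M, M⁆
    swap
    · refine ⟨hone t g hgE hgo htM, ?_⟩
      refine le_trans (fun a ha => ?_) (centralizer_le_normalizer _)
      rw [centralizer_zpowers]
      exact mem_centralizer_singleton_iff.mpr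
        (mem_centralizer_iff.mp (tau1_central h hE huE hgE hgo htM) a ha)
    refine ⟨?_, normalizes_line hG hM hE htσ ht1 htM hgE hgo⟩
    have hgy := commutator_fixed h hE huE (mem_commutator hG hM hE htσ ht1 htM hgE hgo) hgo
    obtain ⟨Lg, hLg, hNg⟩ := exists_normalizer_le hG (ne_bot_of_card (card_zpowers_eq hgo))
      (zpowers_le.mpr (hE.1 hgE)) hM
    have hg : Tau3 M Lg t q g y :=
      ⟨hG, hM, hLg, hE.1 hgE, hgo, htσ, ht1, htM, h.hy, h.hyo, hgy, hNg⟩
    obtain ⟨a, x, ha, hxE, hxo, haM, -, -, hfx⟩ := exists_partner hg hE hgE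
    have := Fact.mk ha
    rw [← hfx]
    exact hone a x hxE hxo haM
  have hEW : E ≤ centralizer (W : Set G) := by
    rw [← subgroupOf_eq_top]
    refine Cores.eq_top_of_sylow_le fun t ht hd => ?_
    have := Fact.mk ht
    have htσ : t ∉ sigma M := Compl.not_sigma hG hM hE ht hd
    obtain ⟨T⟩ : Nonempty (Sylow t E) := inferInstance
    refine ⟨T, ?_⟩
    set T' := (T : Subgroup E).map E.subtype with hT'
    have hTE : T' ≤ E := map_subtype_le _
    obtain ⟨g, hg⟩ := exists_prime_orderOf_dvd_card' t (show t ∣ Nat.card T' by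
      rw [hT', card_map_of_injective E.subtype_injective]; exact T.dvd_card_of_dvd_card hd)
    rw [← orderOf_coe] at hg
    have ht1 := h.rank_one ht htσ
    have hk := (key t g ht (hTE g.2) hg).1
    intro z hz
    refine mem_subgroupOf.mpr (mem_centralizer_iff.mpr fun x hx => ?_)
    have hx' : x ∈ sigmaCore M ⊓ centralizer ((zpowers (g : G) : Subgroup G) : Set G) := by
      rw [centralizer_zpowers, hk]; exact hx
    exact (mem_centralizer_iff.mp (le_centralizer_of_cyclic hG hM htσ ht1 (card_zpowers_eq hg)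
      (T.isPGroup'.map _) (Compl.isCyclic_of_rankOne hG ht1 (T.isPGroup'.map _) (hTE.trans hE.1))
      (zpowers_le.mpr g.2) (hTE.trans hE.1) hx') z (mem_map_of_mem _ hz)).symm
  have hWE : W = sigmaCore M ⊓ centralizer (E : Set G) :=
    le_antisymm (le_inf inf_le_left (le_centralizer_iff.mp hEW))
      (inf_le_inf_left _ (Subgroup.centralizer_le (Set.singleton_subset_iff.mpr heE)))
  refine ⟨(key s v hs.out hvE hvo).1.trans hWE, (key s v hs.out hvE hvo).2, ?_⟩
  have hy : y ∈ W := hfix.symm ▸ mem_inf_centralizer.mpr ⟨h.hy, h.huy.symm⟩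
  rw [hWE] at hy
  exact hy.2

end Cfsg.Agent.OddLocal.KappaAction
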