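import Cfsg.Agent.OddLocal.KappaCentral
import Cfsg.Agent.S1415

/-! The maximal subgroup over the normaliser of a nonregular element of rank one outside `σ(M)`, and
elements of `τ₁(M)` near nonregular elements of `τ₃(M)` (BG 13.10). -/

set_option autoImplicit false
set_option linter.unusedSectionVars false

namespace Cfsg.Agent.OddLocal.KappaOver

open Cfsg Subgroup PrimeAction KappaCentral
open scoped commutatorElement Pointwise
open TauTwo (Ctx centralizer_zpowers mem_zpowers_of_cyclic)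
open Cfsg.Agent.Transfer.Fusion (map_conj_mul card_map_conj map_conj_eq_self_iff map_conj_inv_cancel
  map_conj_le_iff coe_smul_eq_map map_conj_one)

variable {G : Type*} [Group G] [Finite G] {M L E : Subgroup G} {p q r : ℕ} [hp : Fact p.Prime]
  [hq : Fact q.Prime] [hr : Fact r.Prime] {u y e : G}

theorem card_zpowers_eq (h : orderOf u = r) : Nat.card (zpowers u) = r := by rw [Nat.card_zpowers, h]

theorem prime_dvd_order {s : ℕ} (hs : s.Prime) (h : orderOf u = r) (hd : s ∣ Nat.card (zpowers u)) :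
    s = r := by
  rw [card_zpowers_eq h] at hd
  exact (Nat.prime_dvd_prime_iff_eq hs hr.out).mp hd

/-- Commuting elements of prime order outside `σ(M)` lie in one complement. -/
theorem exists_compl_pair (hG : IsMinSimpleOddOrder G) (hM : IsCoatom M) (hu : u ∈ M)
    (huo : orderOf u = r) (hrσ : r ∉ sigma M) (he : e ∈ M) (heo : orderOf e = p) (hpσ : p ∉ sigma M)
    (heu : e ∈ normalizer ((zpowers u : Subgroup G) : Set G)) :
    ∃ E : Subgroup G, IsComplIn E (sigmaCore M) M ∧ u ∈ E ∧ e ∈ E := by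
  obtain ⟨E, hE, hle⟩ := Compl.exists_compl_ge hG hM (A := zpowers u ⊔ zpowers e)
    (sup_le (zpowers_le.mpr hu) (zpowers_le.mpr he)) fun s hs hd => by
    rcases hs.dvd_mul.mp (hd.trans (RegularMain.card_sup_dvd (zpowers_le.mpr heu))) with h | h
    · rw [prime_dvd_order hs huo h]; exact hrσ
    · rw [prime_dvd_order hs heo h]; exact hpσ
  exact ⟨E, hE, hle (mem_sup_left (mem_zpowers u)), hle (mem_sup_right (mem_zpowers e))⟩

theorem mem_normalizer_of_comm {a b : G} (h : a * b = b * a) :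
    a ∈ normalizer ((zpowers b : Subgroup G) : Set G) :=
  centralizer_le_normalizer _ (mem_centralizer_zpowers h)

/-- The maximal subgroups over `N(⟨u⟩)` for a nonregular `u` of rank one outside `σ(M)`. -/
theorem over_sigma (hG : IsMinSimpleOddOrder G) (hM : IsCoatom M) (hu : u ∈ M) (huo : orderOf u = r)
    (hrσ : r ∉ sigma M) (hr1 : PRankLE r 1 M) (hy : y ∈ sigmaCore M) (hyo : orderOf y = q)
    (huy : u * y = y * u) (hL : IsCoatom L) (hN : normalizer ((zpowers u : Subgroup G) : Set G) ≤ L) :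
    r ∈ sigma L ∧ q ∉ sigma L ∧ PRankLE q 1 L ∧ (∀ g : G, L ≠ M.map (MulAut.conj g).toMonoidHom) ∧
      u ∈ sigmaCore L ∧ y ∈ L := by
  have hne := not_conj hG hL hrσ hr1 (card_zpowers_eq huo) hN
  have hqσ : q ∈ sigma M := Transitivity.isPi_piCoreOf (sigma M) M q hq.out
    (by rw [← card_zpowers_eq hyo]; exact card_dvd_of_le (zpowers_le.mpr hy))
  have hqL := SigmaPartition.sigma_disjoint hG hM hL hne hqσ
  have huL : u ∈ L := hN (le_normalizer (mem_zpowers u))
  have hyL : y ∈ L := hN (mem_normalizer_of_comm huy.symm)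
  have hyM : y ∈ M := Sigma.sigmaCore_le M hy
  have hCy : centralizer ({y} : Set G) ≤ M := (centralizer_le hG hM hu huo hrσ hr1 hy hyo huy).2
  -- the rank in a maximal subgroup holding `u` in its core
  have hrank : ∀ H : Subgroup G, IsCoatom H → q ∉ sigma H → u ∈ sigmaCore H → y ∈ H → H ≠ M →
      PRankLE q 1 H := fun H hH hqH huH hyH hHM => by_contra fun h2 => by
    refine hHM (((SigmaCompl.centralizer_unique hG hH hyH (ne_one_of_order hyo) (fun s hs hd => ?_) huH
      (ne_one_of_order huo) huy.symm).2 M hM hCy).symm)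
    rw [hyo] at hd
    rw [(Nat.prime_dvd_prime_iff_eq hs hq.out).mp hd]
    exact ⟨hq.out, hqH, SigmaCompl.rank_le hG hH hq.out hqH, h2⟩
  have hrL : r ∈ sigma L := by
    refine (mem_sigma_or_tau2 hG hL (card_zpowers_eq huo) hN).resolve_right fun hτ => ?_
    obtain ⟨E, hE, huE, hyE⟩ := exists_compl_pair hG hL huL huo hτ.2.1 hyL hyo hqL
      (mem_normalizer_of_comm huy.symm)
    obtain ⟨A, hAE, h⟩ := SigmaCompl.exists_ctx hG hL hE hτ
    obtain ⟨H, hH, hNH⟩ := exists_normalizer_le hG h.hA.ne_bot h.hAM hL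
    have hrH := sigma_of_normalizer hG h.hA hH hNH
    have hneH : ∀ g : G, H ≠ M.map (MulAut.conj g).toMonoidHom := fun g e => hrσ (sigma_of_map (e ▸ hrH))
    have hAH : A ≤ H := le_normalizer.trans hNH
    have huH : u ∈ sigmaCore H := Sigma.sylow_le_sigmaCore hG hH hrH h.hA.isPGroup hAH
      (h.mem_of_pow hE hAE huE (pow_eq_one_of_order huo))
    have hyH : y ∈ H := hNH (h.le_normalizer_compl hE hAE hyE)
    have hqH := SigmaPartition.sigma_disjoint hG hM hH hneH hqσ
    have hq1 := hrank H hH hqH huH hyH fun e => hneH 1 (by rw [map_conj_one, e])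
    exact hτ.2.1 ((central hG r hr.out H hH q y u hq.out hyH hyo hqH hq1 huH huo huy.symm L hL hN) ▸ hrH)
  have huK : u ∈ sigmaCore L := Sigma.sylow_le_sigmaCore hG hL hrL
    (isPGroup_of_card (card_zpowers_eq huo)) (zpowers_le.mpr huL) (mem_zpowers u)
  exact ⟨hrL, hqL, hrank L hL hqL huK hyL fun e => hne 1 (by rw [map_conj_one, e]), hne, huK, hyL⟩

/-- BG 13.2(a) for the whole of `M_σ ∩ L`. -/
theorem inter_le (hG : IsMinSimpleOddOrder G) (hM : IsCoatom M) (hu : u ∈ M) (huo : orderOf u = r)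
    (hrσ : r ∉ sigma M) (hr1 : PRankLE r 1 M) (hL : IsCoatom L)
    (hN : normalizer ((zpowers u : Subgroup G) : Set G) ≤ L) :
    sigmaCore M ⊓ L ≤ centralizer ({u} : Set G) := by
  set I := sigmaCore M ⊓ L with hI
  have huL : u ∈ L := hN (le_normalizer (mem_zpowers u))
  have hX := isPGroup_of_card (card_zpowers_eq huo)
  have huI : zpowers u ≤ normalizer (I : Set G) :=
    (le_inf (zpowers_le.mpr (Sigma.le_normalizer_sigmaCore M hu))
      ((zpowers_le.mpr huL).trans le_normalizer)).trans inf_normalizer_le_normalizer_inf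
  have hcop : (Nat.card (zpowers u)).Coprime (Nat.card I) := by
    rw [card_zpowers_eq huo]
    exact ((hr.out.coprime_iff_not_dvd.mpr (Compl.not_dvd_sigmaCore hr.out hrσ))).coprime_dvd_right
      (card_dvd_of_le inf_le_left)
  rw [← subgroupOf_eq_top]
  refine Cores.eq_top_of_sylow_le fun t ht hd => ?_
  have := Fact.mk ht
  obtain ⟨Q, hQ⟩ := Coprime.exists_invariant_sylow t huI hcop
    (Or.inl (Coprime.isSolvable_of_isPGroup hX))
  have h := centralizes hG hM hL hrσ hr1 (card_zpowers_eq huo) hN hX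
    (isCyclic_of_prime_card (card_zpowers_eq huo)) le_rfl
    (Transitivity.isPi_piCoreOf (sigma M) M t ht (hd.trans (card_dvd_of_le inf_le_left)))
    (Q.isPGroup'.map I.subtype) ((map_subtype_le _).trans inf_le_right) hQ
  exact ⟨Q, fun z hz => mem_subgroupOf.mpr (mem_centralizer_singleton_iff.mpr
    (mem_centralizer_iff.mp (h (mem_zpowers u)) z (mem_map_of_mem _ hz)))⟩

/-- The cores of nonconjugate maximal subgroups meet trivially. -/
theorem core_inf (hG : IsMinSimpleOddOrder G) (hM : IsCoatom M) (hL : IsCoatom L)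
    (hne : ∀ g : G, L ≠ M.map (MulAut.conj g).toMonoidHom) : sigmaCore M ⊓ sigmaCore L = ⊥ := by
  by_contra hbot
  obtain ⟨t, ht, htd⟩ := Nat.exists_prime_and_dvd
    (fun e : Nat.card (sigmaCore M ⊓ sigmaCore L : Subgroup G) = 1 => hbot (card_eq_one.mp e))
  exact SigmaPartition.sigma_disjoint hG hM hL hne
    (Transitivity.isPi_piCoreOf (sigma M) M t ht (htd.trans (card_dvd_of_le inf_le_left)))
    (Transitivity.isPi_piCoreOf (sigma L) L t ht (htd.trans (card_dvd_of_le inf_le_right)))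

theorem inter_comm (hG : IsMinSimpleOddOrder G) (hM : IsCoatom M) (hL : IsCoatom L)
    (hne : ∀ g : G, L ≠ M.map (MulAut.conj g).toMonoidHom) {a b : G} (ha : a ∈ sigmaCore M) (haL : a ∈ L)
    (hb : b ∈ sigmaCore L) (hbM : b ∈ M) : a * b = b * a := by
  have h1 : ⁅a, b⁆ ∈ sigmaCore M ⊓ sigmaCore L := mem_inf.mpr ⟨?_, ?_⟩
  · rwa [core_inf hG hM hL hne, mem_bot, commutatorElement_eq_one_iff_mul_comm] at h1
  · have h2 := mul_mem ha
      ((mem_normalizer_iff.mp (Sigma.le_normalizer_sigmaCore M hbM) a⁻¹).mp (inv_mem ha))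
    simpa [commutatorElement_def, mul_assoc] using h2
  · have h2 := mul_mem ((mem_normalizer_iff.mp (Sigma.le_normalizer_sigmaCore L haL) b).mp hb)
      (inv_mem hb)
    simpa [commutatorElement_def] using h2

/-- A cyclic Sylow subgroup at a prime dividing `|E'|` lies in `E'`. -/
theorem sylow_le_commutator (T : Sylow p E) [IsCyclic T] (hd : p ∣ Nat.card ↥⁅E, E⁆) :
    (T : Subgroup E).map E.subtype ≤ ⁅E, E⁆ := by
  rw [← map_subtype_commutator] at hd ⊢
  rw [card_map_of_injective E.subtype_injective] at hd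
  refine map_mono fun x hx => ?_
  have hi := (Sylow.not_dvd_card_commutator_or_not_dvd_index_commutator T).resolve_left (not_not.mpr hd)
  obtain ⟨k, hk⟩ := IsPGroup.iff_orderOf.mp T.isPGroup' ⟨x, hx⟩
  refine (QuotientGroup.eq_one_iff x).mp (orderOf_eq_one_iff.mp ?_)
  rw [← orderOf_coe] at hk
  exact Nat.eq_one_of_dvd_coprimes
    ((hp.out.coprime_iff_not_dvd.mpr hi).symm.pow_right k)
    (index_eq_card (commutator E) ▸ _root_.orderOf_dvd_natCard _)
    (hk ▸ orderOf_map_dvd (QuotientGroup.mk' (commutator E)) x)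

/-- A `p`-subgroup of rank one in `E` at a prime dividing `|E'|` lies in `E'`. -/
theorem pgroup_le_commutator (hG : IsMinSimpleOddOrder G) (hE : IsComplIn E (sigmaCore M) M)
    (h1 : PRankLE p 1 M) (hd : p ∣ Nat.card ↥⁅E, E⁆) {X : Subgroup G} (hX : IsPGroup p X) (hXE : X ≤ E) :
    X ≤ ⁅E, E⁆ := by
  obtain ⟨T, hT⟩ := (hX.comap_subtype (K := E)).exists_le_sylow
  have hc : IsCyclic ((T : Subgroup E).map E.subtype) :=
    Compl.isCyclic_of_rankOne hG h1 (T.isPGroup'.map _) ((map_subtype_le _).trans hE.1)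
  have : IsCyclic T := isCyclic_of_surjective _
    ((T : Subgroup E).equivMapOfInjective E.subtype E.subtype_injective).symm.surjective
  exact fun x hx => sylow_le_commutator T hd ⟨⟨x, hXE hx⟩, hT (mem_subgroupOf.mpr hx), rfl⟩

theorem mem_commutator (hG : IsMinSimpleOddOrder G) (hM : IsCoatom M) (hE : IsComplIn E (sigmaCore M) M)
    (hrσ : r ∉ sigma M) (hr1 : PRankLE r 1 M) (hrM : r ∣ Nat.card ↥⁅M, M⁆) (huE : u ∈ E)
    (huo : orderOf u = r) : u ∈ ⁅E, E⁆ :=
  pgroup_le_commutator hG hE hr1 (Compl.dvd_commutator hG hM hE hrσ hrM)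
    (isPGroup_of_card (card_zpowers_eq huo)) (zpowers_le.mpr huE) (mem_zpowers u)

theorem comm_commutator (hG : IsMinSimpleOddOrder G) (hM : IsCoatom M) (hE : IsComplIn E (sigmaCore M) M)
    {a b : G} (ha : a ∈ ⁅E, E⁆) (hb : b ∈ ⁅E, E⁆) : a * b = b * a := by
  have := SigmaCompl.nilpotent_comm hG hM ((commutator_le_self E).trans hE.1)
    (S1415.result hG M hM E hE).1 fun t ht hd =>
      Compl.not_sigma hG hM hE ht (hd.trans (card_dvd_of_le (commutator_le_self E)))
  exact setLike_mul_comm ha hb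

/-- The lines at `τ₃` are normal in the complements. -/
theorem normalizes_line (hG : IsMinSimpleOddOrder G) (hM : IsCoatom M) (hE : IsComplIn E (sigmaCore M) M)
    (hrσ : r ∉ sigma M) (hr1 : PRankLE r 1 M) (hrM : r ∣ Nat.card ↥⁅M, M⁆) (huE : u ∈ E)
    (huo : orderOf u = r) : E ≤ normalizer ((zpowers u : Subgroup G) : Set G) := by
  intro e he
  have hu := mem_commutator hG hM hE hrσ hr1 hrM huE huo
  have hu' : e * u * e⁻¹ ∈ ⁅E, E⁆ :=
    (mem_normalizer_iff.mp (Coprime.le_normalizer_commutator_self le_normalizer he) u).mp hu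
  have hu'p : (e * u * e⁻¹) ^ r = 1 := by rw [conj_pow, pow_eq_one_of_order huo]; group
  have hc := mem_normalizer_of_comm (comm_commutator hG hM hE hu' hu)
  have hp' : IsPGroup r (zpowers (e * u * e⁻¹)) := isPGroup_of_card (p := r)
    (by rw [Nat.card_zpowers]; exact (MulAut.conj e).orderOf_eq u ▸ huo)
  have hP := hp'.to_sup_of_normal_right' (isPGroup_of_card (card_zpowers_eq huo)) (zpowers_le.mpr hc)
  have hcyc := Compl.isCyclic_of_rankOne hG hr1 hP (sup_le (zpowers_le.mpr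
    (hE.1 (commutator_le_self E hu'))) (zpowers_le.mpr (hE.1 huE)))
  have hmem : e * u * e⁻¹ ∈ zpowers u := mem_zpowers_of_cyclic hcyc (mem_sup_right (mem_zpowers u))
    (mem_sup_left (mem_zpowers _)) huo hu'p
  exact map_conj_eq_self_iff.mp (eq_of_le_of_card_ge
    (by rw [MonoidHom.map_zpowers]; exact zpowers_le.mpr hmem) (by rw [card_map_conj]))

/-- An element of order `r ∈ τ₃(M)` of a complement is not central in it. -/
theorem exists_mover (hG : IsMinSimpleOddOrder G) (hM : IsCoatom M) (hE : IsComplIn E (sigmaCore M) M)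
    (hrσ : r ∉ sigma M) (hr1 : PRankLE r 1 M) (hrM : r ∣ Nat.card ↥⁅M, M⁆) (huE : u ∈ E)
    (huo : orderOf u = r) : ∃ g ∈ E, g * u ≠ u * g := by
  by_contra hcon
  push Not at hcon
  obtain ⟨T, huT⟩ := ((isPGroup_of_card (card_zpowers_eq huo)).comap_subtype (K := E)).exists_le_sylow
  set T' := (T : Subgroup E).map E.subtype with hT'
  have hTc : IsCyclic T' :=
    Compl.isCyclic_of_rankOne hG hr1 (T.isPGroup'.map _) ((map_subtype_le _).trans hE.1)
  have : IsCyclic T := isCyclic_of_surjective _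
    ((T : Subgroup E).equivMapOfInjective E.subtype E.subtype_injective).symm.surjective
  have huT' : u ∈ T' :=
    ⟨⟨u, huE⟩, huT (show (⟨u, huE⟩ : E) ∈ _ from mem_subgroupOf.mpr (mem_zpowers u)), rfl⟩
  have hr2 : r ≠ 2 := Unique.ne_two hG (hrM.trans (card_dvd_of_le (commutator_le_self M)))
  have hNC : normalizer ((T : Subgroup E) : Set E) ≤ centralizer ((T : Subgroup E) : Set E) := by
    refine CN.le_of_forall_isPGroup fun t ht x hx hxt => ?_
    have := Fact.mk ht
    rcases eq_or_ne t r with rfl | htr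
    · have hxT : x ∈ (T : Subgroup E) := by
        have h1 := hxt.to_sup_of_normal_right' T.isPGroup' (zpowers_le.mpr hx)
        exact (T.is_maximal' h1 le_sup_right).le (mem_sup_left (mem_zpowers x))
      exact mem_centralizer_iff.mpr fun a ha =>
        congrArg Subtype.val (((IsCyclic.isMulCommutative (α := T)).is_comm.comm ⟨a, ha⟩ ⟨x, hxT⟩))
    have hxN : (x : G) ∈ normalizer (T' : Set G) := by
      rw [← map_conj_eq_self_iff]
      refine eq_of_le_of_card_ge ?_ (by rw [card_map_conj])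
      rintro _ ⟨_, ⟨a, ha, rfl⟩, rfl⟩
      exact ⟨x * a * x⁻¹, (mem_normalizer_iff.mp hx a).mp ha, rfl⟩
    have h := Coprime.le_centralizer_of_fix_order_p (p := r) hr2 (T.isPGroup'.map E.subtype)
      (A := zpowers (x : G)) (zpowers_le.mpr hxN) ?_ ?_
    · exact mem_centralizer_iff.mpr fun a ha => Subtype.ext
        (mem_centralizer_iff.mp (h (mem_zpowers (x : G))) a (mem_map_of_mem E.subtype ha))
    · obtain ⟨n, hn⟩ := hxt.exists_card_eq
      rw [Nat.card_zpowers] at hn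
      rw [Nat.card_zpowers, orderOf_coe, hn]
      exact ((Nat.coprime_primes ht hr.out).mpr htr).pow_left n
    · intro a ha har z hz
      obtain ⟨i, rfl⟩ := mem_zpowers_iff.mp hz
      obtain ⟨j, rfl⟩ := mem_zpowers_iff.mp (mem_zpowers_of_cyclic hTc huT' ha huo har)
      exact ((show Commute (x : G) u from hcon x x.2).zpow_zpow i j).eq
  have hd := Compl.dvd_commutator hG hM hE hrσ hrM
  rw [← map_subtype_commutator, card_map_of_injective E.subtype_injective] at hd
  open scoped IsMulCommutative in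
  exact T.not_dvd_index ((hd.trans (card_dvd_of_le (Abelianization.commutator_subset_ker
    (MonoidHom.transferSylow T hNC)))).trans
      ((MonoidHom.ker_transferSylow_isComplement' T hNC).index_eq_card).symm.dvd)

/-- A nonregular element `u` of order `r ∈ τ₃(M)`, with a fixed point `y` and `L ⊇ N(⟨u⟩)`. -/
structure Tau3 (M L : Subgroup G) (r q : ℕ) (u y : G) : Prop where
  hG : IsMinSimpleOddOrder G
  hM : IsCoatom M
  hL : IsCoatom L
  hu : u ∈ M
  huo : orderOf u = r
  hrσ : r ∉ sigma M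
  hr1 : PRankLE r 1 M
  hrM : r ∣ Nat.card ↥⁅M, M⁆
  hy : y ∈ sigmaCore M
  hyo : orderOf y = q
  huy : u * y = y * u
  hN : normalizer ((zpowers u : Subgroup G) : Set G) ≤ L

theorem Tau3.hne (h : Tau3 M L r q u y) : ∀ g : G, L ≠ M.map (MulAut.conj g).toMonoidHom :=
  (over_sigma h.hG h.hM h.hu h.huo h.hrσ h.hr1 h.hy h.hyo h.huy h.hL h.hN).2.2.2.1

theorem Tau3.hrL (h : Tau3 M L r q u y) : r ∈ sigma L :=
  (over_sigma h.hG h.hM h.hu h.huo h.hrσ h.hr1 h.hy h.hyo h.huy h.hL h.hN).1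

theorem Tau3.hqL (h : Tau3 M L r q u y) : q ∉ sigma L :=
  (over_sigma h.hG h.hM h.hu h.huo h.hrσ h.hr1 h.hy h.hyo h.huy h.hL h.hN).2.1

theorem Tau3.hq1 (h : Tau3 M L r q u y) : PRankLE q 1 L :=
  (over_sigma h.hG h.hM h.hu h.huo h.hrσ h.hr1 h.hy h.hyo h.huy h.hL h.hN).2.2.1

theorem Tau3.huL (h : Tau3 M L r q u y) : u ∈ sigmaCore L :=
  (over_sigma h.hG h.hM h.hu h.huo h.hrσ h.hr1 h.hy h.hyo h.huy h.hL h.hN).2.2.2.2.1

theorem Tau3.hyL (h : Tau3 M L r q u y) : y ∈ L :=
  (over_sigma h.hG h.hM h.hu h.huo h.hrσ h.hr1 h.hy h.hyo h.huy h.hL h.hN).2.2.2.2.2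

theorem Tau3.hNy (h : Tau3 M L r q u y) : normalizer ((zpowers y : Subgroup G) : Set G) ≤ M :=
  (centralizer_le h.hG h.hM h.hu h.huo h.hrσ h.hr1 h.hy h.hyo h.huy).1

theorem Tau3.compl_le (h : Tau3 M L r q u y) (hE : IsComplIn E (sigmaCore M) M) (huE : u ∈ E) : E ≤ L :=
  (normalizes_line h.hG h.hM hE h.hrσ h.hr1 h.hrM huE h.huo).trans h.hN

/-- With a nonregular element at a prime of `τ₃(M)`, every prime outside `σ(M)` has rank one. -/
theorem Tau3.rank_one (h : Tau3 M L r q u y) {s : ℕ} (hs : s.Prime) (hsσ : s ∉ sigma M) :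
    PRankLE s 1 M := by
  by_contra h2
  have := Fact.mk hs
  have hsr : s ≠ r := fun e => h2 (e ▸ h.hr1)
  obtain ⟨E, hE, huE⟩ := Compl.exists_compl_ge h.hG h.hM (zpowers_le.mpr h.hu) fun t ht hd => by
    rw [prime_dvd_order ht h.huo hd]; exact h.hrσ
  have huE' : u ∈ E := huE (mem_zpowers u)
  obtain ⟨A, hAE, hc⟩ := SigmaCompl.exists_ctx h.hG h.hM hE
    ⟨hs, hsσ, SigmaCompl.rank_le h.hG h.hM hs hsσ, h2⟩
  have huA : u ∈ centralizer (A : Set G) := centralizes_elementary h.hG hc.hA.el hc.hA.card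
    (commutator_mono (hc.le_normalizer_compl hE hAE) (hc.le_normalizer_compl hE hAE)
      (mem_commutator h.hG h.hM hE h.hrσ h.hr1 h.hrM huE' h.huo))
    (by rw [h.huo]; exact (Nat.coprime_primes hr.out hs).mpr hsr.symm)
  have hbot := fixed_regular h.hG h.hM hc (zpowers_le.mpr h.hu) (card_zpowers_eq h.huo) h.hrσ h.hr1
    (le_centralizer_iff.mp (zpowers_le.mpr huA))
  exact ne_one_of_order h.hyo (mem_bot.mp (hbot ▸ mem_inf.mpr ⟨h.hy, mem_centralizer_zpowers h.huy.symm⟩))

/-- An element moving `u` in the normaliser of `⟨u⟩` has a fixed point moved by `u`. -/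
theorem Tau3.exists_fixed (h : Tau3 M L r q u y) (he : e ∈ M) (heo : orderOf e = p) (hpσ : p ∉ sigma M)
    (heN : e ∈ normalizer ((zpowers u : Subgroup G) : Set G)) (hmove : e * u ≠ u * e) :
    ∃ w ∈ sigmaCore M, e * w = w * e ∧ w ∉ centralizer ({u} : Set G) := by
  by_contra hcon
  push Not at hcon
  have hpr : p ≠ r := by
    intro hpr
    subst hpr
    have hP := (isPGroup_of_card (card_zpowers_eq heo)).to_sup_of_normal_right'
      (isPGroup_of_card (card_zpowers_eq h.huo)) (zpowers_le.mpr heN)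
    have hc := Compl.isCyclic_of_rankOne h.hG h.hr1 hP (sup_le (zpowers_le.mpr he) (zpowers_le.mpr h.hu))
    obtain ⟨i, hi⟩ := mem_zpowers_iff.mp (mem_zpowers_of_cyclic hc (mem_sup_right (mem_zpowers u))
      (mem_sup_left (mem_zpowers e)) h.huo (pow_eq_one_of_order heo))
    exact hmove (hi ▸ ((Commute.refl u).zpow_left i).eq)
  have hKs : Group.IsSolvable (sigmaCore M) := Coprime.isSolvable_of_le (Sigma.sigmaCore_le M)
    (Transitivity.isSolvable_of_ne_top h.hG h.hM.1)
  have hcop : ∀ {t : ℕ} {x : G} [Fact t.Prime], orderOf x = t → t ∉ sigma M →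
      (Nat.card (sigmaCore M)).Coprime (Nat.card (zpowers x)) := fun {t x} _ hx ht => by
    rw [card_zpowers_eq hx]
    exact ((Fact.out : t.Prime).coprime_iff_not_dvd.mpr (Compl.not_dvd_sigmaCore Fact.out ht)).symm
  have hle : zpowers u ≤ centralizer (sigmaCore M : Set G) := by
    refine FrobeniusFixGroup.le_centralizer_of_fpf (pow_eq_one_of_order heo) heN (fun x hx hxe => ?_) hKs
      (by rw [← card_zpowers_eq heo]; exact hcop heo hpσ) (hcop h.huo h.hrσ)
      (Sigma.le_normalizer_sigmaCore M he) (zpowers_le.mpr (Sigma.le_normalizer_sigmaCore M h.hu)) ?_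
    · by_contra hx1
      obtain ⟨i, hi⟩ := mem_zpowers_iff.mp hx
      have hxo : orderOf x = r := orderOf_eq_prime
        (orderOf_dvd_iff_pow_eq_one.mp ((orderOf_dvd_natCard _ hx).trans (card_zpowers_eq h.huo).dvd)) hx1
      have hzx : zpowers x = zpowers u := eq_of_le_of_card_ge (zpowers_le.mpr hx)
        (by rw [card_zpowers_eq h.huo, card_zpowers_eq hxo])
      obtain ⟨j, hj⟩ := mem_zpowers_iff.mp (hzx.symm ▸ mem_zpowers u : u ∈ zpowers x)
      exact hmove (hj ▸ (hxe.zpow_right j).eq)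
    intro x hx hex z hz
    obtain ⟨i, rfl⟩ := mem_zpowers_iff.mp hz
    exact ((show Commute u x from
      (mem_centralizer_singleton_iff.mp (hcon x hx hex.eq)).symm).zpow_left i).eq
  obtain ⟨E, hE, huE⟩ := Compl.exists_compl_ge h.hG h.hM (zpowers_le.mpr h.hu) fun t ht hd => by
    rw [prime_dvd_order ht h.huo hd]; exact h.hrσ
  have hML : M ≤ L := by
    rw [← Compl.sup_eq hE]
    exact sup_le (h.compl_le hE (huE (mem_zpowers u)))
      ((le_centralizer_iff.mp hle).trans ((centralizer_le_normalizer _).trans h.hN))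
  exact h.hne 1 (by rw [map_conj_one]; exact (h.hM.le_iff.mp hML).resolve_left h.hL.1)

variable {t : ℕ} [ht : Fact t.Prime] {w : G}

/-- A common fixed point of `u` and of an element of `τ₁(M)` moving `u` is absurd. -/
theorem Tau3.no_common (h : Tau3 M L r q u y) (he : e ∈ M) (heo : orderOf e = p) (hpσ : p ∉ sigma M)
    (hpM : ¬ p ∣ Nat.card ↥⁅M, M⁆) (heN : e ∈ normalizer ((zpowers u : Subgroup G) : Set G))
    (hmove : e * u ≠ u * e) (hw : w ∈ sigmaCore M) (hwo : orderOf w = t) (huw : u * w = w * u)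
    (hew : e * w = w * e) : False := by
  have hG := h.hG
  have h' : Tau3 M L r t u w :=
    ⟨hG, h.hM, h.hL, h.hu, h.huo, h.hrσ, h.hr1, h.hrM, hw, hwo, huw, h.hN⟩
  have hp1 := h.rank_one hp.out hpσ
  have heL : e ∈ L := h.hN heN
  by_cases hpL : p ∈ sigma L
  · have heK : e ∈ sigmaCore L := Sigma.sylow_le_sigmaCore hG h.hL hpL
      (isPGroup_of_card (card_zpowers_eq heo)) (zpowers_le.mpr heL) (mem_zpowers e)
    have hCe := (centralizer_le hG h.hL h'.hyL hwo h'.hqL h'.hq1 heK heo hew.symm).2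
    obtain ⟨x, hx, hex, hxu⟩ := h.exists_fixed he heo hpσ heN hmove
    exact hxu (inter_le hG h.hM h.hu h.huo h.hrσ h.hr1 h.hL h.hN
      (mem_inf.mpr ⟨hx, hCe (mem_centralizer_singleton_iff.mpr hex.symm)⟩))
  by_cases htL : t ∣ Nat.card ↥⁅L, L⁆
  swap
  · have h1 := le_centralizer_of_tau1 hG h.hL htL h'.hqL h'.hq1 (zpowers_le.mpr h'.hyL)
      (card_zpowers_eq hwo) (zpowers_le.mpr heL) (card_zpowers_eq heo) hpL
      (zpowers_le.mpr (mem_centralizer_zpowers hew))
      (mem_inf.mpr ⟨h.huL, mem_centralizer_zpowers huw⟩)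
    exact hmove (mem_centralizer_iff.mp h1 e (mem_zpowers e))
  have hs : Tau3 L M t r w u := ⟨hG, h.hL, h.hM, h'.hyL, hwo, h'.hqL, h'.hq1, htL, h.huL, h.huo,
    huw.symm, h'.hNy⟩
  obtain ⟨E, hE, hwE, heE⟩ := exists_compl_pair hG h.hL h'.hyL hwo h'.hqL heL heo hpL
    (mem_normalizer_of_comm hew)
  have hEM : E ≤ M := hs.compl_le hE hwE
  have hpL' : ¬ p ∣ Nat.card ↥⁅L, L⁆ := fun hd => hpM (by
    rw [← heo]
    exact orderOf_dvd_natCard _ (commutator_mono hEM hEM
      (mem_commutator hG h.hL hE hpL (hs.rank_one hp.out hpL) hd heE heo)))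
  have hwE' := mem_commutator hG h.hL hE h'.hqL h'.hq1 htL hwE hwo
  obtain ⟨g, hg, hgw⟩ := exists_mover hG h.hL hE h'.hqL h'.hq1 htL hwE hwo
  obtain ⟨x, hx, hxg⟩ := exists_decomp (r := p) heE heo
    (fun hd => hpL' (hd.trans (card_dvd_of_le (commutator_mono hE.1 hE.1)))) hg
  have hcen : E ⊓ centralizer ({e} : Set G) ≤ centralizer ({w} : Set G) := by
    rw [← subgroupOf_eq_top]
    refine Cores.eq_top_of_sylow_le fun s hs' hd => ?_
    have := Fact.mk hs'
    have hsσ : s ∉ sigma L := Compl.not_sigma hG h.hL hE hs' (hd.trans (card_dvd_of_le inf_le_left))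
    obtain ⟨F₀⟩ : Nonempty (Sylow s ↥(E ⊓ centralizer ({e} : Set G))) := inferInstance
    refine ⟨F₀, ?_⟩
    set F := (F₀ : Subgroup ↥(E ⊓ centralizer ({e} : Set G))).map
      (E ⊓ centralizer ({e} : Set G) : Subgroup G).subtype with hF
    have hFE : F ≤ E := (map_subtype_le _).trans inf_le_left
    have hFe : F ≤ centralizer ({e} : Set G) := (map_subtype_le _).trans inf_le_right
    have hFp : IsPGroup s F := F₀.isPGroup'.map _
    have hs1 := hs.rank_one hs' hsσ
    suffices hFw : F ≤ centralizer ({w} : Set G) from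
      fun z hz => mem_subgroupOf.mpr (hFw (mem_map_of_mem _ hz))
    by_cases hsL : s ∣ Nat.card ↥⁅E, E⁆
    · exact fun z hz => mem_centralizer_singleton_iff.mpr (comm_commutator hG h.hL hE
        (pgroup_le_commutator hG hE hs1 hsL hFp hFE hz) hwE')
    obtain ⟨f₀, hf₀⟩ := exists_prime_orderOf_dvd_card' s (show s ∣ Nat.card F by
      rw [hF, card_map_of_injective (Subgroup.subtype_injective _)]
      exact F₀.dvd_card_of_dvd_card hd)
    rw [← orderOf_coe] at hf₀
    have hfe : (f₀ : G) * e = e * f₀ := mem_centralizer_singleton_iff.mp (hFe f₀.2)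
    by_cases hsM : s ∈ sigma M
    · have hfK : (f₀ : G) ∈ sigmaCore M := Sigma.sylow_le_sigmaCore hG h.hM hsM hFp (hFE.trans hEM) f₀.2
      have hfu := inter_le hG h.hM h.hu h.huo h.hrσ h.hr1 h.hL h.hN
        (mem_inf.mpr ⟨hfK, hE.1 (hFE f₀.2)⟩)
      have h1 := le_centralizer_of_tau1 hG h.hL
        (fun hd => hsL (Compl.dvd_commutator hG h.hL hE hsσ hd)) hsσ hs1
        (zpowers_le.mpr (hE.1 (hFE f₀.2))) (card_zpowers_eq hf₀) (zpowers_le.mpr heL)
        (card_zpowers_eq heo) hpL (zpowers_le.mpr (mem_centralizer_zpowers hfe.symm))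
        (mem_inf.mpr ⟨h.huL, mem_centralizer_zpowers (mem_centralizer_singleton_iff.mp hfu).symm⟩)
      exact absurd (mem_centralizer_iff.mp h1 e (mem_zpowers e)) hmove
    have h1 := le_centralizer_of_tau1 hG h.hM hpM hpσ hp1 (zpowers_le.mpr he) (card_zpowers_eq heo)
      (zpowers_le.mpr (hEM (hFE f₀.2))) (card_zpowers_eq hf₀) hsM
      (zpowers_le.mpr (mem_centralizer_zpowers hfe))
      (mem_inf.mpr ⟨hw, mem_centralizer_zpowers hew.symm⟩)
    have hM1 := h.rank_one hs' hsM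
    have h2 := le_centralizer_of_cyclic hG h.hM hsM hM1 (card_zpowers_eq hf₀) hFp
      (Compl.isCyclic_of_rankOne hG hM1 hFp (hFE.trans hEM)) (zpowers_le.mpr f₀.2) (hFE.trans hEM)
      (mem_inf.mpr ⟨hw, h1⟩)
    exact fun z hz => mem_centralizer_singleton_iff.mpr (mem_centralizer_iff.mp h2 z hz)
  refine hgw ?_
  have hc1 : Commute x w := comm_commutator hG h.hL hE hx hwE'
  have hc2 : Commute (x * g) w := mem_centralizer_singleton_iff.mp
    (hcen (mem_inf.mpr ⟨mul_mem (commutator_le_self E hx) hg, hxg⟩))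
  have := hc1.inv_left.mul_left hc2
  rw [inv_mul_cancel_left] at this
  exact this.eq

/-- Move an element commuting with a rank one element of a complement into that complement. -/
theorem conj_fix (hG : IsMinSimpleOddOrder G) (hM : IsCoatom M) (hE : IsComplIn E (sigmaCore M) M)
    (heE : e ∈ E) (heo : orderOf e = p) (hp1 : PRankLE p 1 M) {v : G} (hv : v ∈ M)
    (hvo : orderOf v = t) (htσ : t ∉ sigma M) (hev : e * v = v * e) :
    ∃ v' ∈ E, orderOf v' = t ∧ e * v' = v' * e := by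
  have hpσ : p ∉ sigma M := Compl.not_sigma hG hM hE hp.out (heo ▸ orderOf_dvd_natCard _ heE)
  have hvN : zpowers v ≤ normalizer ((zpowers e : Subgroup G) : Set G) :=
    zpowers_le.mpr (mem_normalizer_of_comm hev.symm)
  obtain ⟨m, hm, hle⟩ := Compl.exists_conj_le hG hM hE (A := zpowers e ⊔ zpowers v)
    (sup_le (zpowers_le.mpr (hE.1 heE)) (zpowers_le.mpr hv)) fun s hs hd => by
      rcases hs.dvd_mul.mp (hd.trans (RegularMain.card_sup_dvd hvN)) with h1 | h1
      · rw [prime_dvd_order hs heo h1]; exact hpσ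
      · rw [prime_dvd_order hs hvo h1]; exact htσ
  have heE' : m * e * m⁻¹ ∈ E := hle ⟨e, mem_sup_left (mem_zpowers e), rfl⟩
  have hvE' : m * v * m⁻¹ ∈ E := hle ⟨v, mem_sup_right (mem_zpowers v), rfl⟩
  obtain ⟨S₁, hS₁⟩ := ((isPGroup_of_card (card_zpowers_eq heo)).comap_subtype (K := E)).exists_le_sylow
  obtain ⟨S₂, hS₂⟩ := ((isPGroup_of_card (p := p) (X := zpowers (m * e * m⁻¹))
    (by rw [Nat.card_zpowers]; exact (MulAut.conj m).orderOf_eq e ▸ heo)).comap_subtype
      (K := E)).exists_le_sylow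
  obtain ⟨a, ha⟩ := MulAction.exists_smul_eq E S₂ S₁
  set g : G := (a : G) * m with hg
  have hge : g * e * g⁻¹ ∈ zpowers e := by
    refine mem_zpowers_of_cyclic (Compl.isCyclic_of_rankOne hG hp1 (S₁.isPGroup'.map E.subtype)
      ((map_subtype_le _).trans hE.1)) ⟨⟨e, heE⟩, hS₁ (mem_subgroupOf.mpr (mem_zpowers e)), rfl⟩ ?_ heo
      (by rw [conj_pow, pow_eq_one_of_order heo]; group)
    refine ⟨a * ⟨_, heE'⟩ * a⁻¹, ?_, ?_⟩
    · rw [← ha, coe_smul_eq_map]
      exact ⟨_, hS₂ (mem_subgroupOf.mpr (mem_zpowers _)), rfl⟩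
    · show (a : G) * (m * e * m⁻¹) * (a : G)⁻¹ = g * e * g⁻¹
      rw [hg]; group
  refine ⟨g * v * g⁻¹, ?_, (MulAut.conj g).orderOf_eq v ▸ hvo, ?_⟩
  · rw [show g * v * g⁻¹ = (a : G) * (m * v * m⁻¹) * (a : G)⁻¹ by rw [hg]; group]
    exact mul_mem (mul_mem a.2 hvE') (inv_mem a.2)
  have hmap : (zpowers e).map (MulAut.conj g).toMonoidHom = zpowers e := eq_of_le_of_card_ge
    (by rw [MonoidHom.map_zpowers]; exact zpowers_le.mpr hge) (by rw [card_map_conj])
  obtain ⟨x, hx, hxe⟩ := hmap.ge (mem_zpowers e)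
  obtain ⟨i, rfl⟩ := mem_zpowers_iff.mp hx
  have hxv : Commute (e ^ i) v := (show Commute e v from hev).zpow_left i
  change g * e ^ i * g⁻¹ = e at hxe
  calc e * (g * v * g⁻¹) = g * e ^ i * g⁻¹ * (g * v * g⁻¹) := by rw [hxe]
    _ = g * (e ^ i * v) * g⁻¹ := by group
    _ = g * (v * e ^ i) * g⁻¹ := by rw [hxv.eq]
    _ = g * v * g⁻¹ * (g * e ^ i * g⁻¹) := by group
    _ = g * v * g⁻¹ * e := by rw [hxe]

/-- An element of `τ₁(M)` normalising `⟨u⟩` centralises `u`. -/
theorem Tau3.centralizes_line (h : Tau3 M L r q u y) (hE : IsComplIn E (sigmaCore M) M) (huE : u ∈ E)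
    (heE : e ∈ E) (heo : orderOf e = p) (hpM : ¬ p ∣ Nat.card ↥⁅M, M⁆) : e * u = u * e := by
  by_contra hmove
  have hG := h.hG
  have hpσ : p ∉ sigma M := Compl.not_sigma hG h.hM hE hp.out (heo ▸ orderOf_dvd_natCard _ heE)
  have hp1 := h.rank_one hp.out hpσ
  have he := hE.1 heE
  have heN := normalizes_line hG h.hM hE h.hrσ h.hr1 h.hrM huE h.huo heE
  have heL : e ∈ L := h.hN heN
  have hno : ∀ {t : ℕ} {w : G} [Fact t.Prime], w ∈ sigmaCore M → orderOf w = t → u * w = w * u →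
      e * w = w * e → False := fun {t w} _ h1 h2 h3 h4 =>
    h.no_common he heo hpσ hpM heN hmove h1 h2 h3 h4
  have hpL : p ∉ sigma L := fun hpL => hno h.hy h.hyo h.huy
    ((inter_comm hG h.hM h.hL h.hne h.hy h.hyL (Sigma.sylow_le_sigmaCore hG h.hL hpL
      (isPGroup_of_card (card_zpowers_eq heo)) (zpowers_le.mpr heL) (mem_zpowers e)) he).symm)
  -- an invariant line of fixed points of `u`
  set C := sigmaCore M ⊓ centralizer ((zpowers u : Subgroup G) : Set G) with hC
  have hCL : C ≤ L := inf_le_right.trans ((centralizer_le_normalizer _).trans h.hN)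
  have heC : zpowers e ≤ normalizer (C : Set G) :=
    (le_inf (zpowers_le.mpr (Sigma.le_normalizer_sigmaCore M he))
      ((zpowers_le.mpr heN).trans (CharP.normalizer_le_normalizer_centralizer _))).trans
      inf_normalizer_le_normalizer_inf
  have hcop : (Nat.card (zpowers e)).Coprime (Nat.card C) := by
    rw [card_zpowers_eq heo]
    exact (hp.out.coprime_iff_not_dvd.mpr (Compl.not_dvd_sigmaCore hp.out hpσ)).coprime_dvd_right
      (card_dvd_of_le inf_le_left)
  have hqC : q ∣ Nat.card C := by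
    rw [← h.hyo]
    exact orderOf_dvd_natCard _ (mem_inf.mpr ⟨h.hy, mem_centralizer_zpowers h.huy.symm⟩)
  obtain ⟨Q, hQ⟩ := Coprime.exists_invariant_sylow q heC hcop
    (Or.inl (Coprime.isSolvable_of_isPGroup (isPGroup_of_card (card_zpowers_eq heo))))
  set Q' := (Q : Subgroup C).map C.subtype with hQ'
  have hQC : Q' ≤ C := map_subtype_le _
  have hQc : IsCyclic Q' :=
    Compl.isCyclic_of_rankOne hG h.hq1 (Q.isPGroup'.map _) (hQC.trans hCL)
  obtain ⟨y₁, hy₁⟩ := exists_prime_orderOf_dvd_card' q (show q ∣ Nat.card Q' by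
    rw [hQ', card_map_of_injective C.subtype_injective]; exact Q.dvd_card_of_dvd_card hqC)
  rw [← orderOf_coe] at hy₁
  set y₀ : G := (y₁ : G) with hy₀
  have hy₀C : y₀ ∈ C := hQC y₁.2
  have huy₀ : u * y₀ = y₀ * u := by
    have := mem_centralizer_iff.mp (mem_inf.mp hy₀C).2 u (mem_zpowers u)
    exact this
  have h₀ : Tau3 M L r q u y₀ := ⟨hG, h.hM, h.hL, h.hu, h.huo, h.hrσ, h.hr1, h.hrM,
    (mem_inf.mp hy₀C).1, hy₁, huy₀, h.hN⟩
  have hey : e * y₀ ≠ y₀ * e := hno h₀.hy hy₁ huy₀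
  have hyline : e * y₀ * e⁻¹ ∈ zpowers y₀ := mem_zpowers_of_cyclic hQc y₁.2
    ((mem_normalizer_iff.mp (hQ (mem_zpowers e)) y₀).mp y₁.2) hy₁
    (by rw [conj_pow, pow_eq_one_of_order hy₁]; group)
  have heN₀ : e ∈ normalizer ((zpowers y₀ : Subgroup G) : Set G) := map_conj_eq_self_iff.mp
    (eq_of_le_of_card_ge (by rw [MonoidHom.map_zpowers]; exact zpowers_le.mpr hyline)
      (by rw [card_map_conj]))
  have hqL' : q ∣ Nat.card ↥⁅L, L⁆ := by
    have hcm : ⁅e, y₀⁆ ∈ zpowers y₀ := mul_mem hyline (inv_mem (mem_zpowers y₀))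
    have hd : orderOf ⁅e, y₀⁆ ∣ q := hy₁ ▸ (orderOf_dvd_natCard _ hcm).trans (Nat.card_zpowers y₀).dvd
    rcases (Nat.dvd_prime hq.out).mp hd with h1 | h1
    · exact absurd (commutatorElement_eq_one_iff_mul_comm.mp (orderOf_eq_one_iff.mp h1)) hey
    · rw [← h1]
      exact orderOf_dvd_natCard _ (commutator_mem_commutator heL h₀.hyL)
  have hs : Tau3 L M q r y₀ u := ⟨hG, h.hL, h.hM, h₀.hyL, hy₁, h₀.hqL, h₀.hq1, hqL', h.huL, h.huo,
    huy₀.symm, h₀.hNy⟩
  obtain ⟨EL, hEL, hyEL, heEL⟩ := exists_compl_pair hG h.hL h₀.hyL hy₁ h₀.hqL heL heo hpL heN₀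
  have hELM : EL ≤ M := hs.compl_le hEL hyEL
  have hpL1 := hs.rank_one hp.out hpL
  have hpL' : ¬ p ∣ Nat.card ↥⁅L, L⁆ := fun hd => hpM (by
    rw [← heo]
    exact orderOf_dvd_natCard _ (commutator_mono hELM hELM
      (mem_commutator hG h.hL hEL hpL hpL1 hd heEL heo)))
  have hnoL : ∀ {t : ℕ} {w : G} [Fact t.Prime], w ∈ sigmaCore L → orderOf w = t → y₀ * w = w * y₀ →
      e * w = w * e → False := fun {t w} _ h1 h2 h3 h4 =>
    hs.no_common heL heo hpL hpL' heN₀ hey h1 h2 h3 h4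
  -- fixed points of `e` on both cores
  obtain ⟨w₁, hw₁, hew₁, hw₁u⟩ := h.exists_fixed he heo hpσ heN hmove
  obtain ⟨z₁, hz₁, hez₁, hz₁y⟩ := hs.exists_fixed heL heo hpL heN₀ hey
  have hw₁1 : orderOf w₁ ≠ 1 := fun e' => hw₁u (orderOf_eq_one_iff.mp e' ▸ one_mem _)
  have hz₁1 : orderOf z₁ ≠ 1 := fun e' => hz₁y (orderOf_eq_one_iff.mp e' ▸ one_mem _)
  have htp := Fact.mk (Nat.minFac_prime hw₁1)
  have hsp := Fact.mk (Nat.minFac_prime hz₁1)
  set t := (orderOf w₁).minFac with ht'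
  set s := (orderOf z₁).minFac with hs'
  set w := w₁ ^ (orderOf w₁ / t) with hwdef
  set z := z₁ ^ (orderOf z₁ / s) with hzdef
  have hwo : orderOf w = t := orderOf_pow_orderOf_div (orderOf_pos w₁).ne' (Nat.minFac_dvd _)
  have hzo : orderOf z = s := orderOf_pow_orderOf_div (orderOf_pos z₁).ne' (Nat.minFac_dvd _)
  have hwK : w ∈ sigmaCore M := pow_mem hw₁ _
  have hzK : z ∈ sigmaCore L := pow_mem hz₁ _
  have hew : e * w = w * e := ((show Commute e w₁ from hew₁).pow_right _).eq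
  have hez : e * z = z * e := ((show Commute e z₁ from hez₁).pow_right _).eq
  have htσ : t ∈ sigma M := Transitivity.isPi_piCoreOf (sigma M) M t Fact.out
    (hwo ▸ orderOf_dvd_natCard _ hwK)
  have hsσ : s ∈ sigma L := Transitivity.isPi_piCoreOf (sigma L) L s Fact.out
    (hzo ▸ orderOf_dvd_natCard _ hzK)
  have htL : t ∉ sigma L := SigmaPartition.sigma_disjoint hG h.hM h.hL h.hne htσ
  have hsM : s ∉ sigma M := fun hh => SigmaPartition.sigma_disjoint hG h.hM h.hL h.hne hh hsσ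
  have hNw : normalizer ((zpowers w : Subgroup G) : Set G) ≤ M :=
    (centralizer_le hG h.hM he heo hpσ hp1 hwK hwo hew).1
  have hNz : normalizer ((zpowers z : Subgroup G) : Set G) ≤ L :=
    (centralizer_le hG h.hL heL heo hpL hpL1 hzK hzo hez).1
  -- neither core supplies an element to the other side
  have hA : ∀ v : G, v ∈ M → orderOf v = s → e * v = v * e → False := fun v hv hvo hev => by
    obtain ⟨v', hv'E, hv'o, hev'⟩ := conj_fix hG h.hM hE heE heo hp1 hv hvo hsM hev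
    have hv'L : v' ∈ L := h.compl_le hE huE hv'E
    have hv'K : v' ∈ sigmaCore L := Sigma.sylow_le_sigmaCore hG h.hL hsσ
      (isPGroup_of_card (card_zpowers_eq hv'o)) (zpowers_le.mpr hv'L) (mem_zpowers v')
    exact hnoL hv'K hv'o (inter_comm hG h.hM h.hL h.hne h₀.hy h₀.hyL hv'K (hE.1 hv'E)) hev'
  have hB : ∀ v : G, v ∈ L → orderOf v = t → e * v = v * e → False := fun v hv hvo hev => by
    obtain ⟨v', hv'E, hv'o, hev'⟩ := conj_fix hG h.hL hEL heEL heo hpL1 hv hvo htL hev
    have hv'M : v' ∈ M := hELM hv'E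
    have hv'K : v' ∈ sigmaCore M := Sigma.sylow_le_sigmaCore hG h.hM htσ
      (isPGroup_of_card (card_zpowers_eq hv'o)) (zpowers_le.mpr hv'M) (mem_zpowers v')
    exact hno hv'K hv'o
      ((inter_comm hG h.hM h.hL h.hne hv'K (hEL.1 hv'E) h.huL h.hu).symm) hev'
  -- both sit in one complement of the maximal subgroup over `N(⟨e⟩)`
  obtain ⟨H, hH, hNH⟩ := exists_normalizer_le hG (ne_bot_of_card (card_zpowers_eq heo))
    (zpowers_le.mpr he) h.hM
  obtain ⟨-, htH, ht1, -, -, -⟩ := over_sigma hG h.hM he heo hpσ hp1 hwK hwo hew hH hNH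
  obtain ⟨-, hsH, hs1, -, -, -⟩ := over_sigma hG h.hL heL heo hpL hpL1 hzK hzo hez hH hNH
  set D := centralizer ({e} : Set G) with hD
  have hDH : D ≤ H := by
    rw [hD, ← centralizer_zpowers]; exact (centralizer_le_normalizer _).trans hNH
  have hwD : w ∈ D := mem_centralizer_singleton_iff.mpr hew.symm
  have hzD : z ∈ D := mem_centralizer_singleton_iff.mpr hez.symm
  have : Group.IsSolvable D := Coprime.isSolvable_of_le hDH (Transitivity.isSolvable_of_ne_top hG hH.1)
  obtain ⟨B, hB', hwB⟩ := Hall.exists_le_hall (G := D) (π := {a | a = t ∨ a = s})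
    (U := (zpowers w).subgroupOf D) fun a ha hd => Or.inl (prime_dvd_order ha hwo
      (by rwa [Nat.card_congr (subgroupOfEquivOfLe (zpowers_le.mpr hwD)).toEquiv] at hd))
  obtain ⟨c, hc⟩ := Hall.exists_conj_le_hall hB' (U := (zpowers z).subgroupOf D)
    fun a ha hd => Or.inr (prime_dvd_order ha hzo
      (by rwa [Nat.card_congr (subgroupOfEquivOfLe (zpowers_le.mpr hzD)).toEquiv] at hd))
  set c' : G := ((c⁻¹ : D) : G) with hc'
  set z' : G := c' * z * c'⁻¹ with hz'
  set V := B.map D.subtype with hV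
  have hwV : w ∈ V := ⟨⟨w, hwD⟩, hwB (mem_subgroupOf.mpr (mem_zpowers w)), rfl⟩
  have hz'V : z' ∈ V := by
    have h1 := hc (show (⟨z, hzD⟩ : D) ∈ (zpowers z).subgroupOf D from mem_zpowers z)
    rw [Subgroup.mem_pointwise_smul_iff_inv_smul_mem] at h1
    exact ⟨_, h1, by simp [MulAut.smul_def, hz', hc']⟩
  have hVπ : ∀ a : ℕ, a.Prime → a ∣ Nat.card V → a = t ∨ a = s := fun a ha hd =>
    hB'.1 a ha (by rwa [hV, card_map_of_injective D.subtype_injective] at hd)
  have hVD : V ≤ D := map_subtype_le _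
  obtain ⟨E₃, hE₃, hVE⟩ := Compl.exists_compl_ge hG hH (hVD.trans hDH) fun a ha hd => by
    rcases hVπ a ha hd with rfl | rfl
    · exact htH
    · exact hsH
  have hz'o : orderOf z' = s := (MulAut.conj c').orderOf_eq z ▸ hzo
  have hez' : e * z' = z' * e := (mem_centralizer_singleton_iff.mp (hVD hz'V)).symm
  by_cases htH' : t ∣ Nat.card ↥⁅H, H⁆
  · exact hA z' (hNw (normalizes_line hG hH hE₃ htH ht1 htH' (hVE hwV) hwo (hVE hz'V))) hz'o hez'
  by_cases hsH' : s ∣ Nat.card ↥⁅H, H⁆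
  · have hwN := normalizes_line hG hH hE₃ hsH hs1 hsH' (hVE hz'V) hz'o (hVE hwV)
    have hwN' : c'⁻¹ * w * c' ∈ normalizer ((zpowers z : Subgroup G) : Set G) := by
      have he1 : zpowers z' = (zpowers z).map (MulAut.conj c').toMonoidHom := by
        rw [MonoidHom.map_zpowers]; rfl
      rw [he1, PrimeAction.normalizer_map] at hwN
      obtain ⟨v, hv, hvw⟩ := hwN
      have : c'⁻¹ * w * c' = v := by
        rw [← hvw]; show c'⁻¹ * (c' * v * c'⁻¹) * c' = v; group
      exact this ▸ hv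
    refine hB _ (hNz hwN') ?_ ?_
    · have := (MulAut.conj c'⁻¹).orderOf_eq w
      simpa [hwo] using this
    · have hc2 : Commute e c' := (mem_centralizer_singleton_iff.mp (c⁻¹ : D).2).symm
      exact ((hc2.inv_right.mul_right (show Commute e w from hew)).mul_right hc2).eq
  have hmem : ⁅w, z'⁆ ∈ V ⊓ ⁅E₃, E₃⁆ := mem_inf.mpr
    ⟨by rw [commutatorElement_def]
        exact mul_mem (mul_mem (mul_mem hwV hz'V) (inv_mem hwV)) (inv_mem hz'V),
      commutator_mem_commutator (hVE hwV) (hVE hz'V)⟩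
  have hbot : V ⊓ ⁅E₃, E₃⁆ = ⊥ := (Coprime.disjoint_of_coprime (N := V) (H := ⁅E₃, E₃⁆)
    (Nat.coprime_of_dvd fun a ha h1 h2 => by
      have h3 := h2.trans (card_dvd_of_le (commutator_mono hE₃.1 hE₃.1))
      rcases hVπ a ha h1 with rfl | rfl
      · exact htH' h3
      · exact hsH' h3)).eq_bot
  rw [hbot, mem_bot, commutatorElement_eq_one_iff_mul_comm] at hmem
  exact hA z' (hNw (mem_normalizer_of_comm hmem.symm)) hz'o hez'

end Cfsg.Agent.OddLocal.KappaOver
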