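import Cfsg.Agent.OddLocal.KappaAction

/-! The structure of `M` around a Hall `κ(M)`-subgroup (BG 14.2). -/

set_option autoImplicit false
set_option linter.unusedSectionVars false

namespace Cfsg.Agent.OddLocal.KappaStructure

open Cfsg Subgroup PrimeAction KappaCentral KappaOver KappaAction
open scoped commutatorElement Pointwise
open TauTwo (centralizer_zpowers mem_zpowers_of_cyclic)
open Cfsg.Agent.Transfer.Fusion (coe_smul_eq_map)

variable {G : Type*} [Group G] [Finite G] {M L E K U : Subgroup G} {p q r s : ℕ} [hr : Fact r.Prime]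
  {u y v : G}

/-- An element of rank one outside `σ(M)` with a fixed point gives a prime of `κ(M)`. -/
theorem mem_kappa (hG : IsMinSimpleOddOrder G) (hu : u ∈ M) (huo : orderOf u = r) (hrσ : r ∉ sigma M)
    (hr1 : PRankLE r 1 M) (hy : y ∈ sigmaCore M) (hy1 : y ≠ 1) (huy : u * y = y * u) : r ∈ kappa M := by
  refine ⟨hr.out, huo ▸ M.orderOf_dvd_natCard hu, hrσ, fun P => ⟨?_, ?_⟩⟩
  · have := Compl.isCyclic_of_rankOne hG hr1 (P.isPGroup'.map M.subtype) (map_subtype_le _)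
    exact isCyclic_of_surjective _
      ((P : Subgroup M).equivMapOfInjective M.subtype M.subtype_injective).symm.surjective
  · obtain ⟨S, huS⟩ := ((isPGroup_of_card (card_zpowers_eq huo)).comap_subtype (K := M)).exists_le_sylow
    obtain ⟨a, ha⟩ := MulAction.exists_smul_eq M S P
    refine ⟨a * ⟨u, hu⟩ * a⁻¹, ?_, fun e => ne_one_of_order huo ?_, (a : G) * y * (a : G)⁻¹,
      (mem_normalizer_iff.mp (Sigma.le_normalizer_sigmaCore M a.2) y).mp hy,
      fun e => hy1 (conj_eq_one_iff.mp e), ?_⟩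
    · rw [← ha, coe_smul_eq_map]
      exact ⟨_, huS (mem_subgroupOf.mpr (mem_zpowers _)), rfl⟩
    · exact congrArg Subtype.val (conj_eq_one_iff.mp e)
    · simp only [coe_mul, coe_inv]
      calc (a : G) * u * (a : G)⁻¹ * (a * y * (a : G)⁻¹) = a * (u * y) * (a : G)⁻¹ := by group
        _ = a * (y * u) * (a : G)⁻¹ := by rw [huy]
        _ = _ := by group

theorem rank_of_kappa (hκ : r ∈ kappa M) : PRankLE r 1 M := by
  by_contra h
  obtain ⟨B, hBM, hBe, hBc⟩ := Unique.exists_elementary_of_not_pRankLE h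
  obtain ⟨P, hBP⟩ := ((Components.Hyperplane.isPGroup hBe).comap_subtype (K := M)).exists_le_sylow
  have := (hκ.2.2.2 P).1
  have hcB : IsCyclic (B.subgroupOf M) := Subgroup.isCyclic_of_le hBP
  have h1 : Monoid.exponent (B.subgroupOf M) = r ^ 2 := by
    rw [hcB.exponent_eq_card, Nat.card_congr (subgroupOfEquivOfLe hBM).toEquiv, hBc]
  have h2 : Monoid.exponent (B.subgroupOf M) ∣ r := Monoid.exponent_dvd_of_forall_pow_eq_one fun b =>
    Subtype.ext (Subtype.ext (hBe.2 _ b.2))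
  rw [h1] at h2
  have := Nat.le_of_dvd hr.out.pos h2
  have := hr.out.two_le
  nlinarith

/-- Elements of order `r ∈ κ(M)` have fixed points on `M_σ`. -/
theorem kappa_fixed (hκ : r ∈ kappa M) (hv : v ∈ M) (hvo : orderOf v = r) :
    ∃ (q : ℕ) (y : G), q.Prime ∧ y ∈ sigmaCore M ∧ orderOf y = q ∧ v * y = y * v := by
  obtain ⟨P, hvP⟩ := ((isPGroup_of_card (card_zpowers_eq hvo)).comap_subtype (K := M)).exists_le_sylow
  obtain ⟨hPc, x, hxP, hx1, y, hy, hy1, hxy⟩ := hκ.2.2.2 P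
  have hc : IsCyclic ((P : Subgroup M).map M.subtype) :=
    isCyclic_of_surjective _ ((P : Subgroup M).equivMapOfInjective M.subtype M.subtype_injective).surjective
  have hx1' : (x : G) ≠ 1 := fun e => hx1 (Subtype.ext e)
  obtain ⟨k, hk⟩ := IsPGroup.iff_orderOf.mp (P.isPGroup'.map M.subtype) ⟨(x : G), x, hxP, rfl⟩
  rw [← orderOf_coe] at hk
  have hk0 : k ≠ 0 := fun e => hx1' (orderOf_eq_one_iff.mp (by rw [hk, e, pow_zero]))
  have hdvd : r ∣ orderOf (x : G) := hk ▸ dvd_pow_self r hk0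
  set x' := (x : G) ^ (orderOf (x : G) / r) with hx'
  have hx'o : orderOf x' = r := orderOf_pow_orderOf_div (orderOf_pos _).ne' hdvd
  obtain ⟨i, (hi : x' ^ i = v)⟩ := mem_zpowers_iff.mp (mem_zpowers_of_cyclic hc (pow_mem (show (x : G) ∈ (P : Subgroup M).map M.subtype from ⟨x, hxP, rfl⟩) _)
    ⟨⟨v, hv⟩, hvP (mem_subgroupOf.mpr (mem_zpowers v)), rfl⟩ hx'o (pow_eq_one_of_order hvo))
  have hvy : Commute v y := hi ▸ ((show Commute (x : G) y from hxy).pow_left _).zpow_left i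
  have hy1' : orderOf y ≠ 1 := fun e => hy1 (orderOf_eq_one_iff.mp e)
  refine ⟨(orderOf y).minFac, y ^ (orderOf y / (orderOf y).minFac), Nat.minFac_prime hy1', pow_mem hy _,
    orderOf_pow_orderOf_div (orderOf_pos y).ne' (Nat.minFac_dvd _), (hvy.pow_right _).eq⟩

/-- An element of a complement commuting with a nonregular element of `τ₁(M)` is nonregular of rank one. -/
theorem commuting_kappa (hG : IsMinSimpleOddOrder G) (hM : IsCoatom M) (hE : IsComplIn E (sigmaCore M) M)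
    (hrM : ¬ r ∣ Nat.card ↥⁅M, M⁆) (hκ : r ∈ kappa M) (huE : u ∈ E) (huo : orderOf u = r)
    [Fact s.Prime] (hvE : v ∈ E) (hvo : orderOf v = s) (huv : u * v = v * u) : s ∈ kappa M := by
  obtain ⟨q, y, hq, hy, hyo, huy⟩ := kappa_fixed hκ (hE.1 huE) huo
  have := Fact.mk hq
  have hsσ : s ∉ sigma M := Compl.not_sigma hG hM hE Fact.out (hvo ▸ orderOf_dvd_natCard _ hvE)
  have hr1 := rank_of_kappa hκ
  have hyv := tau1_le hG hM hE hrM hr1 huE huo hvE hvo huv
    (mem_inf_centralizer.mpr ⟨hy, huy.symm⟩)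
  have hvy : v * y = y * v := (mem_inf_centralizer.mp hyv).2.symm
  refine mem_kappa hG (hE.1 hvE) hvo hsσ ?_ hy (ne_one_of_order hyo) hvy
  by_contra h2
  exact no_mixed hG hM ⟨Fact.out, hsσ, SigmaCompl.rank_le hG hM Fact.out hsσ, h2⟩ (hE.1 huE) huo
    hκ.2.2.1 hr1 (hE.1 hvE) hvo huv hy (ne_one_of_order hyo) huy hvy

/-- A Hall `κ(M)`-subgroup `K`, a complement `E` over it and `U`, the other part of `E`. -/
structure Data (M K E U : Subgroup G) : Prop where
  hE : IsComplIn E (sigmaCore M) M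
  hKE : K ≤ E
  hUE : U ≤ E
  hUn : E ≤ normalizer (U : Set G)
  hUc : IsMulCommutative U
  hUK : U ⊓ K = ⊥
  hUκ : ∀ t : ℕ, t.Prime → t ∣ Nat.card U → t ∉ kappa M
  hUD : U ≤ ⁅E, E⁆
  split : ∀ e ∈ E, ∃ a ∈ U, ∃ k ∈ K, e = a * k
  fixed : ∀ k ∈ K, k ≠ 1 →
    sigmaCore M ⊓ centralizer ({k} : Set G) = sigmaCore M ⊓ centralizer (K : Set G)
  fpf : ∀ k ∈ K, k ≠ 1 → U ⊓ centralizer ({k} : Set G) = ⊥
  line : ∀ k ∈ K, (orderOf k).Prime → K ≤ normalizer ((zpowers k : Subgroup G) : Set G)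

theorem exists_prime_power {k : G} (hk : k ≠ 1) :
    ∃ n : ℕ, (orderOf (k ^ n)).Prime := by
  have h1 : orderOf k ≠ 1 := fun e => hk (orderOf_eq_one_iff.mp e)
  exact ⟨orderOf k / (orderOf k).minFac,
    (orderOf_pow_orderOf_div (orderOf_pos k).ne' (Nat.minFac_dvd _)).symm ▸ Nat.minFac_prime h1⟩

theorem centralizer_pow_le (k : G) (n : ℕ) :
    centralizer ({k} : Set G) ≤ centralizer ({k ^ n} : Set G) := fun z hz =>
  mem_centralizer_singleton_iff.mpr
    ((show Commute z k from mem_centralizer_singleton_iff.mp hz).pow_right n).eq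

theorem fixed_of_prime (hK : ∀ k ∈ K, (orderOf k).Prime →
    sigmaCore M ⊓ centralizer ({k} : Set G) ≤ centralizer (K : Set G)) {k : G} (hk : k ∈ K) (hk1 : k ≠ 1) :
    sigmaCore M ⊓ centralizer ({k} : Set G) = sigmaCore M ⊓ centralizer (K : Set G) := by
  obtain ⟨n, hn⟩ := exists_prime_power hk1
  refine le_antisymm (le_inf inf_le_left ?_)
    (inf_le_inf_left _ (Subgroup.centralizer_le (Set.singleton_subset_iff.mpr hk)))
  exact (inf_le_inf_left _ (centralizer_pow_le k n)).trans (hK _ (pow_mem hk n) hn)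

/-- Away from the primes of `κ(M)` everything lies in `U`. -/
theorem sup_eq_compl (hK : IsPiHallOf (kappa M) K M) (hE : IsComplIn E (sigmaCore M) M) (hKE : K ≤ E)
    (hUE : U ≤ E) (hUn : E ≤ normalizer (U : Set G))
    (hU : ∀ t : ℕ, t.Prime → t ∉ kappa M → ¬ t ∣ U.relIndex E) :
    ∀ e ∈ E, ∃ a ∈ U, ∃ k ∈ K, e = a * k := by
  have hle : U ⊔ K = E := by
    refine le_antisymm (sup_le hUE hKE) (relIndex_eq_one.mp ?_)
    by_contra h1
    obtain ⟨t, ht, htd⟩ := Nat.exists_prime_and_dvd h1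
    by_cases hκ : t ∈ kappa M
    · refine hK.2.2 t ht hκ ?_
      exact htd.trans ((relIndex_dvd_of_le_left E (le_sup_right : K ≤ U ⊔ K)).trans
        (Dvd.intro _ (relIndex_mul_relIndex K E M hKE hE.1)))
    · exact hU t ht hκ (htd.trans (relIndex_dvd_of_le_left E le_sup_left))
  intro e he
  have h : e ∈ ((U ⊔ K : Subgroup G) : Set G) := by rw [hle]; exact he
  rw [coe_mul_of_right_le_normalizer_left U K (hKE.trans hUn)] at h
  obtain ⟨a, ha, k, hk, he'⟩ := h
  exact ⟨a, ha, k, hk, he'.symm⟩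

/-- Case of a nonregular element at `τ₃(M)`: `K` is a complement. -/
theorem data_of_tau3 (hK : IsPiHallOf (kappa M) K M) (hE : IsComplIn E (sigmaCore M) M) (hKE : K ≤ E)
    [Fact q.Prime] (h : Tau3 M L r q u y) (huE : u ∈ E) : Data M K E ⊥ := by
  have hG := h.hG
  have hκ : ∀ t : ℕ, t.Prime → t ∣ Nat.card E → t ∈ kappa M := fun t ht hd => by
    have := Fact.mk ht
    obtain ⟨v₀, hv₀⟩ := exists_prime_orderOf_dvd_card' t hd
    rw [← orderOf_coe] at hv₀
    have htσ := Compl.not_sigma hG h.hM hE ht hd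
    exact mem_kappa hG (hE.1 v₀.2) hv₀ htσ (h.rank_one ht htσ) h.hy (ne_one_of_order h.hyo)
      (mem_centralizer_iff.mp (prime_action h hE huE v₀.2 hv₀).2.2 _ v₀.2)
  have hn : E ≤ normalizer ((⊥ : Subgroup G) : Set G) := by
    rw [le_normalizer_iff]; intro a _ b hb; simp [mem_bot.mp hb]
  have hsplit := sup_eq_compl hK hE hKE bot_le hn fun t ht hκ' hd =>
    hκ' (hκ t ht (by rwa [relIndex_bot_left] at hd))
  refine ⟨hE, hKE, bot_le, hn, inferInstance, bot_inf_eq K, fun t ht hd => ?_, bot_le, hsplit,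
    fun k hk hk1 => fixed_of_prime (fun k hk hp => ?_) hk hk1, fun k _ _ => bot_inf_eq _,
    fun k hk hp => ?_⟩
  · rw [card_bot] at hd; exact absurd (Nat.dvd_one.mp hd) ht.ne_one
  · have := Fact.mk hp
    rw [(prime_action h hE huE (hKE hk) rfl).1]
    exact inf_le_right.trans (Subgroup.centralizer_le hKE)
  · have := Fact.mk hp
    exact hKE.trans (prime_action h hE huE (hKE hk) rfl).2.1

/-- Case of regular `τ₃(M)`: `K` is abelian and `U = E'`. -/
theorem data_of_tau1 (hG : IsMinSimpleOddOrder G) (hM : IsCoatom M) (hK : IsPiHallOf (kappa M) K M)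
    (hK1 : K ≠ ⊥) (hE : IsComplIn E (sigmaCore M) M) (hKE : K ≤ E)
    (hκM : ∀ t : ℕ, t.Prime → t ∈ kappa M → ¬ t ∣ Nat.card ↥⁅M, M⁆) : Data M K E ⁅E, E⁆ := by
  have hκE : ∀ t : ℕ, t.Prime → t ∈ kappa M → ¬ t ∣ Nat.card ↥⁅E, E⁆ := fun t ht hκ hd =>
    hκM t ht hκ (hd.trans (card_dvd_of_le (commutator_mono hE.1 hE.1)))
  have hUK : ⁅E, E⁆ ⊓ K = ⊥ := (Coprime.disjoint_of_coprime (N := ⁅E, E⁆) (H := K)
    (Nat.coprime_of_dvd fun t ht h1 h2 => hκE t ht (hK.2.1 t ht h2) h1)).eq_bot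
  have hKc : ∀ a ∈ K, ∀ b ∈ K, a * b = b * a := fun a ha b hb => by
    refine commutatorElement_eq_one_iff_mul_comm.mp (mem_bot.mp (hUK ▸ mem_inf.mpr
      ⟨commutator_mem_commutator (hKE ha) (hKE hb), ?_⟩))
    rw [commutatorElement_def]
    exact mul_mem (mul_mem (mul_mem ha hb) (inv_mem ha)) (inv_mem hb)
  have hkprime : ∀ k ∈ K, (orderOf k).Prime → orderOf k ∈ kappa M := fun k hk hp =>
    hK.2.1 _ hp (orderOf_dvd_natCard _ hk)
  obtain ⟨k₀', hk₀', hk₀1⟩ := (bot_or_exists_ne_one K).resolve_left hK1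
  obtain ⟨n₀, hn₀⟩ := exists_prime_power hk₀1
  set k₀ := k₀' ^ n₀ with hk₀def
  have hk₀ : k₀ ∈ K := pow_mem hk₀' _
  have := Fact.mk hn₀
  -- elements at other primes lie in `E'`
  have hU : ∀ t : ℕ, t.Prime → t ∉ kappa M → ¬ t ∣ ⁅E, E⁆.relIndex E := by
    intro t ht htκ hd
    have := Fact.mk ht
    obtain ⟨T⟩ : Nonempty (Sylow t E) := inferInstance
    refine T.not_dvd_index (hd.trans (index_dvd_of_le (H := (T : Subgroup E)) fun z hz => ?_))
    obtain ⟨x, hx, hxz⟩ := exists_decomp (r := orderOf k₀) (hKE hk₀) rfl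
      (hκE _ hn₀ (hkprime k₀ hk₀ hn₀)) z.2
    have hnd : ¬ t ∣ orderOf (x * (z : G)) := fun hd' => htκ
      (commuting_kappa (s := t) (v := (x * (z : G)) ^ (orderOf (x * (z : G)) / t)) hG hM hE
        (hκM _ hn₀ (hkprime k₀ hk₀ hn₀)) (hkprime k₀ hk₀ hn₀)
        (hKE hk₀) rfl (pow_mem (mul_mem (commutator_le_self E hx) z.2) _)
        (orderOf_pow_orderOf_div (orderOf_pos _).ne' hd')
        (((show Commute (x * (z : G)) k₀ from mem_centralizer_singleton_iff.mp hxz).pow_left _).symm.eq))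
    obtain ⟨i, hi⟩ := IsPGroup.iff_orderOf.mp T.isPGroup' ⟨z, hz⟩
    rw [← orderOf_coe] at hi
    rw [mem_subgroupOf, ← map_subtype_commutator]
    refine ⟨z, (QuotientGroup.eq_one_iff z).mp (orderOf_eq_one_iff.mp ?_), rfl⟩
    have he : QuotientGroup.mk' (commutator E) ⟨x * (z : G), mul_mem (commutator_le_self E hx) z.2⟩ =
        QuotientGroup.mk' (commutator E) z := by
      rw [show (⟨x * (z : G), mul_mem (commutator_le_self E hx) z.2⟩ : E) =
        ⟨x, commutator_le_self E hx⟩ * z from rfl, map_mul]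
      have : (⟨x, commutator_le_self E hx⟩ : E) ∈ commutator E := by
        rw [← Subgroup.mem_map_iff_mem E.subtype_injective, map_subtype_commutator]; exact hx
      rw [QuotientGroup.mk'_apply, (QuotientGroup.eq_one_iff _).mpr this, one_mul]
    refine Nat.eq_one_of_dvd_coprimes ((ht.coprime_iff_not_dvd.mpr hnd).symm.pow_right i) ?_
      (hi ▸ orderOf_map_dvd (QuotientGroup.mk' (commutator E)) z)
    refine (dvd_of_eq (congrArg orderOf he).symm).trans ?_
    exact (orderOf_map_dvd _ _).trans (dvd_of_eq (orderOf_mk _ _))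
  have hEn : E ≤ normalizer ((⁅E, E⁆ : Subgroup G) : Set G) := Coprime.le_normalizer_commutator_self le_normalizer
  -- equal fixed points
  have hone : ∀ a ∈ K, ∀ b ∈ K, (orderOf a).Prime → (orderOf b).Prime →
      sigmaCore M ⊓ centralizer ({a} : Set G) ≤ sigmaCore M ⊓ centralizer ({b} : Set G) :=
    fun a ha b hb hpa hpb => by
      have := Fact.mk hpa
      have := Fact.mk hpb
      exact tau1_le hG hM hE (hκM _ hpa (hkprime a ha hpa)) (rank_of_kappa (hkprime a ha hpa)) (hKE ha) rfl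
        (hKE hb) rfl (hKc a ha b hb)
  have hKW : ∀ k ∈ K, (orderOf k).Prime →
      sigmaCore M ⊓ centralizer ({k} : Set G) ≤ centralizer (K : Set G) := fun k hk hp => by
    set W := sigmaCore M ⊓ centralizer ({k} : Set G) with hW
    refine le_centralizer_iff.mp ?_
    rw [← subgroupOf_eq_top]
    refine Cores.eq_top_of_sylow_le fun t ht hd => ?_
    have := Fact.mk ht
    obtain ⟨T⟩ : Nonempty (Sylow t K) := inferInstance
    refine ⟨T, ?_⟩
    set T' := (T : Subgroup K).map K.subtype with hT'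
    have hTK : T' ≤ K := map_subtype_le _
    obtain ⟨g, hg⟩ := exists_prime_orderOf_dvd_card' t (show t ∣ Nat.card T' by
      rw [hT', card_map_of_injective K.subtype_injective]; exact T.dvd_card_of_dvd_card hd)
    rw [← orderOf_coe] at hg
    have htκ := hK.2.1 t ht hd
    have ht1 := rank_of_kappa htκ
    intro z hz
    refine mem_subgroupOf.mpr (mem_centralizer_iff.mpr fun x hx => ?_)
    have hx' : x ∈ sigmaCore M ⊓ centralizer ((zpowers (g : G) : Subgroup G) : Set G) := by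
      rw [centralizer_zpowers]
      exact hone k hk g (hTK g.2) hp (hg.symm ▸ ht) hx
    exact (mem_centralizer_iff.mp (le_centralizer_of_cyclic hG hM htκ.2.2.1 ht1 (card_zpowers_eq hg)
      (T.isPGroup'.map _) (Compl.isCyclic_of_rankOne hG ht1 (T.isPGroup'.map _) (hTK.trans hK.1))
      (zpowers_le.mpr g.2) (hTK.trans hK.1) hx') z (mem_map_of_mem _ hz)).symm
  refine ⟨hE, hKE, commutator_le_self E, hEn, ?_, hUK, fun t ht hd hκ => hκE t ht hκ hd, le_rfl,
    sup_eq_compl hK hE hKE (commutator_le_self E) hEn hU, fun k hk hk1 => fixed_of_prime hKW hk hk1,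
    fun k hk hk1 => ?_, fun k hk _ => ?_⟩
  · exact ⟨⟨fun a b => Subtype.ext (comm_commutator hG hM hE a.2 b.2)⟩⟩
  · obtain ⟨n, hn⟩ := exists_prime_power hk1
    have := Fact.mk hn
    refine le_bot_iff.mp ((inf_le_inf_left _ (centralizer_pow_le k n)).trans ?_)
    intro f hf
    obtain ⟨hfU, hfk⟩ := mem_inf.mp hf
    by_contra hf1
    obtain ⟨m, hm⟩ := exists_prime_power (fun e => hf1 (mem_bot.mpr e))
    have := Fact.mk hm
    refine hκE _ hm ?_ (orderOf_dvd_natCard _ (pow_mem hfU m))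
    exact commuting_kappa hG hM hE (hκM _ hn (hkprime _ (pow_mem hk n) hn))
      (hkprime _ (pow_mem hk n) hn) (hKE (pow_mem hk n)) rfl (pow_mem (commutator_le_self E hfU) m) rfl
      (((show Commute f (k ^ n) from mem_centralizer_singleton_iff.mp hfk).pow_left m).symm.eq)
  · exact le_trans (fun a ha => mem_centralizer_singleton_iff.mpr (hKc a ha k hk))
      (by rw [← centralizer_zpowers]; exact centralizer_le_normalizer _)

/-- BG 14.2: the data exist on every complement over a nontrivial Hall `κ(M)`-subgroup. -/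
theorem exists_data_on (hG : IsMinSimpleOddOrder G) (hM : IsCoatom M) (hK : IsPiHallOf (kappa M) K M)
    (hK1 : K ≠ ⊥) (hE : IsComplIn E (sigmaCore M) M) (hKE : K ≤ E) : ∃ U : Subgroup G, Data M K E U := by
  by_cases hκ : ∀ t : ℕ, t.Prime → t ∈ kappa M → ¬ t ∣ Nat.card ↥⁅M, M⁆
  · exact ⟨_, data_of_tau1 hG hM hK hK1 hE hKE hκ⟩
  push Not at hκ
  obtain ⟨r, hr, hrκ, hrM⟩ := hκ
  have := Fact.mk hr
  have hrE : r ∣ Nat.card E := Compl.dvd_of_dvd hE hr hrκ.2.2.1 hrκ.2.1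
  obtain ⟨u₀, hu₀⟩ := exists_prime_orderOf_dvd_card' r hrE
  rw [← orderOf_coe] at hu₀
  obtain ⟨q, y, hq, hy, hyo, huy⟩ := kappa_fixed hrκ (hE.1 u₀.2) hu₀
  have := Fact.mk hq
  obtain ⟨L, hL, hN⟩ := exists_normalizer_le hG (ne_bot_of_card (card_zpowers_eq hu₀))
    (zpowers_le.mpr (hE.1 u₀.2)) hM
  exact ⟨⊥, data_of_tau3 hK hE hKE
    ⟨hG, hM, hL, hE.1 u₀.2, hu₀, hrκ.2.2.1, rank_of_kappa hrκ, hrM, hy, hyo, huy, hN⟩ u₀.2⟩

/-- BG 14.2: the data exist for every nontrivial Hall `κ(M)`-subgroup. -/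
theorem exists_data (hG : IsMinSimpleOddOrder G) (hM : IsCoatom M) (hK : IsPiHallOf (kappa M) K M)
    (hK1 : K ≠ ⊥) : ∃ E U : Subgroup G, Data M K E U := by
  obtain ⟨E, hE, hKE⟩ := Compl.exists_compl_ge hG hM hK.1 fun t ht hd => (hK.2.1 t ht hd).2.2.1
  exact ⟨E, exists_data_on hG hM hK hK1 hE hKE⟩

/-- Lines of `K` are determined by their order. -/
theorem Data.line_unique (hd : Data M K E U) (hG : IsMinSimpleOddOrder G) (hK : IsPiHallOf (kappa M) K M)
    {a b : G} (ha : a ∈ K) (hb : b ∈ K) (hao : orderOf a = r) (hbo : orderOf b = r) :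
    b ∈ zpowers a := by
  have hκ : r ∈ kappa M := hK.2.1 r hr.out (hao ▸ orderOf_dvd_natCard _ ha)
  have hP := (isPGroup_of_card (card_zpowers_eq hbo)).to_sup_of_normal_right'
    (isPGroup_of_card (card_zpowers_eq hao))
    ((zpowers_le.mpr hb).trans (hd.line a ha (hao.symm ▸ hr.out)))
  exact mem_zpowers_of_cyclic (Compl.isCyclic_of_rankOne hG (rank_of_kappa hκ) hP
    (sup_le (zpowers_le.mpr (hK.1 hb)) (zpowers_le.mpr (hK.1 ha))))
    (mem_sup_right (mem_zpowers a)) (mem_sup_left (mem_zpowers b)) hao (pow_eq_one_of_order hbo)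

/-- `N_M(X) = K × C_{M_σ}(K)` for a line `X` of `K`. -/
theorem Data.normalizer_line (hd : Data M K E U) (hG : IsMinSimpleOddOrder G) (hM : IsCoatom M)
    {a : G} (ha : a ∈ K) (hao : orderOf a = r) :
    M ⊓ normalizer ((zpowers a : Subgroup G) : Set G) = K ⊔ (sigmaCore M ⊓ centralizer (K : Set G)) := by
  have ha1 := ne_one_of_order hao
  refine le_antisymm ?_ (sup_le (le_inf (hd.hKE.trans hd.hE.1) (hd.line a ha (hao.symm ▸ hr.out))) ?_)
  swap
  · refine le_inf (inf_le_left.trans (Sigma.sigmaCore_le M)) (inf_le_right.trans ?_)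
    refine le_trans (Subgroup.centralizer_le (Set.singleton_subset_iff.mpr ha)) ?_
    rw [← centralizer_zpowers]
    exact centralizer_le_normalizer _
  intro m hm
  obtain ⟨hmM, hmN⟩ := mem_inf.mp hm
  obtain ⟨e, he, z, hz, rfl⟩ := hd.hE.2.2.2 m hmM
  have hx : e * z * a * (e * z)⁻¹ ∈ zpowers a := (mem_normalizer_iff.mp hmN a).mp (mem_zpowers a)
  have haE : a ∈ E := hd.hKE ha
  have hza : z * a * z⁻¹ ∈ E := by
    have := mul_mem (mul_mem (inv_mem he) (hd.hKE ((zpowers_le.mpr ha) hx))) he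
    rwa [show e⁻¹ * (e * z * a * (e * z)⁻¹) * e = z * a * z⁻¹ by group] at this
  have hzc : z * a * z⁻¹ * a⁻¹ ∈ sigmaCore M ⊓ E := mem_inf.mpr ⟨by
    have := mul_mem hz ((mem_normalizer_iff.mp (Sigma.le_normalizer_sigmaCore M (hd.hE.1 haE)) z⁻¹).mp
      (inv_mem hz))
    simpa [mul_assoc] using this, mul_mem hza (inv_mem haE)⟩
  rw [Compl.sigmaCore_inf hd.hE, mem_bot, mul_inv_eq_one] at hzc
  have hzW : z ∈ sigmaCore M ⊓ centralizer (K : Set G) :=
    hd.fixed a ha ha1 ▸ mem_inf_centralizer.mpr ⟨hz, mul_inv_eq_iff_eq_mul.mp hzc⟩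
  refine mul_mem (mem_sup_left ?_) (mem_sup_right hzW)
  obtain ⟨f, hf, k, hk, rfl⟩ := hd.split e he
  rw [show f * k * z * a * (f * k * z)⁻¹ = f * k * (z * a * z⁻¹) * (f * k)⁻¹ by group, hzc] at hx
  have hka : k * a * k⁻¹ ∈ zpowers a :=
    (mem_normalizer_iff.mp (hd.line a ha (hao.symm ▸ hr.out) hk) a).mp (mem_zpowers a)
  set b := k * a * k⁻¹ with hb
  have hfb : f * b * f⁻¹ ∈ zpowers a := by
    rwa [show f * k * a * (f * k)⁻¹ = f * b * f⁻¹ by rw [hb]; group] at hx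
  have hbK : b ∈ K := (zpowers_le.mpr ha) hka
  have hc : f * b * f⁻¹ * b⁻¹ ∈ U ⊓ K := mem_inf.mpr ⟨?_,
    mul_mem ((zpowers_le.mpr ha) hfb) (inv_mem hbK)⟩
  · rw [hd.hUK, mem_bot, mul_inv_eq_one, mul_inv_eq_iff_eq_mul] at hc
    have hb1 : b ≠ 1 := fun e => ha1 (conj_eq_one_iff.mp e)
    have : f ∈ U ⊓ centralizer ({b} : Set G) := mem_inf.mpr ⟨hf, mem_centralizer_singleton_iff.mpr hc⟩
    rw [hd.fpf b hbK hb1, mem_bot] at this
    rw [this, one_mul]
    exact hk
  · have := mul_mem hf ((mem_normalizer_iff.mp (hd.hUn (hd.hKE hbK)) f⁻¹).mp (inv_mem hf))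
    simpa [mul_assoc] using this

/-- `N_M(K) = K × C_{M_σ}(K)`. -/
theorem Data.normalizer_eq (hd : Data M K E U) (hG : IsMinSimpleOddOrder G) (hM : IsCoatom M)
    (hK : IsPiHallOf (kappa M) K M) (hK1 : K ≠ ⊥) :
    M ⊓ normalizer (K : Set G) = K ⊔ (sigmaCore M ⊓ centralizer (K : Set G)) := by
  refine le_antisymm ?_ (sup_le (le_inf hK.1 le_normalizer)
    (le_inf (inf_le_left.trans (Sigma.sigmaCore_le M)) (inf_le_right.trans (centralizer_le_normalizer _))))
  obtain ⟨k, hk, hk1⟩ := (bot_or_exists_ne_one K).resolve_left hK1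
  obtain ⟨n, hn⟩ := exists_prime_power hk1
  have := Fact.mk hn
  rw [← hd.normalizer_line hG hM (pow_mem hk n) rfl]
  intro m hm
  refine mem_inf.mpr ⟨(mem_inf.mp hm).1, Cfsg.Agent.Transfer.Fusion.map_conj_eq_self_iff.mp
    (eq_of_le_of_card_ge ?_ (by rw [Cfsg.Agent.Transfer.Fusion.card_map_conj]))⟩
  rw [MonoidHom.map_zpowers]
  refine zpowers_le.mpr (hd.line_unique hG hK (pow_mem hk n)
    ((mem_normalizer_iff.mp (mem_inf.mp hm).2 _).mp (pow_mem hk n)) rfl ?_)
  exact (MulAut.conj m).orderOf_eq _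

/-- `C_{M_σ}(K)` is not trivial. -/
theorem Data.fixed_ne_bot (hd : Data M K E U) (hK : IsPiHallOf (kappa M) K M) (hK1 : K ≠ ⊥) :
    sigmaCore M ⊓ centralizer (K : Set G) ≠ ⊥ := by
  obtain ⟨k, hk, hk1⟩ := (bot_or_exists_ne_one K).resolve_left hK1
  obtain ⟨n, hn⟩ := exists_prime_power hk1
  have := Fact.mk hn
  obtain ⟨q, y, hq, hy, hyo, hky⟩ :=
    kappa_fixed (hK.2.1 _ hn (orderOf_dvd_natCard _ (pow_mem hk n))) (hK.1 (pow_mem hk n)) rfl
  have := Fact.mk hq
  intro e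
  have hy' : y ∈ sigmaCore M ⊓ centralizer (K : Set G) :=
    hd.fixed _ (pow_mem hk n) (ne_one_of_order (p := orderOf (k ^ n)) rfl) ▸
      mem_inf_centralizer.mpr ⟨hy, hky.symm⟩
  rw [e, mem_bot] at hy'
  exact ne_one_of_order hyo hy'

end Cfsg.Agent.OddLocal.KappaStructure
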