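import Cfsg.Agent.OddLocal.Max2Basic
import Cfsg.Agent.OddLocal.FPFFitting
import Cfsg.Agent.S1405

/-! Invariant subgroups of `A` at a maximal subgroup: the orbit argument. -/

set_option autoImplicit false
set_option linter.unusedSectionVars false

namespace Cfsg.Agent.OddLocal

open Cfsg Subgroup
open scoped commutatorElement

variable {G : Type*} [Group G] [Finite G] {p : ℕ} [hp : Fact p.Prime] {L : Subgroup G}

namespace MaxStruct

theorem commutator_quotient_nilpotent (hG : IsMinSimpleOddOrder G) (hL : IsCoatom L) :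
    Group.IsNilpotent ↥((commutator ↥L).map (QuotientGroup.mk' (piCore (sigma L) ↥L))) := by
  have hle : piCore (alpha L) ↥L ≤ (piCore (sigma L) ↥L).comap (MonoidHom.id ↥L) := by
    rw [Subgroup.comap_id]; exact Cores.piCore_mono (Sigma.alpha_subset_sigma hG hL)
  have h2 := Cores.isNilpotent_map _ (QuotientGroup.map _ _ (MonoidHom.id ↥L) hle)
    (S1405.result hG L hL).2.2.2.2
  rwa [Subgroup.map_map] at h2

theorem commutator_mem_alphaCore (hG : IsMinSimpleOddOrder G) (hL : IsCoatom L) {x y : G}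
    (hx : x ∈ ⁅L, L⁆) (hy : y ∈ ⁅L, L⁆) (hc : (orderOf x).Coprime (orderOf y)) :
    ⁅x, y⁆ ∈ alphaCore L := by
  rw [← map_subtype_commutator] at hx hy
  obtain ⟨x', hx', rfl⟩ := hx
  obtain ⟨y', hy', rfl⟩ := hy
  rw [← map_commutatorElement]
  refine mem_map_of_mem _ ((QuotientGroup.eq_one_iff _).mp ?_)
  have hn := (S1405.result hG L hL).2.2.2.2
  set f := QuotientGroup.mk' (piCore (alpha L) ↥L) with hf
  show f ⁅x', y'⁆ = 1
  rw [map_commutatorElement, commutatorElement_eq_one_iff_mul_comm]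
  refine (CN.commute_of_coprime hn (mem_map_of_mem f hx') (mem_map_of_mem f hy') ?_)
  rw [subtype_apply, subtype_apply, orderOf_coe, orderOf_coe] at hc
  exact (hc.coprime_dvd_left (orderOf_map_dvd f x')).coprime_dvd_right (orderOf_map_dvd f y')

theorem coprime_orderOf {q : ℕ} [Fact q.Prime] (hqp : q ≠ p) {Q P : Subgroup G} (hQ : IsPGroup q Q)
    (hP : IsPGroup p P) {x y : G} (hx : x ∈ Q) (hy : y ∈ P) : (orderOf x).Coprime (orderOf y) :=
  CN.coprime_orderOf_of_isPGroup hqp hQ hP hx hy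

theorem commutator_eq_bot (hG : IsMinSimpleOddOrder G) (hL : IsCoatom L) {q : ℕ} [hq : Fact q.Prime]
    (hqp : q ≠ p) {T A : Subgroup G} (hT : IsPGroup q T) (hA : IsPGroup p A) (hTL : T ≤ ⁅L, L⁆)
    (hAL : A ≤ ⁅L, L⁆) (hAT : A ≤ normalizer (T : Set G)) (hqα : q ∉ alpha L) : ⁅T, A⁆ = ⊥ := by
  rw [eq_bot_iff, commutator_le]
  intro t ht a ha
  have h1 := commutator_mem_alphaCore hG hL (hTL ht) (hAL ha) (coprime_orderOf hqp hT hA ht ha)
  have h2 := Coprime.commutator_le_of_le_normalizer hAT (commutator_mem_commutator ht ha)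
  have hd : Disjoint T (alphaCore L) := by
    refine disjoint_of_coprime_natCard (Nat.coprime_of_dvd fun r hr h3 h4 => hqα ?_)
    have : r = q := (Cores.isPi_iff_isPGroup T).mpr hT r hr h3
    exact this ▸ Transitivity.isPi_piCoreOf (alpha L) L r hr h4
  exact hd.le_bot (mem_inf.mpr ⟨h2, h1⟩)

/-- A `σ(L)'`-subgroup of `L'` centralising `L_σ` lies in `O_q(L)`. -/
theorem le_qcore (hG : IsMinSimpleOddOrder G) (hL : IsCoatom L) {q : ℕ} [hq : Fact q.Prime]
    {T : Subgroup G} (hT : IsPGroup q T) (hTL : T ≤ ⁅L, L⁆)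
    (hTC : T ≤ centralizer (sigmaCore L : Set G)) : T ≤ piCoreOf {q} L := by
  set Y := ⁅L, L⁆ ⊓ centralizer (sigmaCore L : Set G) with hY
  have hYL : Y ≤ L := inf_le_left.trans (commutator_le_self L)
  have hLY : L ≤ normalizer (Y : Set G) := by
    refine (le_inf ?_ ?_).trans inf_normalizer_le_normalizer_inf
    · intro l hl
      rw [← Transfer.Fusion.map_conj_eq_self_iff, Subgroup.map_commutator,
        Transfer.Fusion.map_conj_eq_self_iff.mpr (le_normalizer hl)]
    · exact (Sigma.le_normalizer_sigmaCore L).trans (CharP.normalizer_le_normalizer_centralizer _)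
  have hYn : Group.IsNilpotent Y := by
    have := commutator_quotient_nilpotent hG hL
    let f : Y →* ↥L ⧸ piCore (sigma L) ↥L :=
      (QuotientGroup.mk' _).comp (inclusion hYL)
    have hrange : f.range ≤ (commutator ↥L).map (QuotientGroup.mk' (piCore (sigma L) ↥L)) := by
      rintro _ ⟨y, rfl⟩
      refine mem_map_of_mem _ ?_
      rw [← mem_map_iff_mem L.subtype_injective, map_subtype_commutator]
      exact (mem_inf.mp y.2).1
    have hrn : Group.IsNilpotent f.range := Cores.isNilpotent_to_le hrange this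
    refine Subgroup.isNilpotent_of_ker_le_center f.rangeRestrict ?_
    rw [MonoidHom.ker_rangeRestrict]
    intro y hy
    refine mem_center_iff.mpr fun z => Subtype.ext ?_
    have h1 : (y : G) ∈ sigmaCore L :=
      ⟨inclusion hYL y, (QuotientGroup.eq_one_iff _).mp hy, rfl⟩
    exact (mem_centralizer_iff.mp (mem_inf.mp z.2).2 _ h1).symm
  have hTY : T ≤ Y := le_inf hTL hTC
  obtain ⟨S, hS⟩ := (hT.comap_subtype (K := Y)).exists_le_sylow
  have hSn : (S : Subgroup Y).Normal :=
    (Group.isNilpotent_of_finite_tfae.out 0 3 rfl rfl).1 hYn q inferInstance S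
  have hTP : T ≤ (pCore q Y).map Y.subtype := fun t ht =>
    ⟨⟨t, hTY ht⟩, Cores.le_pCore (hN := hSn) S.isPGroup' (hS ht), rfl⟩
  have : (pCore q Y).Characteristic := Cores.pCore_characteristic q
  exact hTP.trans (Transitivity.le_piCoreOf_of_normal ((map_subtype_le _).trans hYL)
    (hLY.trans (Coprime.OmegaDetect.normalizer_le_normalizer_char Y (pCore q Y)))
    ((Cores.isPi_iff_isPGroup _).mpr ((Cores.pCore_isPGroup q).map _)))

/-- A Sylow subgroup of `L_π` for `π ⊆ σ(L)` is a Sylow subgroup of `G`. -/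
theorem exists_sylow_of_core (hG : IsMinSimpleOddOrder G) (hL : IsCoatom L) {r : ℕ} [hr : Fact r.Prime]
    (hrσ : r ∈ sigma L) (W₀ : Sylow r (sigmaCore L)) :
    ∃ W : Sylow r G, (W : Subgroup G) = (W₀ : Subgroup ↥(sigmaCore L)).map (sigmaCore L).subtype := by
  refine ⟨(W₀.isPGroup'.map (sigmaCore L).subtype).toSylow ?_, rfl⟩
  intro hd
  rw [index_map_subtype] at hd
  exact (hr.out.dvd_mul.mp hd).elim W₀.not_dvd_index
    ((Sigma.sigmaCore_hall hG hL).2.2 r hr.out hrσ)

theorem exists_sylow_of_alphaCore (hG : IsMinSimpleOddOrder G) (hL : IsCoatom L) {r : ℕ}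
    [hr : Fact r.Prime] (hrα : r ∈ alpha L) (W₀ : Sylow r (alphaCore L)) :
    ∃ W : Sylow r G, (W : Subgroup G) = (W₀ : Subgroup ↥(alphaCore L)).map (alphaCore L).subtype := by
  refine ⟨(W₀.isPGroup'.map (alphaCore L).subtype).toSylow ?_, rfl⟩
  intro hd
  rw [index_map_subtype] at hd
  exact (hr.out.dvd_mul.mp hd).elim W₀.not_dvd_index
    ((Sigma.alphaCore_hall hG hL).2.2 r hr.out hrα)

end MaxStruct

namespace Max2

open MaxStruct

variable {A : Subgroup G}

theorem sylow_mem_maxInv {r : ℕ} [hr : Fact r.Prime] (W : Sylow r G)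
    (hAW : A ≤ normalizer ((W : Subgroup G) : Set G)) :
    (W : Subgroup G) ∈ maxInvSubgroups ⊤ A {r} := by
  refine ⟨Transitivity.mem_invSubgroups_iff.mpr ⟨Transitivity.isPi_of_isPGroup W.isPGroup', hAW⟩,
    fun R hR hle => W.3 ?_ hle⟩
  exact Transitivity.isPGroup_of_mem (Transitivity.mem_invSubgroups_iff.mp hR).1

/-- Two `A`-invariant Sylow subgroups meeting the centraliser of some element of `A` are conjugate
under `C(A)`; more generally such a Sylow subgroup absorbs invariant subgroups. -/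
theorem exists_conj_le (hG : IsMinSimpleOddOrder G) (hA : Max2 p A) {r : ℕ} [hr : Fact r.Prime]
    (hrp : r ≠ p) (W : Sylow r G) (hAW : A ≤ normalizer ((W : Subgroup G) : Set G)) {U H : Subgroup G}
    (hU : IsPGroup r U) (hAU : A ≤ normalizer (U : Set G)) (hH : H ≠ ⊤) (hAH : A ≤ H)
    (hWH : H ⊓ (W : Subgroup G) ≠ ⊥) (hUH : H ⊓ U ≠ ⊥) :
    ∃ c ∈ centralizer (A : Set G), U ≤ (W : Subgroup G).map (MulAut.conj c).toMonoidHom := by
  obtain ⟨U', hU', hUU'⟩ := Transitivity.exists_max_ge (A := A) (q := r) (Y := U)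
    (Transitivity.mem_invSubgroups_iff.mpr ⟨Transitivity.isPi_of_isPGroup hU, hAU⟩)
  obtain ⟨c, hc, rfl⟩ := Transitivity.conjugate_of_meet hG (hA.transHyp hG) (hA.not_dvd_card hrp)
    hH hAH (sylow_mem_maxInv W hAW) hU' hWH
    fun e => hUH (le_bot_iff.mp ((inf_le_inf_left H hUU').trans e.le))
  exact ⟨c, Transitivity.piCoreOf_le _ _ hc, hUU'⟩

/-- An element of `N(A)` that keeps an invariant Sylow subgroup meeting `C(a)` and `C(vav⁻¹)` lies
in every subgroup containing `N(W)` and `C(A)`. -/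
theorem mem_of_meet (hG : IsMinSimpleOddOrder G) (hA : Max2 p A) {r : ℕ} [hr : Fact r.Prime]
    (hrp : r ≠ p) (W : Sylow r G) (hAW : A ≤ normalizer ((W : Subgroup G) : Set G))
    (hNW : normalizer ((W : Subgroup G) : Set G) ≤ L) (hCA : centralizer (A : Set G) ≤ L)
    {v a : G} (hv : v ∈ normalizer (A : Set G)) (ha : a ∈ A) (ha1 : a ≠ 1)
    (h1 : (W : Subgroup G) ⊓ centralizer ({a} : Set G) ≠ ⊥)
    (h2 : (W : Subgroup G) ⊓ centralizer ({v * a * v⁻¹} : Set G) ≠ ⊥) : v ∈ L := by
  set a' := v * a * v⁻¹ with ha'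
  have ha'A : a' ∈ A := (mem_normalizer_iff.mp hv a).mp ha
  obtain ⟨y, hy, hy1⟩ := (bot_or_exists_ne_one _).resolve_left h1
  have ha'1 : a' ≠ 1 := by simpa [ha'] using ha1
  set U := (W : Subgroup G).map (MulAut.conj v).toMonoidHom with hUdef
  have hAU : A ≤ normalizer (U : Set G) := by
    rw [hUdef]
    conv_lhs => rw [← Transfer.Fusion.map_conj_eq_self_iff.mpr hv]
    exact (map_mono hAW).trans (le_normalizer_map _)
  have hyU : v * y * v⁻¹ ∈ centralizer ({a'} : Set G) ⊓ U := by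
    refine mem_inf.mpr ⟨mem_centralizer_singleton_iff.mpr ?_,
      Transfer.Fusion.conj_mem_map_conj (mem_inf.mp hy).1 v⟩
    have := mem_centralizer_singleton_iff.mp (mem_inf.mp hy).2
    calc v * y * v⁻¹ * a' = v * (y * a) * v⁻¹ := by rw [ha']; group
      _ = v * (a * y) * v⁻¹ := by rw [this]
      _ = a' * (v * y * v⁻¹) := by rw [ha']; group
  obtain ⟨c, hc, hle⟩ := hA.exists_conj_le hG hrp W hAW (U := U) (W.isPGroup'.map _) hAU
    (H := centralizer ({a'} : Set G)) (centralizer_ne_top hG ha'1) (hA.le_centralizer_singleton ha'A)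
    (by rwa [inf_comm]) fun e => hy1 (by
      rw [e, mem_bot] at hyU
      simpa using hyU)
  have he := eq_of_le_of_card_ge hle (by rw [Transfer.Fusion.card_map_conj, hUdef, Transfer.Fusion.card_map_conj])
  have hcv : c⁻¹ * v ∈ normalizer ((W : Subgroup G) : Set G) := by
    rw [← Transfer.Fusion.map_conj_eq_self_iff, Transfer.Fusion.map_conj_mul, ← hUdef, he,
      Transfer.Fusion.map_conj_inv_cancel]
  simpa using mul_mem (hCA hc) (hNW hcv)

/-- The orbit argument. -/
theorem orbit (hG : IsMinSimpleOddOrder G) (hA : Max2 p A) (hL : IsCoatom L) (hAL : A ≤ L)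
    (hCA : centralizer (A : Set G) ≤ L) (hpσ : p ∉ sigma L) {q : ℕ} [hq : Fact q.Prime] (hqp : q ≠ p)
    (hqσ : q ∉ sigma L) {T : Subgroup G} (hT : IsPGroup q T) (hTL : T ≤ L)
    (hAT : A ≤ normalizer (T : Set G)) {k : Subgroup G} (hk : k ≤ A) (hkc : Nat.card k = p)
    (hkT : k ≤ centralizer (T : Set G)) (hTA : ⁅T, A⁆ = T)
    (hTσ : ¬ T ≤ centralizer (sigmaCore L : Set G)) : normalizer (A : Set G) ≤ L := by
  set K := sigmaCore L with hK
  have hKπ : ∀ r : ℕ, r.Prime → r ∣ Nat.card K → r ∈ sigma L := Transitivity.isPi_piCoreOf (sigma L) L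
  have hcT := hA.coprime_of_isPGroup hqp hT
  have hB : A ⊔ T ≤ normalizer (K : Set G) :=
    (sup_le hAL hTL).trans (Sigma.le_normalizer_sigmaCore L)
  have hBc : (Nat.card (A ⊔ T : Subgroup G)).Coprime (Nat.card K) := by
    rw [sup_comm, Coprime.card_sup_of_coprime hAT hcT.symm]
    refine Nat.Coprime.mul_left ?_ ((hA.coprime_iff K).mpr fun h => hpσ (hKπ p hp.out h))
    obtain ⟨n, hn⟩ := hT.exists_card_eq
    rw [hn]
    exact (hq.out.coprime_iff_not_dvd.mpr fun h => hqσ (hKπ q hq.out h)).pow_left n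
  have hKs : Group.IsSolvable K :=
    Coprime.isSolvable_of_le (Sigma.sigmaCore_le L) (Transitivity.isSolvable_of_ne_top hG hL.1)
  obtain ⟨r, hr, W₀, hW₀, hTW⟩ : ∃ (r : ℕ), ∃ _ : Fact r.Prime, ∃ W₀ : Sylow r K,
      A ⊔ T ≤ normalizer ((W₀ : Subgroup K).map K.subtype : Set G) ∧
      ¬ T ≤ centralizer ((W₀ : Subgroup K).map K.subtype : Set G) := by
    by_contra hcon
    push Not at hcon
    refine hTσ (le_centralizer_iff.mp ?_)
    rw [← subgroupOf_eq_top]
    refine Cores.eq_top_of_sylow_le fun r hr hd => ?_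
    have := Fact.mk hr
    obtain ⟨W₀, hW₀⟩ := Coprime.exists_invariant_sylow r hB hBc (Or.inr hKs)
    refine ⟨W₀, fun x hx => mem_subgroupOf.mpr ?_⟩
    exact le_centralizer_iff.mp (hcon r this W₀ hW₀) (mem_map_of_mem _ hx)
  have := hr
  have hrK : r ∣ Nat.card K := by
    by_contra hd
    have h1 : (W₀ : Subgroup K) = ⊥ := by
      obtain ⟨n, hn⟩ := W₀.isPGroup'.exists_card_eq
      rcases n.eq_zero_or_pos with rfl | hn0
      · exact card_eq_one.mp (by simpa using hn)
      · exact absurd ((hn ▸ dvd_pow_self r hn0.ne').trans (card_subgroup_dvd_card _)) hd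
    refine hTW ?_
    rw [h1, Subgroup.map_bot]
    exact fun x _ => mem_centralizer_iff.mpr fun y hy => by
      rw [SetLike.mem_coe, mem_bot] at hy; simp [hy]
  have hrσ := hKπ r hr.out hrK
  obtain ⟨W, hW⟩ := exists_sylow_of_core hG hL hrσ W₀
  rw [← hW] at hW₀ hTW
  have hWL : (W : Subgroup G) ≤ L := hW ▸ (map_subtype_le _).trans (Sigma.sigmaCore_le L)
  have hNW := Sigma.sylow_normalizer_le hrσ W hWL
  have hrp : r ≠ p := fun h => hpσ (h ▸ hrσ)
  have hrq : r ≠ q := fun h => hqσ (h ▸ hrσ)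
  have hmeet : ∀ a ∈ A, a ∉ k → (W : Subgroup G) ⊓ centralizer ({a} : Set G) ≠ ⊥ := by
    intro a ha hak hbot
    refine hTW ?_
    have ha1 : a ≠ 1 := fun e => hak (e ▸ one_mem k)
    have haA : zpowers a ≤ A := zpowers_le.mpr ha
    have hTN : T ≤ normalizer ((W : Subgroup G) : Set G) := le_sup_right.trans hW₀
    set H := normalizer ((W : Subgroup G) : Set G) with hH
    -- work inside `N(W)`, where `W` is normal
    have hWn : ((W : Subgroup G).subgroupOf H).Normal := normal_in_normalizer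
    have hAH : zpowers a ≤ H := haA.trans (le_sup_left.trans hW₀)
    have hX' : Nat.card ((zpowers a).subgroupOf H) = p := by
      rw [Nat.card_congr (subgroupOfEquivOfLe hAH).toEquiv, hA.card_zpowers ha ha1]
    have h := FPFFitting.commutator_le_centralizer_sylow (q := q) (r := p) (s := r)
      (D := (W : Subgroup G).subgroupOf H) (Q := T.subgroupOf H) (X := (zpowers a).subgroupOf H)
      (W.isPGroup'.comap_subtype) (hT.comap_subtype) hX' hp.out hrq hrp hqp
      (fun e => by
        subst e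
        obtain ⟨n, hn⟩ := hT.exists_card_eq
        rcases n.eq_zero_or_pos with rfl | hn0
        · have h0 : T = ⊥ := card_eq_one.mp (by simpa using hn)
          exact hTW (h0 ▸ bot_le)
        · exact absurd ((Sigma.odd_card hG T)) (Nat.not_odd_iff_even.mpr
            (hn ▸ Nat.even_pow.mpr ⟨even_two, hn0.ne'⟩)))
      (by
        rw [← subgroupOf_normalizer_eq hTN]
        exact comap_mono (haA.trans hAT))
      (by
        rw [eq_bot_iff]
        intro x hx
        have h1 : (x : G) ∈ (W : Subgroup G) ⊓ centralizer ({a} : Set G) :=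
          mem_inf.mpr ⟨(mem_inf.mp hx).1, mem_centralizer_singleton_iff.mpr
            (congrArg Subtype.val (mem_centralizer_iff.mp (mem_inf.mp hx).2 ⟨a, hAH (mem_zpowers a)⟩
              (mem_zpowers a))).symm⟩
        rw [hbot, mem_bot] at h1
        exact mem_bot.mpr (Subtype.ext h1))
    have h' := map_mono (f := H.subtype) h
    rw [Subgroup.map_commutator, map_subgroupOf_eq_of_le hTN, map_subgroupOf_eq_of_le hAH,
      hA.commutator_zpowers_eq hAT hcT hk hkc hkT hTA ha hak] at h'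
    intro t ht
    obtain ⟨t', ht', rfl⟩ := h' ht
    exact mem_centralizer_iff.mpr fun w hw =>
      congrArg Subtype.val (mem_centralizer_iff.mp ht' ⟨w, le_normalizer hw⟩ hw)
  intro v hv
  have hkA : ¬ A ≤ k := fun h => by
    have h1 := Nat.le_of_dvd Nat.card_pos (card_dvd_of_le h)
    rw [hA.card, hkc] at h1
    nlinarith [hp.out.one_lt]
  obtain ⟨a, ha, hak, hav⟩ := Max2.exists_avoid (A := A) hkA
    (k₂ := k.map (MulAut.conj v⁻¹).toMonoidHom) (fun h => by
      have h1 := Nat.le_of_dvd Nat.card_pos (card_dvd_of_le h)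
      rw [hA.card, Transfer.Fusion.card_map_conj, hkc] at h1
      nlinarith [hp.out.one_lt])
  refine hA.mem_of_meet hG hrp W (le_sup_left.trans hW₀) hNW hCA hv ha (fun e => hak (e ▸ one_mem k))
    (hmeet a ha hak) (hmeet _ ((mem_normalizer_iff.mp hv a).mp ha) fun h => hav ?_)
  rw [Transfer.Fusion.mem_map_conj]
  simpa using h

/-- If `N(A) ≤ L` then the kernel of `A` on a `σ(L)'`-group of `L'` is invariant under `N(A)`. -/
theorem line_invariant (hG : IsMinSimpleOddOrder G) (hA : Max2 p A) (hL : IsCoatom L)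
    (hNA : normalizer (A : Set G) ≤ L) {q : ℕ} [hq : Fact q.Prime] (hqp : q ≠ p) (hqσ : q ∉ sigma L)
    {T : Subgroup G} (hT : IsPGroup q T) (hTL : T ≤ ⁅L, L⁆) (hAT : A ≤ normalizer (T : Set G)) :
    normalizer (A : Set G) ≤ normalizer ((A ⊓ centralizer (T : Set G) : Subgroup G) : Set G) := by
  rw [le_normalizer_iff]
  intro v hv a ha
  have ha' := mem_inf.mp ha
  have hva : v * a * v⁻¹ ∈ A := (mem_normalizer_iff.mp hv a).mp ha'.1
  refine mem_inf.mpr ⟨hva, mem_centralizer_iff.mpr fun t ht => ?_⟩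
  set c := v * a * v⁻¹ * a⁻¹ with hc
  have hcA : c ∈ A := mul_mem hva (inv_mem ha'.1)
  have hcL : c ∈ ⁅L, L⁆ :=
    commutator_mem_commutator (hNA hv) (hNA (le_normalizer ha'.1))
  have hd : Disjoint T (alphaCore L) := by
    refine disjoint_of_coprime_natCard (Nat.coprime_of_dvd fun r hr h3 h4 => hqσ ?_)
    have : r = q := (Cores.isPi_iff_isPGroup T).mpr hT r hr h3
    exact this ▸ Sigma.alpha_subset_sigma hG hL (Transitivity.isPi_piCoreOf (alpha L) L r hr h4)
  have h1 := commutator_mem_alphaCore hG hL (hTL ht) hcL (coprime_orderOf hqp hT hA.isPGroup ht hcA)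
  have h2 := Coprime.commutator_le_of_le_normalizer hAT (commutator_mem_commutator ht hcA)
  have h3 : t * c = c * t :=
    commutatorElement_eq_one_iff_mul_comm.mp (mem_bot.mp (hd.le_bot (mem_inf.mpr ⟨h2, h1⟩)))
  have h4 := mem_centralizer_iff.mp ha'.2 t ht
  calc t * (v * a * v⁻¹) = t * c * a := by rw [hc]; group
    _ = c * (t * a) := by rw [h3]; group
    _ = c * (a * t) := by rw [h4]
    _ = v * a * v⁻¹ * t := by rw [hc]; group

end Max2

end Cfsg.Agent.OddLocal
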