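import Cfsg.Agent.OddLocal.Max2Orbit

/-! A `q`-subgroup moved by `A` inside a second maximal subgroup. -/

set_option autoImplicit false
set_option linter.unusedSectionVars false

namespace Cfsg.Agent.OddLocal.Max2

open Cfsg Subgroup MaxStruct
open scoped commutatorElement
open Cfsg.Agent.Transfer.Fusion (map_conj_mul card_map_conj map_conj_eq_self_iff map_conj_inv_cancel)

variable {G : Type*} [Group G] [Finite G] {p q : ℕ} [hp : Fact p.Prime] [hq : Fact q.Prime]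
  {A M L : Subgroup G} {Q : Sylow q G}

/-- The data of a second maximal subgroup `L` containing `A`, and a Sylow subgroup `Q` of `M`. -/
structure Side (p q : ℕ) (A M L : Subgroup G) (Q : Sylow q G) : Prop where
  hG : IsMinSimpleOddOrder G
  hA : Max2 p A
  hM : IsCoatom M
  hAM : A ≤ M
  hpα : p ∉ alpha M
  hqp : q ≠ p
  hqσ : q ∈ sigma M
  hQM : (Q : Subgroup G) ≤ M
  hAQ : A ≤ normalizer ((Q : Subgroup G) : Set G)
  hQu : ∀ H : Subgroup G, IsCoatom H → normalizer ((Q : Subgroup G) : Set G) ≤ H → H = M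
  hL : IsCoatom L
  hne : L ≠ M
  hAL : A ≤ L
  hCA : centralizer (A : Set G) ≤ L

theorem Side.absorb (h : Side p q A M L Q) {U : Subgroup G} (hU : IsPGroup q U)
    (hAU : A ≤ normalizer (U : Set G)) {a : G} (ha : a ∈ A) (ha1 : a ≠ 1)
    (hQa : (Q : Subgroup G) ⊓ centralizer ({a} : Set G) ≠ ⊥)
    (hUa : U ⊓ centralizer ({a} : Set G) ≠ ⊥) :
    ∃ c ∈ L, U ≤ (Q : Subgroup G).map (MulAut.conj c).toMonoidHom := by
  obtain ⟨c, hc, hle⟩ := h.hA.exists_conj_le h.hG h.hqp Q h.hAQ hU hAU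
    (H := centralizer ({a} : Set G)) (centralizer_ne_top h.hG ha1) (h.hA.le_centralizer_singleton ha)
    (by rwa [inf_comm]) (by rwa [inf_comm])
  exact ⟨c, h.hCA hc, hle⟩

/-- A Sylow subgroup of `G` inside `L`, invariant under `A` and meeting `C(a)` with `Q`. -/
theorem Side.no_sylow (h : Side p q A M L Q) (hqL : q ∈ sigma L) (W : Sylow q G)
    (hWL : (W : Subgroup G) ≤ L) (hAW : A ≤ normalizer ((W : Subgroup G) : Set G))
    {a : G} (ha : a ∈ A) (ha1 : a ≠ 1) {T : Subgroup G} (hT1 : T ≠ ⊥)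
    (hTQ : T ≤ (Q : Subgroup G)) (hTW : T ≤ (W : Subgroup G))
    (hTa : T ≤ centralizer ({a} : Set G)) : False := by
  obtain ⟨c, hc, hle⟩ := h.absorb W.isPGroup' hAW ha ha1
    (fun e => hT1 (le_bot_iff.mp (e ▸ le_inf hTQ hTa)))
    (fun e => hT1 (le_bot_iff.mp (e ▸ le_inf hTW hTa)))
  have he := eq_of_le_of_card_ge hle (by
    rw [card_map_conj, Q.card_eq_multiplicity, W.card_eq_multiplicity])
  refine h.hne (h.hQu L h.hL fun n hn => ?_)
  have h1 : c * n * c⁻¹ ∈ normalizer ((W : Subgroup G) : Set G) := by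
    rw [← map_conj_eq_self_iff, he, ← map_conj_mul, inv_mul_cancel_right, map_conj_mul,
      map_conj_eq_self_iff.mpr hn]
  simpa [mul_assoc] using mul_mem (mul_mem (inv_mem hc) (Sigma.sylow_normalizer_le hqL W hWL h1)) hc

/-- If `q ∈ α(L)` then `p ∉ α(L)`. -/
theorem Side.not_alpha (h : Side p q A M L Q) (hqL : q ∈ alpha L) : p ∉ alpha L := by
  intro hpL
  obtain ⟨S, hS, hN⟩ := Sigma.exists_sylow_normalizer_le (Sigma.alpha_subset_sigma h.hG h.hL hqL)
  obtain ⟨g, hg⟩ := MulAction.exists_smul_eq G S Q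
  have hgS : (S : Subgroup G).map (MulAut.conj g).toMonoidHom = Q := by
    rw [← Transfer.Fusion.coe_smul_eq_map, hg]
  have hH : L.map (MulAut.conj g).toMonoidHom = M := by
    refine h.hQu _ (Unique.isCoatom_map_conj h.hL g) fun n hn => ?_
    have h1 : g⁻¹ * n * g ∈ normalizer ((S : Subgroup G) : Set G) := by
      rw [← map_conj_eq_self_iff, map_conj_mul, hgS, map_conj_mul, map_conj_eq_self_iff.mpr hn, ← hgS,
        map_conj_inv_cancel]
    exact ⟨g⁻¹ * n * g, hN h1, by simp [mul_assoc]⟩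
  obtain ⟨B, hBL, hBe, hBc⟩ := Unique.exists_elementary_of_not_pRankLE hpL.2
  refine h.hpα ⟨hpL.1, Unique.not_pRankLE_of_elementary (B := B.map (MulAut.conj g).toMonoidHom)
    (hH ▸ map_mono hBL) ⟨?_, ?_⟩ (by rw [card_map_conj]; exact hBc.ge)⟩
  · have := hBe.1
    exact map_isMulCommutative B _
  · rintro _ ⟨b, hb, rfl⟩
    rw [← map_pow, hBe.2 b hb, map_one]

/-- The main step: `A` moves a subgroup `T` of `Q ∩ L` centralised by `a`. -/
theorem Side.main (h : Side p q A M L Q) {a : G} (ha : a ∈ A) (ha1 : a ≠ 1) {T : Subgroup G}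
    (hT1 : T ≠ ⊥) (hTQ : T ≤ (Q : Subgroup G)) (hTL : T ≤ L) (hTa : T ≤ centralizer ({a} : Set G))
    (hAT : A ≤ normalizer (T : Set G)) (hTA : ⁅T, A⁆ = T)
    (hcase : q ∉ sigma L → p ∉ sigma L → piCoreOf {q} L ≠ ⊥ → piCoreOf {q} L ≤ (Q : Subgroup G) →
      T ≤ piCoreOf {q} L →
        centralizer (piCoreOf {q} L : Set G) ≤ M ∨ normalizer (A : Set G) ≤ L) :
    p ∉ sigma L ∧ normalizer (A : Set G) ≤ L ∧
      normalizer (A : Set G) ≤ normalizer (zpowers a : Set G) := by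
  have hG := h.hG
  have hT : IsPGroup q T := Q.isPGroup'.to_le hTQ
  have hAT' : ¬ A ≤ centralizer (T : Set G) := fun hc => hT1 (by
    rw [← hTA, Coprime.commutator_eq_bot_iff_le_centralizer'.mpr hc])
  have hTL' : T ≤ ⁅L, L⁆ := hTA ▸ commutator_mono hTL h.hAL
  have hpnσ : q ∉ alpha L → p ∉ sigma L := fun hqα hpσ => hT1 (by
    rw [← hTA]
    exact commutator_eq_bot hG h.hL h.hqp hT h.hA.isPGroup hTL'
      ((Sigma.sylow_le_sigmaCore hG h.hL hpσ h.hA.isPGroup h.hAL).trans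
        (Sigma.sigmaCore_le_commutator hG h.hL)) hAT hqα)
  have hqα : q ∉ alpha L := by
    intro hqα
    have hp' := h.not_alpha hqα
    have hcop : (Nat.card A).Coprime (Nat.card (alphaCore L)) :=
      (h.hA.coprime_iff _).mpr fun hd => hp' (Transitivity.isPi_piCoreOf (alpha L) L p hp.out hd)
    obtain ⟨W₀, hTW, hAW⟩ := Coprime.exists_invariant_sylow_ge
      (h.hAL.trans (Sigma.le_normalizer_alphaCore L)) hcop
      (Or.inl (@Coprime.isSolvable_of_isMulCommutative G _ A h.hA.comm))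
      (Sigma.le_alphaCore hG h.hL hTL fun r hr hd =>
        ((Cores.isPi_iff_isPGroup T).mpr hT r hr hd : r = q) ▸ hqα) hT hAT
    obtain ⟨W, hW⟩ := exists_sylow_of_alphaCore hG h.hL hqα W₀
    rw [← hW] at hTW hAW
    exact h.no_sylow (Sigma.alpha_subset_sigma hG h.hL hqα) W
      (hW ▸ (map_subtype_le _).trans (Sigma.alphaCore_le L)) hAW ha ha1 hT1 hTQ hTW hTa
  have hpσ := hpnσ hqα
  have hqσ : q ∉ sigma L := by
    intro hqσ
    have hcop : (Nat.card A).Coprime (Nat.card (sigmaCore L)) :=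
      (h.hA.coprime_iff _).mpr fun hd => hpσ (Transitivity.isPi_piCoreOf (sigma L) L p hp.out hd)
    obtain ⟨W₀, hTW, hAW⟩ := Coprime.exists_invariant_sylow_ge
      (h.hAL.trans (Sigma.le_normalizer_sigmaCore L)) hcop
      (Or.inl (@Coprime.isSolvable_of_isMulCommutative G _ A h.hA.comm))
      (Sigma.le_sigmaCore hG h.hL hTL fun r hr hd =>
        ((Cores.isPi_iff_isPGroup T).mpr hT r hr hd : r = q) ▸ hqσ) hT hAT
    obtain ⟨W, hW⟩ := exists_sylow_of_core hG h.hL hqσ W₀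
    rw [← hW] at hTW hAW
    exact h.no_sylow hqσ W (hW ▸ (map_subtype_le _).trans (Sigma.sigmaCore_le L)) hAW
      ha ha1 hT1 hTQ hTW hTa
  obtain ⟨hkc, hk⟩ := h.hA.card_inf_centralizer ha ha1 hTa hAT'
  suffices hN : normalizer (A : Set G) ≤ L from
    ⟨hpσ, hN, hk ▸ h.hA.line_invariant hG h.hL hN h.hqp hqσ hT hTL' hAT⟩
  by_cases hTσ : T ≤ centralizer (sigmaCore L : Set G)
  swap
  · exact h.hA.orbit hG h.hL h.hAL h.hCA hpσ h.hqp hqσ hT hTL hAT inf_le_left hkc inf_le_right hTA hTσ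
  have hTZ := le_qcore hG h.hL hT hTL' hTσ
  set Z := piCoreOf {q} L with hZ
  have hZp : IsPGroup q Z := (Cores.isPi_iff_isPGroup Z).mp (Transitivity.isPi_piCoreOf {q} L)
  have hZ1 : Z ≠ ⊥ := fun e => hT1 (le_bot_iff.mp (e ▸ hTZ))
  have hLZ : L ≤ normalizer (Z : Set G) := Transitivity.le_normalizer_piCoreOf _ L
  obtain ⟨c, hc, hle⟩ := h.absorb hZp (h.hAL.trans hLZ) ha ha1
    (fun e => hT1 (le_bot_iff.mp (e ▸ le_inf hTQ hTa)))
    (fun e => hT1 (le_bot_iff.mp (e ▸ le_inf hTZ hTa)))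
  have hZQ : Z ≤ (Q : Subgroup G) := by
    have := map_mono (f := (MulAut.conj c⁻¹).toMonoidHom) hle
    rwa [map_conj_eq_self_iff.mpr (hLZ (inv_mem hc)), map_conj_inv_cancel] at this
  rcases hcase hqσ hpσ hZ1 hZQ hTZ with hC | hN
  swap
  · exact hN
  refine absurd ((h.hL.le_iff.mp (show L ≤ M from fun l hl => ?_)).resolve_left h.hM.1) (Ne.symm h.hne)
  obtain ⟨m, hm, d, hd, rfl⟩ := Sigma.sigma_conj hG h.hM h.hqσ hZp hZ1 (hZQ.trans h.hQM) (g := l)
    (by rw [map_conj_eq_self_iff.mpr (hLZ hl)]; exact hZQ.trans h.hQM)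
  exact mul_mem hm (hC hd)

/-- The alternative for `main` from the centre of `Q`. -/
theorem Side.center_case (h : Side p q A M L Q) (hqL : q ∉ sigma L)
    {Z₁ : Subgroup G} (hZ₁Q : Z₁ ≤ (Q : Subgroup G))
    (hZ₁C : Z₁ ≤ centralizer ((Q : Subgroup G) : Set G)) (hAZ₁ : A ≤ normalizer (Z₁ : Set G))
    (hfix : Z₁ ⊓ centralizer (A : Set G) = ⊥) (hCZ₁ : centralizer (Z₁ : Set G) ≤ M)
    (hpL : p ∉ sigma L) (hZ : piCoreOf {q} L ≠ ⊥) (hZQ : piCoreOf {q} L ≤ (Q : Subgroup G)) :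
    centralizer (piCoreOf {q} L : Set G) ≤ M ∨ normalizer (A : Set G) ≤ L := by
  have hG := h.hG
  set Z := piCoreOf {q} L
  by_cases hNA : normalizer (A : Set G) ≤ L
  · exact Or.inr hNA
  left
  have hNZ : normalizer (Z : Set G) = L :=
    (h.hL.le_iff.mp (Transitivity.le_normalizer_piCoreOf _ L)).resolve_left
      (Transitivity.normalizer_ne_top hG hZ fun e => h.hL.1
        (top_le_iff.mp (e ▸ Transitivity.piCoreOf_le _ L)))
  have hCZ : centralizer (Z : Set G) ≤ L := (centralizer_le_normalizer _).trans hNZ.le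
  have hZ₁q : IsPGroup q Z₁ := Q.isPGroup'.to_le hZ₁Q
  have hcop := h.hA.coprime_of_isPGroup h.hqp hZ₁q
  refine le_trans (centralizer_le ?_) hCZ₁
  show Z₁ ≤ Z
  by_contra hcon
  obtain ⟨b, hb, hb1, hbZ⟩ := h.hA.exists_fixed hAZ₁ hcop hcon
  set T := Z₁ ⊓ centralizer ({b} : Set G) with hTdef
  refine hbZ ?_
  have hTq : IsPGroup q T := hZ₁q.to_le inf_le_left
  have hAT : A ≤ normalizer (T : Set G) := h.hA.le_normalizer_inf_centralizer hAZ₁ hb
  have hTA : ⁅T, A⁆ = T := h.hA.commutator_eq_self hAT (h.hA.coprime_of_isPGroup h.hqp hTq)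
    (le_bot_iff.mp ((inf_le_inf_right _ inf_le_left).trans hfix.le))
  have hTL : T ≤ L := by
    refine le_trans ?_ hCZ
    exact (inf_le_left.trans hZ₁C).trans (centralizer_le hZQ)
  rcases eq_or_ne T ⊥ with hT1 | hT1
  · rw [hT1]; exact bot_le
  have hAT' : ¬ A ≤ centralizer (T : Set G) := fun hc => hT1 (by
    rw [← hTA, Coprime.commutator_eq_bot_iff_le_centralizer'.mpr hc])
  obtain ⟨hkc, -⟩ := h.hA.card_inf_centralizer hb hb1 inf_le_right hAT'
  refine le_qcore hG h.hL hTq (hTA ▸ commutator_mono hTL h.hAL) (by_contra fun hTσ => hNA ?_)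
  exact h.hA.orbit hG h.hL h.hAL h.hCA hpL h.hqp hqL hTq hTL hAT inf_le_left hkc inf_le_right hTA hTσ

end Cfsg.Agent.OddLocal.Max2
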