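import Cfsg.Agent.OddLocal.NonTI
import Cfsg.Agent.OddLocal.RegularMain
import Cfsg.Agent.OddLocal.RankTwoAction
import Cfsg.Agent.Lib.PLocal.CyclicExtension

/-! BG 15.7 for maximal subgroups with `K ≠ 1`: `|K|` divides `p - 1`, or `|P| = p³` and `|K|` divides `p + 1`. -/

set_option autoImplicit false
set_option linter.unusedSectionVars false

namespace Cfsg.Agent.OddLocal.NonTI

open Cfsg Subgroup SigmaParts
open TauTwo (centralizer_zpowers)
open scoped commutatorElement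
open Cfsg.Agent.Transfer.Fusion (map_conj_eq_self_iff card_map_conj)

variable {G : Type*} [Group G] [Finite G] {M N K U P : Subgroup G} {x z : G} {p : ℕ}

omit [Finite G] in
theorem comm_left {a b x : G} {Z : Subgroup G} (h : b * x * b⁻¹ * x⁻¹ ∈ Z)
    (hZ : ∀ c ∈ Z, Commute a c) :
    a * b * x * (a * b)⁻¹ * x⁻¹ = b * x * b⁻¹ * x⁻¹ * (a * x * a⁻¹ * x⁻¹) := by
  calc a * b * x * (a * b)⁻¹ * x⁻¹
      = a * (b * x * b⁻¹ * x⁻¹) * (x * a⁻¹ * x⁻¹) := by group
    _ = b * x * b⁻¹ * x⁻¹ * a * (x * a⁻¹ * x⁻¹) := by rw [(hZ _ h).eq]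
    _ = _ := by group

/-- The configuration with `K ≠ 1`, and the central line `⟨z⟩` of `P` fixed by `K`. -/
structure Cen (M N P K : Subgroup G) (x z : G) (p : ℕ) : Prop where
  c : Nbr M N P x p
  hKM : K ≤ M
  hKc : IsCyclic K
  hco : (Nat.card K).Coprime (Nat.card P)
  hKP : K ≤ normalizer (P : Set G)
  hzP : z ∈ P
  hzc : ∀ a ∈ P, Commute z a
  hzo : orderOf z = p
  hxz : x ∉ zpowers z
  huniq : ∀ w ∈ P, (∀ a ∈ P, Commute w a) → w ^ p = 1 → w ∈ zpowers z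
  hzK : ∀ k ∈ K, Commute k z
  hfix : ∀ k ∈ K, k ≠ 1 → ∀ a ∈ P, Commute k a → a ∈ zpowers z

namespace Cen

variable (d : Cen M N P K x z p)
include d

theorem comm_z {y a : G} (hy : y ∈ zpowers z) (ha : a ∈ P) : Commute a y := by
  obtain ⟨i, rfl⟩ := mem_zpowers_iff.mp hy
  exact (d.hzc a ha).symm.zpow_right i

theorem card_pair : Nat.card ↥(zpowers x ⊔ zpowers z) ∣ p ^ 2 := by
  refine (RegularMain.card_sup_dvd (zpowers_le.mpr ?_)).trans (dvd_of_eq ?_)
  · exact centralizer_le_normalizer _ (centralizer_zpowers x ▸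
      mem_centralizer_singleton_iff.mpr (d.hzc x d.c.x_mem).eq)
  · rw [Nat.card_zpowers, Nat.card_zpowers, d.c.hxo, d.hzo, sq]

/-- An element of `⟨x, z⟩` commuting with `a` is in `⟨z⟩` unless `x` commutes with `a`. -/
theorem pair_mem {w a : G} (hw : w ∈ zpowers x ⊔ zpowers z) (ha : a ∈ P) (hwa : Commute w a)
    (hxa : ¬ Commute x a) : w ∈ zpowers z := by
  obtain ⟨b, hb, e, he, rfl⟩ := KappaDecomp.exists_mul_sup (A := zpowers x) (B := zpowers z)
    (zpowers_le.mpr (centralizer_le_normalizer _ (centralizer_zpowers x ▸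
      mem_centralizer_singleton_iff.mpr (d.hzc x d.c.x_mem).eq))) hw
  have hba : Commute b a := by
    have := hwa.mul_left (d.comm_z he ha).symm.inv_left
    rwa [mul_inv_cancel_right] at this
  rcases eq_or_ne b 1 with rfl | hb1
  · rwa [one_mul]
  · exfalso
    obtain ⟨i, hi⟩ := mem_zpowers_iff.mp ((ZGroupCore.zpowers_eq_of_prime (A := zpowers x)
      (by rw [Nat.card_zpowers, d.c.hxo]; exact d.c.hp) hb hb1).ge (mem_zpowers x))
    exact hxa (hi ▸ hba.zpow_left i)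

/-- The elements of exponent `p` of `P` central modulo `⟨z⟩`. -/
theorem exists_V : ∃ V : Subgroup G, ∀ v, v ∈ V ↔ v ∈ P ∧ v ^ p = 1 ∧
    ∀ y ∈ P, v * y * v⁻¹ * y⁻¹ ∈ zpowers z := by
  have := Fact.mk d.c.hp
  have hp2 : p ≠ 2 := Unique.ne_two d.c.hG d.c.p_sigma.2.1
  refine ⟨{ carrier := {v | v ∈ P ∧ v ^ p = 1 ∧ ∀ y ∈ P, v * y * v⁻¹ * y⁻¹ ∈ zpowers z}
            mul_mem' := ?_, one_mem' := ⟨one_mem _, one_pow p, fun y _ => ?_⟩, inv_mem' := ?_ }, fun v => Iff.rfl⟩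
  · rintro u v ⟨hu, hup, huc⟩ ⟨hv, hvp, hvc⟩
    refine ⟨mul_mem hu hv, ?_, fun y hy => ?_⟩
    · set e := v * u * v⁻¹ * u⁻¹ with he
      have heZ : e ∈ zpowers z := hvc u hu
      have hv' : v * u * v⁻¹ = e * u := by rw [he]; group
      rw [Coprime.mul_pow_of_central_commutator hv' (d.comm_z heZ hu).symm (d.comm_z heZ hv).symm,
        hup, hvp, one_mul, mul_one]
      obtain ⟨k, hk⟩ : p ∣ p.choose 2 :=
        d.c.hp.dvd_choose_self two_ne_zero (lt_of_le_of_ne d.c.hp.two_le (Ne.symm hp2))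
      obtain ⟨i, hi⟩ := mem_zpowers_iff.mp heZ
      rw [hk, pow_mul, ← hi, ← zpow_natCast (z ^ i) p, ← zpow_mul, mul_comm, zpow_mul, zpow_natCast,
        ← d.hzo, pow_orderOf_eq_one, one_zpow, one_pow]
    · rw [comm_left (hvc y hy) fun e he => d.comm_z he hu]
      exact mul_mem (hvc y hy) (huc y hy)
  · show 1 * y * 1⁻¹ * y⁻¹ ∈ zpowers z
    rw [one_mul, inv_one, mul_one, mul_inv_cancel]
    exact one_mem _
  · rintro u ⟨hu, hup, huc⟩
    refine ⟨inv_mem hu, by rw [inv_pow, hup, inv_one], fun y hy => ?_⟩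
    have h1 := huc y hy
    have h2 : u⁻¹ * y * u⁻¹⁻¹ * y⁻¹ = u⁻¹ * (u * y * u⁻¹ * y⁻¹)⁻¹ * u := by group
    rw [h2, (d.comm_z (inv_mem h1) (inv_mem hu)).eq, inv_mul_cancel_right]
    exact inv_mem h1

variable {V : Subgroup G} (hV : ∀ v, v ∈ V ↔ v ∈ P ∧ v ^ p = 1 ∧ ∀ y ∈ P, v * y * v⁻¹ * y⁻¹ ∈ zpowers z)
include hV

theorem V_le : V ≤ P := fun v hv => ((hV v).mp hv).1

theorem z_mem : z ∈ V := (hV z).mpr ⟨d.hzP, d.hzo ▸ pow_orderOf_eq_one z, fun y hy => by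
  rw [(d.hzc y hy).eq, mul_inv_cancel_right, mul_inv_cancel]; exact one_mem _⟩

theorem K_le_normalizer : K ≤ normalizer (V : Set G) := PType.mem_normalizer_of_stable fun k hk v hv => by
  obtain ⟨hvP, hvp, hvc⟩ := (hV v).mp hv
  refine (hV _).mpr ⟨(mem_normalizer_iff.mp (d.hKP hk) v).mp hvP, by rw [conj_pow, hvp]; group, fun y hy => ?_⟩
  have hy' : k⁻¹ * y * k ∈ P := (mem_normalizer_iff''.mp (d.hKP hk) y).mp hy
  obtain ⟨i, hi⟩ := mem_zpowers_iff.mp (hvc _ hy')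
  rw [show k * v * k⁻¹ * y * (k * v * k⁻¹)⁻¹ * y⁻¹ =
    k * (v * (k⁻¹ * y * k) * v⁻¹ * (k⁻¹ * y * k)⁻¹) * k⁻¹ by group, ← hi,
    ((d.hzK k hk).zpow_right i).eq, mul_inv_cancel_right]
  exact zpow_mem (mem_zpowers z) i

/-- `V` is not just `⟨z⟩`. -/
theorem exists_not_mem : ∃ v ∈ V, v ∉ zpowers z := by
  have := Fact.mk d.c.hp
  have hPp := d.c.pgroup
  have hp2 : p ≠ 2 := Unique.ne_two d.c.hG d.c.p_sigma.2.1
  have hnc : ¬ IsCyclic (⊤ : Subgroup P) := fun h => by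
    have : IsCyclic P := isCyclic_of_surjective _ (topEquiv (G := P)).surjective
    exact d.hxz (TauTwo.mem_zpowers_of_cyclic this d.hzP d.c.x_mem d.hzo
      (d.c.hxo ▸ pow_orderOf_eq_one x))
  obtain ⟨W, -, hWn, hWe, hWc⟩ :=
    PLocal.CyclicExtension.exists_normal_elementaryAbelian_sq hp2 hPp ⊤ hnc
  have : Group.IsNilpotent P := hPp.isNilpotent
  have : Group.IsNilpotent (⊤ : Subgroup P) := Group.nilpotent_of_mulEquiv (Subgroup.topEquiv (G := P)).symm
  have hW1 : W ≠ ⊥ := fun e => by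
    rw [e, card_bot] at hWc
    exact (Nat.one_lt_pow two_ne_zero d.c.hp.one_lt).ne hWc
  have hWN : (⊤ : Subgroup P) ≤ normalizer (W : Set P) := by rw [normalizer_eq_top_iff.mpr hWn]
  have hlt : ⁅W, (⊤ : Subgroup P)⁆ < W := Coprime.commutator_lt_of_isNilpotent le_top hW1 hWN
  have hcc : Nat.card ↥⁅W, (⊤ : Subgroup P)⁆ ≤ p := by
    obtain ⟨n, hn⟩ := (hPp.to_subgroup ⁅W, (⊤ : Subgroup P)⁆).exists_card_eq
    have h1 := Sigma.card_lt_of_lt hlt
    rw [hn, hWc] at h1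
    rw [hn]
    exact (Nat.pow_le_pow_right d.c.hp.pos
      (Nat.lt_succ_iff.mp ((Nat.pow_lt_pow_iff_right d.c.hp.one_lt).mp h1))).trans (pow_one p).le
  have hcen : ⁅W, (⊤ : Subgroup P)⁆ ≤ center P := RankTwoAction.le_center_of_card_le hPp _ hcc
  have hWV : ∀ w ∈ W, (w : G) ∈ V := fun w hw => (hV w).mpr ⟨w.2, by
    rw [← SubgroupClass.coe_pow, hWe.2 w hw, OneMemClass.coe_one], fun y hy => by
    set e := w * ⟨y, hy⟩ * w⁻¹ * (⟨y, hy⟩ : P)⁻¹ with he
    have heC : e ∈ ⁅W, (⊤ : Subgroup P)⁆ := by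
      rw [he, ← commutatorElement_def]; exact commutator_mem_commutator hw (mem_top _)
    exact d.huniq e e.2 (fun a ha => (congrArg Subtype.val (mem_center_iff.mp (hcen heC) ⟨a, ha⟩)).symm)
      (by rw [← SubgroupClass.coe_pow, hWe.2 _ (hlt.le heC), OneMemClass.coe_one])⟩
  by_contra hall
  push Not at hall
  have h1 : W.map P.subtype ≤ zpowers z := by
    rintro _ ⟨w, hw, rfl⟩
    exact hall _ (hWV w hw)
  have h2 := card_le_of_le h1
  rw [card_map_of_injective P.subtype_injective, hWc, Nat.card_zpowers, d.hzo] at h2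
  have := d.c.hp.one_lt
  nlinarith

theorem sq_le : p ^ 2 ≤ Nat.card V := by
  have := Fact.mk d.c.hp
  obtain ⟨v, hv, hvz⟩ := d.exists_not_mem hV
  obtain ⟨n, hn⟩ := (d.c.pgroup.to_le (d.V_le hV)).exists_card_eq
  have h1 : zpowers z < V := lt_of_le_of_ne (zpowers_le.mpr (d.z_mem hV)) fun e => hvz (e ▸ hv)
  have h2 := Sigma.card_lt_of_lt h1
  rw [Nat.card_zpowers, d.hzo, hn] at h2
  rw [hn]
  exact Nat.pow_le_pow_right d.c.hp.pos ((Nat.pow_lt_pow_iff_right d.c.hp.one_lt).mp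
    (show p ^ 1 < p ^ n by rwa [pow_one]))

theorem le_cube : Nat.card V ≤ p ^ 3 ∧ (x ∉ V → Nat.card V ≤ p ^ 2) := by
  have := Fact.mk d.c.hp
  have hxP := d.c.x_mem
  let Φ : V →* zpowers z :=
    { toFun := fun v => ⟨v * x * (v : G)⁻¹ * x⁻¹, ((hV v).mp v.2).2.2 x hxP⟩
      map_one' := Subtype.ext (by simp)
      map_mul' := fun a b => Subtype.ext (by
        show (a : G) * b * x * ((a : G) * b)⁻¹ * x⁻¹ =
          (a : G) * x * (a : G)⁻¹ * x⁻¹ * ((b : G) * x * (b : G)⁻¹ * x⁻¹)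
        have ha := ((hV a).mp a.2).2.2 x hxP
        have hb := ((hV b).mp b.2).2.2 x hxP
        rw [comm_left hb fun e he => d.comm_z he ((hV a).mp a.2).1]
        exact (d.comm_z ha (zpowers_le.mpr d.hzP hb)).eq) }
  have hkle : Φ.ker.map V.subtype ≤ zpowers x ⊔ zpowers z := by
    rintro _ ⟨v, hv, rfl⟩
    obtain ⟨hvP, hvp, -⟩ := (hV v).mp v.2
    exact d.c.mem_pair d.hzP d.hzc d.hzo d.hxz hvP hvp
      (mul_inv_eq_iff_eq_mul.mp (mul_inv_eq_one.mp (congrArg Subtype.val (MonoidHom.mem_ker.mp hv))))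
  have hr : Φ.ker.index ≤ p := by
    rw [index_ker]
    exact (card_le_card_group _).trans (by rw [Nat.card_zpowers, d.hzo])
  have hk : Nat.card Φ.ker = Nat.card ↥(Φ.ker.map V.subtype) :=
    (card_map_of_injective V.subtype_injective).symm
  have hpair : Nat.card ↥(zpowers x ⊔ zpowers z) ≤ p ^ 2 :=
    Nat.le_of_dvd (pow_pos d.c.hp.pos 2) d.card_pair
  refine ⟨?_, fun hxV => ?_⟩
  · rw [← card_mul_index Φ.ker, pow_succ]
    exact Nat.mul_le_mul (hk.le.trans ((card_le_of_le hkle).trans hpair)) hr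
  · have hlt : Φ.ker.map V.subtype < zpowers x ⊔ zpowers z :=
      lt_of_le_of_ne hkle fun e => hxV (map_subtype_le _ (e ▸ mem_sup_left (mem_zpowers x)))
    obtain ⟨n, hn⟩ := ((d.c.pgroup.to_le (d.V_le hV)).to_le (map_subtype_le Φ.ker)).exists_card_eq
    have h1 := (Sigma.card_lt_of_lt hlt).trans_le hpair
    rw [hn] at h1
    rw [← card_mul_index Φ.ker, hk, hn, sq]
    exact Nat.mul_le_mul ((Nat.pow_le_pow_right d.c.hp.pos
      (Nat.lt_succ_iff.mp ((Nat.pow_lt_pow_iff_right d.c.hp.one_lt).mp h1))).trans (pow_one p).le) hr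

theorem coprime_V : (Nat.card K).Coprime (Nat.card V) :=
  d.hco.coprime_dvd_right (card_dvd_of_le (d.V_le hV))

theorem solvable_le {X : Subgroup G} (hX : X ≤ P) : Group.IsSolvable X := by
  have := Fact.mk d.c.hp
  exact Coprime.isSolvable_of_isPGroup (d.c.pgroup.to_le hX)

theorem small (h : Nat.card V = p ^ 2) : Nat.card K ∣ p - 1 := by
  have := Fact.mk d.c.hp
  rcases eq_or_ne K ⊥ with rfl | hK1
  · rw [card_bot]; exact one_dvd _
  obtain ⟨k₀, hk₀, hk₀1⟩ := (bot_or_exists_ne_one K).resolve_left hK1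
  have hVc : IsMulCommutative V := IsPGroup.isMulCommutative_of_card_eq_prime_sq h
  have hKV := d.K_le_normalizer hV
  set L := ⁅V, K⁆ with hL
  have hLV : L ≤ V := Cfsg.Agent.Coprime.commutator_le_of_le_normalizer hKV
  have hVC : V ⊓ centralizer (K : Set G) = zpowers z :=
    le_antisymm (fun v hv => d.hfix k₀ hk₀ hk₀1 v (d.V_le hV (mem_inf.mp hv).1)
        (mem_centralizer_iff.mp (mem_inf.mp hv).2 k₀ hk₀))
      (zpowers_le.mpr (mem_inf.mpr ⟨d.z_mem hV, mem_centralizer_iff.mpr fun k hk => (d.hzK k hk).eq⟩))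
  have hdisj : L ⊓ zpowers z = ⊥ := by
    rw [← hVC, inf_comm]
    exact Cfsg.Agent.Coprime.inf_centralizer_inf_commutator hKV (d.coprime_V hV)
  have hsup := Cfsg.Agent.Coprime.commutator_sup_inf_centralizer hKV (d.coprime_V hV)
    (Or.inr (d.solvable_le hV (d.V_le hV)))
  rw [hVC] at hsup
  have hzN : zpowers z ≤ normalizer (L : Set G) := (zpowers_le.mpr (d.z_mem hV)).trans
    (le_trans (fun v hv => mem_centralizer_iff.mpr fun w hw =>
      congrArg Subtype.val (hVc.is_comm.comm ⟨w, hLV hw⟩ ⟨v, hv⟩)) (centralizer_le_normalizer _))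
  have hcard := Coprime.card_sup_of_disjoint hzN (disjoint_iff.mpr hdisj)
  rw [hsup, h, Nat.card_zpowers, d.hzo, sq] at hcard
  have hLp : Nat.card L = p := (Nat.eq_of_mul_eq_mul_right d.c.hp.pos hcard).symm
  refine LineAut.card_dvd_pred hLp (le_trans (le_inf hKV le_normalizer)
    (fun k hk => ?_)) fun k hk hkC => ?_
  · obtain ⟨h1, h2⟩ := mem_inf.mp hk
    exact mem_normalizer_iff_map_conj_eq.mpr (by
      rw [hL, map_commutator, mem_normalizer_iff_map_conj_eq.mp h1, mem_normalizer_iff_map_conj_eq.mp h2])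
  · by_contra hk1
    have hle : L ≤ L ⊓ zpowers z := le_inf le_rfl fun a ha =>
      d.hfix k hk hk1 a (d.V_le hV (hLV ha)) (mem_centralizer_iff.mp hkC a ha).symm
    rw [hdisj, le_bot_iff] at hle
    rw [hle, card_bot] at hLp
    exact d.c.hp.ne_one hLp.symm

theorem centralizer_mem (hx : x ∈ V) (h3 : Nat.card V = p ^ 3) {v w : G} (hv : v ∈ V)
    (hvz : v ∉ zpowers z) (hw : w ∈ V) (hwv : Commute w v) : w ∈ zpowers v ⊔ zpowers z := by
  have := Fact.mk d.c.hp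
  have hvP := d.V_le hV hv
  set C := V ⊓ centralizer ({v} : Set G) with hC
  have hle : zpowers v ⊔ zpowers z ≤ C := sup_le (zpowers_le.mpr (mem_inf.mpr ⟨hv,
    mem_centralizer_singleton_iff.mpr rfl⟩)) (zpowers_le.mpr (mem_inf.mpr ⟨d.z_mem hV,
    mem_centralizer_singleton_iff.mpr (d.hzc v hvP).eq⟩))
  have hCV : C < V := by
    refine lt_of_le_of_ne inf_le_left fun e => ?_
    have hvc : ∀ a ∈ V, Commute v a := fun a ha =>
      (mem_centralizer_singleton_iff.mp (mem_inf.mp (e.ge ha)).2 : a * v = v * a).symm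
    have hVx : ∀ a ∈ V, Commute x a := fun a ha => by
      by_contra hxa
      exact hvz (d.pair_mem (d.c.mem_pair d.hzP d.hzc d.hzo d.hxz hvP ((hV v).mp hv).2.1 (hvc x hx))
        (d.V_le hV ha) (hvc a ha) hxa)
    have h1 : V ≤ zpowers x ⊔ zpowers z := fun a ha =>
      d.c.mem_pair d.hzP d.hzc d.hzo d.hxz (d.V_le hV ha) ((hV a).mp ha).2.1 (hVx a ha).symm
    have h2 := Nat.le_of_dvd (pow_pos d.c.hp.pos 2) ((card_dvd_of_le h1).trans d.card_pair)
    rw [h3] at h2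
    exact absurd h2 (not_le.mpr (Nat.pow_lt_pow_right d.c.hp.one_lt (by norm_num)))
  have hv2 : p ^ 2 ≤ Nat.card ↥(zpowers v ⊔ zpowers z) := by
    have h1 : zpowers z < zpowers v ⊔ zpowers z :=
      lt_of_le_of_ne le_sup_right fun e => hvz (e.ge (mem_sup_left (mem_zpowers v)))
    obtain ⟨n, hn⟩ := ((d.c.pgroup.to_le (d.V_le hV)).to_le (hle.trans inf_le_left)).exists_card_eq
    have h2 := Sigma.card_lt_of_lt h1
    rw [Nat.card_zpowers, d.hzo, hn] at h2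
    rw [hn]
    exact Nat.pow_le_pow_right d.c.hp.pos ((Nat.pow_lt_pow_iff_right d.c.hp.one_lt).mp
      (show p ^ 1 < p ^ n by rwa [pow_one]))
  have heq : zpowers v ⊔ zpowers z = C := by
    refine eq_of_le_of_card_ge hle (le_trans ?_ hv2)
    obtain ⟨n, hn⟩ := ((d.c.pgroup.to_le (d.V_le hV)).to_le hCV.le).exists_card_eq
    have h2 := Sigma.card_lt_of_lt hCV
    rw [hn, h3] at h2
    rw [hn]
    exact Nat.pow_le_pow_right d.c.hp.pos
      (Nat.lt_succ_iff.mp ((Nat.pow_lt_pow_iff_right d.c.hp.one_lt).mp h2))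
  rw [heq]
  exact mem_inf.mpr ⟨hw, mem_centralizer_singleton_iff.mpr hwv.eq⟩

/-- For `|V| = p³` the group `P` is `V`. -/
theorem eq_V (hK1 : K ≠ ⊥) (hx : x ∈ V) (h3 : Nat.card V = p ^ 3) : P = V := by
  have := Fact.mk d.c.hp
  obtain ⟨k₀, hk₀, hk₀1⟩ := (bot_or_exists_ne_one K).resolve_left hK1
  have hxP := d.c.x_mem
  obtain ⟨v₂, hv₂, hv₂'⟩ : ∃ v₂ ∈ V, ¬ Commute x v₂ := by
    by_contra hall
    push Not at hall
    have h2 := Nat.le_of_dvd (pow_pos d.c.hp.pos 2) ((card_dvd_of_le (fun a ha =>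
      d.c.mem_pair d.hzP d.hzc d.hzo d.hxz (d.V_le hV ha) ((hV a).mp ha).2.1 (hall a ha).symm :
        V ≤ zpowers x ⊔ zpowers z)).trans d.card_pair)
    rw [h3] at h2
    exact absurd h2 (not_le.mpr (Nat.pow_lt_pow_right d.c.hp.one_lt (by norm_num)))
  have hmul : ∀ w : G, w ∈ V → ∀ a b : V, (a : G) * b * w * ((a : G) * b)⁻¹ * w⁻¹ =
      (a : G) * w * (a : G)⁻¹ * w⁻¹ * ((b : G) * w * (b : G)⁻¹ * w⁻¹) := fun w hw a b => by
    rw [comm_left (((hV b).mp b.2).2.2 w (d.V_le hV hw)) fun e he => d.comm_z he ((hV a).mp a.2).1]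
    exact (d.comm_z (((hV a).mp a.2).2.2 w (d.V_le hV hw))
      (zpowers_le.mpr d.hzP (((hV b).mp b.2).2.2 w (d.V_le hV hw)))).eq
  let Φ : V →* zpowers z × zpowers z :=
    { toFun := fun v => (⟨v * x * (v : G)⁻¹ * x⁻¹, ((hV v).mp v.2).2.2 x hxP⟩,
        ⟨v * v₂ * (v : G)⁻¹ * v₂⁻¹, ((hV v).mp v.2).2.2 v₂ (d.V_le hV hv₂)⟩)
      map_one' := Prod.ext (Subtype.ext (by simp)) (Subtype.ext (by simp))
      map_mul' := fun a b => Prod.ext (Subtype.ext (hmul x hx a b)) (Subtype.ext (hmul v₂ hv₂ a b)) }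
  have hker : Nat.card Φ.ker ≤ p := by
    rw [← card_map_of_injective V.subtype_injective, ← d.hzo, ← Nat.card_zpowers]
    refine card_le_of_le ?_
    rintro _ ⟨v, hv, rfl⟩
    obtain ⟨hvP, hvp, -⟩ := (hV v).mp v.2
    have e := MonoidHom.mem_ker.mp hv
    exact d.pair_mem (d.c.mem_pair d.hzP d.hzc d.hzo d.hxz hvP hvp
      (mul_inv_eq_iff_eq_mul.mp (mul_inv_eq_one.mp (congrArg Subtype.val (congrArg Prod.fst e)))))
      (d.V_le hV hv₂) (mul_inv_eq_iff_eq_mul.mp (mul_inv_eq_one.mp (congrArg Subtype.val (congrArg Prod.snd e))))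
      hv₂'
  have hsurj : Φ.range = ⊤ := by
    refine eq_top_of_le_card _ ?_
    rw [Nat.card_prod, Nat.card_zpowers, d.hzo, ← index_ker]
    by_contra hlt
    push Not at hlt
    have h1 := card_mul_index Φ.ker
    rw [h3] at h1
    have h2 : Nat.card Φ.ker * Φ.ker.index < p * (p * p) :=
      lt_of_le_of_lt (Nat.mul_le_mul_right _ hker) (Nat.mul_lt_mul_of_pos_left hlt d.c.hp.pos)
    rw [h1, show p * (p * p) = p ^ 3 by ring] at h2
    exact lt_irrefl _ h2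
  set Z := P ⊓ centralizer (P : Set G) with hZdef
  have hZz : Z ≤ zpowers z := by
    have hZc : IsMulCommutative Z := ⟨⟨fun a b => Subtype.ext
      (mem_centralizer_iff.mp (mem_inf.mp b.2).2 a (mem_inf.mp a.2).1)⟩⟩
    have hKZ : K ≤ normalizer (Z : Set G) := (le_inf d.hKP (d.hKP.trans
      (CharP.normalizer_le_normalizer_centralizer _))).trans inf_normalizer_le_normalizer_inf
    have hco := d.hco.coprime_dvd_right (card_dvd_of_le (inf_le_left : Z ≤ P))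
    have hL : ⁅Z, K⁆ = ⊥ := by
      by_contra hne
      have hLZ : ⁅Z, K⁆ ≤ Z := Cfsg.Agent.Coprime.commutator_le_of_le_normalizer hKZ
      obtain ⟨w, hw, hwo⟩ := KappaFixed.exists_order_eq (d.c.pgroup.to_le (hLZ.trans inf_le_left)) hne
      have hwz : w ∈ zpowers z := d.huniq w (mem_inf.mp (hLZ hw)).1
        (fun a ha => (mem_centralizer_iff.mp (mem_inf.mp (hLZ hw)).2 a ha).symm) (hwo ▸ pow_orderOf_eq_one w)
      refine KappaCentral.ne_one_of_order hwo (mem_bot.mp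
        ((Cfsg.Agent.Coprime.inf_centralizer_inf_commutator hKZ hco).le (mem_inf.mpr
          ⟨mem_inf.mpr ⟨hLZ hw, mem_centralizer_iff.mpr fun k hk => ?_⟩, hw⟩)))
      obtain ⟨i, rfl⟩ := mem_zpowers_iff.mp hwz
      exact ((d.hzK k hk).zpow_right i).eq
    intro a ha
    exact d.hfix k₀ hk₀ hk₀1 a (mem_inf.mp ha).1
      (mem_centralizer_iff.mp (Cfsg.Agent.Coprime.commutator_eq_bot_iff_le_centralizer'.mp hL hk₀) a ha).symm
  refine le_antisymm (fun y hy => ?_) (d.V_le hV)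
  have h1 : ∀ w : G, w ∈ V → y * w * y⁻¹ * w⁻¹ ∈ zpowers z := fun w hw => by
    have h2 := inv_mem (((hV w).mp hw).2.2 y hy)
    rwa [show (w * y * w⁻¹ * y⁻¹)⁻¹ = y * w * y⁻¹ * w⁻¹ by group] at h2
  obtain ⟨v, hv⟩ := (hsurj.ge (mem_top ((⟨_, h1 x hx⟩, ⟨_, h1 v₂ hv₂⟩) : zpowers z × zpowers z) :
    ((⟨_, h1 x hx⟩, ⟨_, h1 v₂ hv₂⟩) : zpowers z × zpowers z) ∈ ⊤))
  have hw : ∀ w : G, (v : G) * w * (v : G)⁻¹ * w⁻¹ = y * w * y⁻¹ * w⁻¹ → Commute ((v : G)⁻¹ * y) w := fun w e => by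
    have h4 : (v : G) * w * (v : G)⁻¹ = y * w * y⁻¹ := mul_right_cancel e
    show (v : G)⁻¹ * y * w = w * ((v : G)⁻¹ * y)
    calc (v : G)⁻¹ * y * w = (v : G)⁻¹ * (y * w * y⁻¹) * y := by group
      _ = (v : G)⁻¹ * ((v : G) * w * (v : G)⁻¹) * y := by rw [h4]
      _ = _ := by group
  have hwx := hw x (congrArg Subtype.val (congrArg Prod.fst hv))
  have hwv := hw v₂ (congrArg Subtype.val (congrArg Prod.snd hv))
  have hwP : (v : G)⁻¹ * y ∈ P := mul_mem (inv_mem (d.V_le hV v.2)) hy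
  set w₀ := (v : G)⁻¹ * y with hw₀
  -- `w₀` commutes with `V`
  have hwV : ∀ a ∈ V, Commute w₀ a := by
    have hCV : V ⊓ centralizer ({w₀} : Set G) = V := by
      by_contra hne
      have hlt : V ⊓ centralizer ({w₀} : Set G) < V := lt_of_le_of_ne inf_le_left hne
      obtain ⟨n, hn⟩ := ((d.c.pgroup.to_le (d.V_le hV)).to_le hlt.le).exists_card_eq
      have h5 := Sigma.card_lt_of_lt hlt
      rw [hn, h3] at h5
      have hle : zpowers x ⊔ zpowers z ≤ V ⊓ centralizer ({w₀} : Set G) := sup_le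
        (zpowers_le.mpr (mem_inf.mpr ⟨hx, mem_centralizer_singleton_iff.mpr hwx.symm.eq⟩))
        (zpowers_le.mpr (mem_inf.mpr ⟨d.z_mem hV, mem_centralizer_singleton_iff.mpr (d.hzc _ hwP).eq⟩))
      have hlt2 : zpowers x ⊔ zpowers z < V ⊓ centralizer ({w₀} : Set G) := by
        refine lt_of_le_of_ne hle fun e => hv₂' ?_
        have h6 : v₂ ∈ zpowers x ⊔ zpowers z :=
          e.ge (mem_inf.mpr ⟨hv₂, mem_centralizer_singleton_iff.mpr hwv.symm.eq⟩)
        obtain ⟨b, hb, q, hq, rfl⟩ := KappaDecomp.exists_mul_sup (A := zpowers x) (B := zpowers z)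
          (zpowers_le.mpr (centralizer_le_normalizer _ (centralizer_zpowers x ▸
            mem_centralizer_singleton_iff.mpr (d.hzc x hxP).eq))) h6
        obtain ⟨i, rfl⟩ := mem_zpowers_iff.mp hb
        exact (Commute.self_zpow x i).mul_right (d.comm_z hq hxP)
      have hpair2 : p ^ 2 ≤ Nat.card ↥(zpowers x ⊔ zpowers z) := by
        have h7 : zpowers z < zpowers x ⊔ zpowers z :=
          lt_of_le_of_ne le_sup_right fun e => d.hxz (e.ge (mem_sup_left (mem_zpowers x)))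
        obtain ⟨m, hm⟩ := (d.c.pgroup.to_le (sup_le (zpowers_le.mpr hxP) (zpowers_le.mpr d.hzP))).exists_card_eq
        have h8 := Sigma.card_lt_of_lt h7
        rw [Nat.card_zpowers, d.hzo, hm] at h8
        rw [hm]
        exact Nat.pow_le_pow_right d.c.hp.pos ((Nat.pow_lt_pow_iff_right d.c.hp.one_lt).mp
          (show p ^ 1 < p ^ m by rwa [pow_one]))
      have h9 := lt_of_le_of_lt hpair2 (Sigma.card_lt_of_lt hlt2)
      rw [hn] at h9
      have h10 := (Nat.pow_lt_pow_iff_right d.c.hp.one_lt).mp h9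
      have h11 := (Nat.pow_lt_pow_iff_right d.c.hp.one_lt).mp h5
      omega
    exact fun a ha => (mem_centralizer_singleton_iff.mp (mem_inf.mp (hCV.ge ha)).2 : a * w₀ = w₀ * a).symm
  -- the centraliser of `V` in `P` is abelian
  have hCc := d.c.comm (X := P ⊓ centralizer (V : Set G)) (inf_le_left.trans d.c.hPσ)
    fun a ha => (mem_centralizer_iff.mp (mem_inf.mp ha).2 x hx).symm
  have hwZ : w₀ ∈ Z := by
    refine mem_inf.mpr ⟨hwP, mem_centralizer_iff.mpr fun a ha => ?_⟩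
    obtain ⟨v', hv'⟩ := (hsurj.ge (mem_top
      ((⟨_, inv_mem (((hV x).mp hx).2.2 a ha)⟩, ⟨_, inv_mem (((hV v₂).mp hv₂).2.2 a ha)⟩) :
        zpowers z × zpowers z)))
    have he : ∀ w : G, (v' : G) * w * (v' : G)⁻¹ * w⁻¹ = (w * a * w⁻¹ * a⁻¹)⁻¹ →
        Commute ((v' : G)⁻¹ * a) w := fun w e => by
      rw [show (w * a * w⁻¹ * a⁻¹)⁻¹ = a * w * a⁻¹ * w⁻¹ by group] at e
      have h4 : (v' : G) * w * (v' : G)⁻¹ = a * w * a⁻¹ := mul_right_cancel e
      show (v' : G)⁻¹ * a * w = w * ((v' : G)⁻¹ * a)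
      calc (v' : G)⁻¹ * a * w = (v' : G)⁻¹ * (a * w * a⁻¹) * a := by group
        _ = (v' : G)⁻¹ * ((v' : G) * w * (v' : G)⁻¹) * a := by rw [h4]
        _ = _ := by group
    set b := (v' : G)⁻¹ * a with hb
    have hbx := he x (congrArg Subtype.val (congrArg Prod.fst hv'))
    have hbP : b ∈ P := mul_mem (inv_mem (d.V_le hV v'.2)) ha
    have hbw : Commute w₀ b := congrArg Subtype.val ((d.c.comm (X := P ⊓ centralizer ({x} : Set G))
      (inf_le_left.trans d.c.hPσ) fun e he' => mem_centralizer_singleton_iff.mp (mem_inf.mp he').2).is_comm.comm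
      ⟨w₀, mem_inf.mpr ⟨hwP, mem_centralizer_singleton_iff.mpr hwx.eq⟩⟩
      ⟨b, mem_inf.mpr ⟨hbP, mem_centralizer_singleton_iff.mpr hbx.eq⟩⟩)
    have := (hwV _ v'.2).mul_right hbw
    rw [hb, mul_inv_cancel_left] at this
    exact this.symm.eq
  have := mul_mem v.2 (zpowers_le.mpr (d.z_mem hV) (hZz hwZ))
  rwa [hw₀, mul_inv_cancel_left] at this

end Cen

end Cfsg.Agent.OddLocal.NonTI
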