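import Cfsg.Agent.OddLocal.SigmaCompl

/-! Nonabelian `p`-subgroups lie in a unique maximal subgroup (BG 12.13). -/

set_option autoImplicit false
set_option linter.unusedSectionVars false

namespace Cfsg.Agent.OddLocal.NonabelianUnique

open Cfsg Subgroup
open scoped commutatorElement
open Cfsg.Agent.Transfer.Fusion (map_conj_eq_self_iff)

variable {G : Type*} [Group G] [Finite G] {p : ℕ} [hp : Fact p.Prime] {M L : Subgroup G}

/-- A Sylow subgroup at a prime of `α(M)` lies in `M` only. -/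
theorem alpha_unique (hG : IsMinSimpleOddOrder G) {r : ℕ} [hr : Fact r.Prime] (Q : Sylow r G)
    (hM : IsCoatom M) (hQM : (Q : Subgroup G) ≤ M) (hQ3 : ¬ PRankLE r 2 (Q : Subgroup G))
    (hL : IsCoatom L) (hQL : (Q : Subgroup G) ≤ L) : L = M := by
  have hU := Unique.uniqueness hG (K := (Q : Subgroup G))
    (fun e => hM.1 (top_le_iff.mp (e ▸ hQM)))
    (fun h => hQ3 fun E hE hE' =>
      (h r hr.out E hE hE').trans (Nat.pow_le_pow_right hr.out.pos (by norm_num)))
    (Or.inl fun h => hQ3 (h r hr.out))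
  exact hU.unique ⟨hL, hQL⟩ ⟨hM, hQM⟩

theorem sylow_rank (hr : p ∈ alpha M) (Q : Sylow p G) : ¬ PRankLE p 2 (Q : Subgroup G) := fun h =>
  hr.2 (RankTwoFitting.pRankLE_of_le (NarrowSolvable.pRankLE_of_sylow Q h))

/-- If the centraliser of `a ∈ A` is not in `M`, then `A` centralises its fixed points on `M_α`. -/
theorem fixed_centralized (hG : IsMinSimpleOddOrder G) (hM : IsCoatom M) {A : Subgroup G} (hA : Max2 p A)
    (hAM : A ≤ M) (hpr : PRankLE p 2 G) {q : ℕ} [hq : Fact q.Prime] (hqα : q ∈ alpha M) (Q : Sylow q G)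
    (hQM : (Q : Subgroup G) ≤ M) (hAQ : A ≤ normalizer ((Q : Subgroup G) : Set G)) {a : G} (ha : a ∈ A)
    (ha1 : a ≠ 1) (hC : ¬ centralizer ({a} : Set G) ≤ M) :
    (Q : Subgroup G) ⊓ centralizer ({a} : Set G) ≤ centralizer (A : Set G) := by
  by_contra hnc
  have hqp : q ≠ p := fun e => hqα.2 (e ▸ RankTwoFitting.pRankLE_of_le hpr)
  obtain ⟨H, hH, hCH⟩ := (eq_top_or_exists_le_coatom (centralizer ({a} : Set G))).resolve_left
    (Max2.centralizer_ne_top hG ha1)
  have hne : H ≠ M := fun e => hC (e ▸ hCH)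
  have hAH : A ≤ H := (hA.le_centralizer_singleton ha).trans hCH
  set R := (Q : Subgroup G) ⊓ centralizer ({a} : Set G) with hRdef
  have hAR : A ≤ normalizer (R : Set G) := hA.le_normalizer_inf_centralizer hAQ ha
  have hRq : IsPGroup q R := Q.isPGroup'.to_le inf_le_left
  set T := ⁅R, A⁆ with hT
  have hTA : ⁅T, A⁆ = T := hA.commutator_commutator_eq hAR (hA.coprime_of_isPGroup hqp hRq)
  have hTR : T ≤ R := Coprime.commutator_le_of_le_normalizer hAR
  have hTq : IsPGroup q T := hRq.to_le hTR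
  have hAT : A ≤ normalizer (T : Set G) := normalizer_commutator_ge_right R A
  have hT1 : T ≠ ⊥ := fun e => hnc (commutator_eq_bot_iff_le_centralizer.mp e)
  have hTH : T ≤ H := (hTR.trans inf_le_right).trans hCH
  have hTQ : T ≤ (Q : Subgroup G) := hTR.trans inf_le_left
  have hHr := RankTwoFitting.pRankLE_of_le (X := H) hpr
  by_cases hpσ : p ∈ sigma H
  · have hAH' : A ≤ ⁅H, H⁆ := (Sigma.sylow_le_sigmaCore hG hH hpσ hA.isPGroup hAH).trans
      (Sigma.sigmaCore_le_commutator hG hH)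
    have hTH' : T ≤ ⁅H, H⁆ := hTA ▸ commutator_mono hTH hAH
    by_cases hqH : q ∈ alpha H
    swap
    · exact hT1 (hTA ▸ MaxStruct.commutator_eq_bot hG hH hqp hTq hA.isPGroup hTH' hAH' hAT hqH)
    have hcop : (Nat.card A).Coprime (Nat.card (alphaCore H)) := (hA.coprime_iff _).mpr fun hd =>
      (Transitivity.isPi_piCoreOf (alpha H) H p hp.out hd).2 hHr
    obtain ⟨W₀, hTW, hAW⟩ := Coprime.exists_invariant_sylow_ge (U := T)
      (hAH.trans (Sigma.le_normalizer_alphaCore H)) hcop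
      (Or.inl (@Coprime.isSolvable_of_isMulCommutative G _ A hA.comm))
      (Sigma.le_alphaCore hG hH hTH fun r hr hd =>
        (show r = q from (Cores.isPi_iff_isPGroup T).mpr hTq r hr hd) ▸ hqH) hTq hAT
    obtain ⟨W, hW⟩ := MaxStruct.exists_sylow_of_alphaCore hG hH hqH W₀
    rw [← hW] at hTW hAW
    have hWH : (W : Subgroup G) ≤ H := hW ▸ (map_subtype_le _).trans (Sigma.alphaCore_le H)
    obtain ⟨c, hc, hle⟩ := Max2.exists_conj_le hG hA hqp Q hAQ W.isPGroup' hAW hH.1 hAH
      (fun e => hT1 (le_bot_iff.mp (e ▸ le_inf hTH hTQ)))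
      (fun e => hT1 (le_bot_iff.mp (e ▸ le_inf hTH hTW)))
    have hcM : c ∈ M := (S1416.result hG M hM p A ⟨hAM, hA.el, hA.card⟩).1 hc
    have hWM : (W : Subgroup G) ≤ M := hle.trans (by
      rw [← map_conj_eq_self_iff.mpr (le_normalizer hcM)]
      exact map_mono hQM)
    exact hne (alpha_unique hG W hM hWM (sylow_rank hqH W) hH hWH)
  · have h : TauTwo.Ctx p A H := ⟨hG, hH, ⟨hp.out, hpσ, hHr,
      Unique.not_pRankLE_of_elementary hAH hA.el hA.card.ge⟩, hA, hAH⟩
    by_cases hqσ : q ∈ sigma H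
    · refine hT1 (le_bot_iff.mp ?_)
      rw [← h.sigma_inf hM hne.symm hAM]
      exact le_inf (Sigma.sylow_le_sigmaCore hG hH hqσ hTq hTH) (hTQ.trans hQM)
    · refine hT1 ?_
      rw [← hTA]
      exact commutator_eq_bot_iff_le_centralizer.mpr
        (le_centralizer_iff.mp (h.le_centralizer hqσ hqp hTq hTH hAT))

/-- `M = M_α N_M(S)` for a Sylow subgroup `S` at a prime of `σ(M)`. -/
theorem le_of_frattini (hG : IsMinSimpleOddOrder G) (hM : IsCoatom M) (hpσ : p ∈ sigma M) (S : Sylow p G)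
    (hSM : (S : Subgroup G) ≤ M) (hα : alphaCore M ≤ L)
    (hN : normalizer ((S : Subgroup G) : Set G) ≤ L) : M ≤ L := by
  set S' : Sylow p M := S.subtype hSM with hS'
  have hS'map : (S' : Subgroup M).map M.subtype = S := by
    rw [hS', Sylow.coe_subtype, map_subgroupOf_eq_of_le hSM]
  set f := QuotientGroup.mk' (piCore (alpha M) M) with hf
  have hfs : Function.Surjective f := QuotientGroup.mk'_surjective _
  set D := (commutator M).map f with hD
  have hDn : Group.IsNilpotent D := (S1405.result hG M hM).2.2.2.2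
  have hDnorm : D.Normal := (inferInstance : (commutator M).Normal).map f hfs
  set T := S'.mapSurjective hfs with hTdef
  have hTD : (T : Subgroup (↥M ⧸ piCore (alpha M) ↥M)) ≤ D := by
    rw [hTdef, Sylow.coe_mapSurjective]
    exact map_mono (Sigma.sylow_le_commutator_sub hG hM hpσ S')
  have hTn : (T : Subgroup (↥M ⧸ piCore (alpha M) ↥M)).Normal := by
    have h1 : (T : Subgroup (↥M ⧸ piCore (alpha M) ↥M)) ≤ pCore p _ := Sigma.le_pCore_of_le_fitting
      (hTD.trans (Cores.le_fittingSubgroup (hN := hDnorm) hDn)) T.isPGroup'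
    rw [le_antisymm h1 (PLocal.Cores.pCore_le_sylow T)]
    exact (inferInstance : (pCore p (↥M ⧸ piCore (alpha M) ↥M)).Normal)
  set K := (T : Subgroup (↥M ⧸ piCore (alpha M) ↥M)).comap f with hK
  have hKn : K.Normal := hTn.comap f
  have hSK : (S' : Subgroup M) ≤ K := fun x hx => by
    show f x ∈ (T : Subgroup (↥M ⧸ piCore (alpha M) ↥M))
    rw [hTdef, Sylow.coe_mapSurjective]
    exact mem_map_of_mem f hx
  have hKle : K ≤ L.subgroupOf M := by
    rw [hK, hTdef, Sylow.coe_mapSurjective, comap_map_eq, hf, QuotientGroup.ker_mk']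
    refine sup_le (fun x hx => mem_subgroupOf.mpr ?_) fun x hx => mem_subgroupOf.mpr (hα ⟨x, hx, rfl⟩)
    exact hN (le_normalizer (hS'map ▸ mem_map_of_mem M.subtype hx))
  have htop := Sylow.normalizer_sup_eq_top (N := K) (S'.subtype hSK)
  rw [Sylow.coe_subtype, map_subgroupOf_eq_of_le hSK] at htop
  intro m hm
  have h1 : (⟨m, hm⟩ : M) ∈ L.subgroupOf M := by
    refine (htop ▸ sup_le (fun x hx => mem_subgroupOf.mpr (hN ?_)) hKle : (⊤ : Subgroup M) ≤ L.subgroupOf M)
      (mem_top _)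
    rw [← hS'map]
    exact map_conj_eq_self_iff.mp (by
      have h2 : (S' : Subgroup M).map (MulAut.conj x).toMonoidHom = S' := map_conj_eq_self_iff.mpr hx
      conv_rhs => rw [← h2]
      rw [Subgroup.map_map, Subgroup.map_map]
      rfl)
  exact mem_subgroupOf.mp h1

/-- The data of a nonabelian Sylow subgroup of rank two. -/
structure Data (p : ℕ) (S : Sylow p G) (P₁ : Subgroup G) (z a : G) : Prop where
  le : P₁ ≤ (S : Subgroup G)
  card : Nat.card P₁ = p ^ 3
  exp : ∀ x ∈ P₁, x ^ p = 1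
  z_mem : z ∈ P₁
  z_ne : z ≠ 1
  z_cen : ∀ x ∈ P₁, x * z = z * x
  a_mem : a ∈ P₁
  a_out : a ∉ zpowers z
  a_nc : ∃ u ∈ P₁, u * a ≠ a * u

theorem exists_data (hG : IsMinSimpleOddOrder G) (S : Sylow p G) (hr : PRankLE p 2 (S : Subgroup G))
    (hna : ¬ IsMulCommutative (S : Subgroup G)) : ∃ (P₁ : Subgroup G) (z a : G), Data p S P₁ z a := by
  obtain ⟨P₁, P₂, hsup, -, hna₁, hcard, hexp, -, -⟩ := (S1412.result hG p S hr).resolve_left hna
  have hP1 : P₁ ≠ ⊥ := fun e => hna₁ (by subst e; exact ⟨⟨fun _ _ => Subsingleton.elim _ _⟩⟩)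
  obtain ⟨z, hz, hz1, hzc⟩ : ∃ z, z ∈ P₁ ∧ z ≠ 1 ∧ ∀ x ∈ P₁, x * z = z * x := by
    have hP₁p : IsPGroup p P₁ := IsPGroup.of_card hcard
    have : Nontrivial P₁ := (nontrivial_iff_ne_bot P₁).mpr hP1
    have := hP₁p.center_nontrivial
    obtain ⟨z, hz⟩ := exists_ne (1 : center P₁)
    exact ⟨((z : P₁) : G), (z : P₁).2, fun e => hz (Subtype.ext (Subtype.ext e)),
      fun x hx => congrArg Subtype.val (mem_center_iff.mp z.2 ⟨x, hx⟩)⟩
  obtain ⟨u, hu, a, ha, hne⟩ : ∃ u ∈ P₁, ∃ a ∈ P₁, u * a ≠ a * u := by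
    by_contra hcon
    push Not at hcon
    exact hna₁ ⟨⟨fun x y => Subtype.ext (hcon x x.2 y y.2)⟩⟩
  refine ⟨P₁, z, a, hsup ▸ le_sup_left, hcard, fun x hx => ?_, hz, hz1, fun x hx => ?_, ha, fun h => ?_,
    u, hu, hne⟩
  · exact congrArg Subtype.val (hexp ▸ Monoid.pow_exponent_eq_one (⟨x, hx⟩ : P₁))
  · exact hzc x hx
  · obtain ⟨i, rfl⟩ := mem_zpowers_iff.mp h
    exact hne (((show Commute u z from hzc u hu).zpow_right i).eq)

variable {S : Sylow p G} {P₁ : Subgroup G} {z a : G}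

theorem Data.max2 (hd : Data p S P₁ z a) (hpr : PRankLE p 2 G) {x : G} (hx : x ∈ P₁)
    (hxz : x ∉ zpowers z) : Max2 p (zpowers z ⊔ zpowers x) := by
  have hel := PLocal.ThompsonSubgroup.IsElementaryAbelian.sup
    (PLocal.ThompsonSubgroup.isElementaryAbelian_zpowers (hd.exp z hd.z_mem))
    (PLocal.ThompsonSubgroup.isElementaryAbelian_zpowers (hd.exp x hx))
    (zpowers_le.mpr (mem_centralizer_iff.mpr fun y hy => by
      obtain ⟨i, rfl⟩ := mem_zpowers_iff.mp hy
      exact ((show Commute x z from hd.z_cen x hx).zpow_left i).eq))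
  have hle2 : ∀ B : Subgroup G, IsElementaryAbelian p B → Nat.card B ≤ p ^ 2 := fun B hB => hpr B hB.1 hB.2
  have hzc : Nat.card (zpowers z) = p := by
    rw [Nat.card_zpowers, orderOf_eq_prime (hd.exp z hd.z_mem) hd.z_ne]
  have hcard : Nat.card (zpowers z ⊔ zpowers x : Subgroup G) = p ^ 2 := by
    obtain ⟨n, hn⟩ := (Components.Hyperplane.isPGroup hel).exists_card_eq
    refine le_antisymm (hle2 _ hel) ?_
    rw [hn]
    refine Nat.pow_le_pow_right hp.out.pos (not_lt.mp fun hlt => hxz ?_)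
    have h1 : Nat.card (zpowers z ⊔ zpowers x : Subgroup G) ≤ Nat.card (zpowers z) := by
      rw [hn, hzc]
      calc p ^ n ≤ p ^ 1 := Nat.pow_le_pow_right hp.out.pos (by omega)
        _ = p := pow_one p
    rw [eq_of_le_of_card_ge le_sup_left h1]
    exact mem_sup_right (mem_zpowers x)
  refine ⟨hel, hcard, fun y hy hyp => ?_⟩
  have hsup := PLocal.ThompsonSubgroup.IsElementaryAbelian.sup hel
    (PLocal.ThompsonSubgroup.isElementaryAbelian_zpowers hyp)
    (zpowers_le.mpr hy |> le_centralizer_iff.mp)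
  exact (eq_of_le_of_card_ge le_sup_left ((hle2 _ hsup).trans hcard.ge)).symm ▸
    mem_sup_right (mem_zpowers y)

/-- The fixed points of `z` on `M_α` lie in every maximal subgroup containing `S`. -/
theorem Data.fixed_le (hd : Data p S P₁ z a) (hG : IsMinSimpleOddOrder G) (hpr : PRankLE p 2 G)
    (hM : IsCoatom M) (hL : IsCoatom L) (hSM : (S : Subgroup G) ≤ M) (hSL : (S : Subgroup G) ≤ L) :
    alphaCore M ⊓ centralizer ({z} : Set G) ≤ L := by
  set C := alphaCore M ⊓ centralizer ({z} : Set G) with hC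
  set T := centralizer ({z} : Set G) with hT
  have hzT : ∀ y ∈ T, Commute y z := fun y hy => mem_centralizer_singleton_iff.mp hy
  have hPT : P₁ ≤ T := fun x hx => mem_centralizer_singleton_iff.mpr (hd.z_cen x hx)
  set N := (zpowers z).subgroupOf T with hN
  have hNn : N.Normal := ⟨fun y hy t => by
    obtain ⟨i, hi⟩ := mem_zpowers_iff.mp (mem_subgroupOf.mp hy)
    refine mem_subgroupOf.mpr (mem_zpowers_iff.mpr ⟨i, ?_⟩)
    push_cast
    rw [← hi, ((hzT t t.2).zpow_right i).eq, mul_inv_cancel_right]⟩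
  set f := QuotientGroup.mk' N with hf
  set B := (P₁.subgroupOf T).map f with hB
  set K := (C.subgroupOf T).map f with hK
  have hzc : Nat.card (zpowers z) = p := by
    rw [Nat.card_zpowers, orderOf_eq_prime (hd.exp z hd.z_mem) hd.z_ne]
  have hBc : Nat.card B = p ^ 2 := by
    have h1 := relIndex_mul_relIndex ⊥ N (P₁.subgroupOf T) bot_le
      (fun y hy => mem_subgroupOf.mpr ((zpowers_le.mpr hd.z_mem) (mem_subgroupOf.mp hy)))
    rw [relIndex_bot_left, relIndex_bot_left, Nat.card_congr (subgroupOfEquivOfLe hPT).toEquiv, hd.card,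
      Nat.card_congr (subgroupOfEquivOfLe (zpowers_le.mpr (hPT hd.z_mem))).toEquiv, hzc,
      show N.relIndex (P₁.subgroupOf T) = Nat.card B by
        rw [hB, ← relIndex_ker, hf, QuotientGroup.ker_mk']] at h1
    exact Nat.eq_of_mul_eq_mul_left hp.out.pos (h1.trans (by ring))
  have hBexp : ∀ y ∈ B, y ^ p = 1 := by
    rintro _ ⟨y, hy, rfl⟩
    rw [← map_pow, show y ^ p = 1 from Subtype.ext (hd.exp y hy), map_one]
  have : IsMulCommutative B := IsPGroup.isMulCommutative_of_card_eq_prime_sq hBc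
  have hBnc : ¬ IsCyclic B := fun hcyc => by
    obtain ⟨g, hg⟩ := hcyc.exists_generator
    have h1 : Nat.card B ∣ p := by
      rw [← orderOf_eq_card_of_forall_mem_zpowers hg]
      exact orderOf_dvd_of_pow_eq_one (Subtype.ext (hBexp g g.2))
    rw [hBc] at h1
    have := Nat.le_of_dvd hp.out.pos h1
    nlinarith [hp.out.one_lt]
  have hpα : p ∉ alpha M := fun h => h.2 (RankTwoFitting.pRankLE_of_le hpr)
  have hpC : ¬ p ∣ Nat.card C := fun hdv => hpα (Transitivity.isPi_piCoreOf (alpha M) M p hp.out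
    (hdv.trans (card_dvd_of_le inf_le_left)))
  have hcop : (Nat.card B).Coprime (Nat.card K) := by
    refine (Nat.Coprime.coprime_dvd_right (card_map_dvd _ _) ?_)
    rw [hBc, Nat.card_congr (subgroupOfEquivOfLe (inf_le_right : C ≤ T)).toEquiv]
    exact (hp.out.coprime_iff_not_dvd.mpr hpC).pow_left 2
  have hPC : P₁ ≤ normalizer (C : Set G) :=
    (le_inf ((hd.le.trans hSM).trans (Sigma.le_normalizer_alphaCore M)) (hPT.trans le_normalizer)).trans
      inf_normalizer_le_normalizer_inf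
  have hBK : B ≤ normalizer (K : Set (T ⧸ N)) := by
    rw [hB, hK]
    refine (map_mono ?_).trans (le_normalizer_map f)
    rw [← subgroupOf_normalizer_eq inf_le_right]
    exact comap_mono hPC
  have hKL : K ≤ (L.subgroupOf T).map f := by
    rw [← Coprime.fixedGen_eq hBnc hBK hcop]
    refine iSup₂_le ?_
    rintro _ ⟨⟨x, hx, rfl⟩, hx1⟩
    rintro _ ⟨⟨c, hc, rfl⟩, hcx⟩
    refine mem_map_of_mem f (mem_subgroupOf.mpr ?_)
    have hxz : (x : G) ∉ zpowers z := fun h => hx1 ((QuotientGroup.eq_one_iff x).mpr (mem_subgroupOf.mpr h))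
    have hA := hd.max2 hpr (mem_subgroupOf.mp hx) hxz
    have hcom : (c : G) * x * (c : G)⁻¹ * (x : G)⁻¹ ∈ zpowers z := by
      have h2 : f (c * x * c⁻¹ * x⁻¹) = 1 := by
        rw [map_mul, map_mul, map_mul, map_inv, map_inv, mem_centralizer_singleton_iff.mp hcx,
          mul_inv_cancel_right, mul_inv_cancel]
      have := mem_subgroupOf.mp ((QuotientGroup.eq_one_iff _).mp h2)
      simpa using this
    have hC' : (c : G) * x * (c : G)⁻¹ * (x : G)⁻¹ ∈ C := by
      rw [mul_assoc, mul_assoc]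
      exact mul_mem (mem_subgroupOf.mp hc) (by
        simpa [mul_assoc] using (mem_normalizer_iff.mp (hPC (mem_subgroupOf.mp hx)) (c : G)⁻¹).mp
          (inv_mem (mem_subgroupOf.mp hc)))
    have h3 : (c : G) * x * (c : G)⁻¹ * (x : G)⁻¹ = 1 := by
      refine orderOf_eq_one_iff.mp (Nat.eq_one_of_dvd_coprimes (hp.out.coprime_iff_not_dvd.mpr hpC)
        ?_ (orderOf_dvd_natCard _ hC'))
      exact (orderOf_dvd_natCard _ hcom).trans hzc.dvd
    refine (S1416.result hG L hL p _ ⟨sup_le (zpowers_le.mpr (hSL (hd.le hd.z_mem)))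
      (zpowers_le.mpr (hSL (hd.le (mem_subgroupOf.mp hx)))), hA.el, hA.card⟩).1 ?_
    rw [← zpowers_le, le_centralizer_iff, TauTwo.centralizer_zpowers]
    refine sup_le (zpowers_le.mpr (mem_centralizer_singleton_iff.mpr (hzT c c.2).eq.symm))
      (zpowers_le.mpr (mem_centralizer_singleton_iff.mpr ?_))
    exact (mul_inv_eq_iff_eq_mul.mp (mul_inv_eq_one.mp h3)).symm
  intro c hc
  obtain ⟨y, hy, hye⟩ := hKL (mem_map_of_mem f (show (⟨c, (mem_inf.mp hc).2⟩ : T) ∈ C.subgroupOf T from hc))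
  have h1 : y⁻¹ * ⟨c, (mem_inf.mp hc).2⟩ ∈ N := QuotientGroup.eq.mp hye
  have h2 : ((y : T) : G)⁻¹ * c ∈ L := (zpowers_le.mpr (hSL (hd.le hd.z_mem))) (mem_subgroupOf.mp h1)
  simpa using mul_mem (mem_subgroupOf.mp hy) h2

theorem eq_of_rankTwo (hG : IsMinSimpleOddOrder G) (hM : IsCoatom M) (hL : IsCoatom L) (S : Sylow p G)
    (hSM : (S : Subgroup G) ≤ M) (hSL : (S : Subgroup G) ≤ L) (hMσ : p ∈ sigma M) (hLσ : p ∈ sigma L)
    (hna : ¬ IsMulCommutative (S : Subgroup G)) (hr : PRankLE p 2 (S : Subgroup G)) : M = L := by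
  have hSc : ¬ IsCyclic (S : Subgroup G) := fun h => hna IsCyclic.isMulCommutative
  have hpr := NarrowSolvable.pRankLE_of_sylow S hr
  obtain ⟨P₁, z, a, hd⟩ := exists_data hG S hr hna
  set A := zpowers z ⊔ zpowers a with hAdef
  have hA := hd.max2 hpr hd.a_mem hd.a_out
  have hAS : A ≤ (S : Subgroup G) :=
    sup_le (zpowers_le.mpr (hd.le hd.z_mem)) (zpowers_le.mpr (hd.le hd.a_mem))
  have hzc : Nat.card (zpowers z) = p := by
    rw [Nat.card_zpowers, orderOf_eq_prime (hd.exp z hd.z_mem) hd.z_ne]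
  have hcase : ∀ {Y : Subgroup G} (b : G), b ∈ zpowers z → b ≠ 1 →
      Y ⊓ centralizer ({b} : Set G) ≤ Y ⊓ centralizer ({z} : Set G) := by
    intro Y b hb hb1
    rw [← TauTwo.centralizer_zpowers b, ← TauTwo.centralizer_zpowers z,
      eq_of_le_of_card_ge (zpowers_le.mpr hb) (by
        rw [hzc, hA.card_zpowers (mem_sup_left hb) hb1])]
  by_cases hall : ∀ b ∈ A, b ∉ zpowers z → centralizer ({b} : Set G) ≤ M
  · -- `L_α ≤ M`
    have hcop : (Nat.card A).Coprime (Nat.card (alphaCore L)) := (hA.coprime_iff _).mpr fun hdv =>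
      (Transitivity.isPi_piCoreOf (alpha L) L p hp.out hdv).2 (RankTwoFitting.pRankLE_of_le hpr)
    have hα : alphaCore L ≤ M := by
      by_contra hnle
      obtain ⟨b, hb, hb1, hnb⟩ := hA.exists_fixed
        ((hAS.trans hSL).trans (Sigma.le_normalizer_alphaCore L)) hcop hnle
      by_cases hbz : b ∈ zpowers z
      · exact hnb ((hcase b hbz hb1).trans (hd.fixed_le hG hpr hL hM hSL hSM))
      · exact hnb (inf_le_right.trans (hall b hb hbz))
    exact (hL.le_iff.mp (le_of_frattini hG hL hLσ S hSL hα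
      (SigmaCompl.normalizer_le hG hM hMσ S.isPGroup' hSM hSc))).resolve_left hM.1
  · push Not at hall
    obtain ⟨b, hb, hbz, hbM⟩ := hall
    -- no line off `z` has centraliser in `M`
    have hlines : ∀ c ∈ A, c ∉ zpowers z → ¬ centralizer ({c} : Set G) ≤ M := by
      intro c hc hcz hle
      obtain ⟨u, huP, hua⟩ := hd.a_nc
      have huN : u ∈ normalizer (A : Set G) := by
        have hAP : A ≤ P₁ := sup_le (zpowers_le.mpr hd.z_mem) (zpowers_le.mpr hd.a_mem)
        have hP₁p : IsPGroup p P₁ := S.isPGroup'.to_le hd.le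
        have hlt : A < P₁ := lt_of_le_of_ne hAP fun e => by
          have := hd.card
          rw [← e, hA.card] at this
          exact absurd (Nat.pow_right_injective hp.out.two_le this) (by norm_num)
        have hgt := Transitivity.inf_normalizer_gt hP₁p hlt
        have heq : normalizer (A : Set G) ⊓ P₁ = P₁ := by
          refine eq_of_le_of_card_ge inf_le_right ?_
          obtain ⟨n, hn⟩ := (hP₁p.to_le (inf_le_right : normalizer (A : Set G) ⊓ P₁ ≤ P₁)).exists_card_eq
          rw [hn, hd.card]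
          rw [hn, hA.card] at hgt
          exact Nat.pow_le_pow_right hp.out.pos ((Nat.pow_lt_pow_iff_right hp.out.one_lt).mp hgt)
        exact (mem_inf.mp (heq.ge huP)).1
      have huC : u ∉ centralizer (A : Set G) := fun h =>
        hua (mem_centralizer_iff.mp h a (mem_sup_right (mem_zpowers a))).symm
      obtain ⟨j, hj⟩ := TauTwo.line_conj hA S.isPGroup' hAS (hd.le huP) huN huC le_sup_left hzc
        (fun y hy => by
          obtain ⟨i, rfl⟩ := mem_zpowers_iff.mp hy
          exact (show Commute u z from hd.z_cen u huP).zpow_right i) hc hcz hb hbz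
      refine hbM ?_
      rw [← TauTwo.centralizer_zpowers b, hj, TauTwo.centralizer_zpowers, TauTwo.centralizer_map_conj,
        ← map_conj_eq_self_iff.mpr (le_normalizer (pow_mem (hSM (hd.le huP)) j))]
      exact map_mono hle
    have hpα : p ∉ alpha M := fun h => h.2 (RankTwoFitting.pRankLE_of_le hpr)
    have hα : alphaCore M ≤ L := by
      rw [← subgroupOf_eq_top]
      refine Cores.eq_top_of_sylow_le fun q hq hdv => ?_
      have := Fact.mk hq
      have hqα : q ∈ alpha M := Transitivity.isPi_piCoreOf (alpha M) M q hq hdv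
      have hcop : (Nat.card A).Coprime (Nat.card (alphaCore M)) := (hA.coprime_iff _).mpr fun hdv =>
        hpα (Transitivity.isPi_piCoreOf (alpha M) M p hp.out hdv)
      obtain ⟨Q₀, hAQ⟩ := Coprime.exists_invariant_sylow q
        ((hAS.trans hSM).trans (Sigma.le_normalizer_alphaCore M)) hcop
        (Or.inl (@Coprime.isSolvable_of_isMulCommutative G _ A hA.comm))
      obtain ⟨Q, hQ⟩ := MaxStruct.exists_sylow_of_alphaCore hG hM hqα Q₀
      rw [← hQ] at hAQ
      have hQα : (Q : Subgroup G) ≤ alphaCore M := hQ ▸ map_subtype_le _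
      have hqp : q ≠ p := fun e => hpα (e ▸ hqα)
      suffices hQL : (Q : Subgroup G) ≤ L from
        ⟨Q₀, fun y hy => mem_subgroupOf.mpr (hQL (hQ ▸ mem_map_of_mem _ hy))⟩
      by_contra hnle
      obtain ⟨c, hc, hc1, hnc⟩ := hA.exists_fixed hAQ (hA.coprime_of_isPGroup hqp Q.isPGroup') hnle
      by_cases hcz : c ∈ zpowers z
      · exact hnc ((inf_le_inf_right _ hQα).trans
          ((hcase c hcz hc1).trans (hd.fixed_le hG hpr hM hL hSM hSL)))
      · exact hnc ((fixed_centralized hG hM hA (hAS.trans hSM) hpr hqα Q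
          (hQα.trans (Sigma.alphaCore_le M)) hAQ hc hc1 (hlines c hc hcz)).trans
          (S1416.result hG L hL p A ⟨hAS.trans hSL, hA.el, hA.card⟩).1)
    exact ((hM.le_iff.mp (le_of_frattini hG hM hMσ S hSM hα
      (SigmaCompl.normalizer_le hG hL hLσ S.isPGroup' hSL hSc))).resolve_left hL.1).symm

theorem inUniqueMaximal (hG : IsMinSimpleOddOrder G) {P : Subgroup G} (hP : IsPGroup p P)
    (hna : ¬ IsMulCommutative P) : InUniqueMaximal P := by
  have hPtop : P ≠ ⊤ := fun e => by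
    subst e
    have := hG.2.1
    have hGp : IsPGroup p G := hP.of_equiv topEquiv
    have := hGp.center_nontrivial
    rcases IsSimpleGroup.eq_bot_or_eq_top_of_normal (center G) inferInstance with h | h
    · exact (nontrivial_iff_ne_bot (center G)).mp inferInstance h
    · exact hG.2.2.1 ⟨⟨fun x y => (mem_center_iff.mp (h ▸ mem_top x : x ∈ center G) y).symm⟩⟩
  obtain ⟨M, hM, hPM⟩ := (eq_top_or_exists_le_coatom P).resolve_left hPtop
  refine ⟨M, ⟨hM, hPM⟩, fun L ⟨hL, hPL⟩ => ?_⟩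
  have hσ : ∀ {H : Subgroup G}, IsCoatom H → P ≤ H → p ∈ sigma H := fun hH hPH =>
    by_contra fun h => hna (SigmaCompl.pgroup_comm hG hH h hP hPH)
  obtain ⟨Q, hQ⟩ := (hP.comap_subtype (K := M ⊓ L)).exists_le_sylow
  set Q' := (Q : Subgroup ↥(M ⊓ L)).map (M ⊓ L).subtype with hQ'
  have hPQ : P ≤ Q' := fun x hx => ⟨⟨x, mem_inf.mpr ⟨hPM hx, hPL hx⟩⟩, hQ hx, rfl⟩
  have hQp : IsPGroup p Q' := Q.isPGroup'.map _
  have hQna : ¬ IsMulCommutative Q' := fun h => hna
    ⟨⟨fun x y => Subtype.ext (setLike_mul_comm (hPQ x.2) (hPQ y.2))⟩⟩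
  have hQc : ¬ IsCyclic Q' := fun h => hQna IsCyclic.isMulCommutative
  obtain ⟨S, hQS⟩ := hQp.exists_le_sylow
  have hQSeq : Q' = (S : Subgroup G) := by
    by_contra hne
    have hgt := Transitivity.inf_normalizer_gt S.isPGroup' (lt_of_le_of_ne hQS hne)
    refine not_le.mpr hgt ?_
    have hle : normalizer (Q' : Set G) ⊓ (S : Subgroup G) ≤ M ⊓ L := inf_le_left.trans (le_inf
      (SigmaCompl.normalizer_le hG hM (hσ hM hPM) hQp ((map_subtype_le _).trans inf_le_left) hQc)
      (SigmaCompl.normalizer_le hG hL (hσ hL hPL) hQp ((map_subtype_le _).trans inf_le_right) hQc))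
    rw [← Nat.card_congr (subgroupOfEquivOfLe hle).toEquiv, hQ',
      card_map_of_injective (M ⊓ L).subtype_injective]
    obtain ⟨R, hR⟩ := ((S.isPGroup'.to_le (inf_le_right : normalizer (Q' : Set G) ⊓ (S : Subgroup G) ≤ S)
      ).comap_subtype (K := M ⊓ L)).exists_le_sylow
    rw [Q.card_eq_multiplicity, ← R.card_eq_multiplicity]
    exact card_le_of_le hR
  have hSM : (S : Subgroup G) ≤ M := hQSeq ▸ (map_subtype_le _).trans inf_le_left
  have hSL : (S : Subgroup G) ≤ L := hQSeq ▸ (map_subtype_le _).trans inf_le_right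
  by_cases hr : PRankLE p 2 (S : Subgroup G)
  · exact (eq_of_rankTwo hG hM hL S hSM hSL (hσ hM hPM) (hσ hL hPL) (hQSeq ▸ hQna) hr).symm
  · exact alpha_unique hG S hM hSM hr hL hSL

end Cfsg.Agent.OddLocal.NonabelianUnique
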