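import Cfsg.Agent.OddLocal.AutRankTwo
import Cfsg.Agent.Lib.PGroups.ClassThree
import Cfsg.Agent.Lib.Coprime.PGroup

/-! For `p > 3`, the elements of order `p` of a `p`-group of rank two form a subgroup. -/

set_option autoImplicit false
set_option linter.unusedSectionVars false

namespace Cfsg.Agent.OddLocal.OmegaExp

open Cfsg Subgroup

variable {R : Type*} [Group R] [Finite R] {p : ℕ} [hp : Fact p.Prime]

/-- Commutating with the whole group divides the order of a nontrivial normal subgroup by at least `p`. -/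
theorem mul_card_commutator_le (hR : IsPGroup p R) (N : Subgroup R) [N.Normal] {n : ℕ}
    (hn : Nat.card N ≤ p ^ (n + 1)) : Nat.card (⁅N, (⊤ : Subgroup R)⁆ : Subgroup R) ≤ p ^ n := by
  rcases eq_or_ne N ⊥ with h | h
  · subst h
    rw [commutator_bot_left, card_bot]
    exact Nat.one_le_pow _ _ hp.out.pos
  have : Group.IsNilpotent (⊤ : Subgroup R) := (hR.to_subgroup ⊤).isNilpotent
  have hlt : ⁅N, (⊤ : Subgroup R)⁆ < N := Cfsg.Agent.Coprime.commutator_lt_of_isNilpotent le_top h (by
    rw [normalizer_eq_top_iff.mpr inferInstance])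
  obtain ⟨a, ha⟩ := (hR.to_subgroup N).exists_card_eq
  obtain ⟨b, hb⟩ := (hR.to_subgroup ⁅N, (⊤ : Subgroup R)⁆).exists_card_eq
  have hlt' : Nat.card (⁅N, (⊤ : Subgroup R)⁆ : Subgroup R) < Nat.card N :=
    lt_of_not_ge fun hge => hlt.ne (eq_of_le_of_card_ge hlt.le hge)
  rw [ha] at hn hlt'
  rw [hb] at hlt' ⊢
  have h1 := (Nat.pow_lt_pow_iff_right hp.out.one_lt).mp hlt'
  have h2 := (Nat.pow_le_pow_iff_right hp.out.one_lt).mp hn
  exact Nat.pow_le_pow_right hp.out.pos (by omega)

/-- Products of elements of order `p` have order `p`. -/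
theorem mul_pow_eq_one (h3 : 3 < p) (hR : IsPGroup p R) (hr : PRankLE p 2 R) {x y : R}
    (hx : x ^ p = 1) (hy : y ^ p = 1) : (x * y) ^ p = 1 := by
  suffices key : ∀ n : ℕ, ∀ H : Subgroup R, Nat.card H = n →
      ∀ a ∈ H, ∀ b ∈ H, a ^ p = 1 → b ^ p = 1 → (a * b) ^ p = 1 from
    key _ ⊤ rfl x (mem_top x) y (mem_top y) hx hy
  intro n
  induction n using Nat.strong_induction_on with
  | _ n ih => ?_
  intro H hH a ha b hb ha1 hb1
  set K := closure ({a, b} : Set R) with hK
  have haK : a ∈ K := subset_closure (Set.mem_insert _ _)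
  have hbK : b ∈ K := subset_closure (Set.mem_insert_of_mem _ rfl)
  have hKH : K ≤ H := (closure_le _).mpr (Set.insert_subset ha (Set.singleton_subset_iff.mpr hb))
  by_cases hlt : Nat.card K < n
  · exact ih _ hlt K rfl a haK b hbK ha1 hb1
  have hKeq : K = H := eq_of_le_of_card_ge hKH (by omega)
  have hHp : IsPGroup p H := hR.to_subgroup H
  set a' : H := ⟨a, ha⟩
  set b' : H := ⟨b, hb⟩
  by_cases hcyc : zpowers a' = ⊤
  · obtain ⟨j, hj⟩ := mem_zpowers_iff.mp (hcyc ▸ mem_top b' : b' ∈ zpowers a')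
    have hc : Commute a' b' := hj ▸ (Commute.refl a').zpow_right j
    have hc' : Commute a b := hc.map H.subtype
    rw [hc'.mul_pow, ha1, hb1, one_mul]
  obtain ⟨M, hM, hle⟩ := (eq_top_or_exists_le_coatom (zpowers a')).resolve_left hcyc
  have := hHp.isNilpotent
  have hMn : M.Normal := Subgroup.NormalizerCondition.normal_of_coatom M
    Group.normalizerCondition_of_isNilpotent hM
  have hMlt : Nat.card M < n := hH ▸ lt_of_not_ge fun h =>
    hM.1 (eq_top_of_card_eq M (le_antisymm (card_le_card_group M) h))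
  let U : Subgroup H :=
    { carrier := {u | u ∈ M ∧ u ^ p = 1}
      one_mem' := ⟨one_mem _, one_pow p⟩
      mul_mem' := fun {u v} hu hv => ⟨mul_mem hu.1 hv.1, Subtype.ext (ih (Nat.card (M.map H.subtype))
        (by rwa [card_map_of_injective H.subtype_injective]) (M.map H.subtype) rfl u ⟨u, hu.1, rfl⟩
        v ⟨v, hv.1, rfl⟩ (congrArg Subtype.val hu.2) (congrArg Subtype.val hv.2))⟩
      inv_mem' := fun {u} hu => ⟨inv_mem hu.1, by rw [inv_pow, hu.2, inv_one]⟩ }
  have hUn : U.Normal := ⟨fun u hu g => ⟨hMn.conj_mem u hu.1 g, by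
    rw [conj_pow, hu.2, mul_one, mul_inv_cancel]⟩⟩
  have ha'U : a' ∈ U := ⟨hle (mem_zpowers a'), Subtype.ext ha1⟩
  have hUc : Nat.card U ≤ p ^ 3 := by
    refine AutRankTwo.card_le_cube (fun u => Subtype.ext u.2.2) fun A hA hA' => ?_
    rw [← card_subtype U A, ← card_map_of_injective (K := A.map U.subtype) H.subtype_injective]
    have := map_isMulCommutative A U.subtype
    refine hr _ (map_isMulCommutative _ _) ?_
    rintro _ ⟨_, ⟨v, hv, rfl⟩, rfl⟩
    rw [← map_pow, ← map_pow, hA' v hv, map_one, map_one]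
  have htop : U ⊔ zpowers b' = ⊤ := by
    refine top_le_iff.mp ?_
    have : closure ({a', b'} : Set H) = ⊤ := by
      refine map_injective H.subtype_injective ?_
      rw [MonoidHom.map_closure, Set.image_pair, ← MonoidHom.range_eq_map, range_subtype]
      exact hKeq
    rw [← this, closure_le]
    exact Set.insert_subset (mem_sup_left ha'U)
      (Set.singleton_subset_iff.mpr (mem_sup_right (mem_zpowers b')))
  set C := ⁅U, (⊤ : Subgroup H)⁆ with hC
  have hCU : C ≤ U := commutator_le_left U ⊤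
  -- the derived subgroup lies in `[U, H]`
  have hder : commutator H ≤ C := by
    set f := QuotientGroup.mk' C with hf
    have hfU : ∀ u ∈ U, ∀ g : H, Commute (f u) (f g) := fun u hu g => by
      rw [← commutatorElement_eq_one_iff_commute, ← map_commutatorElement]
      exact (QuotientGroup.eq_one_iff _).mpr (commutator_mem_commutator hu (mem_top g))
    have hall : ∀ g h : H, Commute (f g) (f h) := by
      intro g h
      obtain ⟨u, hu, v, hv, rfl⟩ := mem_sup_of_normal_left.mp (htop ▸ mem_top g : g ∈ U ⊔ zpowers b')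
      obtain ⟨u', hu', v', hv', rfl⟩ := mem_sup_of_normal_left.mp (htop ▸ mem_top h : h ∈ U ⊔ zpowers b')
      obtain ⟨i, rfl⟩ := mem_zpowers_iff.mp hv
      obtain ⟨i', rfl⟩ := mem_zpowers_iff.mp hv'
      rw [map_mul, map_mul]
      refine Commute.mul_left ((hfU u hu u').mul_right (hfU u hu _)) ?_
      refine Commute.mul_right (hfU u' hu' _).symm ?_
      rw [map_zpow, map_zpow]
      exact Commute.zpow_zpow_self _ i i'
    rw [_root_.commutator_def, commutator_le]
    intro g _ h _
    rw [← QuotientGroup.eq_one_iff, ← QuotientGroup.mk'_apply, map_commutatorElement,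
      commutatorElement_eq_one_iff_commute]
    exact hall g h
  have hC2 : Nat.card C ≤ p ^ 2 := mul_card_commutator_le hHp U hUc
  have hC1 : Nat.card (⁅C, (⊤ : Subgroup H)⁆ : Subgroup H) ≤ p ^ 1 := mul_card_commutator_le hHp C hC2
  have hC0 := mul_card_commutator_le hHp ⁅C, (⊤ : Subgroup H)⁆ (n := 0) hC1
  rw [pow_zero] at hC0
  have hcl : ⁅⁅commutator H, (⊤ : Subgroup H)⁆, (⊤ : Subgroup H)⁆ = ⊥ := by
    rw [eq_bot_iff]
    refine le_trans (commutator_mono (commutator_mono hder le_rfl) le_rfl) ?_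
    rw [eq_bot_of_card_le _ hC0]
  exact congrArg Subtype.val (PGroups.ClassThree.pow_eq_one_of_mem_closure (G := H) (by omega) hHp
    (PGroups.ClassThree.smallClass_of_commutator (Or.inr ⟨by omega, hcl⟩))
    (g := a' * b') (mul_mem (subset_closure (Subtype.ext ha1)) (subset_closure (Subtype.ext hb1))))

/-- `Ω₁` has exponent `p`. -/
theorem pow_eq_one_of_mem_closure (h3 : 3 < p) (hR : IsPGroup p R) (hr : PRankLE p 2 R) {g : R}
    (hg : g ∈ closure {x : R | x ^ p = 1}) : g ^ p = 1 := by
  induction hg using closure_induction with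
  | mem x hx => exact hx
  | one => exact one_pow p
  | inv x _ h => rw [inv_pow, h, inv_one]
  | mul x y _ _ h1 h2 => exact mul_pow_eq_one h3 hR hr h1 h2

end Cfsg.Agent.OddLocal.OmegaExp
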