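import Cfsg.Agent.OddLocal.OmegaExp
import Cfsg.Agent.Lib.PGroups.Normal
import Cfsg.Prelude.Def_PLocal

/-! For `p > 3` the bound `|Ω₁(R)| ≤ p²` passes to quotients. -/

set_option autoImplicit false
set_option linter.unusedSectionVars false

namespace Cfsg.Agent.OddLocal.OmegaQuotient

open Cfsg Subgroup

universe u

variable {R : Type u} [Group R] [Finite R] {p : ℕ} [hp : Fact p.Prime]

theorem omegaOne_top : Cfsg.omegaOne p (⊤ : Subgroup R) = closure {x : R | x ^ p = 1} := by
  unfold Cfsg.omegaOne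
  simp

theorem card_commutator_le (hR : IsPGroup p R) {n : ℕ} (hn : Nat.card R ≤ p ^ (n + 2)) :
    Nat.card (commutator R) ≤ p ^ n := by
  obtain ⟨c, hc⟩ := (hR.to_subgroup (commutator R)).exists_card_eq
  rw [hc]
  refine Nat.pow_le_pow_right hp.out.pos ?_
  by_contra hcn
  obtain ⟨r, hr⟩ := hR.exists_card_eq
  have hidx := (commutator R).card_mul_index
  rw [hc, hr] at hidx
  rw [hr] at hn
  have hrn := (Nat.pow_le_pow_iff_right hp.out.one_lt).mp hn
  have hile : (commutator R).index ≤ p := by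
    by_contra hlt
    have : p ^ (c + 1) < p ^ r := by
      rw [← hidx, pow_succ]
      exact Nat.mul_lt_mul_of_pos_left (not_le.mp hlt) (pow_pos hp.out.pos c)
    have := (Nat.pow_lt_pow_iff_right hp.out.one_lt).mp this
    omega
  have := hR.isNilpotent
  have hcyc : IsCyclic (R ⧸ commutator R) := by
    obtain ⟨i, hi, hic⟩ := (Nat.dvd_prime_pow hp.out).mp (hr ▸ (commutator R).index_dvd_card)
    have hi1 : i ≤ 1 := by
      by_contra h
      have := Nat.pow_lt_pow_right hp.out.one_lt (show 1 < i by omega)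
      rw [pow_one, ← hic] at this
      omega
    interval_cases i
    · have : Subsingleton (R ⧸ commutator R) :=
        (Nat.card_eq_one_iff_unique.mp (by rw [← index_eq_card, hic, pow_zero])).1
      infer_instance
    · exact isCyclic_of_prime_card (p := p) (by rw [← index_eq_card, hic, pow_one])
  obtain ⟨q, hq⟩ := hcyc.exists_generator
  obtain ⟨x, rfl⟩ := QuotientGroup.mk'_surjective _ q
  have htop : zpowers x = ⊤ := by
    have : Group.IsNilpotent (⊤ : Subgroup R) := Group.nilpotent_of_mulEquiv topEquiv.symm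
    refine Cfsg.Agent.Coprime.eq_of_le_of_sup_commutator_eq le_top (eq_top_iff.mpr fun y _ => ?_)
    obtain ⟨i, hi⟩ := mem_zpowers_iff.mp (hq (QuotientGroup.mk' _ y))
    rw [← map_zpow] at hi
    have e : y = x ^ i * ((x ^ i)⁻¹ * y) := by group
    rw [e]
    exact mul_mem_sup (mem_zpowers_iff.mpr ⟨i, rfl⟩) (QuotientGroup.eq.mp hi)
  have hbot : commutator R = ⊥ := by
    rw [eq_bot_iff, _root_.commutator_def, commutator_le]
    intro a _ b _
    obtain ⟨i, rfl⟩ := mem_zpowers_iff.mp (htop ▸ mem_top a)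
    obtain ⟨j, rfl⟩ := mem_zpowers_iff.mp (htop ▸ mem_top b)
    exact mem_bot.mpr (commutatorElement_eq_one_iff_commute.mpr (Commute.zpow_zpow_self x i j))
  rw [hbot, card_bot] at hc
  have : c = 0 := by
    by_contra h0
    exact absurd hc.symm (Nat.one_lt_pow h0 hp.out.one_lt).ne'
  omega

/-- In a group of order at most `p⁴` with all `p`-th powers in a central subgroup of order at most `p`
and at most `p²` solutions of `x ^ p = 1`, the order is at most `p³`. -/
theorem card_le_of_pow_mem (h3 : 3 < p) (hR : IsPGroup p R) (hcard : Nat.card R ≤ p ^ 4)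
    (N : Subgroup R) (hNc : N ≤ center R) (hN : Nat.card N ≤ p) (hpow : ∀ x : R, x ^ p ∈ N)
    (hΩ : Nat.card (closure {x : R | x ^ p = 1}) ≤ p ^ 2) : Nat.card R ≤ p ^ 3 := by
  have hC1 : Nat.card (commutator R) ≤ p ^ 2 := card_commutator_le hR hcard
  have hC2 : Nat.card (⁅commutator R, (⊤ : Subgroup R)⁆ : Subgroup R) ≤ p ^ 1 :=
    OmegaExp.mul_card_commutator_le hR (commutator R) hC1
  have hC3 := OmegaExp.mul_card_commutator_le hR ⁅commutator R, (⊤ : Subgroup R)⁆ (n := 0) hC2
  rw [pow_zero] at hC3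
  have hsc : PGroups.ClassThree.SmallClass p R :=
    PGroups.ClassThree.smallClass_of_commutator (Or.inr ⟨by omega, eq_bot_of_card_le _ hC3⟩)
  have hexp : ∀ c ∈ ⁅commutator R, (⊤ : Subgroup R)⁆, c ^ p = 1 := by
    intro c hc
    obtain ⟨i, hi, hic⟩ := (Nat.dvd_prime_pow hp.out).mp
      (show Nat.card (⁅commutator R, (⊤ : Subgroup R)⁆ : Subgroup R) ∣ p ^ 1 from by
        obtain ⟨j, hj⟩ := (hR.to_subgroup ⁅commutator R, (⊤ : Subgroup R)⁆).exists_card_eq
        rw [hj] at hC2 ⊢
        exact pow_dvd_pow p ((Nat.pow_le_pow_iff_right hp.out.one_lt).mp hC2))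
    refine orderOf_dvd_iff_pow_eq_one.mp ((orderOf_dvd_natCard _ hc).trans ?_)
    rw [hic]
    exact (pow_dvd_pow p hi).trans (pow_one p).dvd
  have hcom : ∀ x y : R, (y⁻¹ * x⁻¹ * y * x) ^ p = 1 := by
    intro x y
    set a := x⁻¹ * y⁻¹ * x * y with ha
    have hac : a ∈ commutator R := by
      have h := commutator_mem_commutator (mem_top x⁻¹) (mem_top y⁻¹)
      rw [_root_.commutator_def, ha]
      simpa [commutatorElement_def, mul_assoc] using h
    have hxa : (a⁻¹ * x⁻¹ * a * x) ^ p = 1 := hexp _ (by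
      have h := commutator_mem_commutator (inv_mem hac) (mem_top x⁻¹)
      simpa [commutatorElement_def, mul_assoc] using h)
    have e1 : (x * a) ^ p = x ^ p * a ^ p := PGroups.ClassThree.mul_pow_prime (by omega) hsc hxa
    have e2 : (x * a) ^ p = x ^ p := by
      rw [show x * a = y⁻¹ * x * y⁻¹⁻¹ by rw [ha]; group, conj_pow, inv_inv,
        mem_center_iff.mp (hNc (hpow x)) y⁻¹]
      group
    rw [e2, left_eq_mul] at e1
    rw [show y⁻¹ * x⁻¹ * y * x = a⁻¹ by rw [ha]; group, inv_pow, e1, inv_one]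
  let f : R →* R :=
    { toFun := fun x => x ^ p
      map_one' := one_pow p
      map_mul' := fun x y => PGroups.ClassThree.mul_pow_prime (by omega) hsc (hcom x y) }
  rw [← f.ker.card_mul_index, index_ker]
  calc Nat.card f.ker * Nat.card f.range ≤ p ^ 2 * p := Nat.mul_le_mul
        ((card_le_of_le fun x hx => subset_closure hx).trans hΩ)
        ((card_le_of_le (by rintro _ ⟨x, rfl⟩; exact hpow x)).trans hN)
    _ = p ^ 3 := by rw [← pow_succ]

theorem quotient_central (h3 : 3 < p) (hR : IsPGroup p R)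
    (hO : Nat.card (closure {x : R | x ^ p = 1}) ≤ p ^ 2) (N : Subgroup R) [N.Normal]
    (hNc : N ≤ center R) (hN : Nat.card N = p) :
    Nat.card (closure {x : R ⧸ N | x ^ p = 1}) ≤ p ^ 2 := by
  have hQ : IsPGroup p (R ⧸ N) := hR.to_quotient N
  have key : ∀ Y : Subgroup (R ⧸ N), (∀ y ∈ Y, y ^ p = 1) → Nat.card Y ≤ p ^ 2 := by
    intro Y hY
    by_contra hlt
    obtain ⟨k, hk⟩ := (hQ.to_subgroup Y).exists_card_eq
    have hk3 : 3 ≤ k := by
      rw [hk, Nat.pow_le_pow_iff_right hp.out.one_lt] at hlt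
      omega
    obtain ⟨Z, hZ⟩ := Sylow.exists_subgroup_card_pow_prime p (n := 3) (G := Y)
      (hk ▸ pow_dvd_pow p hk3)
    set Y' := Z.map Y.subtype with hY'
    have hY'c : Nat.card Y' = p ^ 3 := by rw [card_map_of_injective Y.subtype_injective, hZ]
    set f := QuotientGroup.mk' N with hf
    set X := Y'.comap f with hX
    have hXc : Nat.card X = p ^ 4 := by
      have hNX : N ≤ X := fun x hx => by
        rw [hX, mem_comap, show f x = 1 from (QuotientGroup.eq_one_iff x).mpr hx]
        exact one_mem _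
      have h2 : (N.subgroupOf X).index = p ^ 3 := by
        show N.relIndex X = _
        rw [← hY'c, ← map_comap_eq_self_of_surjective (QuotientGroup.mk'_surjective N) Y', ← hX,
          ← relIndex_ker, QuotientGroup.ker_mk']
      rw [← (N.subgroupOf X).card_mul_index, h2, Nat.card_congr (subgroupOfEquivOfLe hNX).toEquiv, hN]
      ring
    have h := card_le_of_pow_mem h3 (hR.to_subgroup X) hXc.le (N.subgroupOf X)
      (fun x hx => mem_center_iff.mpr fun y => Subtype.ext (mem_center_iff.mp (hNc hx) y))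
      (by
        rw [← card_map_of_injective X.subtype_injective, subgroupOf_map_subtype]
        exact (card_le_of_le inf_le_left).trans hN.le)
      (fun x => by
        rw [mem_subgroupOf, ← QuotientGroup.eq_one_iff, SubmonoidClass.coe_pow, QuotientGroup.mk_pow]
        exact hY _ (map_subtype_le _ (show f x ∈ Y' from x.2)))
      (by
        rw [← card_map_of_injective X.subtype_injective]
        refine le_trans (card_le_of_le ?_) hO
        rw [MonoidHom.map_closure]
        refine closure_mono ?_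
        rintro _ ⟨x, hx, rfl⟩
        exact congrArg Subtype.val hx)
    rw [hXc, Nat.pow_le_pow_iff_right hp.out.one_lt] at h
    omega
  exact key _ fun y hy => OmegaExp.pow_eq_one_of_mem_closure h3 hQ
    (fun A _ hA => key A hA) hy

/-- `|Ω₁(R/T)| ≤ p²`. -/
theorem quotient (h3 : 3 < p) : ∀ (n : ℕ) {R : Type u} [Group R] [Finite R], Nat.card R = n →
    IsPGroup p R → Nat.card (closure {x : R | x ^ p = 1}) ≤ p ^ 2 →
    ∀ (T : Subgroup R) [T.Normal], Nat.card (closure {x : R ⧸ T | x ^ p = 1}) ≤ p ^ 2 := by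
  intro n
  induction n using Nat.strong_induction_on with
  | _ n ih => ?_
  intro R _ _ hn hR hO T _
  have := hR.isNilpotent
  rcases eq_or_ne T ⊥ with rfl | hT
  · refine le_trans ?_ hO
    let e : R ⧸ (⊥ : Subgroup R) ≃* R := QuotientGroup.quotientBot
    rw [← card_map_of_injective (f := e.toMonoidHom) e.injective, MonoidHom.map_closure]
    refine card_le_of_le (closure_mono ?_)
    rintro _ ⟨z, hz, rfl⟩
    show e z ^ p = 1
    rw [← map_pow, show z ^ p = 1 from hz, map_one]
  obtain ⟨w, hw, hw1⟩ := (bot_or_exists_ne_one _).resolve_left (Cfsg.Agent.Cores.inf_center_ne_bot hT)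
  obtain ⟨k, hk0, hk⟩ := ((hR.to_subgroup (T ⊓ center R)).nontrivial_iff_card).mp
    ((nontrivial_iff_ne_bot _).mpr fun h => hw1 (mem_bot.mp (h ▸ hw)))
  obtain ⟨⟨z, hz⟩, hzo⟩ := exists_prime_orderOf_dvd_card' p (hk ▸ dvd_pow_self p hk0.ne' :
    p ∣ Nat.card (T ⊓ center R : Subgroup R))
  rw [orderOf_mk] at hzo
  set N := zpowers z with hN
  have hNle : N ≤ T ⊓ center R := zpowers_le.mpr hz
  have hNn : N.Normal := ⟨fun x hx g => by
    rw [mem_center_iff.mp (hNle hx).2 g, mul_inv_cancel_right]; exact hx⟩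
  have hNcard : Nat.card N = p := by rw [hN, Nat.card_zpowers, hzo]
  set Q := R ⧸ N
  set T' := T.map (QuotientGroup.mk' N) with hT'
  have hT'n : T'.Normal := Normal.map inferInstance _ (QuotientGroup.mk'_surjective N)
  have hlt : Nat.card Q < n := by
    rw [← hn, ← N.card_mul_index, hNcard, ← index_eq_card]
    exact lt_mul_of_one_lt_left (Nat.pos_of_ne_zero index_ne_zero_of_finite) hp.out.one_lt
  have h := ih _ hlt rfl (hR.to_quotient N) (quotient_central h3 hR hO N (hNle.trans inf_le_right) hNcard) T'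
  let e : Q ⧸ T' ≃* R ⧸ T := QuotientGroup.quotientQuotientEquivQuotient N T (hNle.trans inf_le_left)
  refine le_trans ?_ h
  rw [← card_map_of_injective (f := e.symm.toMonoidHom) e.symm.injective, MonoidHom.map_closure]
  refine card_le_of_le (closure_mono ?_)
  rintro _ ⟨z, hz, rfl⟩
  show e.symm z ^ p = 1
  rw [← map_pow, show z ^ p = 1 from hz, map_one]

end Cfsg.Agent.OddLocal.OmegaQuotient
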