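import Cfsg.Agent.OddLocal.PTypeCount
import Cfsg.Agent.S1446
import Cfsg.Agent.OddLocal.KappaBasic

/-! The partner of a maximal subgroup with nonempty `κ` (BG 14.7). -/

set_option autoImplicit false
set_option linter.unusedSectionVars false

namespace Cfsg.Agent.OddLocal.PType

open Cfsg Subgroup KappaStructure SigmaParts

variable {G : Type*} [Group G] [Finite G] {M H L K U Z : Subgroup G} {x y z g : G}

/-- If `M` is not of type `P₁` then `M_σ` is nilpotent and `U` has no fixed points on it. -/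
theorem fixed_eq_bot (hG : IsMinSimpleOddOrder G) (hM : IsCoatom M) (hK : IsPiHallOf (kappa M) K M)
    {E : Subgroup G} (hd : Data M K E U) (hP : NotP1 M) :
    sigmaCore M ⊓ centralizer (U : Set G) = ⊥ ∧ Group.IsNilpotent (sigmaCore M) := by
  obtain ⟨t, ht, htM, htσ, htκ⟩ := hP
  have := Fact.mk ht
  obtain ⟨T⟩ : Nonempty (Sylow t E) := inferInstance
  obtain ⟨P, hP⟩ := Compl.sylow_map hd.hE htσ T
  obtain ⟨-, hfix, hnil⟩ := Kappa.not_kappa hG hM htM htσ htκ P
  have hEeq : U ⊔ K = E := le_antisymm (sup_le hd.hUE hd.hKE) fun e he => by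
    obtain ⟨a, ha, k, hk, rfl⟩ := hd.split e he
    exact mul_mem_sup ha hk
  have hrel : U.relIndex E = Nat.card K := by
    refine Nat.eq_of_mul_eq_mul_left (Nat.card_pos : 0 < Nat.card U) ?_
    rw [← Coprime.card_sup_of_disjoint (hd.hKE.trans hd.hUn) (disjoint_iff.mpr hd.hUK), hEeq,
      ← Nat.card_congr (subgroupOfEquivOfLe hd.hUE).toEquiv]
    exact card_mul_index (U.subgroupOf E)
  have hTU : (T : Subgroup E).map E.subtype ≤ U := fun v hv => by
    refine KappaDecomp.mem_of_normal_coprime hd.hUn hd.hUE (map_subtype_le _ hv)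
      (Nat.coprime_of_dvd fun p hp h1 h2 => htκ ?_)
    obtain ⟨n, hn⟩ := (T.isPGroup'.map E.subtype).exists_card_eq
    have h3 := h1.trans (orderOf_dvd_natCard _ hv)
    rw [hn] at h3
    rw [← (Nat.prime_dvd_prime_iff_eq hp ht).mp (hp.dvd_of_dvd_pow h3)]
    exact hK.2.1 p hp (hrel ▸ h2)
  refine ⟨le_bot_iff.mp (le_trans (inf_le_inf_left _ (Subgroup.centralizer_le ?_)) hfix.le), hnil⟩
  exact (closure_le U).mpr fun v hv => hTU (hP ▸ hv.1)

theorem U_ne_bot (hG : IsMinSimpleOddOrder G) (hM : IsCoatom M) (hK : IsPiHallOf (kappa M) K M)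
    {E : Subgroup G} (hd : Data M K E U) (hP : NotP1 M) : U ≠ ⊥ := fun e =>
  Sigma.sigmaCore_ne_bot hG hM (by
    rw [← (fixed_eq_bot hG hM hK hd hP).1, e, eq_comm, inf_eq_left]
    intro x _
    exact mem_centralizer_iff.mpr fun a ha => by
      rw [mem_bot.mp (SetLike.mem_coe.mp ha), one_mul, mul_one])

/-- If `M` is not of type `P₁` then `K` has prime order. -/
theorem prime_of_notP1 (hG : IsMinSimpleOddOrder G) (hM : IsCoatom M) (hK : IsPiHallOf (kappa M) K M)
    (hK1 : K ≠ ⊥) (hP : NotP1 M) : (Nat.card K).Prime ∧ Group.IsNilpotent (sigmaCore M) := by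
  obtain ⟨E, U, hd⟩ := exists_data hG hM hK hK1
  obtain ⟨hCU, hnil⟩ := fixed_eq_bot hG hM hK hd hP
  have hEeq : U ⊔ K = E := le_antisymm (sup_le hd.hUE hd.hKE) fun e he => by
    obtain ⟨a, ha, k, hk, rfl⟩ := hd.split e he
    exact mul_mem_sup ha hk
  have hU1 := U_ne_bot hG hM hK hd hP
  have hKU : K ≤ normalizer (U : Set G) := hd.hKE.trans hd.hUn
  refine ⟨(S1446.result U K (sigmaCore M) hU1 hK1 hd.hUK hKU hd.fpf
    (Transitivity.isSolvable_of_ne_top hG fun e => hM.1 (top_le_iff.mp (e ▸ hEeq.le.trans hd.hE.1)))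
    (Sigma.odd_card hG _) (Sigma.sigmaCore_ne_bot hG hM) hnil
    ((hd.hUE.trans hd.hE.1).trans (Sigma.le_normalizer_sigmaCore M))
    (hK.1.trans (Sigma.le_normalizer_sigmaCore M))
    (hEeq ▸ SigmaMeet.coprime_card hG hM hd.hE) hCU hd.fixed).1, hnil⟩

/-- `M` and `H` are partners over `Z = K × C_{M_σ}(K)`. -/
structure Pair (M K H : Subgroup G) : Prop where
  hM : IsCoatom M
  hK : IsPiHallOf (kappa M) K M
  hK1 : K ≠ ⊥
  hH : IsCoatom H
  hne : H ≠ M
  hKs : IsPiHallOf (kappa H) (star M K) H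
  hKeq : star H (star M K) = K
  cyclic : IsCyclic ↥(K ⊔ star M K)
  inter : M ⊓ H = K ⊔ star M K
  p2 : (NotP1 M ∧ (Nat.card K).Prime) ∨ (NotP1 H ∧ (Nat.card (star M K)).Prime)

theorem mem_K_iff (hK : IsPiHallOf (kappa M) K M) :
    z ∈ K ↔ z ∈ K ⊔ star M K ∧ IsPiEl {p | p ∉ sigma M} z :=
  ⟨fun h => ⟨mem_sup_left h, fun p hp hd =>
    KappaDecomp.kappa_not_sigma (hK.2.1 p hp (hd.trans (orderOf_dvd_natCard K h)))⟩,
    fun h => mem_K hK h.1 h.2⟩

/-- With two members the complement of the part of one is the part of the other. -/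
theorem eq_part (hG : IsMinSimpleOddOrder G) (hK : IsPiHallOf (kappa M) K M)
    (hM : Member (K ⊔ star M K) M) (hH : Member (K ⊔ star M K) H) (hne : H ≠ M)
    (htwo : ∀ L, Member (K ⊔ star M K) L → L = M ∨ L = H) :
    K = sigmaCore H ⊓ (K ⊔ star M K) := by
  refine le_antisymm (fun z hz => hH.mem_part hG (mem_sup_left hz) fun p hp hd => ?_) fun z hz =>
    mem_K hK (mem_inf.mp hz).2 fun p hp hd hσ =>
      hne (hM.eq_of_common hG hH hσ (mem_sigma_core (mem_inf.mp hz).1 p hp hd))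
  have hpo : orderOf (z ^ (orderOf z / p)) = p := orderOf_pow_orderOf_div (orderOf_pos z).ne' hd
  obtain ⟨L, hL, hzL⟩ := hM.exists_part hG (mem_sup_left (pow_mem hz _)) (hpo.symm ▸ hp)
  have hpL : p ∈ sigma L := mem_sigma_core (mem_inf.mp hzL).1 p hp (hpo.symm ▸ dvd_rfl)
  rcases htwo L hL with rfl | rfl
  · exact absurd hpL (KappaDecomp.kappa_not_sigma (hK.2.1 p hp (hd.trans (orderOf_dvd_natCard K hz))))
  · exact hpL

theorem isZGroup_of_hall (hG : IsMinSimpleOddOrder G) (hK : IsPiHallOf (kappa M) K M) : IsZGroup K :=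
  ⟨fun p hp P => by
    have := Fact.mk hp
    by_cases hd : p ∣ Nat.card K
    · have := Compl.isCyclic_of_rankOne hG (rank_of_kappa (hK.2.1 p hp hd)) (P.isPGroup'.map K.subtype)
        ((map_subtype_le _).trans hK.1)
      exact isCyclic_of_surjective _
        ((P : Subgroup K).equivMapOfInjective K.subtype K.subtype_injective).symm.surjective
    · have hP : (P : Subgroup K) = ⊥ := by
        rw [← card_eq_one]
        obtain ⟨n, hn⟩ := P.isPGroup'.exists_card_eq
        rcases n with - | n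
        · rw [hn, pow_zero]
        · exact absurd ((Dvd.intro_left _ (pow_succ p n).symm).trans
            (hn ▸ card_subgroup_dvd_card _)) hd
      rw [hP]
      infer_instance⟩

theorem isCyclic_sup {A B : Subgroup G} (hA : IsCyclic A) (hB : IsCyclic B)
    (hc : B ≤ centralizer (A : Set G)) (hco : (Nat.card A).Coprime (Nat.card B)) :
    IsCyclic ↥(A ⊔ B) := by
  obtain ⟨⟨a, ha⟩, hga⟩ := hA.exists_generator
  obtain ⟨⟨b, hb⟩, hgb⟩ := hB.exists_generator
  have hA' : A = zpowers a := le_antisymm (fun x hx => by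
    obtain ⟨i, hi⟩ := mem_zpowers_iff.mp (hga ⟨x, hx⟩)
    exact mem_zpowers_iff.mpr ⟨i, congrArg Subtype.val hi⟩) (zpowers_le.mpr ha)
  have hB' : B = zpowers b := le_antisymm (fun x hx => by
    obtain ⟨i, hi⟩ := mem_zpowers_iff.mp (hgb ⟨x, hx⟩)
    exact mem_zpowers_iff.mpr ⟨i, congrArg Subtype.val hi⟩) (zpowers_le.mpr hb)
  have hab : Commute a b := mem_centralizer_iff.mp (hc hb) a ha
  have hco' : (orderOf a).Coprime (orderOf b) := by
    rwa [← Nat.card_zpowers, ← Nat.card_zpowers, ← hA', ← hB']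
  have heq : A ⊔ B = zpowers (a * b) := by
    refine le_antisymm (sup_le ?_ ?_) (zpowers_le.mpr (mul_mem_sup ha hb))
    · rw [hA']; exact zpowers_le.mpr (mem_zpowers_mul hab hco')
    · rw [hB', hab.eq]; exact zpowers_le.mpr (mem_zpowers_mul hab.symm hco'.symm)
  rw [heq]
  infer_instance

theorem coprime_star (hK : IsPiHallOf (kappa M) K M) : (Nat.card K).Coprime (Nat.card (star M K)) :=
  Nat.coprime_of_dvd fun p hp h1 h2 => KappaDecomp.kappa_not_sigma (hK.2.1 p hp h1)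
    (Transitivity.isPi_piCoreOf (sigma M) M p hp (h2.trans (card_dvd_of_le inf_le_left)))

theorem exists_pair (hG : IsMinSimpleOddOrder G) (hM : IsCoatom M) (hK : IsPiHallOf (kappa M) K M)
    (hK1 : K ≠ ⊥) : ∃ H : Subgroup G, Pair M K H := by
  have hmM := member_self hM hK hK1
  obtain ⟨L, hL, hP⟩ := exists_notP1 hG hmM
  obtain ⟨H, hH, hne⟩ := hmM.exists_other hG
  have hpair : ∀ L', Member (K ⊔ star M K) L' → L' ≠ L → ∀ L'', Member (K ⊔ star M K) L'' → L'' ≠ L →
      L'' = L' := by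
    intro L' hL' hne' L'' hL'' hne''
    obtain ⟨hLc, K₀, hK₀, hK₀1, hZ⟩ := id hL
    have hprime := (prime_of_notP1 hG hLc hK₀ hK₀1 hP).1
    have hle : ∀ L₁, Member (K ⊔ star M K) L₁ → L₁ ≠ L → sigmaCore L₁ ⊓ (K ⊔ star M K) = K₀ := by
      intro L₁ hL₁ hne₁
      have hsub : sigmaCore L₁ ⊓ (K ⊔ star M K) ≤ K₀ := fun z hz =>
        mem_K hK₀ (hZ.symm ▸ (mem_inf.mp hz).2) fun p hp hd hσ =>
          hne₁ (hL.eq_of_common hG hL₁ hσ (mem_sigma_core (mem_inf.mp hz).1 p hp hd))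
      refine eq_of_le_of_card_ge hsub (le_of_eq ?_)
      refine ((hprime.eq_one_or_self_of_dvd _ (card_dvd_of_le hsub)).resolve_left fun e =>
        hL₁.part_ne_bot hG (card_eq_one.mp e)).symm
    obtain ⟨z, hz, hz1⟩ := (bot_or_exists_ne_one _).resolve_left (hL'.part_ne_bot hG)
    obtain ⟨n, hn⟩ := exists_prime_power hz1
    refine hL'.eq_of_common hG hL'' (mem_sigma_core (mem_inf.mp (pow_mem hz n)).1 _ hn dvd_rfl) ?_
    refine mem_sigma_core (mem_inf.mp (?_ : z ^ n ∈ sigmaCore L'' ⊓ (K ⊔ star M K))).1 _ hn dvd_rfl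
    rw [hle L'' hL'' hne'', ← hle L' hL' hne']
    exact pow_mem hz n
  have hLMH : L = M ∨ L = H := by
    by_contra hc
    push Not at hc
    exact hne (hpair M hmM (Ne.symm hc.1) H hH (Ne.symm hc.2))
  have htwo : ∀ L', Member (K ⊔ star M K) L' → L' = M ∨ L' = H := by
    intro L' hL'
    by_contra hc
    push Not at hc
    rcases hLMH with rfl | rfl
    · exact hc.2 (hpair H hH hne L' hL' hc.1)
    · exact hc.1 (hpair M hmM hne.symm L' hL' hc.2)
  have hKeq := eq_part hG hK hmM hH hne htwo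
  obtain ⟨hHc, K', hK', hK'1, hZ⟩ := id hH
  have hK'eq : K' = star M K := by
    have h := eq_part hG hK' (hZ.symm ▸ hH) (hZ.symm ▸ hmM) hne.symm
      (fun L' hL' => (htwo L' (hZ ▸ hL')).symm)
    rw [h, hZ, core_inf_sup hK]
  have hKs : star H K' = K := by
    rw [← core_inf_sup hK', hZ, ← hKeq]
  subst hK'eq
  have hinter : M ⊓ H = K ⊔ star M K := hmM.inter hG hH hne
  have hp2 : (NotP1 M ∧ (Nat.card K).Prime) ∨ (NotP1 H ∧ (Nat.card (star M K)).Prime) := by
    rcases hLMH with rfl | rfl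
    · exact Or.inl ⟨hP, (prime_of_notP1 hG hM hK hK1 hP).1⟩
    · exact Or.inr ⟨hP, (prime_of_notP1 hG hHc hK' hK'1 hP).1⟩
  refine ⟨H, hM, hK, hK1, hHc, hne, hK', hKs, ?_, hinter, hp2⟩
  have hcyc : IsCyclic K ∧ IsCyclic (star M K) := by
    rcases hp2 with ⟨hP, hp⟩ | ⟨hP, hp⟩
    · have := Fact.mk hp
      refine ⟨isCyclic_of_prime_card rfl, ?_⟩
      have : Group.IsNilpotent (star M K) := Cores.isNilpotent_to_le inf_le_left
        (prime_of_notP1 hG hM hK hK1 hP).2
      have := isZGroup_of_hall hG hK'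
      infer_instance
    · have := Fact.mk hp
      refine ⟨?_, isCyclic_of_prime_card rfl⟩
      have : Group.IsNilpotent K := Cores.isNilpotent_to_le (hKs ▸ inf_le_left)
        (prime_of_notP1 hG hHc hK' hK'1 hP).2
      have := isZGroup_of_hall hG hK
      infer_instance
  exact isCyclic_sup hcyc.1 hcyc.2 inf_le_right (coprime_star hK)

variable (h : Pair M K H)
include h

theorem Pair.star_ne_bot (hG : IsMinSimpleOddOrder G) : star M K ≠ ⊥ :=
  PType.star_ne_bot hG h.hM h.hK h.hK1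

theorem Pair.symm (hG : IsMinSimpleOddOrder G) : Pair H (star M K) M where
  hM := h.hH
  hK := h.hKs
  hK1 := h.star_ne_bot hG
  hH := h.hM
  hne := h.hne.symm
  hKs := by rw [h.hKeq]; exact h.hK
  hKeq := by rw [h.hKeq]
  cyclic := by rw [h.hKeq, sup_comm]; exact h.cyclic
  inter := by rw [h.hKeq, inf_comm, sup_comm]; exact h.inter
  p2 := by rw [h.hKeq]; exact h.p2.symm

theorem Pair.member : Member (K ⊔ star M K) M := member_self h.hM h.hK h.hK1

theorem Pair.member_partner (hG : IsMinSimpleOddOrder G) : Member (K ⊔ star M K) H :=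
  ⟨h.hH, star M K, h.hKs, h.star_ne_bot hG, by rw [h.hKeq, sup_comm]⟩

theorem Pair.part : sigmaCore H ⊓ (K ⊔ star M K) = K := by
  have := core_inf_sup h.hKs
  rwa [h.hKeq, sup_comm] at this

theorem Pair.le_core : K ≤ sigmaCore H := h.part.ge.trans inf_le_left

theorem Pair.sigma_dvd {p : ℕ} (hp : p.Prime) (hd : p ∣ Nat.card K) : p ∈ sigma H :=
  Transitivity.isPi_piCoreOf (sigma H) H p hp (hd.trans (card_dvd_of_le h.le_core))

theorem Pair.two (hG : IsMinSimpleOddOrder G) (hL : Member (K ⊔ star M K) L) : L = M ∨ L = H := by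
  obtain ⟨z, hz, hz1⟩ := (bot_or_exists_ne_one _).resolve_left (hL.part_ne_bot hG)
  obtain ⟨n, hn⟩ := exists_prime_power hz1
  have hzn := pow_mem hz n
  have hσL : orderOf (z ^ n) ∈ sigma L := mem_sigma_core (mem_inf.mp hzn).1 _ hn dvd_rfl
  by_cases hσ : orderOf (z ^ n) ∈ sigma M
  · exact Or.inl (h.member.eq_of_common hG hL hσ hσL)
  · refine Or.inr ((h.member_partner hG).eq_of_common hG hL (h.sigma_dvd hn ?_) hσL)
    refine orderOf_dvd_natCard K (mem_K h.hK (mem_inf.mp hzn).2 fun p hp hd => ?_)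
    rw [Set.mem_ofPred_eq, (Nat.prime_dvd_prime_iff_eq hp hn).mp hd]
    exact hσ

theorem Pair.zhat_eq (hG : IsMinSimpleOddOrder G) : zhat (K ⊔ star M K) =
    ((K ⊔ star M K : Subgroup G) : Set G) \ ((K : Set G) ∪ (star M K : Set G)) := by
  ext z
  refine ⟨fun hz => ⟨hz.1, ?_⟩, fun hz => ⟨hz.1, fun L hL hzL => ?_⟩⟩
  · rintro (hzK | hzs)
    · exact hz.2 H (h.member_partner hG) (h.le_core hzK)
    · exact hz.2 M h.member (mem_inf.mp hzs).1
  · rcases h.two hG hL with rfl | rfl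
    · exact hz.2 (Or.inr ((core_inf_sup h.hK).le (mem_inf.mpr ⟨hzL, hz.1⟩)))
    · exact hz.2 (Or.inl (h.part.le (mem_inf.mpr ⟨hzL, hz.1⟩)))

theorem Pair.comm {a b : G} (ha : a ∈ K ⊔ star M K) (hb : b ∈ K ⊔ star M K) : a * b = b * a := by
  have := h.cyclic
  let := IsCyclic.commGroup (α := ↥(K ⊔ star M K))
  exact congrArg Subtype.val (mul_comm (⟨a, ha⟩ : ↥(K ⊔ star M K)) ⟨b, hb⟩)

theorem Pair.le_centralizer {a : G} (ha : a ∈ K ⊔ star M K) :
    K ⊔ star M K ≤ centralizer ({a} : Set G) := fun _ hb =>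
  mem_centralizer_singleton_iff.mpr (h.comm hb ha)

theorem Pair.centralizer_kappa (hG : IsMinSimpleOddOrder G) (hx : x ∈ K) (hx1 : x ≠ 1) :
    M ⊓ centralizer ({x} : Set G) = K ⊔ star M K := by
  refine le_antisymm ?_ (le_inf (sup_le_M h.hK) (h.le_centralizer (mem_sup_left hx)))
  obtain ⟨E, U, hd⟩ := exists_data hG h.hM h.hK h.hK1
  obtain ⟨n, hn⟩ := exists_prime_power hx1
  have := Fact.mk hn
  exact (inf_le_inf_left M ((centralizer_pow_le x n).trans
    (Signalizer.centralizer_le_normalizer_zpowers _))).trans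
    (hd.normalizer_line hG h.hM (pow_mem hx n) rfl).le

theorem Pair.centralizer_zhat (hG : IsMinSimpleOddOrder G) (hz : z ∈ zhat (K ⊔ star M K)) :
    centralizer ({z} : Set G) = K ⊔ star M K := by
  refine le_antisymm (fun g hg => mem_of_conj hG h.member hz ?_) (h.le_centralizer hz.1)
  rw [mem_centralizer_singleton_iff.mp hg, mul_inv_cancel_right]
  exact hz.1

theorem Pair.mul_mem_zhat (hG : IsMinSimpleOddOrder G) (hx : x ∈ K) (hx1 : x ≠ 1) (hy : y ∈ star M K)
    (hy1 : y ≠ 1) : x * y ∈ zhat (K ⊔ star M K) := by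
  rw [h.zhat_eq hG]
  refine ⟨mul_mem_sup hx hy, ?_⟩
  have hd : K ⊓ star M K = ⊥ := inf_eq_bot_of_coprime (coprime_star h.hK)
  rintro (h' | h')
  · have h1 : y ∈ K ⊓ star M K := mem_inf.mpr ⟨by
      have := mul_mem (inv_mem hx) h'; rwa [inv_mul_cancel_left] at this, hy⟩
    rw [hd] at h1; exact hy1 (mem_bot.mp h1)
  · have h1 : x ∈ K ⊓ star M K := mem_inf.mpr ⟨hx, by
      have := mul_mem h' (inv_mem hy); rwa [mul_inv_cancel_right] at this⟩
    rw [hd] at h1; exact hx1 (mem_bot.mp h1)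

theorem Pair.not_conj (hG : IsMinSimpleOddOrder G) (g : G) :
    H ≠ M.map (MulAut.conj g).toMonoidHom := fun e => by
  obtain ⟨k, hk, hk1⟩ := (bot_or_exists_ne_one K).resolve_left h.hK1
  obtain ⟨n, hn⟩ := exists_prime_power hk1
  have hd := orderOf_dvd_natCard K (pow_mem hk n)
  have := h.sigma_dvd hn hd
  rw [e, sigma_eq] at this
  exact KappaDecomp.kappa_not_sigma (h.hK.2.1 _ hn hd) this

/-- The conjugates of `Ẑ` fill more than half of `G`. -/
theorem Pair.zhat_card (hG : IsMinSimpleOddOrder G) :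
    Nat.card K * Nat.card (star M K) * Set.ncard (zhatConj (K ⊔ star M K)) =
      (Nat.card K * Nat.card (star M K) - Nat.card K - Nat.card (star M K) + 1) * Nat.card G ∧
    Nat.card G < 2 * Set.ncard (zhatConj (K ⊔ star M K)) := by
  classical
  set a := Nat.card K with ha
  set b := Nat.card (star M K) with hb
  have hcard : Nat.card ↥(K ⊔ star M K) = a * b := card_sup h.hK
  have hz : Set.ncard (zhat (K ⊔ star M K)) + a + b = a * b + 1 := by
    rw [h.zhat_eq hG]
    have hKZ : (K : Set G) ∪ (star M K : Set G) ⊆ ((K ⊔ star M K : Subgroup G) : Set G) :=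
      Set.union_subset (SetLike.coe_subset_coe.mpr le_sup_left) (SetLike.coe_subset_coe.mpr le_sup_right)
    have h1 := Set.ncard_sdiff_add_ncard_of_subset hKZ (Set.toFinite _)
    have h2 := Set.ncard_union_add_ncard_inter (K : Set G) (star M K : Set G)
      (Set.toFinite _) (Set.toFinite _)
    have h3 : (K : Set G) ∩ (star M K : Set G) = {1} := by
      rw [← Subgroup.coe_inf, inf_eq_bot_of_coprime (coprime_star h.hK), coe_bot]
    rw [h3, Set.ncard_singleton] at h2
    simp only [← Nat.card_coe_set_eq] at h1 h2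
    rw [SetLike.coe_sort_coe, SetLike.coe_sort_coe] at h2
    rw [SetLike.coe_sort_coe, hcard] at h1
    rw [← Nat.card_coe_set_eq]
    omega
  have hC := zhatConj_ncard hG h.member
  rw [hcard] at hC
  have hodd : ∀ X : Subgroup G, X ≠ ⊥ → 3 ≤ Nat.card X := fun X hX => by
    obtain ⟨k, hk⟩ := Sigma.odd_card hG X
    have := (Subgroup.one_lt_card_iff_ne_bot X).mpr hX
    omega
  have ha3 : 3 ≤ a := hodd K h.hK1
  have hb3 : 3 ≤ b := hodd _ (h.star_ne_bot hG)
  have hab : a ≠ b := fun e => by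
    have h1 : a.Coprime b := coprime_star h.hK
    rw [← e, Nat.coprime_self] at h1
    omega
  refine ⟨?_, ?_⟩
  · have hmul : a + b ≤ a * b := by nlinarith
    rw [mul_comm, hC, show a * b - a - b + 1 = Set.ncard (zhat (K ⊔ star M K)) by omega]
  · have h4 : a * b + 1 ≤ 2 * Set.ncard (zhat (K ⊔ star M K)) := by
      obtain ⟨i, hi⟩ := Sigma.odd_card hG K
      obtain ⟨j, hj⟩ := Sigma.odd_card hG (star M K)
      rw [← ha] at hi
      rw [← hb] at hj
      rcases Nat.lt_or_gt_of_ne hab with hlt | hlt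
      · have h7 : 0 ≤ (a - 3) * (b - 5) := Nat.zero_le _
        have hb5 : 5 ≤ b := by omega
        obtain ⟨a', ha'⟩ := Nat.exists_eq_add_of_le ha3
        obtain ⟨b', hb'⟩ := Nat.exists_eq_add_of_le hb5
        nlinarith [Nat.zero_le (a' * b')]
      · have ha5 : 5 ≤ a := by omega
        obtain ⟨a', ha'⟩ := Nat.exists_eq_add_of_le ha5
        obtain ⟨b', hb'⟩ := Nat.exists_eq_add_of_le hb3
        nlinarith [Nat.zero_le (a' * b')]
    by_contra hc
    rw [Nat.not_lt] at hc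
    have h5 := Nat.mul_le_mul_right (a * b) hc
    have h6 := Nat.mul_le_mul_right (Nat.card G) h4
    have := (Nat.card_pos : 0 < Nat.card G)
    nlinarith

theorem Pair.unique (hG : IsMinSimpleOddOrder G) (hL : IsCoatom L)
    (hKL : K ≤ sigmaCore L) : L = H := by
  obtain ⟨k, hk, hk1⟩ := (bot_or_exists_ne_one K).resolve_left h.hK1
  obtain ⟨n, hn⟩ := exists_prime_power hk1
  have hkn := pow_mem hk n
  have hkn1 : k ^ n ≠ 1 := fun e => hn.ne_one (by rw [e, orderOf_one])
  obtain ⟨g, rfl⟩ := conj_of_common hG h.hH hL (h.sigma_dvd hn (orderOf_dvd_natCard K hkn))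
    (mem_sigma_core (hKL hkn) _ hn dvd_rfl)
  exact (mem_iff_conj_eq hG h.hH).mp ((h.member_partner hG).mem_of_part hG
    (h.part.ge hkn) hkn1 (Sigma.sigmaCore_le _ (hKL hkn)))

/-- Every maximal subgroup with nonempty `κ` is conjugate to `M` or to its partner. -/
theorem Pair.conj_cases (hG : IsMinSimpleOddOrder G) {L K' H' : Subgroup G} (h' : Pair L K' H') :
    ∃ g : G, L = M.map (MulAut.conj g).toMonoidHom ∨ L = H.map (MulAut.conj g).toMonoidHom := by
  obtain ⟨-, h1⟩ := h.zhat_card hG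
  obtain ⟨-, h2⟩ := h'.zhat_card hG
  obtain ⟨a, ha, ha'⟩ : (zhatConj (K ⊔ star M K) ∩ zhatConj (K' ⊔ star L K')).Nonempty := by
    by_contra hne
    rw [Set.not_nonempty_iff_eq_empty] at hne
    have h3 := Set.ncard_union_add_ncard_inter (zhatConj (K ⊔ star M K)) (zhatConj (K' ⊔ star L K'))
      (Set.toFinite _) (Set.toFinite _)
    rw [hne, Set.ncard_empty] at h3
    have h4 := Set.ncard_le_card (α := G) (zhatConj (K ⊔ star M K) ∪ zhatConj (K' ⊔ star L K'))
    omega
  obtain ⟨c, z, hz, rfl⟩ := ha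
  obtain ⟨d, w, hw, e⟩ := ha'
  obtain ⟨H₁, H₂, i, j, h₁, h₂, hne₁, hu, hu1, hv, hv1⟩ := zhat_two hG h'.member hw
  obtain ⟨n, hn⟩ : ∃ n : ℕ, (orderOf (w ^ n)).Prime ∧ orderOf (w ^ n) ∈ sigma L := by
    rcases h'.two hG h₁ with rfl | rfl
    · obtain ⟨k, hk⟩ := exists_prime_power hu1
      exact ⟨i * k, by rwa [pow_mul], by
        rw [pow_mul]; exact mem_sigma_core (pow_mem (mem_inf.mp hu).1 k) _ hk dvd_rfl⟩
    · obtain rfl := (h'.two hG h₂).resolve_right (fun e => hne₁ e.symm)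
      obtain ⟨k, hk⟩ := exists_prime_power hv1
      exact ⟨j * k, by rwa [pow_mul], by
        rw [pow_mul]; exact mem_sigma_core (pow_mem (mem_inf.mp hv).1 k) _ hk dvd_rfl⟩
  have hzw : orderOf (z ^ n) = orderOf (w ^ n) := by
    have h3 : z ^ n = (c⁻¹ * d) * w ^ n * (c⁻¹ * d)⁻¹ := by
      rw [← conj_pow, show z = c⁻¹ * (c * z * c⁻¹) * c by group, e]
      group
    rw [h3, ← MulAut.conj_apply, MulEquiv.orderOf_eq]
  obtain ⟨N, hN, hzN⟩ := h.member.exists_part hG (pow_mem hz.1 n) (hzw.symm ▸ hn.1)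
  obtain ⟨g, hg⟩ := conj_of_common hG hN.1 h'.hM (mem_sigma_core (mem_inf.mp hzN).1 _ hn.1
    (hzw.symm ▸ dvd_rfl)) hn.2
  rcases h.two hG hN with rfl | rfl
  · exact ⟨g, Or.inl hg⟩
  · exact ⟨g, Or.inr hg⟩

end Cfsg.Agent.OddLocal.PType
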