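import Cfsg.Agent.OddLocal.Signalizer
import Cfsg.Agent.OddLocal.KappaDecomp
import Cfsg.Agent.S1431
import Cfsg.Agent.Lib.Hall.Solvable

/-! The maximal subgroups sharing `Z = K × C_{M_σ}(K)` (BG 14.7). -/

set_option autoImplicit false
set_option linter.unusedSectionVars false

namespace Cfsg.Agent.OddLocal.PType

open Cfsg Subgroup KappaStructure KappaCentral KappaOver SigmaParts
open TauTwo (centralizer_zpowers)
open Cfsg.Agent.Transfer.Fusion (map_conj_eq_self_iff card_map_conj)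
open scoped Pointwise

variable {G : Type*} [Group G] [Finite G] {M H K V : Subgroup G} {u y z : G}

/-- `C_{M_σ}(K)`. -/
def star (M K : Subgroup G) : Subgroup G := sigmaCore M ⊓ centralizer (K : Set G)

/-- A Hall `π`-subgroup of `M` absorbs, up to conjugation, every `π`-subgroup. -/
theorem exists_conj_le_hall (hG : IsMinSimpleOddOrder G) (hM : IsCoatom M) {π : Set ℕ}
    (hK : IsPiHallOf π K M) (hVM : V ≤ M) (hV : ∀ p : ℕ, p.Prime → p ∣ Nat.card V → p ∈ π) :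
    ∃ m ∈ M, V ≤ K.map (MulAut.conj m).toMonoidHom := by
  have := Transitivity.isSolvable_of_ne_top hG hM.1
  obtain ⟨H₀, hH₀, hdom⟩ := Hall.exists_hall_dominating π M
  have hKπ : IsPiHall π (K.subgroupOf M) :=
    ⟨fun p hp hd => hK.2.1 p hp (by rwa [Nat.card_congr (subgroupOfEquivOfLe hK.1).toEquiv] at hd),
      fun p hp hπ => hK.2.2 p hp hπ⟩
  obtain ⟨a, ha⟩ := hdom _ hKπ.1
  have ha' := eq_of_le_of_card_ge ha
    (by rw [Coprime.card_conj_smul, Hall.card_eq_of_isPiHall hH₀ hKπ])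
  obtain ⟨b, hb⟩ := hdom (V.subgroupOf M) fun p hp hd => hV p hp (by
    rwa [Nat.card_congr (subgroupOfEquivOfLe hVM).toEquiv] at hd)
  refine ⟨((b * a⁻¹ : M) : G), (b * a⁻¹).2, fun v hv => ?_⟩
  have h1 := hb (show (⟨v, hVM hv⟩ : M) ∈ V.subgroupOf M from hv)
  rw [Coprime.mem_conj_smul] at h1
  have h2 : a * (b⁻¹ * ⟨v, hVM hv⟩ * b) * a⁻¹ ∈ K.subgroupOf M := by
    rw [ha', Coprime.mem_conj_smul]
    simpa [mul_assoc] using h1
  rw [mem_conj_iff]
  have h3 : (a : G) * ((b : G)⁻¹ * v * b) * (a : G)⁻¹ ∈ K := h2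
  have h4 : ((b * a⁻¹ : M) : G)⁻¹ * v * ((b * a⁻¹ : M) : G) =
      (a : G) * ((b : G)⁻¹ * v * b) * (a : G)⁻¹ := by push_cast; group
  rwa [h4]

theorem exists_hall_ge (hG : IsMinSimpleOddOrder G) (hM : IsCoatom M) {π : Set ℕ} (hVM : V ≤ M)
    (hV : ∀ p : ℕ, p.Prime → p ∣ Nat.card V → p ∈ π) :
    ∃ K : Subgroup G, IsPiHallOf π K M ∧ V ≤ K := by
  have := Transitivity.isSolvable_of_ne_top hG hM.1
  obtain ⟨H₀, hH₀, hdom⟩ := Hall.exists_hall_dominating π M
  obtain ⟨b, hb⟩ := hdom (V.subgroupOf M) fun p hp hd => hV p hp (by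
    rwa [Nat.card_congr (subgroupOfEquivOfLe hVM).toEquiv] at hd)
  set H₁ := MulAut.conj b • H₀
  have hH₁ := Hall.isPiHall_conj_smul hH₀ b
  refine ⟨H₁.map M.subtype, ⟨map_subtype_le _, fun p hp hd => hH₁.1 p hp (by
    rwa [card_map_of_injective M.subtype_injective] at hd), fun p hp hπ => ?_⟩, ?_⟩
  · rw [relIndex, subgroupOf, comap_map_eq_self_of_injective M.subtype_injective]
    exact hH₁.2 p hp hπ
  · rw [← map_subgroupOf_eq_of_le hVM]
    exact map_mono hb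

/-- A `κ(M)`-subgroup of `M` sharing a line with `K` lies in `K`. -/
theorem kappa_le (hG : IsMinSimpleOddOrder G) (hM : IsCoatom M) (hK : IsPiHallOf (kappa M) K M)
    (hVM : V ≤ M) (hV : ∀ p : ℕ, p.Prime → p ∣ Nat.card V → p ∈ kappa M) (huV : u ∈ V) (huK : u ∈ K)
    (hu1 : u ≠ 1) : V ≤ K := by
  have hK1 : K ≠ ⊥ := fun e => hu1 (mem_bot.mp (e ▸ huK))
  obtain ⟨m, hm, hVm⟩ := exists_conj_le_hall hG hM hK hVM hV
  refine hVm.trans (le_of_eq (map_conj_eq_self_iff.mpr ?_))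
  have hmZ : m ∈ K ⊔ star M K := by
    by_contra hmZ
    have h1 := (S1431.result hG M hM K hK hK1).2.1 m hm hmZ
    exact hu1 (mem_bot.mp (h1 ▸ mem_inf.mpr ⟨huK, hVm huV⟩))
  exact (sup_le le_normalizer (inf_le_right.trans (centralizer_le_normalizer _))) hmZ

/-- `H` shares `Z`: it has a nontrivial Hall `κ(H)`-subgroup `K'` with `Z = K' C_{H_σ}(K')`. -/
def Member (Z H : Subgroup G) : Prop :=
  IsCoatom H ∧ ∃ K' : Subgroup G, IsPiHallOf (kappa H) K' H ∧ K' ≠ ⊥ ∧ K' ⊔ star H K' = Z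

theorem member_self (hM : IsCoatom M) (hK : IsPiHallOf (kappa M) K M) (hK1 : K ≠ ⊥) :
    Member (K ⊔ star M K) M :=
  ⟨hM, K, hK, hK1, rfl⟩

theorem star_ne_bot (hG : IsMinSimpleOddOrder G) (hM : IsCoatom M) (hK : IsPiHallOf (kappa M) K M)
    (hK1 : K ≠ ⊥) : star M K ≠ ⊥ := by
  obtain ⟨E, U, hd⟩ := exists_data hG hM hK hK1
  exact hd.fixed_ne_bot hK hK1

theorem star_le_normalizer (M K : Subgroup G) : star M K ≤ normalizer (K : Set G) :=
  inf_le_right.trans (centralizer_le_normalizer _)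

theorem sup_le_M (hK : IsPiHallOf (kappa M) K M) : K ⊔ star M K ≤ M :=
  sup_le hK.1 (inf_le_left.trans (Sigma.sigmaCore_le M))

theorem core_inf_sup (hK : IsPiHallOf (kappa M) K M) :
    sigmaCore M ⊓ (K ⊔ star M K) = star M K := by
  refine le_antisymm ?_ (le_inf inf_le_left le_sup_right)
  intro x hx
  obtain ⟨hxs, hxZ⟩ := mem_inf.mp hx
  obtain ⟨k, hk, w, hw, rfl⟩ := KappaDecomp.exists_mul_sup (star_le_normalizer M K) hxZ
  have h1 : k ∈ K ⊓ sigmaCore M := mem_inf.mpr ⟨hk, by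
    have := mul_mem hxs (inv_mem (mem_inf.mp hw).1)
    rwa [mul_inv_cancel_right] at this⟩
  rw [KappaDecomp.inf_core_eq_bot hK, mem_bot] at h1
  rwa [h1, one_mul]

/-- The `σ(M)'`-elements of `Z` lie in `K`. -/
theorem mem_K (hK : IsPiHallOf (kappa M) K M) (hz : z ∈ K ⊔ star M K)
    (h : IsPiEl {p | p ∉ sigma M} z) : z ∈ K := by
  refine KappaDecomp.mem_of_normal_coprime (sup_le le_normalizer (star_le_normalizer M K)) le_sup_left hz
    (Nat.coprime_of_dvd fun p hp h1 h2 => h p hp h1 ?_)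
  refine Transitivity.isPi_piCoreOf (sigma M) M p hp
    ((h2.trans ?_).trans (card_dvd_of_le inf_le_left : Nat.card (star M K) ∣ _))
  have hd : Disjoint K (star M K) := disjoint_iff.mpr (le_bot_iff.mp
    (le_trans (inf_le_inf_left _ inf_le_left) (KappaDecomp.inf_core_eq_bot hK).le))
  have h3 : Nat.card K * K.relIndex (K ⊔ star M K) = Nat.card K * Nat.card (star M K) := by
    rw [← Coprime.card_sup_of_disjoint (star_le_normalizer M K) hd,
      ← Nat.card_congr (subgroupOfEquivOfLe (le_sup_left : K ≤ K ⊔ star M K)).toEquiv]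
    exact card_mul_index (K.subgroupOf _)
  exact (Nat.eq_of_mul_eq_mul_left Nat.card_pos h3).dvd

/-- The maximal subgroup over `N(⟨u⟩)` shares `Z` and has `u` in its `σ`-core. -/
theorem exists_side (hG : IsMinSimpleOddOrder G) (hM : IsCoatom M) (hK : IsPiHallOf (kappa M) K M)
    (hu : u ∈ K) (hup : (orderOf u).Prime) :
    ∃ H : Subgroup G, Member (K ⊔ star M K) H ∧ u ∈ sigmaCore H ∧
      (∀ g : G, H ≠ M.map (MulAut.conj g).toMonoidHom) ∧ M ⊓ H = K ⊔ star M K ∧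
      normalizer ((zpowers u : Subgroup G) : Set G) ≤ H := by
  have hK1 : K ≠ ⊥ := fun e => hup.ne_one (by
    rw [e, mem_bot] at hu
    rw [hu, orderOf_one])
  set r := orderOf u with hr
  have := Fact.mk hup
  have huM := hK.1 hu
  have hu1 := ne_one_of_order (p := r) hr.symm
  have hκ : r ∈ kappa M := hK.2.1 r hup (orderOf_dvd_natCard _ hu)
  have hr1 := rank_of_kappa hκ
  obtain ⟨E, U, hd⟩ := exists_data hG hM hK hK1
  obtain ⟨w, hw, hw1⟩ := (bot_or_exists_ne_one _).resolve_left (star_ne_bot hG hM hK hK1)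
  obtain ⟨n, hn⟩ := exists_prime_power hw1
  set y := w ^ n with hy
  set q := orderOf y with hq
  have := Fact.mk hn
  have hyW : y ∈ star M K := pow_mem hw n
  have hy1 := ne_one_of_order (p := q) hq.symm
  have hyσ := (mem_inf.mp hyW).1
  have huy : ∀ v ∈ star M K, u * v = v * u := fun v hv =>
    mem_centralizer_iff.mp (mem_inf.mp hv).2 u hu
  obtain ⟨H, hH, hNu⟩ := PrimeAction.exists_normalizer_le hG
    (PrimeAction.ne_bot_of_card (card_zpowers_eq (r := r) hr.symm)) (zpowers_le.mpr huM) hM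
  obtain ⟨hrH, -, -, hne, huH, hyH⟩ := over_sigma hG hM huM hr.symm hκ.2.2.1 hr1 hyσ hq.symm
    (huy y hyW) hH hNu
  have hNy := (KappaCentral.centralizer_le hG hM huM hr.symm hκ.2.2.1 hr1 hyσ hq.symm (huy y hyW))
  have hKH : K ≤ H := (hd.line u hu hup).trans hNu
  have hWH : star M K ≤ H := fun v hv => hNu (mem_normalizer_of_comm (huy v hv).symm)
  have hinter : sigmaCore M ⊓ H = star M K := by
    refine le_antisymm ?_ (le_inf inf_le_left hWH)
    refine le_trans (le_inf inf_le_left (inter_le hG hM huM hr.symm hκ.2.2.1 hr1 hH hNu)) ?_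
    rw [hd.fixed u hu hu1]
    exact le_rfl
  -- `C_{M_σ}(K)` is a `κ(H)`-subgroup
  have hWκ : ∀ p : ℕ, p.Prime → p ∣ Nat.card (star M K) → p ∈ kappa H := by
    intro p hp hpd
    have := Fact.mk hp
    obtain ⟨v, hv⟩ := exists_prime_orderOf_dvd_card' p hpd
    rw [← orderOf_coe] at hv
    obtain ⟨-, hpH, hp1, -, -, hvH⟩ := over_sigma hG hM huM hr.symm hκ.2.2.1 hr1
      (mem_inf.mp v.2).1 hv (huy v v.2) hH hNu
    exact mem_kappa hG hvH hv hpH hp1 huH hu1 (huy v v.2).symm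
  obtain ⟨K₁, hK₁, hWK₁⟩ := exists_hall_ge hG hH hWH hWκ
  have hK₁1 : K₁ ≠ ⊥ := fun e => hy1 (mem_bot.mp (e ▸ hWK₁ hyW))
  obtain ⟨E₁, U₁, hd₁⟩ := exists_data hG hH hK₁ hK₁1
  have hqH := hK₁.2.1 q hn (orderOf_dvd_natCard _ (hWK₁ hyW))
  have hK₁M : K₁ ≤ M := (hd₁.line y (hWK₁ hyW) hn).trans hNy.1
  set A := star H K₁ with hA
  have hAy : sigmaCore H ⊓ centralizer ({y} : Set G) = A := hd₁.fixed y (hWK₁ hyW) hy1
  have hAM : A ≤ M := hAy.symm.le.trans (inf_le_right.trans hNy.2)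
  have huA : u ∈ A := hAy ▸ mem_inf.mpr ⟨huH, mem_centralizer_singleton_iff.mpr (huy y hyW)⟩
  have hAκ : ∀ p : ℕ, p.Prime → p ∣ Nat.card A → p ∈ kappa M := by
    intro p hp hpd
    have := Fact.mk hp
    obtain ⟨v, hv⟩ := exists_prime_orderOf_dvd_card' p hpd
    rw [← orderOf_coe] at hv
    obtain ⟨hvH, hvy⟩ := mem_inf.mp (hAy.symm ▸ v.2 : (v : G) ∈ sigmaCore H ⊓ centralizer ({y} : Set G))
    have hvy' : (v : G) * y = y * v := mem_centralizer_singleton_iff.mp hvy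
    have hσ : ∀ s : ℕ, s.Prime → s ∣ orderOf (v : G) → s ∉ sigma M := fun s hs hd =>
      piEl_of_sigma_ne hG hM hH hne (mem_sigma_core hvH) s hs hd
    rcases S1432.result hG M hM y hyσ hy1 (v : G) (mem_inf.mpr ⟨hAM v.2, hvy⟩)
      (ne_one_of_order hv) hσ with ⟨h, -⟩ | ⟨-, -, -, hu'⟩
    · exact h p hp (hv ▸ dvd_rfl)
    · have hC := (KappaCentral.centralizer_le hG hH (hK₁.1 (hWK₁ hyW)) hq.symm hqH.2.2.1
        (rank_of_kappa hqH) hvH hv hvy'.symm).2
      exact absurd (hu' H hH hC) fun e => hne 1 (by rw [Transfer.Fusion.map_conj_one, e])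
  have hAK : A ≤ K := kappa_le hG hM hK hAM hAκ huA hu hu1
  have hK₁Z : K₁ ≤ K ⊔ star M K := by
    refine le_trans (le_inf hK₁M fun k hk => mem_normalizer_of_comm ?_)
      (hd.normalizer_line hG hM hu hr.symm).le
    exact mem_centralizer_iff.mp (mem_inf.mp huA).2 k hk
  have hZ : K₁ ⊔ A = K ⊔ star M K := by
    refine le_antisymm (sup_le hK₁Z (hAK.trans le_sup_left)) (sup_le ?_ (hWK₁.trans le_sup_left))
    refine le_trans (le_inf hKH fun k hk => mem_normalizer_of_comm ?_)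
      (hd₁.normalizer_line hG hH (hWK₁ hyW) hq.symm).le
    exact mem_centralizer_iff.mp (mem_inf.mp hyW).2 k hk
  refine ⟨H, ⟨hH, K₁, hK₁, hK₁1, hZ⟩, huH, hne, ?_, hNu⟩
  refine le_antisymm (fun g hg => ?_) (le_inf (sup_le_M hK) (sup_le hKH hWH))
  obtain ⟨hgM, hgH⟩ := mem_inf.mp hg
  rw [← hZ]
  refine (hd₁.normalizer_line hG hH (hWK₁ hyW) hq.symm).le (mem_inf.mpr ⟨hgH, ?_⟩)
  have hgy : g * y * g⁻¹ ∈ star M K := hinter.le (mem_inf.mpr
    ⟨(mem_normalizer_iff.mp (Sigma.le_normalizer_sigmaCore M hgM) y).mp hyσ,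
      mul_mem (mul_mem hgH hyH) (inv_mem hgH)⟩)
  refine map_conj_eq_self_iff.mp (eq_of_le_of_card_ge ?_ (by rw [card_map_conj]))
  rw [MonoidHom.map_zpowers]
  exact zpowers_le.mpr (hd₁.line_unique hG hK₁ (hWK₁ hyW) (hWK₁ hgy) hq.symm
    (((MulAut.conj g).orderOf_eq y).trans hq.symm))

variable {Z : Subgroup G}

theorem Member.le (h : Member Z H) : Z ≤ H := by
  obtain ⟨-, K', hK', -, rfl⟩ := h
  exact sup_le_M hK'

theorem Member.part_le (h : Member Z H) (g : G) (hg : g ∈ Z) :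
    g ∈ normalizer ((sigmaCore H ⊓ Z : Subgroup G) : Set G) :=
  inf_normalizer_le_normalizer_inf
    (mem_inf.mpr ⟨Sigma.le_normalizer_sigmaCore H (h.le hg), le_normalizer hg⟩)

theorem Member.part_ne_bot (hG : IsMinSimpleOddOrder G) (h : Member Z H) : sigmaCore H ⊓ Z ≠ ⊥ := by
  obtain ⟨hH, K', hK', hK'1, rfl⟩ := h
  rw [core_inf_sup hK']
  exact star_ne_bot hG hH hK' hK'1

/-- A nontrivial element of the part of `H` in `Z` lies in no other conjugate of `H`. -/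
theorem Member.mem_of_part (hG : IsMinSimpleOddOrder G) (h : Member Z H) (hz : z ∈ sigmaCore H ⊓ Z)
    (hz1 : z ≠ 1) {g : G} (hg : z ∈ H.map (MulAut.conj g).toMonoidHom) : g ∈ H := by
  obtain ⟨hH, K', hK', hK'1, rfl⟩ := h
  rw [core_inf_sup hK'] at hz
  exact KappaFixed.mem_of_fixed hG hH hK' hK'1 hz hz1 hg

theorem Member.centralizer_le (hG : IsMinSimpleOddOrder G) (h : Member Z H)
    (hz : z ∈ sigmaCore H ⊓ Z) (hz1 : z ≠ 1) : centralizer ({z} : Set G) ≤ H := by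
  obtain ⟨hH, K', hK', hK'1, rfl⟩ := h
  rw [core_inf_sup hK'] at hz
  obtain ⟨k, hk, hk1⟩ := (bot_or_exists_ne_one K').resolve_left hK'1
  obtain ⟨n, hn⟩ := exists_prime_power hk1
  obtain ⟨m, hm⟩ := exists_prime_power hz1
  have := Fact.mk hn
  have := Fact.mk hm
  have hκ := hK'.2.1 _ hn (orderOf_dvd_natCard _ (pow_mem hk n))
  have hz' := mem_inf.mp (pow_mem hz m)
  exact (centralizer_pow_le z m).trans (KappaCentral.centralizer_le hG hH (hK'.1 (pow_mem hk n)) rfl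
    hκ.2.2.1 (rank_of_kappa hκ) hz'.1 rfl
    (mem_centralizer_iff.mp hz'.2 _ (pow_mem hk n))).2

theorem Member.eq_of_common (hG : IsMinSimpleOddOrder G) {H' : Subgroup G} (h : Member Z H)
    (h' : Member Z H') {p : ℕ} (hp : p ∈ sigma H) (hp' : p ∈ sigma H') : H' = H := by
  obtain ⟨g, rfl⟩ := conj_of_common hG h.1 h'.1 hp hp'
  obtain ⟨z, hz, hz1⟩ := (bot_or_exists_ne_one _).resolve_left (h.part_ne_bot hG)
  exact (mem_iff_conj_eq hG h.1).mp (h.mem_of_part hG hz hz1 (h'.le (mem_inf.mp hz).2))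

/-- The `σ(H)`-elements of `Z` lie in the part of `H`. -/
theorem Member.mem_part (hG : IsMinSimpleOddOrder G) (h : Member Z H) (hz : z ∈ Z)
    (hσ : IsPiEl (sigma H) z) : z ∈ sigmaCore H ⊓ Z :=
  mem_inf.mpr ⟨mem_core_of_piEl hG h.1 (h.le hz) hσ, hz⟩

/-- Every element of prime order of `Z` lies in some part. -/
theorem Member.exists_part (hG : IsMinSimpleOddOrder G) (h : Member Z H) (hz : z ∈ Z)
    (hzp : (orderOf z).Prime) : ∃ H' : Subgroup G, Member Z H' ∧ z ∈ sigmaCore H' ⊓ Z := by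
  have hiff : ∀ p : ℕ, p.Prime → p ∣ orderOf z → p = orderOf z := fun p hp hd =>
    (Nat.prime_dvd_prime_iff_eq hp hzp).mp hd
  by_cases hσ : orderOf z ∈ sigma H
  · exact ⟨H, h, h.mem_part hG hz fun p hp hd => hiff p hp hd ▸ hσ⟩
  · obtain ⟨hH, K', hK', hK'1, rfl⟩ := h
    have hzK := mem_K hK' hz fun p hp hd => by
      rw [Set.mem_ofPred_eq, hiff p hp hd]; exact hσ
    obtain ⟨H', hH', hzH', -, -, -⟩ := exists_side hG hH hK' hzK hzp
    exact ⟨H', hH', mem_inf.mpr ⟨hzH', hz⟩⟩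

theorem Member.inter (hG : IsMinSimpleOddOrder G) {H' : Subgroup G} (h : Member Z H)
    (h' : Member Z H') (hne : H' ≠ H) : H ⊓ H' = Z := by
  obtain ⟨z, hz, hz1⟩ := (bot_or_exists_ne_one _).resolve_left (h'.part_ne_bot hG)
  obtain ⟨n, hn⟩ := exists_prime_power hz1
  have hzn := pow_mem hz n
  have hσ' : orderOf (z ^ n) ∈ sigma H' := mem_sigma_core (mem_inf.mp hzn).1 _ hn dvd_rfl
  have hσ : orderOf (z ^ n) ∉ sigma H := fun hσ => hne (h.eq_of_common hG h' hσ hσ')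
  obtain ⟨hH, K', hK', hK'1, rfl⟩ := h
  have hzK := mem_K hK' (mem_inf.mp hzn).2 fun p hp hd => by
    rw [Set.mem_ofPred_eq, (Nat.prime_dvd_prime_iff_eq hp hn).mp hd]; exact hσ
  obtain ⟨L, hL, hzL, -, hint, -⟩ := exists_side hG hH hK' hzK hn
  rw [h'.eq_of_common hG hL hσ' (mem_sigma_core hzL _ hn dvd_rfl)] at hint
  exact hint

theorem Member.exists_other (hG : IsMinSimpleOddOrder G) (h : Member Z H) :
    ∃ H' : Subgroup G, Member Z H' ∧ H' ≠ H := by
  obtain ⟨hH, K', hK', hK'1, rfl⟩ := h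
  obtain ⟨k, hk, hk1⟩ := (bot_or_exists_ne_one K').resolve_left hK'1
  obtain ⟨n, hn⟩ := exists_prime_power hk1
  obtain ⟨H', hH', -, hne, -, -⟩ := exists_side hG hH hK' (pow_mem hk n) hn
  exact ⟨H', hH', fun e => hne 1 (by rw [Transfer.Fusion.map_conj_one, e])⟩

end Cfsg.Agent.OddLocal.PType
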