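import Cfsg.Agent.OddLocal.PTypeBasic
import Cfsg.Agent.OddLocal.SupportR
import Mathlib.Algebra.BigOperators.Ring.Finset

/-! Counting conjugates of `Ẑ` (BG 14.7). -/

set_option autoImplicit false
set_option linter.unusedSectionVars false

namespace Cfsg.Agent.OddLocal.PType

open Cfsg Subgroup KappaStructure SigmaParts
open Cfsg.Agent.Transfer.Fusion (map_conj_mul card_map_conj map_conj_one)

variable {G : Type*} [Group G] [Finite G] {M H H' K Z : Subgroup G} {u y z g : G}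

/-- `Z` minus the parts of the members. -/
def zhat (Z : Subgroup G) : Set G :=
  {z | z ∈ Z ∧ ∀ H : Subgroup G, Member Z H → z ∉ sigmaCore H}

theorem one_not_mem_zhat (h : Member Z H) : (1 : G) ∉ zhat Z := fun h1 => h1.2 H h (one_mem _)

/-- An element of `Ẑ` has powers of prime order in two different parts. -/
theorem zhat_two (hG : IsMinSimpleOddOrder G) (h : Member Z H) (hz : z ∈ zhat Z) :
    ∃ (H₁ H₂ : Subgroup G) (a b : ℕ), Member Z H₁ ∧ Member Z H₂ ∧ H₁ ≠ H₂ ∧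
      z ^ a ∈ sigmaCore H₁ ⊓ Z ∧ z ^ a ≠ 1 ∧ z ^ b ∈ sigmaCore H₂ ⊓ Z ∧ z ^ b ≠ 1 := by
  have hz1 : z ≠ 1 := fun e => one_not_mem_zhat h (e ▸ hz)
  have hpow : ∀ p : ℕ, p.Prime → p ∣ orderOf z → orderOf (z ^ (orderOf z / p)) = p := fun p _ hd =>
    orderOf_pow_orderOf_div (orderOf_pos z).ne' hd
  obtain ⟨p, hp, hd⟩ := Nat.exists_prime_and_dvd (mt orderOf_eq_one_iff.mp hz1)
  obtain ⟨H₁, h₁, hu⟩ := h.exists_part hG (pow_mem hz.1 _) ((hpow p hp hd).symm ▸ hp)
  have hnot : ¬ IsPiEl (sigma H₁) z := fun hπ => hz.2 H₁ h₁ (mem_inf.mp (h₁.mem_part hG hz.1 hπ)).1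
  unfold IsPiEl at hnot
  push Not at hnot
  obtain ⟨q, hq, hqd, hqσ⟩ := hnot
  obtain ⟨H₂, h₂, hv⟩ := h.exists_part hG (pow_mem hz.1 _) ((hpow q hq hqd).symm ▸ hq)
  refine ⟨H₁, H₂, _, _, h₁, h₂, ?_, hu, fun e => hp.ne_one (by rw [← hpow p hp hd, e, orderOf_one]),
    hv, fun e => hq.ne_one (by rw [← hpow q hq hqd, e, orderOf_one])⟩
  rintro rfl
  exact hqσ (mem_sigma_core (mem_inf.mp hv).1 q hq ((hpow q hq hqd).symm ▸ dvd_rfl))

/-- Elements moving an element of `Ẑ` into `Z` lie in `Z`. -/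
theorem mem_of_conj (hG : IsMinSimpleOddOrder G) (h : Member Z H) (hz : z ∈ zhat Z)
    (hg : g * z * g⁻¹ ∈ Z) : g ∈ Z := by
  obtain ⟨H₁, H₂, a, b, h₁, h₂, hne, hu, hu1, hv, hv1⟩ := zhat_two hG h hz
  have hmem : ∀ (L : Subgroup G) (n : ℕ), Member Z L → z ^ n ∈ sigmaCore L ⊓ Z → z ^ n ≠ 1 →
      g ∈ L := fun L n hL hn hn1 => by
    refine inv_mem_iff.mp (hL.mem_of_part hG hn hn1 ?_)
    rw [mem_conj_iff, inv_inv, ← conj_pow]
    exact hL.le (pow_mem hg n)
  rw [← h₁.inter hG h₂ hne.symm]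
  exact mem_inf.mpr ⟨hmem H₁ a h₁ hu hu1, hmem H₂ b h₂ hv hv1⟩

/-- `Z` normalises `Ẑ`. -/
theorem conj_mem_zhat (hz : z ∈ zhat Z) (hg : g ∈ Z) : g * z * g⁻¹ ∈ zhat Z :=
  ⟨mul_mem (mul_mem hg hz.1) (inv_mem hg), fun L hL h' => hz.2 L hL
    ((mem_normalizer_iff.mp (Sigma.le_normalizer_sigmaCore L (hL.le hg)) z).mpr h')⟩

/-- The conjugates of `Ẑ`. -/
def zhatConj (Z : Subgroup G) : Set G := {a | ∃ g : G, ∃ z ∈ zhat Z, a = g * z * g⁻¹}

theorem zhatConj_ncard (hG : IsMinSimpleOddOrder G) (h : Member Z H) :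
    Set.ncard (zhatConj Z) * Nat.card Z = Set.ncard (zhat Z) * Nat.card G := by
  classical
  set F : (G ⧸ Z) × zhat Z → G := fun p => p.1.out * (p.2 : G) * p.1.out⁻¹ with hF
  have hinj : Function.Injective F := by
    rintro ⟨q, a⟩ ⟨q', a'⟩ e
    have e' : q.out * (a : G) * q.out⁻¹ = q'.out * (a' : G) * q'.out⁻¹ := e
    have h1 : q'.out⁻¹ * q.out * (a : G) * (q'.out⁻¹ * q.out)⁻¹ = (a' : G) := by
      calc q'.out⁻¹ * q.out * (a : G) * (q'.out⁻¹ * q.out)⁻¹
          = q'.out⁻¹ * (q.out * (a : G) * q.out⁻¹) * q'.out := by group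
        _ = (a' : G) := by rw [e']; group
    have h2 := mem_of_conj hG h a.2 (by rw [h1]; exact a'.2.1)
    have hq : q' = q := by
      rw [← q.out_eq', ← q'.out_eq', QuotientGroup.eq]
      exact h2
    subst hq
    exact Prod.ext rfl (Subtype.ext (mul_left_cancel (mul_right_cancel e')))
  have himg : Set.range F = zhatConj Z := by
    refine Set.Subset.antisymm ?_ ?_
    · rintro _ ⟨⟨q, a⟩, rfl⟩
      exact ⟨q.out, a, a.2, rfl⟩
    · rintro _ ⟨g, a, ha, rfl⟩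
      have h1 : ((g : G ⧸ Z).out)⁻¹ * g ∈ Z := QuotientGroup.eq.mp (QuotientGroup.out_eq' _)
      refine ⟨((g : G ⧸ Z), ⟨_, conj_mem_zhat ha h1⟩), ?_⟩
      show (g : G ⧸ Z).out * ((g : G ⧸ Z).out⁻¹ * g * a * ((g : G ⧸ Z).out⁻¹ * g)⁻¹) *
        ((g : G ⧸ Z).out)⁻¹ = g * a * g⁻¹
      group
  rw [← himg, ← Set.image_univ, Set.ncard_image_of_injective _ hinj, Set.ncard_univ, Nat.card_prod,
    ← Subgroup.index, Nat.card_coe_set_eq, ← Z.card_mul_index]
  ring

/-- No conjugate of `Ẑ` meets a set `M̃`. -/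
theorem zhat_not_tilde (hG : IsMinSimpleOddOrder G) (h : Member Z H) (hM : IsCoatom M) (hz : z ∈ zhat Z)
    (g : G) : g * z * g⁻¹ ∉ tildeOf M ((sigmaCore M : Set G) \ {1}) := by
  intro hmem
  obtain ⟨a, ha, r, hr, w, hw⟩ := SupportR.mem_tilde.mp hmem
  have hz' : z ∈ tildeOf M ((sigmaCore M : Set G) \ {1}) := SupportR.mem_tilde.mpr
    ⟨a, ha, r, hr, g⁻¹ * w, by
      calc z = g⁻¹ * (g * z * g⁻¹) * g := by group
        _ = _ := by rw [hw]; group⟩
  obtain ⟨x, b, s, hb, hb1, hs, hzbs⟩ := SupportR.exists_base hG hM hz'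
  set M' := M.map (MulAut.conj x).toMonoidHom
  have hM' : IsCoatom M' := Unique.isCoatom_map_conj hM x
  obtain ⟨hbs, hsσ, -⟩ := SupportR.mem_cases hG hM' hb hb1 hs
  have hbz : b ∈ zpowers z := hzbs ▸ mem_zpowers_mul hbs (coprime_of_parts (mem_sigma_core hb) hsσ)
  have hbZ : b ∈ Z := zpowers_le.mpr hz.1 hbz
  obtain ⟨n, hn⟩ := exists_prime_power hb1
  obtain ⟨L, hL, hbL⟩ := h.exists_part hG (pow_mem hbZ n) hn
  have hp' : orderOf (b ^ n) ∈ sigma M' := mem_sigma_core (pow_mem hb n) _ hn dvd_rfl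
  have hpL : orderOf (b ^ n) ∈ sigma L := mem_sigma_core (mem_inf.mp hbL).1 _ hn dvd_rfl
  have hbpart : b ∈ sigmaCore L ⊓ Z :=
    hL.mem_part hG hbZ (sigma_eq_of_common hG hL.1 hM' hpL hp' ▸ mem_sigma_core hb)
  have hC := hL.centralizer_le hG hbpart hb1
  obtain ⟨g', hg'⟩ := conj_of_common hG hL.1 hM' hpL hp'
  have he := SupportR.eq_of_le hG hL.1 (mem_inf.mp hbpart).1 hC (g := g')
    (hg' ▸ Sigma.sigmaCore_le M' hb)
  rw [← hg'] at he
  rw [he, SupportR.supportR_of_le hC, mem_bot] at hs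
  rw [hs, mul_one] at hzbs
  exact hz.2 L hL (hzbs ▸ (mem_inf.mp hbpart).1)

/-- Some prime of `|H|` lies outside `σ(H) ∪ κ(H)`: `H` is not of type `P₁`. -/
def NotP1 (H : Subgroup G) : Prop :=
  ∃ t : ℕ, t.Prime ∧ t ∣ Nat.card H ∧ t ∉ sigma H ∧ t ∉ kappa H

theorem card_sup (hK : IsPiHallOf (kappa M) K M) :
    Nat.card ↥(K ⊔ star M K) = Nat.card K * Nat.card (star M K) :=
  Coprime.card_sup_of_disjoint (star_le_normalizer M K) (disjoint_iff.mpr (le_bot_iff.mp
    (le_trans (inf_le_inf_left _ inf_le_left) (KappaDecomp.inf_core_eq_bot hK).le)))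

theorem card_of_not_notP1 (hG : IsMinSimpleOddOrder G) (hM : IsCoatom M)
    (hK : IsPiHallOf (kappa M) K M) (h : ¬ NotP1 M) :
    Nat.card M = Nat.card (sigmaCore M) * Nat.card K := by
  have hn := Sigma.le_normalizer_sigmaCore M
  have hd : Disjoint (sigmaCore M) K := disjoint_iff.mpr (by
    rw [inf_comm]; exact KappaDecomp.inf_core_eq_bot hK)
  rw [← Coprime.card_sup_of_disjoint (hK.1.trans hn) hd]
  have hle : sigmaCore M ⊔ K ≤ M := sup_le (Sigma.sigmaCore_le M) hK.1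
  rw [le_antisymm hle (relIndex_eq_one.mp (Nat.eq_one_iff_not_exists_prime_dvd.mpr fun t ht htd => ?_))]
  have htM : t ∣ Nat.card M := by
    exact htd.trans ((sigmaCore M ⊔ K).subgroupOf M).index_dvd_card
  by_cases hσ : t ∈ sigma M
  · exact (Sigma.sigmaCore_hall hG hM).1.2.2 t ht hσ (htd.trans (relIndex_dvd_of_le_left M le_sup_left))
  · have hκ : t ∈ kappa M := by
      by_contra hκ
      exact h ⟨t, ht, htM, hσ, hκ⟩
    exact hK.2.2 t ht hκ (htd.trans (relIndex_dvd_of_le_left M le_sup_right))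

theorem three_mul_le (hG : IsMinSimpleOddOrder G) (hM : IsCoatom M) (hK : IsPiHallOf (kappa M) K M)
    (hK1 : K ≠ ⊥) : 3 * Nat.card ↥(K ⊔ star M K) ≤ Nat.card M := by
  set Z := K ⊔ star M K with hZ
  have hle : Z ≤ M := sup_le_M hK
  have hmul : Nat.card Z * Z.relIndex M = Nat.card M := by
    rw [← Nat.card_congr (subgroupOfEquivOfLe hle).toEquiv]
    exact card_mul_index (Z.subgroupOf M)
  have hodd : Odd (Z.relIndex M) := (Sigma.odd_card hG M).of_dvd_nat (hmul ▸ Dvd.intro_left _ rfl)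
  have hne1 : Z.relIndex M ≠ 1 := by
    intro e
    have h1 : star M K = sigmaCore M := by
      rw [← core_inf_sup hK, ← hZ, inf_eq_left]
      exact (Sigma.sigmaCore_le M).trans (relIndex_eq_one.mp e)
    obtain ⟨p, hp, hpd⟩ := Nat.exists_prime_and_dvd
      (fun e : Nat.card (star M K) = 1 => star_ne_bot hG hM hK hK1 (card_eq_one.mp e))
    obtain ⟨S⟩ : Nonempty (Sylow p (sigmaCore M)) := inferInstance
    exact ((S1431.result hG M hM K hK hK1).2.2.1 p hp hpd S).2.2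
      ((map_subtype_le _).trans h1.ge)
  have h3 : 3 ≤ Z.relIndex M := by
    obtain ⟨k, hk⟩ := hodd
    omega
  rw [← hmul, mul_comm 3]
  exact Nat.mul_le_mul_left _ h3

/-- For a member of type `P₁` the set `M̃` is large. -/
theorem tilde_bound (hG : IsMinSimpleOddOrder G) (h : Member Z H) (hP : ¬ NotP1 H) :
    Nat.card G * (3 * Nat.card ↥(sigmaCore H ⊓ Z)) ≤
      3 * (Set.ncard (tildeOf H ((sigmaCore H : Set G) \ {1})) * Nat.card Z) + Nat.card G := by
  obtain ⟨hH, K', hK', hK'1, rfl⟩ := h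
  rw [core_inf_sup hK', SupportR.tilde_ncard hG hH]
  have hS := card_of_not_notP1 hG hH hK' hP
  have h3 := three_mul_le hG hH hK' hK'1
  have hmul := H.card_mul_index
  rw [hS] at h3 hmul
  rw [card_sup hK'] at h3 ⊢
  obtain ⟨s, hs⟩ := Nat.exists_eq_add_of_le (Nat.card_pos : 1 ≤ Nat.card (sigmaCore H))
  rw [hs] at h3 hmul ⊢
  rw [Nat.add_sub_cancel_left, ← hmul]
  nlinarith [Nat.zero_le (Nat.card K' * Nat.card (star H K') * H.index),
    Nat.mul_le_mul_right H.index h3]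

theorem le_ncard_zhat (T : Finset (Subgroup G))
    (hT : ∀ L, L ∈ T ↔ Member Z L) :
    Nat.card Z + T.card ≤ Set.ncard (zhat Z) + 1 + ∑ L ∈ T, Nat.card ↥(sigmaCore L ⊓ Z) := by
  classical
  have := Fintype.ofFinite G
  have hsub : (Z : Set G) \ {1} ⊆
      zhat Z ∪ ↑(T.biUnion fun L => (((sigmaCore L ⊓ Z : Subgroup G) : Set G) \ {1}).toFinset) := by
    intro z hz
    by_cases hzh : z ∈ zhat Z
    · exact Or.inl hzh
    · refine Or.inr ?_
      simp only [zhat, Set.mem_ofPred_eq, not_and, not_forall, not_not] at hzh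
      obtain ⟨L, hL, hzL⟩ := hzh hz.1
      rw [Finset.mem_coe, Finset.mem_biUnion]
      exact ⟨L, (hT L).mpr hL, Set.mem_toFinset.mpr ⟨mem_inf.mpr ⟨hzL, hz.1⟩, hz.2⟩⟩
  have h1 := Set.ncard_le_ncard hsub (Set.toFinite _)
  have h2 := Set.ncard_union_le (zhat Z)
    ↑(T.biUnion fun L => (((sigmaCore L ⊓ Z : Subgroup G) : Set G) \ {1}).toFinset)
  have h3 : (T.biUnion fun L => (((sigmaCore L ⊓ Z : Subgroup G) : Set G) \ {1}).toFinset).card ≤
      ∑ L ∈ T, (((sigmaCore L ⊓ Z : Subgroup G) : Set G) \ {1}).toFinset.card := Finset.card_biUnion_le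
  have h4 : ∀ X : Subgroup G, ((X : Set G) \ {1}).ncard + 1 = Nat.card X := fun X => by
    rw [Set.ncard_sdiff_singleton_add_one (one_mem X) (Set.toFinite _), ← Nat.card_coe_set_eq]
    rfl
  have h5 : ∑ L ∈ T, (((sigmaCore L ⊓ Z : Subgroup G) : Set G) \ {1}).toFinset.card + T.card =
      ∑ L ∈ T, Nat.card ↥(sigmaCore L ⊓ Z) := by
    rw [Finset.card_eq_sum_ones, ← Finset.sum_add_distrib]
    exact Finset.sum_congr rfl fun L _ => by rw [← Set.ncard_eq_toFinset_card', h4]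
  rw [Set.ncard_coe_finset] at h2
  have h6 := h4 Z
  omega

/-- BG 14.7: some member is not of type `P₁`. -/
theorem exists_notP1 (hG : IsMinSimpleOddOrder G) (h : Member Z H) :
    ∃ L : Subgroup G, Member Z L ∧ NotP1 L := by
  classical
  by_contra hcon
  push Not at hcon
  have := Fintype.ofFinite G
  have := Fintype.ofFinite (Subgroup G)
  set T : Finset (Subgroup G) := Finset.univ.filter fun L => Member Z L
  have hT : ∀ L, L ∈ T ↔ Member Z L := fun L => by simp [T]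
  obtain ⟨H', h', hne⟩ := h.exists_other hG
  have hcard : 2 ≤ T.card :=
    Finset.one_lt_card.mpr ⟨H, (hT H).mpr h, H', (hT H').mpr h', hne.symm⟩
  have hlow := le_ncard_zhat T hT
  set f : Subgroup G → Set G := fun L => tildeOf L ((sigmaCore L : Set G) \ {1}) with hf
  have hdisj : ∀ L ∈ T, ∀ L' ∈ T, L ≠ L' → Disjoint (f L).toFinset (f L').toFinset := by
    intro L hL L' hL' hne
    rw [Set.disjoint_toFinset, Set.disjoint_iff_inter_eq_empty]
    refine SupportR.tilde_disjoint hG ((hT L).mp hL).1 ((hT L').mp hL').1 fun g e => hne ?_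
    obtain ⟨z, hz, hz1⟩ := (bot_or_exists_ne_one _).resolve_left (((hT L).mp hL).part_ne_bot hG)
    obtain ⟨n, hn⟩ := exists_prime_power hz1
    have hσ : orderOf (z ^ n) ∈ sigma L := mem_sigma_core (mem_inf.mp (pow_mem hz n)).1 _ hn dvd_rfl
    exact (((hT L).mp hL).eq_of_common hG ((hT L').mp hL') hσ (by rw [e, sigma_eq]; exact hσ)).symm
  have hsub : (T.biUnion fun L => (f L).toFinset) ∪ (zhatConj Z).toFinset ⊆
      Finset.univ.erase (1 : G) := by
    intro x hx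
    rw [Finset.mem_erase]
    refine ⟨?_, Finset.mem_univ _⟩
    rintro rfl
    rcases Finset.mem_union.mp hx with hx | hx
    · obtain ⟨L, hL, hx⟩ := Finset.mem_biUnion.mp hx
      obtain ⟨a, ha, r, hr, y, hy⟩ := SupportR.mem_tilde.mp (Set.mem_toFinset.mp hx)
      obtain ⟨hc, hrσ, -⟩ := SupportR.mem_cases hG ((hT L).mp hL).1 ha.1 ha.2 hr
      exact ha.2 (parts_unique hc (Commute.one_left _) (mem_sigma_core ha.1) hrσ (isPiEl_one _)
        (isPiEl_one _) (by rw [mul_one, conj_eq_one_iff.mp hy.symm]))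
    · obtain ⟨g, z, hz, he⟩ := Set.mem_toFinset.mp hx
      exact one_not_mem_zhat h (conj_eq_one_iff.mp he.symm ▸ hz)
  have hd2 : Disjoint (T.biUnion fun L => (f L).toFinset) (zhatConj Z).toFinset := by
    rw [Finset.disjoint_left]
    intro x hx hx'
    obtain ⟨L, hL, hx⟩ := Finset.mem_biUnion.mp hx
    obtain ⟨g, z, hz, rfl⟩ := Set.mem_toFinset.mp hx'
    exact zhat_not_tilde hG h ((hT L).mp hL).1 hz g (Set.mem_toFinset.mp hx)
  have hle := Finset.card_le_card hsub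
  rw [Finset.card_union_of_disjoint hd2, Finset.card_biUnion hdisj,
    Finset.card_erase_of_mem (Finset.mem_univ _), Finset.card_univ, ← Nat.card_eq_fintype_card,
    ← Set.ncard_eq_toFinset_card'] at hle
  simp only [← Set.ncard_eq_toFinset_card'] at hle
  set S := ∑ L ∈ T, Set.ncard (f L) with hSdef
  have hb : Nat.card G * (3 * ∑ L ∈ T, Nat.card ↥(sigmaCore L ⊓ Z)) ≤
      3 * (S * Nat.card Z) + T.card * Nat.card G := by
    have h1 : ∑ L ∈ T, Nat.card G * (3 * Nat.card ↥(sigmaCore L ⊓ Z)) ≤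
        ∑ L ∈ T, (3 * (Set.ncard (f L) * Nat.card Z) + Nat.card G) :=
      Finset.sum_le_sum fun L hL => tilde_bound hG ((hT L).mp hL) (hcon L ((hT L).mp hL))
    rwa [← Finset.mul_sum, ← Finset.mul_sum, Finset.sum_add_distrib, ← Finset.mul_sum,
      ← Finset.sum_mul, Finset.sum_const, smul_eq_mul] at h1
  set C := Set.ncard (zhatConj Z) with hC
  have hzc : C * Nat.card Z = Set.ncard (zhat Z) * Nat.card G := zhatConj_ncard hG h
  have hG1 : 0 < Nat.card G := Nat.card_pos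
  have hZ1 : 0 < Nat.card Z := Nat.card_pos
  have hle' : S + C < Nat.card G := by omega
  have h7 := Nat.mul_lt_mul_of_pos_right hle' hZ1
  have h8 := Nat.mul_le_mul_left (Nat.card G) hlow
  nlinarith [Nat.mul_le_mul_left (Nat.card G) hcard]

end Cfsg.Agent.OddLocal.PType
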