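import Cfsg.Agent.OddLocal.PartnerFrobenius
import Cfsg.Agent.OddLocal.RegularMain
import Cfsg.Agent.Lib.Transfer.CenterInf
import Cfsg.Agent.Lib.Frobenius.Basic

/-! With a neighbour of type `P₂`, `M` is a Frobenius group with cyclic complement (BG 14.12). -/

set_option autoImplicit false
set_option linter.unusedSectionVars false

namespace Cfsg.Agent.OddLocal.PartnerFrobenius

open Cfsg Subgroup KappaStructure SigmaParts PType PrimeAction
open TauTwo (centralizer_zpowers)
open scoped commutatorElement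
open Cfsg.Agent.Transfer.Fusion (map_conj_eq_self_iff card_map_conj map_conj_mul map_conj_inv_cancel)

variable {G : Type*} [Group G] [Finite G] {M N K U S E : Subgroup G} {x u : G}
variable (c : Setting M N K U S E x u)
include c

theorem Setting.coprime_core {r : ℕ} (hr : r.Prime) (hrσ : r ∉ sigma M) :
    (Nat.card (sigmaCore M)).Coprime r :=
  (hr.coprime_iff_not_dvd.mpr (Compl.not_dvd_sigmaCore hr hrσ)).symm

theorem Setting.solvable_core : Group.IsSolvable (sigmaCore M) :=
  Transitivity.isSolvable_of_ne_top c.P.hG fun e => c.hM.1 (top_le_iff.mp (e ▸ Sigma.sigmaCore_le M))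

theorem Setting.tau2_empty : tau2 M = ∅ := by
  by_contra hne
  obtain ⟨t, hτ⟩ := Set.nonempty_iff_ne_empty.mpr hne
  have hG := c.P.hG
  have := Fact.mk hτ.1
  have := Fact.mk c.P.hup
  obtain ⟨A, hAE, hA⟩ := SigmaCompl.exists_ctx hG c.hM c.hE hτ
  obtain ⟨-, ⟨hCA, hinf, -⟩, -⟩ := S1418.result hG M c.hM E c.hE t hτ A ⟨hAE, hA.hA.el, hA.hA.card⟩
  -- `u` centralises `A`
  have hAu : A ≤ centralizer ({u} : Set G) := by
    by_cases htu : t = orderOf u
    · exact hA.hA.le_centralizer_singleton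
        (hA.mem_of_pow c.hE hAE c.huE (htu ▸ pow_orderOf_eq_one u))
    have huA : zpowers u ≤ normalizer (A : Set G) :=
      zpowers_le.mpr (hA.le_normalizer_compl c.hE hAE c.huE)
    have hco : (Nat.card (zpowers u)).Coprime (Nat.card A) := by
      rw [Nat.card_zpowers, hA.hA.card]
      exact Nat.Coprime.pow_right _ ((Nat.coprime_primes c.P.hup hτ.1).mpr (Ne.symm htu))
    have hAc : IsMulCommutative A := hA.hA.comm
    set W := ⁅A, zpowers u⁆ with hWdef
    have hWA : W ≤ A := Cfsg.Agent.Coprime.commutator_le_of_le_normalizer huA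
    have hfpf : ∀ a ∈ W, Commute u a → a = 1 := fun a ha e => mem_bot.mp
      ((Cfsg.Agent.Coprime.inf_centralizer_inf_commutator huA hco).le (mem_inf.mpr
        ⟨mem_inf.mpr ⟨hWA ha, centralizer_zpowers u ▸ mem_centralizer_singleton_iff.mpr e.symm.eq⟩, ha⟩))
    have huW : u ∈ normalizer (W : Set G) :=
      mem_normalizer_iff_map_conj_eq.mpr (by
        rw [hWdef, map_commutator, mem_normalizer_iff_map_conj_eq.mp (huA (mem_zpowers u)),
          mem_normalizer_iff_map_conj_eq.mp (le_normalizer (mem_zpowers u))])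
    have hWC : W ≤ centralizer (sigmaCore M : Set G) :=
      FrobeniusFixGroup.le_centralizer_of_fpf (r := orderOf u) (pow_orderOf_eq_one u) huW hfpf
        c.solvable_core (c.coprime_core c.P.hup c.hpσ)
        (Nat.coprime_of_dvd fun s hs h1 h2 => by
          have := PType.eq_of_dvd_pow_card hs (hA.hA.isPGroup.to_le hWA) h2
          exact hτ.2.1 (this ▸ Transitivity.isPi_piCoreOf (sigma M) M s hs h1))
        (Sigma.le_normalizer_sigmaCore M c.huM)
        ((hWA.trans hA.hAM).trans (Sigma.le_normalizer_sigmaCore M))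
        (fun y hy e a _ => by
          have hy1 : y = 1 := mem_bot.mp (c.hreg ▸ mem_inf.mpr
            ⟨hy, mem_centralizer_singleton_iff.mpr e.symm.eq⟩)
          rw [hy1]; exact Commute.one_right a)
    have hW1 : W = ⊥ := eq_bot_iff.mpr fun a ha => mem_bot.mpr (c.eq_one_of_centralizes (hAE (hWA ha))
      (mem_centralizer_iff.mp (hWC ha) x c.hx).symm)
    have h1 := Cfsg.Agent.Coprime.commutator_eq_bot_iff_le_centralizer'.mp hW1
    rw [le_centralizer_iff] at h1
    exact h1.trans (centralizer_zpowers u).le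
  have hAS : A ≤ S := hAu.trans c.P.centralizer_u_le
  have hS := c.hS
  -- `t ∈ σ(S)`
  have htS : t ∈ sigma S := by
    by_contra htS
    have htτ : t ∈ tau2 S := ⟨hτ.1, htS, SigmaCompl.rank_le hG hS hτ.1 htS, fun h1 =>
      hA.hA.not_isCyclic (Compl.isCyclic_of_rankOne hG h1 hA.hA.isPGroup hAS)⟩
    exact c.P.u_ne (mem_bot.mp ((S1417.result hG S hS t htτ A ⟨hAS, hA.hA.el, hA.hA.card⟩).2.2.2.1 ▸
      mem_inf.mpr ⟨c.P.u_core, mem_centralizer_iff.mpr fun a ha =>
        mem_centralizer_singleton_iff.mp (hAu ha)⟩))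
  have hAσ : A ≤ sigmaCore S := Sigma.sylow_le_sigmaCore hG hS htS hA.hA.isPGroup hAS
  obtain ⟨US, hd⟩ := c.exists_decomposition_partner
  have hUS : US = ⊥ := by
    by_contra hUS
    obtain ⟨e, P'⟩ := P2.exists_gen hG (c.P.h.symm hG) hd hUS
    exact P'.not_tau2 htS c.hM hτ
  -- the Sylow subgroups at `t` are abelian
  obtain ⟨T₀, hT₀⟩ : ∃ T : Sylow t G, IsMulCommutative (T : Subgroup G) := by
    by_contra hcon
    obtain ⟨-, ⟨hc, -⟩, -⟩ := S1419.result hG M c.hM E c.hE t hτ (fun T h => hcon ⟨T, h⟩) A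
      ⟨hAE, hA.hA.el, hA.hA.card⟩
    obtain ⟨a, ha, ha1⟩ := (bot_or_exists_ne_one (A ⊓ centralizer (sigmaCore M : Set G))).resolve_left
      fun e => hτ.1.ne_one (by rw [← hc, e, card_bot])
    exact ha1 (c.eq_one_of_centralizes (hAE (mem_inf.mp ha).1)
      (mem_centralizer_iff.mp (mem_inf.mp ha).2 x c.hx).symm)
  have hCAE : centralizer (A : Set G) ≤ E := hCA.trans hinf.le
  have hku : sigmaCore S ⊓ centralizer (star N K : Set G) = K := c.star_eq
  by_cases hn : Group.IsNilpotent (sigmaCore S)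
  · -- then `S_σ` is abelian
    obtain ⟨T, hAT, hTS⟩ := Sigma.exists_sylow_ge htS hA.hA.isPGroup hAS
    obtain ⟨g, hg⟩ := MulAction.exists_smul_eq G T₀ T
    have hTc : ∀ a ∈ (T : Subgroup G), ∀ b ∈ (T : Subgroup G), a * b = b * a := fun a ha b hb => by
      rw [← hg, Sylow.coe_subgroup_smul, mem_pointwise_smul_iff_inv_smul_mem] at ha hb
      have h1 := hT₀.is_comm.comm ⟨_, ha⟩ ⟨_, hb⟩
      have h2 : g⁻¹ * a * g * (g⁻¹ * b * g) = g⁻¹ * b * g * (g⁻¹ * a * g) := by
        simpa [MulAut.smul_def] using congrArg Subtype.val h1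
      calc a * b = g * (g⁻¹ * a * g * (g⁻¹ * b * g)) * g⁻¹ := by group
        _ = g * (g⁻¹ * b * g * (g⁻¹ * a * g)) * g⁻¹ := by rw [h2]
        _ = b * a := by group
    have hTσ : (T : Subgroup G) ≤ sigmaCore S := Sigma.sylow_le_sigmaCore hG hS htS T.isPGroup' hTS
    have hσA : sigmaCore S ≤ centralizer (A : Set G) := by
      refine CN.le_of_forall_isPGroup fun r hr z hz hzr => ?_
      have := Fact.mk hr
      by_cases hrt : r = t
      · subst hrt
        have hzT : zpowers z ≤ (T : Subgroup G) := by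
          refine Compl.le_of_nilpotent_hall hn hTσ (zpowers_le.mpr hz) fun p hp hpd h2 => ?_
          rw [eq_of_dvd_pow_card hp hzr hpd] at h2
          exact T.not_dvd_index (h2.trans (relIndex_dvd_index_of_le hTσ))
        exact mem_centralizer_iff.mpr fun a ha => hTc a (hAT ha) z (hzT (mem_zpowers z))
      · refine mem_centralizer_iff.mpr fun a ha => ?_
        refine (CN.commute_of_mem hn (hAσ ha) hz (Nat.coprime_of_dvd fun p hp h1 h2 => hrt ?_)).eq
        have e1 := eq_of_dvd_pow_card hp hA.hA.isPGroup (h1.trans (orderOf_dvd_natCard A ha))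
        rw [← e1, eq_of_dvd_pow_card hp hzr (h2.trans (Nat.card_zpowers z).symm.dvd)]
    have hσE := hσA.trans hCAE
    have hab := SigmaCompl.nilpotent_comm hG c.hM (hσE.trans c.hE.1) hn fun r hr hd' =>
      Compl.not_sigma hG c.hM c.hE hr (hd'.trans (card_dvd_of_le hσE))
    have h1 := star_le_commutator_core hG hS hd hUS
    have h2 : ⁅sigmaCore S, sigmaCore S⁆ = ⊥ := commutator_eq_bot_iff_le_centralizer.mpr fun a ha =>
      mem_centralizer_iff.mpr fun b hb => congrArg Subtype.val (hab.is_comm.comm ⟨b, hb⟩ ⟨a, ha⟩)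
    rw [h2, c.star_eq] at h1
    exact c.P.h.hK1 (le_bot_iff.mp h1)
  · obtain ⟨q, Q, d⟩ := NonNilpotent.exists_core hG hS hd hn
    have hqu : q = orderOf u := by
      rw [← d.hc, hku, ← c.P.hKu, Nat.card_zpowers]
    have hβ := d.beta
    have htq : t ≠ q := fun e => (S1408.result hG M c.hM t hτ.2.1 hτ.2.2.1 hτ.2.2.2).1 (e ▸ hβ.2)
    have := Fact.mk d.hq
    have hqA : ¬ q ∣ Nat.card A := fun h => htq (eq_of_dvd_pow_card d.hq hA.hA.isPGroup h).symm
    have hAQ := core_centralizes hG hS hd hUS d (hku.ge c.P.hu) c.P.u_ne hAσ hqA hAu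
    have hQM : Q ≤ M := ((le_centralizer_iff.mp hAQ).trans hCAE).trans c.hE.1
    have hqS : q ∈ sigma S := Sigma.alpha_subset_sigma hG hS hβ.1
    obtain ⟨B, hBS, hBe, hBc⟩ := Unique.exists_elementary_of_not_pRankLE hβ.1.2
    have hBp := Components.Hyperplane.isPGroup hBe
    have hBσ : B ≤ sigmaCore S := Sigma.sylow_le_sigmaCore hG hS hqS hBp hBS
    have hBQ : B ≤ Q := fun b hb => KappaDecomp.mem_of_normal_coprime
      ((Sigma.sigmaCore_le S).trans d.normal) d.le (hBσ hb) (Nat.coprime_of_dvd fun p hp h1 h2 =>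
        d.index (eq_of_dvd_pow_card hp hBp (h1.trans (orderOf_dvd_natCard B hb)) ▸ h2))
    refine c.hpσ (hqu ▸ Sigma.alpha_subset_sigma hG c.hM ⟨d.hq, fun h => ?_⟩)
    have := Components.Hyperplane.isPGroup hBe
    have h3 := h (B.subgroupOf M) ⟨⟨fun a b => Subtype.ext (Subtype.ext
      (Components.Hyperplane.mem_comm hBe a.2 b.2))⟩⟩ fun a ha => Subtype.ext (hBe.2 _ ha)
    rw [Nat.card_congr (subgroupOfEquivOfLe (hBQ.trans hQM)).toEquiv, hBc] at h3
    exact absurd h3 (not_le.mpr (Nat.pow_lt_pow_right d.hq.one_lt (by norm_num)))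

/-- Away from `σ(M)` the rank is one. -/
theorem Setting.rank_one {r : ℕ} (hr : r.Prime) (hrσ : r ∉ sigma M) : PRankLE r 1 M := by
  by_contra h
  exact Set.eq_empty_iff_forall_notMem.mp c.tau2_empty r
    ⟨hr, hrσ, SigmaCompl.rank_le c.P.hG c.hM hr hrσ, h⟩

theorem Setting.not_sigma_elem {e : G} (he : e ∈ E) {r : ℕ} (hr : r.Prime) (hd : r ∣ orderOf e) :
    r ∉ sigma M :=
  Compl.not_sigma c.P.hG c.hM c.hE hr (hd.trans (orderOf_dvd_natCard E he))

/-- The complement acts regularly. -/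
theorem Setting.regular {e : G} (he : e ∈ E) (he1 : e ≠ 1) :
    sigmaCore M ⊓ centralizer ({e} : Set G) = ⊥ := by
  obtain ⟨n, hn⟩ := exists_prime_power he1
  by_contra hne
  obtain ⟨y, hy, hy1⟩ := (bot_or_exists_ne_one _).resolve_left hne
  have := Fact.mk hn
  have hen := pow_mem he n
  have hσ := c.not_sigma_elem hen hn dvd_rfl
  have hκ := mem_kappa c.P.hG (c.hE.1 hen) rfl hσ (c.rank_one hn hσ) (mem_inf.mp hy).1 hy1
    (((show Commute e y from (mem_centralizer_singleton_iff.mp (mem_inf.mp hy).2).symm).pow_left n).eq)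
  rw [c.hκ] at hκ
  exact hκ

/-- Elements of prime order of `E` normalising the same line lie in it. -/
theorem Setting.mem_line {v w : G} (hv : v ∈ E) (hw : w ∈ E) {r : ℕ} [hr : Fact r.Prime]
    (hvo : orderOf v = r) (hwo : orderOf w = r) (hn : v ∈ normalizer ((zpowers w : Subgroup G) : Set G)) :
    v ∈ zpowers w := by
  have hP := (isPGroup_of_card (KappaOver.card_zpowers_eq hvo)).to_sup_of_normal_right'
    (isPGroup_of_card (KappaOver.card_zpowers_eq hwo)) (zpowers_le.mpr hn)
  exact TauTwo.mem_zpowers_of_cyclic (Compl.isCyclic_of_rankOne c.P.hG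
    (c.rank_one hr.out (c.not_sigma_elem hw hr.out (hwo ▸ dvd_rfl))) hP
    (sup_le (zpowers_le.mpr (c.hE.1 hv)) (zpowers_le.mpr (c.hE.1 hw))))
    (mem_sup_right (mem_zpowers w)) (mem_sup_left (mem_zpowers v)) hwo (hvo ▸ pow_orderOf_eq_one v)

theorem Setting.normalizes_line {g : G} (hg : g ∈ E) :
    g ∈ normalizer ((zpowers u : Subgroup G) : Set G) := by
  obtain ⟨B, huB, hBE, hEB, hBc⟩ := c.hB
  have := Fact.mk c.P.hup
  have hgu : g * u * g⁻¹ ∈ B := (mem_normalizer_iff.mp (hEB hg) u).mp huB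
  have hgo : orderOf (g * u * g⁻¹) = orderOf u := (MulAut.conj g).orderOf_eq u
  have h1 : g * u * g⁻¹ ∈ zpowers u := c.mem_line (hBE hgu) c.huE hgo rfl
    (Signalizer.centralizer_le_normalizer_zpowers u (mem_centralizer_singleton_iff.mpr
      (congrArg Subtype.val (hBc.is_comm.comm ⟨_, hgu⟩ ⟨u, huB⟩) : _)))
  refine map_conj_eq_self_iff.mp (eq_of_le_of_card_ge ?_ (by rw [card_map_conj]))
  rw [MonoidHom.map_zpowers, zpowers_le]
  exact h1

/-- The complement centralises `u`. -/
theorem Setting.le_centralizer : E ≤ centralizer ({u} : Set G) := by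
  intro g hg
  have hG := c.P.hG
  have hsol : Group.IsSolvable ↥(centralizer ({u} : Set G)) :=
    Transitivity.isSolvable_of_ne_top hG fun e => c.hS.1 (top_le_iff.mp (e ▸ c.P.centralizer_u_le))
  have hPs := c.P.h.symm hG
  have hKsC : star N K ≤ centralizer ({u} : Set G) :=
    le_sup_right.trans (c.P.h.le_centralizer (mem_sup_left c.P.hu))
  have hhall : IsPiHallOf (kappa S) (star N K) (centralizer ({u} : Set G)) := by
    refine ⟨hKsC, c.P.h.hKs.2.1, fun p hp hπ hd => c.P.h.hKs.2.2 p hp hπ ?_⟩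
    rw [← relIndex_mul_relIndex (star N K) _ S hKsC c.P.centralizer_u_le]
    exact hd.mul_right _
  obtain ⟨m, hm, hle⟩ := exists_conj_le_hall_solvable hsol hhall
    (Y := (star N K).map (MulAut.conj g).toMonoidHom) (by
      rintro _ ⟨s, hs, rfl⟩
      obtain ⟨i, hi⟩ := mem_zpowers_iff.mp
        ((mem_normalizer_iff''.mp (c.normalizes_line hg) u).mp (mem_zpowers u))
      have hsu : Commute s (g⁻¹ * u * g) := by
        rw [← hi]
        exact (show Commute s u from mem_centralizer_singleton_iff.mp (hKsC hs)).zpow_right i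
      refine mem_centralizer_singleton_iff.mpr ?_
      show g * s * g⁻¹ * u = u * (g * s * g⁻¹)
      calc g * s * g⁻¹ * u = g * (s * (g⁻¹ * u * g)) * g⁻¹ := by group
        _ = g * (g⁻¹ * u * g * s) * g⁻¹ := by rw [hsu.eq]
        _ = u * (g * s * g⁻¹) := by group)
    fun p hp hd => c.P.h.hKs.2.1 p hp (by rwa [card_map_conj] at hd)
  have heq := eq_of_le_of_card_ge hle (by rw [card_map_conj, card_map_conj])
  have hmg : m⁻¹ * g ∈ normalizer (star N K : Set G) := by
    rw [← map_conj_eq_self_iff, map_conj_mul, heq, map_conj_inv_cancel]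
  obtain ⟨US, hd⟩ := c.exists_decomposition_partner
  have hdd := KappaDecomp.data_of hG c.hS hd hPs.hK1
  have hmem : m⁻¹ * g ∈ S ⊓ normalizer (star N K : Set G) :=
    mem_inf.mpr ⟨mul_mem (inv_mem (c.P.centralizer_u_le hm)) (c.hES hg), hmg⟩
  rw [hdd.normalizer_eq hG c.hS hPs.hK hPs.hK1] at hmem
  have hle2 : star N K ⊔ (sigmaCore S ⊓ centralizer (star N K : Set G)) ≤ centralizer ({u} : Set G) :=
    sup_le hKsC ((c.star_eq).le.trans (le_sup_left.trans (c.P.h.le_centralizer (mem_sup_left c.P.hu))))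
  simpa using mul_mem hm (hle2 hmem)

/-- An element of prime order of `E` normalising a line of `E` centralises it. -/
theorem Setting.commute_prime {a w : G} (ha : a ∈ E) (hap : (orderOf a).Prime) (hw : w ∈ E)
    (hwp : (orderOf w).Prime) (hn : a ∈ normalizer ((zpowers w : Subgroup G) : Set G)) : Commute a w := by
  by_contra hmove
  have := Fact.mk hap
  have := Fact.mk hwp
  have hfpf : ∀ y ∈ zpowers w, Commute a y → y = 1 := fun y hy e => by
    by_contra hy1
    obtain ⟨i, hi⟩ := mem_zpowers_iff.mp ((ZGroupCore.zpowers_eq_of_prime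
      (A := zpowers w) (by rwa [Nat.card_zpowers]) hy hy1).ge (mem_zpowers w))
    exact hmove (hi ▸ e.zpow_right i)
  have hwσ := c.not_sigma_elem hw hwp dvd_rfl
  have hWC := FrobeniusFixGroup.le_centralizer_of_fpf (r := orderOf a) (e := a) (Y := zpowers w)
    (pow_orderOf_eq_one a) hn hfpf c.solvable_core
    (c.coprime_core hap (c.not_sigma_elem ha hap dvd_rfl))
    (by rw [Nat.card_zpowers]; exact c.coprime_core hwp hwσ)
    (Sigma.le_normalizer_sigmaCore M (c.hE.1 ha))
    ((zpowers_le.mpr (c.hE.1 hw)).trans (Sigma.le_normalizer_sigmaCore M))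
    (fun y hy e b _ => by
      have hy1 : y = 1 := mem_bot.mp (c.regular ha (fun e1 => hap.ne_one (by rw [e1, orderOf_one])) ▸
        mem_inf.mpr ⟨hy, mem_centralizer_singleton_iff.mpr e.symm.eq⟩)
      rw [hy1]; exact Commute.one_right b)
  exact hwp.ne_one (orderOf_eq_one_iff.mpr (c.eq_one_of_centralizes hw
    (mem_centralizer_iff.mp (hWC (mem_zpowers w)) x c.hx).symm))

omit c

/-- If a commutator with an element of prime order lies in a subgroup avoiding it, they commute. -/
theorem commute_of_commutator_mem {a w : G} (hw : (orderOf w).Prime)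
    (hn : a ∈ normalizer ((zpowers w : Subgroup G) : Set G)) {X : Subgroup G}
    (hX : a * w * a⁻¹ * w⁻¹ ∈ X) (hwX : w ∉ X) : Commute a w := by
  by_contra hmove
  have h1 : a * w * a⁻¹ * w⁻¹ ∈ zpowers w :=
    mul_mem ((mem_normalizer_iff.mp hn w).mp (mem_zpowers w)) (inv_mem (mem_zpowers w))
  have h2 : a * w * a⁻¹ * w⁻¹ ≠ 1 := fun e => hmove (by
    show a * w = w * a
    exact mul_inv_eq_iff_eq_mul.mp (mul_inv_eq_one.mp e))
  exact hwX (zpowers_le.mp ((ZGroupCore.zpowers_eq_of_prime (A := zpowers w)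
    (by rwa [Nat.card_zpowers]) h1 h2).ge.trans (zpowers_le.mpr hX)) )

end Cfsg.Agent.OddLocal.PartnerFrobenius
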