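import Cfsg.Agent.OddLocal.PrimeAction

/-! Prime action: fixed points on `M_σ` (BG 13.3, 13.4). -/

set_option autoImplicit false
set_option linter.unusedSectionVars false

namespace Cfsg.Agent.OddLocal.PrimeAction

open Cfsg Subgroup
open scoped commutatorElement Pointwise
open TauTwo (Ctx centralizer_zpowers mem_zpowers_of_cyclic)
open Cfsg.Agent.Transfer.Fusion (map_conj_mul card_map_conj map_conj_eq_self_iff map_conj_inv_cancel
  map_conj_le_iff coe_smul_eq_map map_conj_one)

variable {G : Type*} [Group G] [Finite G] {M : Subgroup G} {p q r : ℕ} [hp : Fact p.Prime]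
  [hq : Fact q.Prime] [hr : Fact r.Prime]

/-- A Sylow subgroup of `L_α` has rank three. -/
theorem sylow_alpha_rank (hG : IsMinSimpleOddOrder G) {L : Subgroup G} (hL : IsCoatom L) (hα : p ∈ alpha L)
    (T₀ : Sylow p (alphaCore L)) :
    ¬ PRankLE p 2 ((T₀ : Subgroup (alphaCore L)).map (alphaCore L).subtype : Subgroup G) := by
  obtain ⟨B, hBL, hBe, hBc⟩ := Unique.exists_elementary_of_not_pRankLE hα.2
  have hBα : B ≤ alphaCore L := Sigma.le_alphaCore hG hL hBL fun s hs hd => by
    rwa [(Cores.isPi_iff_isPGroup B).mpr (Components.Hyperplane.isPGroup hBe) s hs hd]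
  obtain ⟨T₁, hBT⟩ := ((Components.Hyperplane.isPGroup hBe).comap_subtype
    (K := alphaCore L)).exists_le_sylow
  obtain ⟨a, ha⟩ := MulAction.exists_smul_eq (alphaCore L) T₁ T₀
  refine Unique.not_pRankLE_of_elementary (B := B.map (MulAut.conj (a : G)).toMonoidHom) ?_
    (PLocal.ThompsonSubgroup.IsElementaryAbelian.map hBe _) (by rw [card_map_conj, hBc])
  rintro _ ⟨b, hb, rfl⟩
  refine ⟨a * ⟨b, hBα hb⟩ * a⁻¹, ?_, rfl⟩
  rw [← ha, coe_smul_eq_map]
  exact ⟨_, hBT hb, rfl⟩

omit hp hq hr in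
theorem not_dvd_alphaCore (hr' : r.Prime) {L : Subgroup G} (h : r ∉ alpha L) :
    ¬ r ∣ Nat.card (alphaCore L) := fun hd => h (Transitivity.isPi_piCoreOf (alpha L) L r hr' hd)

/-- BG 13.4. -/
theorem main (hG : IsMinSimpleOddOrder G) (hM : IsCoatom M) (hpM : ¬ p ∣ Nat.card ↥⁅M, M⁆)
    (hpσ : p ∉ sigma M) (h1 : PRankLE p 1 M) {P R Y : Subgroup G} (hPM : P ≤ M) (hP : Nat.card P = p)
    (hRM : R ≤ M) (hR : Nat.card R = r) (hrσM : r ∉ sigma M) (hRP : R ≤ centralizer (P : Set G))
    (hY : IsPGroup q Y) (hYK : Y ≤ sigmaCore M) (hYP : Y ≤ centralizer (P : Set G))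
    (hRY : R ≤ normalizer (Y : Set G)) (hYR : ⁅Y, R⁆ = Y) : Y = ⊥ := by
  by_contra hY1
  obtain ⟨L, hL, hNP⟩ := exists_normalizer_le hG (ne_bot_of_card hP) hPM hM
  by_cases hqL : q ∉ sigma L
  · exact key hG hM hpM hpσ h1 hPM hP hR hrσM hRP hY hYK hYP hRY hYR hY1 hL hNP hqL
  rw [not_not] at hqL
  have hqM : q ∈ sigma M := Transitivity.isPi_piCoreOf (sigma M) M q hq.out
    ((dvd_card_of_ne_bot hY hY1).trans (card_dvd_of_le hYK))
  have hqp : q ≠ p := fun e => hpσ (e ▸ hqM)
  have hqr : q ≠ r := fun e => hrσM (e ▸ hqM)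
  have hne := not_conj hG hL hpσ h1 hP hNP
  have hCP : centralizer (P : Set G) ≤ L := (centralizer_le_normalizer _).trans hNP
  have hPL : P ≤ L := le_normalizer.trans hNP
  have hRL := hRP.trans hCP
  have hYL := hYP.trans hCP
  have hYM : Y ≤ M := hYK.trans (Sigma.sigmaCore_le M)
  have hYKL : Y ≤ sigmaCore L := Sigma.sylow_le_sigmaCore hG hL hqL hY hYL
  have hcommL := Sigma.sigmaCore_le_commutator hG hL
  have hrσ : r ∉ sigma L := fun h => not_dvd_commutator hG hM hL hne hqM hqL hY hY1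
    (by rw [← hYR]; exact commutator_mono hYKL (Sigma.sylow_le_sigmaCore hG hL h (isPGroup_of_card hR) hRL))
  have hnilL : ¬ Group.IsNilpotent (sigmaCore L) := fun h => by
    obtain ⟨g, hg⟩ := conj_of_nilpotent hG hM hL hqM hqL h
    exact hne g hg
  obtain ⟨E, hE⟩ := Compl.exists_compl hG hL
  have hpL : p ∈ sigma L := (mem_sigma_or_tau2 hG hL hP hNP).resolve_right fun hτ => by
    obtain ⟨A, -, h⟩ := SigmaCompl.exists_ctx hG hL hE hτ
    exact hnilL h.sigmaCore_nilpotent
  have hrτ : r ∉ tau2 L := fun hτ => by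
    obtain ⟨A, -, h⟩ := SigmaCompl.exists_ctx hG hL hE hτ
    exact hnilL h.sigmaCore_nilpotent
  have hrp : r ≠ p := fun e => hrσ (e ▸ hpL)
  have hβ : p ∈ beta L := mem_beta hG hM hL hne hqM hqL hpM h1
    ((dvd_card_of_ne_bot (isPGroup_of_card hP) (ne_bot_of_card hP)).trans (card_dvd_of_le
      ((Sigma.sylow_le_sigmaCore hG hL hpL (isPGroup_of_card hP) hPL).trans hcommL)))
  have hqαL : q ∉ alpha L := not_alpha hG hL hM (ne_symm hne) hqM
  have hqαM : q ∉ alpha M := not_alpha hG hM hL hne hqL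
  have : IsMulCommutative Y := comm_of_two_sigma hG hM hL hne hqM hqL hY
  have hfpf : ∀ z ∈ Y, z ∈ centralizer (R : Set G) → z = 1 := fun z hz hzR => by
    have h2 := Coprime.inf_centralizer_inf_commutator hRY
      (coprime_pgroups hqr hY (isPGroup_of_card hR)).symm
    rw [hYR] at h2
    exact mem_bot.mp (h2 ▸ mem_inf.mpr ⟨mem_inf.mpr ⟨hz, hzR⟩, hz⟩)
  -- the prime `r` lies in `τ₁(M)`
  have hr1 : PRankLE r 1 M := by_contra fun h2 => by
    obtain ⟨EM, hEM⟩ := Compl.exists_compl hG hM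
    obtain ⟨A, -, h⟩ := SigmaCompl.exists_ctx hG hM hEM
      ⟨hr.out, hrσM, SigmaCompl.rank_le hG hM hr.out hrσM, h2⟩
    obtain ⟨g, hg⟩ := conj_of_nilpotent hG hL hM hqL hqM h.sigmaCore_nilpotent
    exact ne_symm hne g hg
  have hrM : ¬ r ∣ Nat.card ↥⁅M, M⁆ := fun hd => by
    obtain ⟨S, hRS⟩ := ((isPGroup_of_card hR).comap_subtype (K := M)).exists_le_sylow
    obtain ⟨x, hx⟩ := exists_prime_orderOf_dvd_card' r hd
    have hxM : (x : G) ∈ M := commutator_le_self M x.2
    have hxr : (x : G) ^ r = 1 := by rw [← orderOf_dvd_iff_pow_eq_one, orderOf_coe, hx]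
    obtain ⟨S₁, hxS⟩ := (RegularPart.isPGroup_zpowers (k := 1) (x := (⟨x, hxM⟩ : M)) (q := r)
      (Subtype.ext (by rw [pow_one]; exact hxr))).exists_le_sylow
    obtain ⟨a, ha⟩ := MulAction.exists_smul_eq M S₁ S
    set z : G := (a : G) * x * (a : G)⁻¹ with hz
    have hzS : z ∈ (S : Subgroup M).map M.subtype := by
      refine ⟨a * ⟨x, hxM⟩ * a⁻¹, ?_, rfl⟩
      rw [← ha, coe_smul_eq_map]
      exact ⟨_, hxS (mem_zpowers _), rfl⟩
    have hzo : orderOf z = r := by
      rw [hz]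
      exact (orderOf_injective (MulAut.conj (a : G)).toMonoidHom (MulAut.conj (a : G)).injective
        (x : G)).trans ((orderOf_coe x).trans hx)
    have hzC : z ∈ ⁅M, M⁆ :=
      (mem_normalizer_iff.mp (Coprime.le_normalizer_commutator_self le_normalizer a.2) _).mp x.2
    have hRC : R ≤ ⁅M, M⁆ := fun e he => by
      refine (zpowers_le.mpr hzC) (mem_zpowers_of_cyclic
        (Compl.isCyclic_of_rankOne hG hr1 (S.isPGroup'.map M.subtype) (map_subtype_le _)) hzS
        ⟨⟨e, hRM he⟩, hRS he, rfl⟩ hzo ?_)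
      exact orderOf_dvd_iff_pow_eq_one.mp (hR ▸ R.orderOf_dvd_natCard he)
    refine hY1 ?_
    rw [← hYR, commutator_eq_bot_iff]
    refine le_centralizer_iff.mp (le_centralizer_of_not_beta hG hM hqr.symm (fun hb => hqαM hb.1) hY
      (isPGroup_of_card hR) (hYK.trans (Sigma.sigmaCore_le_commutator hG hM)) hRC hRY)
  -- the prime `s` of `α(M)`
  have hαne := alphaCore_ne_bot hG hM hL hne hqM hqL
  obtain ⟨s, hs, hsd⟩ := Nat.exists_prime_and_dvd (fun e => hαne (card_eq_one.mp e))
  have := Fact.mk hs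
  have hsα : s ∈ alpha M := Transitivity.isPi_piCoreOf (alpha M) M s hs hsd
  have hsL : s ∉ sigma L := fun h => not_alpha hG hM hL hne h hsα
  have hPR : P ≤ normalizer (R : Set G) :=
    (le_centralizer_iff.mp hRP).trans (centralizer_le_normalizer _)
  have hPN : P ≤ normalizer ((Y ⊔ R : Subgroup G) : Set G) :=
    (le_centralizer_iff.mp (sup_le hYP hRP)).trans (centralizer_le_normalizer _)
  have hUM : Y ⊔ R ⊔ P ≤ M := sup_le (sup_le hYM hRM) hPM
  have hU₀card : ∀ t : ℕ, t.Prime → t ∣ Nat.card (Y ⊔ R : Subgroup G) → t = q ∨ t = r := fun t ht hd => by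
    rcases ht.dvd_mul.mp (hd.trans (RegularMain.card_sup_dvd hRY)) with h | h
    · exact Or.inl ((Cores.isPi_iff_isPGroup Y).mpr hY t ht h)
    · exact Or.inr ((Nat.prime_dvd_prime_iff_eq ht hr.out).mp (hR ▸ h))
  have hcopM : (Nat.card (Y ⊔ R ⊔ P : Subgroup G)).Coprime (Nat.card (alphaCore M)) :=
    Nat.coprime_of_dvd fun t ht hd1 hd2 => by
      rcases ht.dvd_mul.mp (hd1.trans (RegularMain.card_sup_dvd hPN)) with h | h
      · rcases hU₀card t ht h with rfl | rfl
        · exact not_dvd_alphaCore ht hqαM hd2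
        · exact not_dvd_alphaCore ht (fun h' => hrσM (Sigma.alpha_subset_sigma hG hM h')) hd2
      · obtain rfl := (Nat.prime_dvd_prime_iff_eq ht hp.out).mp (hP ▸ h)
        exact not_dvd_alphaCore ht (fun h' => hpσ (Sigma.alpha_subset_sigma hG hM h')) hd2
  obtain ⟨T₁, hUT₁⟩ := Coprime.exists_invariant_sylow s
    (hUM.trans (Sigma.le_normalizer_alphaCore M)) hcopM
    (Or.inl (Coprime.isSolvable_of_le hUM (Transitivity.isSolvable_of_ne_top hG hM.1)))
  set TM := (T₁ : Subgroup (alphaCore M)).map (alphaCore M).subtype with hTM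
  have hTMK : TM ≤ sigmaCore M := (map_subtype_le _).trans (Sigma.alphaCore_le_sigmaCore hG hM)
  have hTMp : IsPGroup s TM := T₁.isPGroup'.map _
  have hYTM : Y ≤ normalizer (TM : Set G) := le_sup_left.trans (le_sup_left.trans hUT₁)
  have hRTM : R ≤ normalizer (TM : Set G) := le_sup_right.trans (le_sup_left.trans hUT₁)
  have hPTM : P ≤ normalizer (TM : Set G) := le_sup_right.trans hUT₁
  have hsσM : s ∈ sigma M := Sigma.alpha_subset_sigma hG hM hsα
  have hsr : s ≠ r := fun e => hrσM (e ▸ hsσM)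
  have hsp : s ≠ p := fun e => hpσ (e ▸ hsσM)
  set C := TM ⊓ centralizer (R : Set G) with hC
  have hPC : P ≤ centralizer (C : Set G) := by
    have hPCn : P ≤ normalizer (C : Set G) :=
      (le_inf hPTM (hPR.trans (CharP.normalizer_le_normalizer_centralizer _))).trans
        inf_normalizer_le_normalizer_inf
    have hCp : IsPGroup s C := hTMp.to_le inf_le_left
    rw [← commutator_eq_bot_iff]
    by_contra hC1
    have hle : ⁅C, P⁆ ≤ C := Coprime.commutator_le_of_le_normalizer hPCn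
    obtain ⟨H, hH, hNR⟩ := exists_normalizer_le hG (ne_bot_of_card hR) hRM hM
    refine key hG hM hrM hrσM hr1 hRM hR hP hpσ (le_centralizer_iff.mp hRP) (hCp.to_le hle)
      (hle.trans (inf_le_left.trans hTMK)) (hle.trans inf_le_right)
      (normalizer_commutator_ge_right C P) ?_ hC1 hH hNR fun h => ?_
    · exact Coprime.commutator_commutator_eq hPCn (coprime_pgroups hsp hCp (isPGroup_of_card hP)).symm
        (Or.inr (Coprime.isSolvable_of_isPGroup hCp))
    · exact not_alpha hG hM hH (not_conj hG hH hrσM hr1 hR hNR) h hsα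
  have hYC : Y ≤ centralizer ((TM ⊓ centralizer (P : Set G) : Subgroup G) : Set G) := by
    set D := TM ⊓ centralizer (P : Set G) with hD
    have hYD : Y ≤ normalizer (D : Set G) :=
      (le_inf hYTM (hYP.trans le_normalizer)).trans inf_normalizer_le_normalizer_inf
    rw [← commutator_eq_bot_iff]
    refine le_bot_iff.mp ((le_inf (Coprime.commutator_le_of_le_normalizer hYD)
      ((commutator_mono le_rfl hYKL).trans ?_)).trans
      (Coprime.disjoint_of_coprime (N := D) (H := sigmaCore L) ?_).le_bot)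
    · rw [commutator_comm]
      exact Coprime.commutator_le_of_le_normalizer
        ((inf_le_right.trans hCP).trans (Sigma.le_normalizer_sigmaCore L))
    · obtain ⟨n, hn⟩ := (hTMp.to_le (inf_le_left : D ≤ TM)).exists_card_eq
      rw [hn]
      exact (hs.coprime_iff_not_dvd.mpr (Compl.not_dvd_sigmaCore hs hsL)).pow_left n
  obtain ⟨e, he, -, her, hRe⟩ := exists_zpowers_eq hR
  have hYTM' : Y ≤ centralizer (TM : Set G) := by
    refine FrobeniusFixGroup.le_centralizer_of_fpf her (hRY he)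
      (fun y hy hey => hfpf y hy (hRe ▸ ?_)) (Coprime.isSolvable_of_isPGroup hTMp)
      (hR ▸ coprime_pgroups (p := r) (q := s) hsr hTMp (isPGroup_of_card hR))
      (coprime_pgroups (p := q) (q := s) (fun e => hqαM (e ▸ hsα)) hTMp hY) (hRTM he) hYTM ?_
    · exact centralizer_zpowers e ▸ mem_centralizer_singleton_iff.mpr hey.symm.eq
    intro x hx hex y hy
    have hxR : x ∈ centralizer (R : Set G) :=
      hRe ▸ centralizer_zpowers e ▸ mem_centralizer_singleton_iff.mpr hex.symm.eq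
    exact (mem_centralizer_iff.mp (hYC hy) x (mem_inf.mpr
      ⟨hx, (le_centralizer_iff.mp hPC) (mem_inf.mpr ⟨hx, hxR⟩)⟩)).symm
  -- the prime `p` of `β(L)`
  have hPα : P ≤ alphaCore L := Sigma.le_alphaCore hG hL hPL fun t ht hd => by
    rw [(Nat.prime_dvd_prime_iff_eq ht hp.out).mp (hP ▸ hd)]; exact hβ.1
  have hcopL : (Nat.card (Y ⊔ R : Subgroup G)).Coprime (Nat.card (alphaCore L)) :=
    Nat.coprime_of_dvd fun t ht hd1 hd2 => by
      rcases hU₀card t ht hd1 with rfl | rfl
      · exact not_dvd_alphaCore ht hqαL hd2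
      · exact not_dvd_alphaCore ht (fun h' => hrσ (Sigma.alpha_subset_sigma hG hL h')) hd2
  obtain ⟨T₂, hPT, hUT₂⟩ := Coprime.exists_invariant_sylow_ge
    ((sup_le hYL hRL).trans (Sigma.le_normalizer_alphaCore L)) hcopL
    (Or.inl (Coprime.isSolvable_of_le (sup_le hYL hRL) (Transitivity.isSolvable_of_ne_top hG hL.1)))
    hPα (isPGroup_of_card hP) ((sup_le hYP hRP).trans (centralizer_le_normalizer _))
  have hYTL := frob hG hL hβ hrσ hrτ hqp hrp hP hR hRL hRP hY hYP hRY hfpf (T₂.isPGroup'.map _) hPT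
    (le_sup_left.trans hUT₂) (le_sup_right.trans hUT₂)
  -- one centraliser contains rank three subgroups of both
  obtain ⟨y, hy, hy1⟩ := (bot_or_exists_ne_one Y).resolve_left hY1
  obtain ⟨H, hH, hCy⟩ := (eq_top_or_exists_le_coatom (centralizer ({y} : Set G))).resolve_left
    (Max2.centralizer_ne_top hG hy1)
  have hin : ∀ {X : Subgroup G}, Y ≤ centralizer (X : Set G) → X ≤ H := fun {X} hX => le_trans
    (fun t ht => mem_centralizer_singleton_iff.mpr (mem_centralizer_iff.mp (hX hy) t ht)) hCy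
  obtain ⟨g₁, hg₁⟩ := conj_of_rankThree hG hM hH hsα.2 fun h =>
    sylow_alpha_rank hG hM hsα T₁ (RankTwoFitting.pRankLE_mono (hin hYTM') h)
  obtain ⟨g₂, hg₂⟩ := conj_of_rankThree hG hL hH hβ.1.2 fun h =>
    sylow_alpha_rank hG hL hβ.1 T₂ (RankTwoFitting.pRankLE_mono (hin hYTL) h)
  refine hne (g₂⁻¹ * g₁) ?_
  rw [map_conj_mul, ← hg₁, hg₂, map_conj_inv_cancel]

/-- BG 13.4: `C_{M_σ}(P) ≤ C(R)`. -/
theorem le_centralizer_of_tau1 (hG : IsMinSimpleOddOrder G) (hM : IsCoatom M)
    (hpM : ¬ p ∣ Nat.card ↥⁅M, M⁆) (hpσ : p ∉ sigma M) (h1 : PRankLE p 1 M) {P R : Subgroup G}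
    (hPM : P ≤ M) (hP : Nat.card P = p) (hRM : R ≤ M) (hR : Nat.card R = r) (hrσ : r ∉ sigma M)
    (hRP : R ≤ centralizer (P : Set G)) :
    sigmaCore M ⊓ centralizer (P : Set G) ≤ centralizer (R : Set G) := by
  set C := sigmaCore M ⊓ centralizer (P : Set G) with hC
  have hRN : R ≤ normalizer (P : Set G) := hRP.trans (centralizer_le_normalizer _)
  have hRC : R ≤ normalizer (C : Set G) :=
    (le_inf (hRM.trans (Sigma.le_normalizer_sigmaCore M))
      (hRN.trans (CharP.normalizer_le_normalizer_centralizer _))).trans inf_normalizer_le_normalizer_inf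
  have hcop : (Nat.card R).Coprime (Nat.card C) :=
    (hR ▸ hr.out.coprime_iff_not_dvd.mpr (Compl.not_dvd_sigmaCore hr.out hrσ)).coprime_dvd_right
      (card_dvd_of_le inf_le_left)
  rw [← subgroupOf_eq_top]
  refine Cores.eq_top_of_sylow_le fun t ht hd => ?_
  have := Fact.mk ht
  obtain ⟨Q, hRQ⟩ := Coprime.exists_invariant_sylow t hRC hcop
    (Or.inl (Coprime.isSolvable_of_isPGroup (isPGroup_of_card hR)))
  set Q' := (Q : Subgroup C).map C.subtype with hQ'
  have hQC : Q' ≤ C := map_subtype_le _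
  have hQp : IsPGroup t Q' := Q.isPGroup'.map _
  have hle : ⁅Q', R⁆ ≤ Q' := Coprime.commutator_le_of_le_normalizer hRQ
  have hbot : ⁅Q', R⁆ = ⊥ := main hG hM hpM hpσ h1 hPM hP hRM hR hrσ hRP (hQp.to_le hle)
    (hle.trans (hQC.trans inf_le_left)) (hle.trans (hQC.trans inf_le_right))
    (normalizer_commutator_ge_right Q' R)
    (Coprime.commutator_commutator_eq hRQ (hcop.coprime_dvd_right (card_dvd_of_le hQC))
      (Or.inl (Coprime.isSolvable_of_isPGroup (isPGroup_of_card hR))))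
  exact ⟨Q, fun y hy => mem_subgroupOf.mpr
    (le_centralizer_iff.mp (commutator_eq_bot_iff.mp hbot) (mem_map_of_mem _ hy))⟩

/-- BG 13.3: a cyclic `p`-subgroup centralises the fixed points of its subgroup of order `p`. -/
theorem le_centralizer_of_cyclic (hG : IsMinSimpleOddOrder G) (hM : IsCoatom M) (hpσ : p ∉ sigma M)
    (h1 : PRankLE p 1 M) {X S : Subgroup G} (hX : Nat.card X = p) (hS : IsPGroup p S) (hSc : IsCyclic S)
    (hXS : X ≤ S) (hSM : S ≤ M) :
    sigmaCore M ⊓ centralizer (X : Set G) ≤ centralizer (S : Set G) := by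
  set C := sigmaCore M ⊓ centralizer (X : Set G) with hC
  obtain ⟨L, hL, hNX⟩ := exists_normalizer_le hG (ne_bot_of_card hX) (hXS.trans hSM) hM
  have : IsMulCommutative S := IsCyclic.isMulCommutative
  have hSX : S ≤ normalizer (X : Set G) := le_trans (fun y hy => mem_centralizer_iff.mpr fun x hx =>
    setLike_mul_comm (hXS hx) hy) (centralizer_le_normalizer _)
  have hSC : S ≤ normalizer (C : Set G) :=
    (le_inf (hSM.trans (Sigma.le_normalizer_sigmaCore M))
      (hSX.trans (CharP.normalizer_le_normalizer_centralizer _))).trans inf_normalizer_le_normalizer_inf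
  have hcop : (Nat.card S).Coprime (Nat.card C) := by
    obtain ⟨n, hn⟩ := hS.exists_card_eq
    rw [hn]
    exact ((hp.out.coprime_iff_not_dvd.mpr (Compl.not_dvd_sigmaCore hp.out hpσ)).pow_left n).coprime_dvd_right
      (card_dvd_of_le inf_le_left)
  rw [← subgroupOf_eq_top]
  refine Cores.eq_top_of_sylow_le fun t ht hd => ?_
  have := Fact.mk ht
  obtain ⟨Q, hSQ⟩ := Coprime.exists_invariant_sylow t hSC hcop
    (Or.inl (Coprime.isSolvable_of_isPGroup hS))
  set Q' := (Q : Subgroup C).map C.subtype with hQ'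
  have hQC : Q' ≤ C := map_subtype_le _
  have htσ : t ∈ sigma M := Transitivity.isPi_piCoreOf (sigma M) M t ht (hd.trans (card_dvd_of_le inf_le_left))
  have h := centralizes hG hM hL hpσ h1 hX hNX hS hSc hXS htσ (Q.isPGroup'.map _)
    (hQC.trans (inf_le_right.trans ((centralizer_le_normalizer _).trans hNX))) hSQ
  exact ⟨Q, fun y hy => mem_subgroupOf.mpr (le_centralizer_iff.mp h (mem_map_of_mem _ hy))⟩

end Cfsg.Agent.OddLocal.PrimeAction
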