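import Cfsg.Agent.Base.RecEqns
import Cfsg.Prelude.Def_OddOrderLocal
import Cfsg.Agent.OddLocal.Puig

/-! The Puig series of a subgroup, as subgroups of the ambient group. -/

set_option autoImplicit false

namespace Cfsg.Agent.OddLocal.Puig

open Subgroup

variable {G H : Type*} [Group G] [Group H]

/-- The `n`-th term of the Puig series of `P`, in the ambient group. -/
def seqOf (P : Subgroup G) (n : ℕ) : Subgroup G := (Cfsg.puigSeq P n).map P.subtype

/-- `L_*(P)` in the ambient group. -/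
def lowOf (P : Subgroup G) : Subgroup G := (Cfsg.puigLower P).map P.subtype

/-- `L(P)` in the ambient group. -/
def upOf (P : Subgroup G) : Subgroup G := (Cfsg.puigSubgroup P).map P.subtype

theorem seqOf_le (P : Subgroup G) (n : ℕ) : seqOf P n ≤ P := map_subtype_le _

theorem seqOf_zero (P : Subgroup G) : seqOf P 0 = ⊥ := by
  rw [seqOf, puigSeq_zero, Subgroup.map_bot]

theorem seqOf_one (P : Subgroup G) : seqOf P 1 = P := by
  rw [seqOf, puigSeq_one, ← MonoidHom.range_eq_map, range_subtype]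

theorem le_seqOf_succ {P A : Subgroup G} {n : ℕ} (hAP : A ≤ P) (hA : IsMulCommutative A)
    (hN : seqOf P n ≤ normalizer (A : Set G)) : A ≤ seqOf P (n + 1) := by
  rw [seqOf, ← map_subgroupOf_eq_of_le hAP]
  refine map_mono (le_puigStep ?_ ?_)
  · exact ⟨⟨fun a b => Subtype.ext (Subtype.ext (setLike_mul_comm
      (mem_subgroupOf.mp a.2) (mem_subgroupOf.mp b.2)))⟩⟩
  · intro u hu
    rw [mem_normalizer_iff]
    intro x
    simp only [mem_subgroupOf, Subgroup.coe_mul, Subgroup.coe_inv]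
    exact mem_normalizer_iff.mp (hN ⟨u, hu, rfl⟩) (x : G)

theorem seqOf_succ_le {P X : Subgroup G} {n : ℕ}
    (h : ∀ A : Subgroup G, A ≤ P → IsMulCommutative A → seqOf P n ≤ normalizer (A : Set G) → A ≤ X) :
    seqOf P (n + 1) ≤ X := by
  rw [seqOf, puigSeq_succ, Cfsg.puigStep, map_le_iff_le_comap]
  refine sSup_le fun A hA => map_le_iff_le_comap.mp (h (A.map P.subtype) (map_subtype_le _) ?_ ?_)
  · have := hA.1
    exact ⟨⟨fun a b => by
      obtain ⟨x, hx, hx'⟩ := a.2
      obtain ⟨y, hy, hy'⟩ := b.2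
      apply Subtype.ext
      show (a : G) * b = b * a
      rw [← hx', ← hy', ← map_mul, ← map_mul, setLike_mul_comm hx hy]⟩⟩
  · exact (map_mono hA.2).trans (le_normalizer_map _)

/-- The Puig series commutes with homomorphisms injective on `P`. -/
theorem seqOf_map {f : G →* H} {P : Subgroup G} (hf : Set.InjOn f P) :
    ∀ n, seqOf (P.map f) n = (seqOf P n).map f
  | 0 => by rw [seqOf_zero, seqOf_zero, Subgroup.map_bot]
  | n + 1 => by
    refine le_antisymm (seqOf_succ_le fun A hAP hA hN => ?_) ?_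
    · have e : (A.comap f ⊓ P).map f = A := by
        refine le_antisymm (map_le_iff_le_comap.mpr inf_le_left) fun a ha => ?_
        obtain ⟨x, hx, rfl⟩ := hAP ha
        exact ⟨x, ⟨ha, hx⟩, rfl⟩
      rw [← e]
      refine map_mono (le_seqOf_succ inf_le_right ?_ fun u hu => ?_)
      · exact ⟨⟨fun a b => Subtype.ext (hf (mul_mem a.2.2 b.2.2) (mul_mem b.2.2 a.2.2) (by
          simp only [Subgroup.coe_mul, map_mul]; exact setLike_mul_comm (s := A) a.2.1 b.2.1))⟩⟩
      · have huP := seqOf_le P n hu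
        have hfu := hN (show f u ∈ seqOf (P.map f) n from seqOf_map hf n ▸ ⟨u, hu, rfl⟩)
        rw [mem_normalizer_iff]
        intro x
        simp only [mem_inf, mem_comap, map_mul, map_inv]
        refine and_congr (mem_normalizer_iff.mp hfu (f x)) ?_
        exact mem_normalizer_iff.mp (le_normalizer huP) x
    · rw [map_le_iff_le_comap]
      refine seqOf_succ_le fun A hAP hA hN => map_le_iff_le_comap.mp
        (le_seqOf_succ (map_mono hAP) ?_ ?_)
      · exact ⟨⟨fun a b => by
          obtain ⟨x, hx, hx'⟩ := a.2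
          obtain ⟨y, hy, hy'⟩ := b.2
          apply Subtype.ext
          show (a : H) * b = b * a
          rw [← hx', ← hy', ← map_mul, ← map_mul, setLike_mul_comm hx hy]⟩⟩
      · rw [seqOf_map hf n]
        exact (map_mono hN).trans (le_normalizer_map _)

theorem normalizer_le_seqOf (P : Subgroup G) (n : ℕ) :
    normalizer (P : Set G) ≤ normalizer (seqOf P n : Set G) := by
  intro g hg
  rw [mem_normalizer_iff_map_conj_eq] at hg ⊢
  conv_rhs => rw [← hg]
  rw [seqOf_map (MulAut.conj g).injective.injOn]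

theorem stableOf [Finite G] (P : Subgroup G) : ∃ k : ℕ, ∀ n : ℕ, k ≤ n →
    seqOf P (2 * n) = lowOf P ∧ seqOf P (2 * n + 1) = upOf P := by
  obtain ⟨k, hk⟩ := stable (G := P)
  exact ⟨k, fun n hn => ⟨congrArg (Subgroup.map P.subtype) (hk n hn).1,
    congrArg (Subgroup.map P.subtype) (hk n hn).2⟩⟩

theorem normalizer_le_lowOf [Finite G] (P : Subgroup G) :
    normalizer (P : Set G) ≤ normalizer (lowOf P : Set G) := by
  obtain ⟨k, hk⟩ := stableOf P
  rw [← (hk k le_rfl).1]
  exact normalizer_le_seqOf P _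

theorem normalizer_le_upOf [Finite G] (P : Subgroup G) :
    normalizer (P : Set G) ≤ normalizer (upOf P : Set G) := by
  obtain ⟨k, hk⟩ := stableOf P
  rw [← (hk k le_rfl).2]
  exact normalizer_le_seqOf P _

theorem upOf_map [Finite G] [Finite H] {f : G →* H} {P : Subgroup G} (hf : Set.InjOn f P) :
    upOf (P.map f) = (upOf P).map f := by
  obtain ⟨k, hk⟩ := stableOf P
  obtain ⟨l, hl⟩ := stableOf (P.map f)
  rw [← (hk (max k l) (le_max_left _ _)).2, ← (hl (max k l) (le_max_right _ _)).2, seqOf_map hf]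

theorem upOf_le (P : Subgroup G) : upOf P ≤ P := map_subtype_le _

theorem lowOf_le (P : Subgroup G) : lowOf P ≤ P := map_subtype_le _

theorem seqOf_even_le_lowOf (P : Subgroup G) (n : ℕ) : seqOf P (2 * n) ≤ lowOf P :=
  map_mono (le_iSup (fun m => Cfsg.puigSeq P (2 * m)) n)

theorem upOf_le_seqOf_odd (P : Subgroup G) (n : ℕ) : upOf P ≤ seqOf P (2 * n + 1) :=
  map_mono (iInf_le (fun m => Cfsg.puigSeq P (2 * m + 1)) n)

theorem lowOf_le_upOf (P : Subgroup G) : lowOf P ≤ upOf P :=
  map_mono (iSup_le fun n => le_iInf fun m => even_le_odd n m)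

theorem le_upOf [Finite G] {P A : Subgroup G} (hAP : A ≤ P) (hA : IsMulCommutative A)
    (hN : lowOf P ≤ normalizer (A : Set G)) : A ≤ upOf P := by
  obtain ⟨k, hk⟩ := stableOf P
  rw [← (hk k le_rfl).2]
  exact le_seqOf_succ hAP hA ((hk k le_rfl).1.le.trans hN)

theorem le_lowOf [Finite G] {P A : Subgroup G} (hAP : A ≤ P) (hA : IsMulCommutative A)
    (hN : upOf P ≤ normalizer (A : Set G)) : A ≤ lowOf P := by
  obtain ⟨k, hk⟩ := stableOf P
  rw [← (hk (k + 1) (Nat.le_succ k)).1, show 2 * (k + 1) = 2 * k + 1 + 1 by ring]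
  exact le_seqOf_succ hAP hA ((hk k le_rfl).2.le.trans hN)

theorem upOf_le_of [Finite G] {P X : Subgroup G}
    (h : ∀ A : Subgroup G, A ≤ P → IsMulCommutative A → lowOf P ≤ normalizer (A : Set G) → A ≤ X) :
    upOf P ≤ X := by
  obtain ⟨k, hk⟩ := stableOf P
  rw [← (hk k le_rfl).2]
  exact seqOf_succ_le fun A hAP hA hN => h A hAP hA ((hk k le_rfl).1.symm.le.trans hN)

/-- For a nilpotent `P`, the terms of positive index contain their centralisers in `P`. -/
theorem centralizer_seqOf_le [Finite G] {P : Subgroup G} (hP : Group.IsNilpotent P) {i : ℕ}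
    (hi : 0 < i) : P ⊓ centralizer (seqOf P i : Set G) ≤ seqOf P i := by
  obtain ⟨A, hAn, hAc, hCA⟩ := exists_selfCentralizing (G := P) hP
  have hle : A ≤ Cfsg.puigSeq P i := le_puigSeq_of_normal hAc hi
  rintro x ⟨hxP, hx⟩
  refine ⟨⟨x, hxP⟩, hle ?_, rfl⟩
  rw [← hCA, mem_centralizer_iff]
  intro a ha
  exact Subtype.ext (mem_centralizer_iff.mp hx a ⟨a, hle ha, rfl⟩)

theorem centralizer_upOf_le [Finite G] {P : Subgroup G} (hP : Group.IsNilpotent P) :
    P ⊓ centralizer (upOf P : Set G) ≤ upOf P := by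
  obtain ⟨k, hk⟩ := stableOf P
  rw [← (hk k le_rfl).2]
  exact centralizer_seqOf_le hP (Nat.succ_pos _)

theorem centralizer_lowOf_le [Finite G] {P : Subgroup G} (hP : Group.IsNilpotent P) :
    P ⊓ centralizer (lowOf P : Set G) ≤ lowOf P := by
  obtain ⟨k, hk⟩ := stableOf P
  rw [← (hk (k + 1) (Nat.le_succ k)).1]
  exact centralizer_seqOf_le hP (by omega)

/-- A subgroup between `L(P)` and `P` has the same Puig subgroup. -/
theorem upOf_eq_of_le [Finite G] {P Q : Subgroup G} (hQP : Q ≤ P) (hup : upOf P ≤ Q) :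
    upOf Q = upOf P := by
  have h1 : ∀ n, seqOf P (2 * n) ≤ seqOf Q (2 * n) ∧ seqOf Q (2 * n + 1) ≤ seqOf P (2 * n + 1) := by
    intro n
    induction n with
    | zero =>
      refine ⟨?_, ?_⟩
      · rw [mul_zero, seqOf_zero]; exact bot_le
      · rw [mul_zero, seqOf_one, seqOf_one]; exact hQP
    | succ n ih =>
      have e : 2 * (n + 1) = 2 * n + 1 + 1 := by ring
      have h2 : seqOf P (2 * (n + 1)) ≤ seqOf Q (2 * (n + 1)) := by
        rw [e]
        refine seqOf_succ_le fun A hAP hA hN => le_seqOf_succ ?_ hA (ih.2.trans hN)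
        refine (le_seqOf_succ hAP hA hN).trans ?_
        rw [← e]
        exact (seqOf_even_le_lowOf P _).trans ((lowOf_le_upOf P).trans hup)
      exact ⟨h2, seqOf_succ_le fun A hAQ hA hN => le_seqOf_succ (hAQ.trans hQP) hA (h2.trans hN)⟩
  have h3 : ∀ n, upOf P ≤ seqOf Q (2 * n + 1) := by
    intro n
    induction n with
    | zero => rw [mul_zero, seqOf_one]; exact hup
    | succ n ih =>
      have h4 : seqOf Q (2 * n + 1 + 1) ≤ lowOf P :=
        seqOf_succ_le fun A hAQ hA hN => le_lowOf (hAQ.trans hQP) hA (ih.trans hN)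
      refine upOf_le_of fun A hAP hA hN => ?_
      have hAu : A ≤ Q := (le_upOf hAP hA hN).trans hup
      exact le_seqOf_succ hAu hA
        ((show seqOf Q (2 * (n + 1)) ≤ lowOf P from h4).trans hN)
  obtain ⟨k, hk⟩ := stableOf P
  obtain ⟨l, hl⟩ := stableOf Q
  refine le_antisymm ?_ ((h3 l).trans (hl l le_rfl).2.le)
  rw [← (hk (max k l) (le_max_left _ _)).2, ← (hl (max k l) (le_max_right _ _)).2]
  exact (h1 _).2

/-- The centre of a subgroup of a subgroup, in the ambient group. -/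
theorem map_center_eq {P : Subgroup G} (K : Subgroup P) :
    ((center K).map K.subtype).map P.subtype =
      K.map P.subtype ⊓ centralizer (K.map P.subtype : Set G) := by
  ext x
  constructor
  · rintro ⟨_, ⟨z, hz, rfl⟩, rfl⟩
    refine ⟨⟨_, z.2, rfl⟩, mem_centralizer_iff.mpr ?_⟩
    rintro _ ⟨y, hy, rfl⟩
    exact congrArg (fun w : K => ((w : P) : G)) (mem_center_iff.mp hz ⟨y, hy⟩)
  · rintro ⟨⟨y, hy, rfl⟩, hx⟩
    refine ⟨y, ⟨⟨y, hy⟩, mem_center_iff.mpr fun w => ?_, rfl⟩, rfl⟩
    exact Subtype.ext (Subtype.ext (mem_centralizer_iff.mp hx _ ⟨w, w.2, rfl⟩))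

end Cfsg.Agent.OddLocal.Puig
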