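import Cfsg.Agent.OddLocal.KappaFixed
import Cfsg.Agent.OddLocal.SigmaPartition
import Cfsg.Agent.OddLocal.Basics

/-! `σ`-parts of elements and transport of `σ`, `M_σ`, `κ` under conjugation. -/

set_option autoImplicit false
set_option linter.unusedSectionVars false

namespace Cfsg.Agent.OddLocal.SigmaParts

open Cfsg Subgroup
open Cfsg.Agent.Transfer.Fusion (map_conj_mul card_map_conj map_conj_eq_self_iff map_conj_inv_cancel
  map_conj_one mem_map_conj)

variable {G : Type*} [Group G] [Finite G] {M L : Subgroup G}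

/-- Every prime divisor of the order of `x` lies in `π`. -/
def IsPiEl (π : Set ℕ) (x : G) : Prop := ∀ p : ℕ, p.Prime → p ∣ orderOf x → p ∈ π

theorem isPiEl_one (π : Set ℕ) : IsPiEl π (1 : G) := fun p hp hd => by
  rw [orderOf_one] at hd
  exact absurd (Nat.dvd_one.mp hd) hp.ne_one

theorem IsPiEl.mul {π : Set ℕ} {a b : G} (ha : IsPiEl π a) (hb : IsPiEl π b) (h : Commute a b) :
    IsPiEl π (a * b) := fun p hp hd => by
  rcases hp.dvd_mul.mp ((hd.trans h.orderOf_mul_dvd_lcm).trans (Nat.lcm_dvd_mul _ _)) with h1 | h1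
  · exact ha p hp h1
  · exact hb p hp h1

theorem IsPiEl.inv {π : Set ℕ} {a : G} (ha : IsPiEl π a) : IsPiEl π a⁻¹ := fun p hp hd =>
  ha p hp (orderOf_inv a ▸ hd)

theorem IsPiEl.conj {π : Set ℕ} {a : G} (ha : IsPiEl π a) (g : G) : IsPiEl π (g * a * g⁻¹) :=
  fun p hp hd => ha p hp (by
    rwa [← MulAut.conj_apply, MulEquiv.orderOf_eq] at hd)

theorem IsPiEl.mono {π π' : Set ℕ} {a : G} (ha : IsPiEl π a) (h : ∀ p ∈ π, p ∈ π') : IsPiEl π' a :=
  fun p hp hd => h p (ha p hp hd)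

theorem IsPiEl.pow {π : Set ℕ} {a : G} (ha : IsPiEl π a) (n : ℕ) : IsPiEl π (a ^ n) := fun p hp hd =>
  ha p hp (hd.trans (orderOf_pow_dvd n))

theorem eq_one_of_both {π : Set ℕ} {a : G} (ha : IsPiEl π a)
    (ha' : IsPiEl {p | p ∉ π} a) : a = 1 := by
  by_contra h
  obtain ⟨p, hp, hd⟩ := Nat.exists_prime_and_dvd (mt orderOf_eq_one_iff.mp h)
  exact ha' p hp hd (ha p hp hd)

theorem coprime_of_parts {π : Set ℕ} {a b : G} (ha : IsPiEl π a) (hb : IsPiEl {p | p ∉ π} b) :
    (orderOf a).Coprime (orderOf b) :=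
  Nat.coprime_of_dvd fun p hp h1 h2 => hb p hp h2 (ha p hp h1)

theorem mem_zpowers_mul {a b : G} (h : Commute a b) (hc : (orderOf a).Coprime (orderOf b)) :
    a ∈ zpowers (a * b) := by
  have h1 : (a * b) ^ orderOf b = a ^ orderOf b := by
    rw [h.mul_pow, pow_orderOf_eq_one b, mul_one]
  have h2 : a ∈ zpowers (a ^ orderOf b) := by
    obtain ⟨m, hm⟩ := exists_pow_eq_self_of_coprime hc.symm
    exact ⟨m, by simpa using hm⟩
  refine zpowers_le.mpr ?_ h2
  exact h1 ▸ pow_mem (mem_zpowers _) _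

/-- Uniqueness of the `π`-part. -/
theorem parts_unique {π : Set ℕ} {a b c d : G} (hab : Commute a b) (hcd : Commute c d)
    (ha : IsPiEl π a) (hb : IsPiEl {p | p ∉ π} b) (hc : IsPiEl π c)
    (hd : IsPiEl {p | p ∉ π} d) (e : a * b = c * d) : a = c := by
  have hag : a ∈ zpowers (a * b) := mem_zpowers_mul hab (coprime_of_parts ha hb)
  have hcg : c ∈ zpowers (a * b) := e ▸ mem_zpowers_mul hcd (coprime_of_parts hc hd)
  have hbg : b ∈ zpowers (a * b) := by
    have := mem_zpowers_mul hab.symm (coprime_of_parts ha hb).symm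
    rwa [← hab.eq] at this
  have hdg : d ∈ zpowers (a * b) := by
    have := mem_zpowers_mul hcd.symm (coprime_of_parts hc hd).symm
    rwa [← hcd.eq, ← e] at this
  have hcomm : ∀ u v : G, u ∈ zpowers (a * b) → v ∈ zpowers (a * b) → Commute u v := fun u v hu hv => by
    obtain ⟨i, rfl⟩ := mem_zpowers_iff.mp hu
    obtain ⟨j, rfl⟩ := mem_zpowers_iff.mp hv
    exact (Commute.refl _).zpow_zpow i j
  have h1 : IsPiEl π (c⁻¹ * a) := hc.inv.mul ha (hcomm _ _ (inv_mem hcg) hag)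
  have h2 : c⁻¹ * a = d * b⁻¹ := by
    rw [eq_mul_inv_iff_mul_eq, mul_assoc, e, inv_mul_cancel_left]
  have h3 : IsPiEl {p | p ∉ π} (c⁻¹ * a) := h2 ▸ hd.mul hb.inv (hcomm _ _ hdg (inv_mem hbg))
  exact (inv_mul_eq_one.mp (eq_one_of_both h1 h3)).symm

theorem exists_factor (π : Set ℕ) : ∀ n : ℕ, n ≠ 0 → ∃ m k : ℕ, n = m * k ∧
    (∀ p : ℕ, p.Prime → p ∣ m → p ∈ π) ∧ ∀ p : ℕ, p.Prime → p ∣ k → p ∉ π := by
  intro n
  induction n using Nat.strong_induction_on with
  | _ n ih =>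
    intro hn
    rcases eq_or_ne n 1 with rfl | h1
    · exact ⟨1, 1, rfl, fun p hp hd => absurd (Nat.dvd_one.mp hd) hp.ne_one,
        fun p hp hd => absurd (Nat.dvd_one.mp hd) hp.ne_one⟩
    obtain ⟨q, hq, hqd⟩ := Nat.exists_prime_and_dvd h1
    obtain ⟨t, rfl⟩ := hqd
    have ht : t ≠ 0 := fun e => hn (by rw [e, mul_zero])
    obtain ⟨m, k, hmk, hm, hk⟩ := ih t (lt_mul_of_one_lt_left (Nat.pos_of_ne_zero ht) hq.one_lt) ht
    by_cases hqπ : q ∈ π
    · exact ⟨q * m, k, by rw [hmk, mul_assoc], fun p hp hd => (hp.dvd_mul.mp hd).elim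
        (fun h => (Nat.prime_dvd_prime_iff_eq hp hq).mp h ▸ hqπ) (hm p hp), hk⟩
    · exact ⟨m, q * k, by rw [hmk, mul_left_comm], hm, fun p hp hd => (hp.dvd_mul.mp hd).elim
        (fun h => (Nat.prime_dvd_prime_iff_eq hp hq).mp h ▸ hqπ) (hk p hp)⟩

theorem exists_parts (π : Set ℕ) (g : G) : ∃ a b : G, g = a * b ∧ Commute a b ∧ IsPiEl π a ∧
    IsPiEl {p | p ∉ π} b ∧ a ∈ zpowers g ∧ b ∈ zpowers g := by
  obtain ⟨m, k, hmk, hm, hk⟩ := exists_factor π (orderOf g) (orderOf_pos g).ne'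
  have hc : m.Coprime k := Nat.coprime_of_dvd fun p hp h1 h2 => hk p hp h2 (hm p hp h1)
  have hbez : ((1 : ℤ)) = (m : ℤ) * m.gcdA k + (k : ℤ) * m.gcdB k := by
    rw [← Nat.gcd_eq_gcd_ab, hc.gcd_eq_one, Nat.cast_one]
  refine ⟨(g ^ k) ^ m.gcdB k, (g ^ m) ^ m.gcdA k, ?_, ?_, ?_, ?_,
    zpow_mem (pow_mem (mem_zpowers g) _) _, zpow_mem (pow_mem (mem_zpowers g) _) _⟩
  · rw [← zpow_natCast, ← zpow_natCast g m, ← zpow_mul, ← zpow_mul, ← zpow_add, add_comm, ← hbez,
      zpow_one]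
  · exact ((Commute.refl g).pow_pow _ _).zpow_zpow _ _
  · intro p hp hd
    refine hm p hp (hd.trans (orderOf_dvd_of_pow_eq_one ?_))
    rw [← zpow_natCast, ← zpow_mul, mul_comm, zpow_mul, zpow_natCast, ← pow_mul, mul_comm k,
      ← hmk, pow_orderOf_eq_one, one_zpow]
  · intro p hp hd
    refine hk p hp (hd.trans (orderOf_dvd_of_pow_eq_one ?_))
    rw [← zpow_natCast, ← zpow_mul, mul_comm, zpow_mul, zpow_natCast, ← pow_mul,
      ← hmk, pow_orderOf_eq_one, one_zpow]

theorem mem_conj_iff {H : Subgroup G} {g x : G} :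
    x ∈ H.map (MulAut.conj g).toMonoidHom ↔ g⁻¹ * x * g ∈ H := mem_map_conj

theorem sigma_eq (g : G) : sigma (M.map (MulAut.conj g).toMonoidHom) = sigma M :=
  Set.ext fun _ => ⟨PrimeAction.sigma_of_map, fun h => PrimeAction.sigma_map h g⟩

theorem conj_of_common (hG : IsMinSimpleOddOrder G) (hM : IsCoatom M) (hL : IsCoatom L) {q : ℕ}
    (hqM : q ∈ sigma M) (hqL : q ∈ sigma L) : ∃ g : G, L = M.map (MulAut.conj g).toMonoidHom := by
  by_contra h
  exact SigmaPartition.sigma_disjoint hG hM hL (not_exists.mp h) hqM hqL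

theorem sigma_eq_of_common (hG : IsMinSimpleOddOrder G) (hM : IsCoatom M) (hL : IsCoatom L) {q : ℕ}
    (hqM : q ∈ sigma M) (hqL : q ∈ sigma L) : sigma L = sigma M := by
  obtain ⟨g, rfl⟩ := conj_of_common hG hM hL hqM hqL
  exact sigma_eq g

theorem not_sigma_of_ne (hG : IsMinSimpleOddOrder G) (hM : IsCoatom M) (hL : IsCoatom L)
    (h : ∀ g : G, L ≠ M.map (MulAut.conj g).toMonoidHom) {q : ℕ} (hqM : q ∈ sigma M) : q ∉ sigma L :=
  SigmaPartition.sigma_disjoint hG hM hL h hqM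

theorem map_inv {g : G} (e : L = M.map (MulAut.conj g).toMonoidHom) :
    M = L.map (MulAut.conj g⁻¹).toMonoidHom := by rw [e, map_conj_inv_cancel]

theorem ne_symm (h : ∀ g : G, L ≠ M.map (MulAut.conj g).toMonoidHom) :
    ∀ g : G, M ≠ L.map (MulAut.conj g).toMonoidHom := fun g e => by
  have := map_inv e
  exact h g⁻¹ this

theorem mem_iff_conj_eq (hG : IsMinSimpleOddOrder G) (hM : IsCoatom M) {g : G} :
    g ∈ M ↔ M.map (MulAut.conj g).toMonoidHom = M := by
  rw [map_conj_eq_self_iff, Sigma.normalizer_eq_self hG hM]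

theorem conj_eq_conj_iff (hG : IsMinSimpleOddOrder G) (hM : IsCoatom M) {g h : G} :
    M.map (MulAut.conj g).toMonoidHom = M.map (MulAut.conj h).toMonoidHom ↔ g⁻¹ * h ∈ M := by
  rw [mem_iff_conj_eq hG hM]
  constructor
  · intro e
    rw [map_conj_mul, ← e, map_conj_inv_cancel]
  · intro e
    conv_lhs => rw [← e]
    rw [← map_conj_mul, mul_inv_cancel_left]

theorem mem_sigma_core {x : G} (hx : x ∈ sigmaCore M) : IsPiEl (sigma M) x := fun p hp hd =>
  Transitivity.isPi_piCoreOf (sigma M) M p hp (hd.trans ((sigmaCore M).orderOf_dvd_natCard hx))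

theorem mem_core_of_piEl (hG : IsMinSimpleOddOrder G) (hM : IsCoatom M) {x : G} (hxM : x ∈ M)
    (hx : IsPiEl (sigma M) x) : x ∈ sigmaCore M :=
  Sigma.le_sigmaCore hG hM (zpowers_le.mpr hxM)
    (fun q hq hd => hx q hq (by rwa [Nat.card_zpowers] at hd)) (mem_zpowers x)

theorem piEl_of_sigma_ne (hG : IsMinSimpleOddOrder G) (hM : IsCoatom M) (hL : IsCoatom L)
    (h : ∀ g : G, L ≠ M.map (MulAut.conj g).toMonoidHom) {x : G} (hx : IsPiEl (sigma L) x) :
    IsPiEl {p | p ∉ sigma M} x :=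
  hx.mono fun _ hp hq => not_sigma_of_ne hG hM hL h hq hp

theorem sigmaCore_map_le (g : G) :
    (sigmaCore M).map (MulAut.conj g).toMonoidHom ≤ sigmaCore (M.map (MulAut.conj g).toMonoidHom) := by
  refine Transitivity.le_piCoreOf_of_normal (map_mono (Sigma.sigmaCore_le M)) ?_ fun p hp hd => ?_
  · rw [PrimeAction.normalizer_map]
    exact map_mono (Sigma.le_normalizer_sigmaCore M)
  · rw [card_map_conj] at hd
    exact PrimeAction.sigma_map (Transitivity.isPi_piCoreOf (sigma M) M p hp hd) g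

theorem sigmaCore_map (g : G) :
    sigmaCore (M.map (MulAut.conj g).toMonoidHom) = (sigmaCore M).map (MulAut.conj g).toMonoidHom := by
  refine le_antisymm ?_ (sigmaCore_map_le g)
  intro x hx
  have h := sigmaCore_map_le (M := M.map (MulAut.conj g).toMonoidHom) g⁻¹ ⟨x, hx, rfl⟩
  rw [map_conj_inv_cancel] at h
  rw [mem_conj_iff]
  have e : (MulAut.conj g⁻¹).toMonoidHom x = g⁻¹ * x * g := by
    show g⁻¹ * x * g⁻¹⁻¹ = _
    rw [inv_inv]
  rwa [e] at h

theorem fittingHallOf_le_sigmaCore (hG : IsMinSimpleOddOrder G) (hM : IsCoatom M) :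
    fittingHallOf M ≤ sigmaCore M := by
  refine Sigma.le_sigmaCore hG hM (Basics.fittingHallOf_le M) fun p hp hd => ?_
  have := Fact.mk hp
  rw [fittingHallOf, card_map_of_injective M.subtype_injective] at hd
  have hn : Group.IsNilpotent (fittingHall M) :=
    Cores.isNilpotent_to_le (L := fittingSubgroup M) (sSup_le fun _ hN => le_sSup ⟨hN.1, hN.2.1⟩)
      Cores.fittingSubgroup_isNilpotent
  obtain ⟨P⟩ : Nonempty (Sylow p (fittingHall M)) := inferInstance
  have hPc := (Group.isNilpotent_of_finite_tfae.out 0 3 rfl rfl).mp hn p inferInstance P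
  have : (P : Subgroup (fittingHall M)).Characteristic := P.characteristic_of_normal hPc
  set Q : Subgroup M := (P : Subgroup (fittingHall M)).map (fittingHall M).subtype with hQ
  have hQn : Q.Normal := ConjAct.normal_of_characteristic_of_normal
  have hQp : IsPGroup p Q := P.isPGroup'.map _
  have hQi : ¬ p ∣ Q.index := by
    rw [hQ, index_map_subtype]
    intro h
    rcases hp.dvd_mul.mp h with h | h
    · exact P.not_dvd_index h
    · exact hp.coprime_iff_not_dvd.mp ((Basics.fittingHall_coprime M).coprime_dvd_left hd) h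
  refine ⟨hp, hd.trans (card_subgroup_dvd_card _), hQp.toSylow hQi, ?_⟩
  rw [IsPGroup.toSylow_coe]
  have hQ1 : Q ≠ ⊥ := fun e => P.ne_bot_of_dvd_card hd (by
    rwa [hQ, map_eq_bot_iff_of_injective _ (fittingHall M).subtype_injective] at e)
  have hMN : M ≤ normalizer ((Q.map M.subtype : Subgroup G) : Set G) := by
    refine le_normalizer_of_normal_subgroupOf (hK := ?_) (map_subtype_le _)
    rw [subgroupOf, comap_map_eq_self_of_injective M.subtype_injective]
    exact hQn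
  exact ((hM.le_iff.mp hMN).resolve_left (Transitivity.normalizer_ne_top hG
    (fun e => hQ1 ((map_eq_bot_iff_of_injective _ M.subtype_injective).mp e))
    fun e => hM.1 (top_le_iff.mp (e ▸ map_subtype_le _)))).le

theorem sigmaCore_eq_fittingHallOf (hG : IsMinSimpleOddOrder G) (hM : IsCoatom M)
    (hn : Group.IsNilpotent (sigmaCore M)) : sigmaCore M = fittingHallOf M := by
  refine le_antisymm (Basics.le_fittingHallOf (Sigma.sigmaCore_le M)
    (Sigma.le_normalizer_sigmaCore M) hn ?_) (fittingHallOf_le_sigmaCore hG hM)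
  obtain ⟨-, hπ, hi⟩ := (Sigma.sigmaCore_hall hG hM).1
  exact Nat.coprime_of_dvd fun q hq h1 h2 => hi q hq (hπ q hq h1) h2

/-- Unique decomposition in a product of trivially meeting factors. -/
theorem split_unique {A B : Subgroup G} (h : A ⊓ B = ⊥) {a a' b b' : G} (ha : a ∈ A) (ha' : a' ∈ A)
    (hb : b ∈ B) (hb' : b' ∈ B) (e : a * b = a' * b') : a = a' ∧ b = b' := by
  have h1 : a'⁻¹ * a = b' * b⁻¹ := by
    rw [eq_mul_inv_iff_mul_eq, mul_assoc, e, inv_mul_cancel_left]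
  have h2 : a'⁻¹ * a ∈ A ⊓ B :=
    mem_inf.mpr ⟨mul_mem (inv_mem ha') ha, h1 ▸ mul_mem hb' (inv_mem hb)⟩
  rw [h, mem_bot] at h2
  obtain rfl := (inv_mul_eq_one.mp h2).symm
  exact ⟨rfl, mul_left_cancel e⟩

/-- The factors of an element commuting with `y ∈ A` commute with `y`, `B` being normalised by `A`. -/
theorem split_commute {A B : Subgroup G} (h : A ⊓ B = ⊥) (hn : A ≤ normalizer (B : Set G)) {y a b : G}
    (hy : y ∈ A) (ha : a ∈ A) (hb : b ∈ B) (e : Commute (a * b) y) : Commute a y ∧ Commute b y := by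
  have h1 : y * a * y⁻¹ * (y * b * y⁻¹) = a * b := by
    calc y * a * y⁻¹ * (y * b * y⁻¹) = y * (a * b) * y⁻¹ := by group
      _ = a * b := by rw [← e.eq]; group
  obtain ⟨h2, h3⟩ := split_unique h (mul_mem (mul_mem hy ha) (inv_mem hy)) ha
    ((mem_normalizer_iff.mp (hn hy) b).mp hb) hb h1
  exact ⟨(mul_inv_eq_iff_eq_mul.mp h2).symm, (mul_inv_eq_iff_eq_mul.mp h3).symm⟩

end Cfsg.Agent.OddLocal.SigmaParts
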