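import Cfsg.Agent.OddLocal.PLengthOne

/-! The normalizer of a Sylow subgroup controls fusion in it (BG 10.9). -/

set_option autoImplicit false

namespace Cfsg.Agent.OddLocal.SylowFusion

open Cfsg Subgroup
open Cfsg.Agent.OddLocal.Unique Cfsg.Agent.OddLocal.Bender
open Cfsg.Agent.Transfer.Fusion (map_conj_mul map_conj_one card_map_conj map_conj_eq_self_iff
  mem_map_conj conj_mem_map_conj map_conj_le_iff)

variable {G : Type*} [Group G] [Finite G] {p : ℕ} [hp : Fact p.Prime]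

theorem conj_mem_centralizer {X : Subgroup G} {u c : G} (hu : u ∈ normalizer (X : Set G))
    (hc : c ∈ centralizer (X : Set G)) : u⁻¹ * c * u ∈ centralizer (X : Set G) := by
  refine mem_centralizer_iff.mpr fun x hx => ?_
  have h1 := mem_centralizer_iff.mp hc (u * x * u⁻¹) ((mem_normalizer_iff.mp hu x).mp hx)
  calc x * (u⁻¹ * c * u) = u⁻¹ * (u * x * u⁻¹ * c) * u := by group
    _ = u⁻¹ * (c * (u * x * u⁻¹)) * u := by rw [h1]
    _ = u⁻¹ * c * u * x := by group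

theorem conj_eq (hG : IsMinSimpleOddOrder G) (P : Sylow p G) {X : Subgroup G} (hXP : X ≤ (P : Subgroup G))
    {g : G} (hg : X.map (MulAut.conj g).toMonoidHom ≤ (P : Subgroup G)) :
    ∃ m ∈ normalizer ((P : Subgroup G) : Set G), ∃ c ∈ centralizer (X : Set G), g = m * c := by
  obtain ⟨k, hk⟩ : ∃ k, Nat.card G - Nat.card X = k := ⟨_, rfl⟩
  induction k using Nat.strong_induction_on generalizing X g with
  | _ k ih =>
  set M := normalizer ((P : Subgroup G) : Set G) with hM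
  have ih' : ∀ {Y : Subgroup G}, Y ≤ (P : Subgroup G) → Nat.card X < Nat.card Y → ∀ {g : G},
      Y.map (MulAut.conj g).toMonoidHom ≤ (P : Subgroup G) →
        ∃ m ∈ M, ∃ c ∈ centralizer (Y : Set G), g = m * c :=
    fun {Y} hY hlt {g} hg => ih _ (by have := card_le_card_group Y; omega) hY hg rfl
  by_cases hX1 : X = ⊥
  · refine ⟨1, one_mem _, g, ?_, (one_mul g).symm⟩
    rw [hX1, mem_centralizer_iff]
    intro y hy
    rw [SetLike.mem_coe, mem_bot] at hy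
    simp [hy]
  rcases hXP.eq_or_lt with he | hlt
  · refine ⟨g, ?_, 1, one_mem _, (mul_one g).symm⟩
    rw [he] at hg
    exact map_conj_eq_self_iff.mp (eq_of_le_of_card_ge hg (card_map_conj _ g).ge)
  set L := normalizer (X : Set G) with hL
  have hXL : X ≤ L := le_normalizer
  have hXtop : X ≠ ⊤ := fun e => hlt.not_ge (e ▸ le_top)
  have hLtop : L ≠ ⊤ := Transitivity.normalizer_ne_top hG hX1 hXtop
  have hLsol := Transitivity.isSolvable_of_ne_top hG hLtop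
  have hpl := PLengthOne.pLengthLE_of_ne_top (p := p) hG hLtop
  have hXp : IsPGroup p X := P.isPGroup'.to_le hXP
  have hP₁ := Uniqueness.lt_inf_normalizer P.isPGroup' hlt
  set X' := X.map (MulAut.conj g).toMonoidHom with hX'
  have hlt₂ : X' < (P : Subgroup G) := lt_of_le_of_ne hg fun e => by
    have hc := Sigma.card_lt_of_lt hlt
    rw [← card_map_conj X g, ← hX', e] at hc
    exact lt_irrefl _ hc
  have hQ₂ := Uniqueness.lt_inf_normalizer P.isPGroup' hlt₂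
  set Q₂ := (P : Subgroup G) ⊓ normalizer (X' : Set G) with hQ₂def
  set P₂ := Q₂.map (MulAut.conj g⁻¹).toMonoidHom with hP₂
  have hP₂L : P₂ ≤ L := by
    intro y hy
    have h1 : g * y * g⁻¹ ∈ normalizer (X' : Set G) := by
      simpa [mul_assoc] using (mem_map_conj.mp hy).2
    rw [← map_conj_eq_self_iff, hX', ← map_conj_mul, inv_mul_cancel_right, map_conj_mul] at h1
    exact map_conj_eq_self_iff.mp (map_injective (MulAut.conj g).injective h1)
  obtain ⟨T₀, hT₀⟩ := ((P.isPGroup'.to_le inf_le_left :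
      IsPGroup p ((P : Subgroup G) ⊓ L : Subgroup G)).comap_subtype (K := L)).exists_le_sylow
  set T := (T₀ : Subgroup L).map L.subtype with hT
  have hTL : T ≤ L := map_subtype_le _
  have hTp : IsPGroup p T := T₀.isPGroup'.map _
  have hP₁T : (P : Subgroup G) ⊓ L ≤ T := fun x hx => ⟨⟨x, hx.2⟩, hT₀ hx, rfl⟩
  have hXT : X < T := hP₁.trans_le hP₁T
  obtain ⟨R, hTR⟩ := hTp.exists_le_sylow
  obtain ⟨g₀, hg₀⟩ := MulAction.exists_smul_eq G R P
  have hg₀T : T.map (MulAut.conj g₀).toMonoidHom ≤ (P : Subgroup G) := by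
    refine (map_mono hTR).trans ?_
    rw [← Transfer.Fusion.coe_smul_eq_map, hg₀]
  obtain ⟨m₀, hm₀, c₀, hc₀, e₀⟩ := ih' inf_le_left (Sigma.card_lt_of_lt hP₁) ((map_mono hP₁T).trans hg₀T)
  replace hc₀ : c₀ ∈ centralizer (X : Set G) :=
    centralizer_le (show (X : Set G) ⊆ ((P : Subgroup G) ⊓ L : Subgroup G) from hP₁.le) hc₀
  have hall : ∀ u ∈ L, ∃ m ∈ M, ∃ c ∈ centralizer (X : Set G), u = m * c := by
    intro u hu
    obtain ⟨o, ho, v, hv, e⟩ := mem_sup_of_normal_left.mp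
      ((pPrimeCore_sup_normalizer hpl T₀).ge (mem_top (⟨u, hu⟩ : L)))
    have hvN : (v : G) ∈ normalizer (T : Set G) :=
      le_normalizer_map (H := (T₀ : Subgroup L)) L.subtype ⟨v, hv, rfl⟩
    have hoC : (o : G) ∈ centralizer (X : Set G) := by
      have hn : L ≤ normalizer (primeCore p L : Set G) := le_normalizer_primeCore L
      have hd : primeCore p L ⊓ X = ⊥ := Bender.inf_eq_bot_of_coprime (coprime_of_isPGroup hXp
        (fun hd => hp.out.coprime_iff_not_dvd.mp (primeCore_coprime (p := p) L).symm hd)).symm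
      exact le_centralizer_of_mutual (primeCore_le L) (hXL.trans hn) hd ⟨o, ho, rfl⟩
    obtain ⟨m₂, hm₂, c₂, hc₂, e₂⟩ := ih' hg₀T
      (by rw [card_map_conj]; exact Sigma.card_lt_of_lt hXT) (g := g₀ * v * g₀⁻¹) (by
        rw [← map_conj_mul, inv_mul_cancel_right, map_conj_mul, map_conj_eq_self_iff.mpr hvN]
        exact hg₀T)
    have hc' : g₀⁻¹ * c₂ * g₀ ∈ centralizer (X : Set G) := mem_centralizer_iff.mpr fun x hx => by
      have h1 := mem_centralizer_iff.mp hc₂ _ (conj_mem_map_conj (hXT.le hx) g₀)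
      calc x * (g₀⁻¹ * c₂ * g₀) = g₀⁻¹ * (g₀ * x * g₀⁻¹ * c₂) * g₀ := by group
        _ = g₀⁻¹ * (c₂ * (g₀ * x * g₀⁻¹)) * g₀ := by rw [h1]
        _ = g₀⁻¹ * c₂ * g₀ * x := by group
    refine ⟨m₀⁻¹ * m₂ * m₀, mul_mem (mul_mem (inv_mem hm₀) hm₂) hm₀,
      c₀ * (g₀⁻¹ * c₂ * g₀) * ((v : G)⁻¹ * c₀ * v)⁻¹ * ((v : G)⁻¹ * o * v),
      mul_mem (mul_mem (mul_mem hc₀ hc') (inv_mem (conj_mem_centralizer v.2 hc₀)))
        (conj_mem_centralizer v.2 hoC), ?_⟩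
    have e' : (o : G) * v = u := congrArg Subtype.val e
    have hv1 : m₀⁻¹ * m₂ * m₀ * c₀ * (g₀⁻¹ * c₂ * g₀) = c₀ * (v : G) := by
      calc m₀⁻¹ * m₂ * m₀ * c₀ * (g₀⁻¹ * c₂ * g₀)
          = m₀⁻¹ * m₂ * ((m₀ * c₀) * g₀⁻¹) * c₂ * g₀ := by group
        _ = m₀⁻¹ * (m₂ * c₂) * g₀ := by rw [← e₀]; group
        _ = m₀⁻¹ * (g₀ * v * g₀⁻¹) * g₀ := by rw [e₂]
        _ = m₀⁻¹ * g₀ * v := by group
        _ = _ := by rw [e₀]; group
    calc u = c₀ * (v : G) * ((v : G)⁻¹ * c₀ * v)⁻¹ * ((v : G)⁻¹ * o * v) := by rw [← e']; group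
      _ = _ := by rw [← hv1]; group
  obtain ⟨n, hn, R₀, hT₀R, hP₂R⟩ := Transfer.Fusion.exists_conj_le_sylow hTp hTL
    ((P.isPGroup'.to_le inf_le_left : IsPGroup p Q₂).map _) hP₂L
  have hRT : T = (R₀ : Subgroup G) ⊓ L :=
    Sigma.sylow_map_eq T₀ inf_le_right (R₀.isPGroup'.to_le inf_le_left) (le_inf hT₀R hTL)
  have hnP₂ : P₂.map (MulAut.conj n).toMonoidHom ≤ T := by
    rw [hRT]
    refine le_inf hP₂R ?_
    rintro _ ⟨y, hy, rfl⟩
    exact mul_mem (mul_mem hn (hP₂L hy)) (inv_mem hn)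
  obtain ⟨m₁, hm₁, c₁, hc₁, e₁⟩ := ih' (inf_le_left : Q₂ ≤ (P : Subgroup G))
    (by rw [← card_map_conj X g]; exact Sigma.card_lt_of_lt hQ₂)
    (g := g₀ * n * g⁻¹) (by
      rw [map_conj_mul, map_conj_mul]
      exact (map_mono hnP₂).trans hg₀T)
  have hc₁' : g⁻¹ * c₁ * g ∈ centralizer (X : Set G) := mem_centralizer_iff.mpr fun x hx => by
    have h1 := mem_centralizer_iff.mp hc₁ (g * x * g⁻¹) (hQ₂.le (conj_mem_map_conj hx g))
    calc x * (g⁻¹ * c₁ * g) = g⁻¹ * (g * x * g⁻¹ * c₁) * g := by group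
      _ = g⁻¹ * (c₁ * (g * x * g⁻¹)) * g := by rw [h1]
      _ = g⁻¹ * c₁ * g * x := by group
  obtain ⟨m, hm, c, hc, em⟩ := hall n hn
  refine ⟨m₁⁻¹ * m₀ * m, mul_mem (mul_mem (inv_mem hm₁) hm₀) hm,
    c * (n⁻¹ * c₀ * n) * (g⁻¹ * c₁ * g)⁻¹,
    mul_mem (mul_mem hc (conj_mem_centralizer hn hc₀)) (inv_mem hc₁'), ?_⟩
  calc g = m₁⁻¹ * (m₁ * c₁) * g * (g⁻¹ * c₁ * g)⁻¹ := by group
    _ = m₁⁻¹ * (g₀ * n) * (g⁻¹ * c₁ * g)⁻¹ := by rw [← e₁]; group
    _ = m₁⁻¹ * m₀ * n * (n⁻¹ * c₀ * n) * (g⁻¹ * c₁ * g)⁻¹ := by rw [e₀]; group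
    _ = m₁⁻¹ * m₀ * (m * c) * (n⁻¹ * c₀ * n) * (g⁻¹ * c₁ * g)⁻¹ := by rw [em]
    _ = _ := by group

end Cfsg.Agent.OddLocal.SylowFusion
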