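import Cfsg.Agent.OddLocal.SigmaCompl
import Cfsg.Agent.OddLocal.FrobeniusFormula
import Cfsg.Agent.S1411

/-! `τ₂(M)` when the Sylow `p`-subgroups of `G` are abelian (BG 12.8). -/

set_option autoImplicit false
set_option linter.unusedSectionVars false

namespace Cfsg.Agent.OddLocal.TauTwo

open Cfsg Subgroup
open scoped commutatorElement
open Cfsg.Agent.Transfer.Fusion (map_conj_eq_self_iff card_map_conj)

variable {G : Type*} [Group G] [Finite G] {p : ℕ} [hp : Fact p.Prime] {A M E : Subgroup G}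

/-- An abelian Sylow subgroup containing `A` lies in the complement. -/
theorem Ctx.sylow_le_compl (h : Ctx p A M) (hab : ∀ S : Sylow p G, IsMulCommutative (S : Subgroup G))
    (hE : IsComplIn E (sigmaCore M) M) (hAE : A ≤ E) (S : Sylow p G) (hAS : A ≤ (S : Subgroup G)) :
    (S : Subgroup G) ≤ centralizer (A : Set G) ∧ (S : Subgroup G) ≤ E ∧
      normalizer ((S : Subgroup G) : Set G) ≤ normalizer (A : Set G) := by
  have hSC : (S : Subgroup G) ≤ centralizer (A : Set G) := by
    have := hab S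
    exact fun y hy => mem_centralizer_iff.mpr fun x hx => setLike_mul_comm (hAS hx) hy
  refine ⟨hSC, h.inf_normalizer hE hAE ▸ le_inf (hSC.trans h.hCA)
    (hSC.trans (centralizer_le_normalizer _)), ?_⟩
  rw [le_normalizer_iff]
  intro g hg a ha
  refine h.hA.omega _ (hSC ((mem_normalizer_iff.mp hg a).mp (hAS ha))) ?_
  rw [conj_pow, h.hA.el.2 a ha]; group

/-- Commutators in `N(A)` centralise `A`. -/
theorem Ctx.commutator_mem_centralizer (h : Ctx p A M)
    (hab : ∀ S : Sylow p G, IsMulCommutative (S : Subgroup G)) {u v : G} (hu : u ∈ normalizer (A : Set G))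
    (hv : v ∈ normalizer (A : Set G)) : ⁅u, v⁆ ∈ centralizer (A : Set G) := by
  let _ : CommGroup A := { (inferInstance : Group A) with
    mul_comm := fun a b => Subtype.ext (Components.Hyperplane.mem_comm h.hA.el a.2 b.2) }
  set N := normalizer (A : Set G) with hN
  let φ : N →* MulAut A := A.normalizerMonoidHom
  set c : N := ⁅(⟨u, hu⟩ : N), ⟨v, hv⟩⁆ with hc
  obtain ⟨k, hk⟩ := (AutRankTwo.elementary_aut (h.hA.ne_two h.hG) (fun v : A => Subtype.ext (h.hA.el.2 _ v.2))
    h.hA.card.dvd (Sigma.odd_card h.hG N) φ).1 c (commutator_mem_commutator (mem_top _) (mem_top _))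
  set n := orderOf c with hn
  set d := n / p ^ n.factorization p with hd
  have hcd : (c ^ d) ^ p ^ n.factorization p = 1 := by
    rw [← pow_mul, mul_comm, hd, Nat.ordProj_mul_ordCompl_eq_self, hn, pow_orderOf_eq_one]
  have hT : IsPGroup p (zpowers ((c ^ d : N) : G)) := by
    obtain ⟨i, -, hi⟩ := (Nat.dvd_prime_pow hp.out).mp
      (orderOf_dvd_of_pow_eq_one (G := G) (x := ((c ^ d : N) : G)) (congrArg Subtype.val hcd))
    exact IsPGroup.of_card (n := i) (by rw [Nat.card_zpowers, hi])
  obtain ⟨S, hS⟩ := (hT.to_sup_of_normal_right' h.hA.isPGroup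
    (zpowers_le.mpr (c ^ d).2)).exists_le_sylow
  have hd1 : φ (c ^ d) = 1 := by
    refine MulEquiv.ext fun a => Subtype.ext ?_
    show ((c ^ d : N) : G) * (a : G) * ((c ^ d : N) : G)⁻¹ = a
    have := hab S
    rw [setLike_mul_comm (hS (mem_sup_left (mem_zpowers _))) (hS (mem_sup_right a.2)), mul_inv_cancel_right]
  rw [map_pow] at hd1
  have hc1 : φ c = 1 := orderOf_eq_one_iff.mp (Nat.eq_one_of_dvd_coprimes
    ((Nat.coprime_ordCompl hp.out (orderOf_pos c).ne').pow_left k)
    (orderOf_dvd_of_pow_eq_one hk) (orderOf_dvd_of_pow_eq_one hd1))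
  refine mem_centralizer_iff.mpr fun a ha => ?_
  exact (mul_inv_eq_iff_eq_mul.mp (show ⁅u, v⁆ * a * ⁅u, v⁆⁻¹ = a from
    congrArg Subtype.val (DFunLike.congr_fun hc1 (⟨a, ha⟩ : A)))).symm

/-- An abelian Sylow subgroup containing `A` is normal in the complement. -/
theorem Ctx.compl_le_normalizer_sylow (h : Ctx p A M)
    (hab : ∀ S : Sylow p G, IsMulCommutative (S : Subgroup G)) (hE : IsComplIn E (sigmaCore M) M)
    (hAE : A ≤ E) (S : Sylow p G) (hAS : A ≤ (S : Subgroup G)) :
    E ≤ normalizer ((S : Subgroup G) : Set G) := by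
  obtain ⟨hSC, hSE, hNS⟩ := h.sylow_le_compl hab hE hAE S hAS
  set C := centralizer (A : Set G) with hC
  have hCE : C ≤ E := h.inf_normalizer hE hAE ▸ le_inf h.hCA (centralizer_le_normalizer _)
  set K := (pPrimeCore p C).map C.subtype with hK
  have : (pPrimeCore p C).Characteristic := PLocal.Cores.pPrimeCore_characteristic
  have hNK : normalizer (A : Set G) ≤ normalizer (K : Set G) :=
    (CharP.normalizer_le_normalizer_centralizer _).trans
      (Coprime.OmegaDetect.normalizer_le_normalizer_char C _)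
  have hKp : ¬ p ∣ Nat.card K := by
    rw [card_map_of_injective C.subtype_injective]
    exact hp.out.coprime_iff_not_dvd.mp (PLocal.Cores.coprime_card_pPrimeCore (p := p)).symm
  have hSK : (S : Subgroup G) ≤ normalizer (K : Set G) :=
    (le_normalizer.trans hNS).trans hNK
  have hcop : (Nat.card (S : Subgroup G)).Coprime (Nat.card K) := by
    obtain ⟨i, hi⟩ := S.isPGroup'.exists_card_eq
    rw [hi]
    exact (hp.out.coprime_iff_not_dvd.mpr hKp).pow_left i
  have hSsol : Group.IsSolvable (S : Subgroup G) := @Coprime.isSolvable_of_isMulCommutative G _ _ (hab S)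
  -- `S` centralises `K`
  have hKC : K ≤ centralizer ((S : Subgroup G) : Set G) := by
    rw [← subgroupOf_eq_top]
    refine Cores.eq_top_of_sylow_le fun r hr hdv => ?_
    have := Fact.mk hr
    obtain ⟨R₀, hSR⟩ := Coprime.exists_invariant_sylow r hSK hcop (Or.inl hSsol)
    refine ⟨R₀, fun y hy => mem_subgroupOf.mpr ?_⟩
    set R := (R₀ : Subgroup K).map K.subtype with hR
    set N₀ := normalizer ((S : Subgroup G) : Set G) ⊓ normalizer (R : Set G) with hN₀
    have hSN₀ : (S : Subgroup G) ≤ N₀ := le_inf le_normalizer hSR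
    -- `S ≤ N₀'`
    obtain ⟨V, hV⟩ : ∃ V, IsComplIn (S : Subgroup G) V (normalizer ((S : Subgroup G) : Set G)) := by
      set N := normalizer ((S : Subgroup G) : Set G) with hNdef
      set S' := (S : Subgroup G).subgroupOf N with hS'
      have : S'.Normal := normal_in_normalizer
      have hc : (Nat.card S').Coprime S'.index := by
        obtain ⟨i, hi⟩ := S.isPGroup'.exists_card_eq
        rw [Nat.card_congr (subgroupOfEquivOfLe (le_normalizer : (S : Subgroup G) ≤ N)).toEquiv, hi]
        exact (hp.out.coprime_iff_not_dvd.mpr fun hd =>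
          S.not_dvd_index (hd.trans (relIndex_dvd_index_of_le le_normalizer))).pow_left i
      obtain ⟨W, hW⟩ := exists_right_complement'_of_coprime hc
      refine ⟨W.map N.subtype, le_normalizer, map_subtype_le _, ?_, fun m hm => ?_⟩
      · rw [← map_subgroupOf_eq_of_le (le_normalizer : (S : Subgroup G) ≤ N),
          ← map_inf _ _ _ N.subtype_injective, hW.disjoint.eq_bot, Subgroup.map_bot]
      · obtain ⟨⟨s, w⟩, e, -⟩ := hW.existsUnique ⟨m, hm⟩
        exact ⟨_, s.2, _, ⟨w, w.2, rfl⟩, (congrArg Subtype.val e).symm⟩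
    have hSder : (S : Subgroup G) ≤ ⁅N₀, N₀⁆ := by
      rw [(S1411.result h.hG p S V hV).1, commutator_le]
      intro s hs v hv
      have hvS : v ∈ normalizer ((S : Subgroup G) : Set G) := hV.2.1 hv
      have hvK : v ∈ normalizer (K : Set G) := hNK (hNS hvS)
      set R' := R.map (MulAut.conj v).toMonoidHom with hR'
      have hR'K : R' ≤ K := by
        rw [hR', ← map_conj_eq_self_iff.mpr hvK]
        exact map_mono (map_subtype_le _)
      obtain ⟨R₁, hR₁⟩ : ∃ R₁ : Sylow r K, (R₁ : Subgroup K).map K.subtype = R' := by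
        refine ⟨Sylow.ofCard (R'.subgroupOf K) ?_, ?_⟩
        · rw [Nat.card_congr (subgroupOfEquivOfLe hR'K).toEquiv, hR', card_map_conj, hR,
            card_map_of_injective K.subtype_injective, R₀.card_eq_multiplicity]
        · rw [Sylow.coe_ofCard, map_subgroupOf_eq_of_le hR'K]
      have hSR' : (S : Subgroup G) ≤ normalizer (R' : Set G) := by
        rw [hR', ← Subgroup.map_equiv_normalizer_eq]
        conv_lhs => rw [← map_conj_eq_self_iff.mpr hvS]
        exact map_mono hSR
      obtain ⟨c, hcC, hc⟩ := Coprime.exists_centralizer_conj_sylow hSK hcop (Or.inl hSsol) R₀ R₁ hSR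
        (hR₁ ▸ hSR')
      have hcS : (c : G) ∈ normalizer ((S : Subgroup G) : Set G) := centralizer_le_normalizer _ hcC
      have hcR : R' = R.map (MulAut.conj (c : G)).toMonoidHom := by
        rw [← hR₁, ← hc]
        exact Coprime.sylow_map_smul c R₀
      set w := (c : G)⁻¹ * v with hw
      have hwN : w ∈ N₀ := by
        refine mem_inf.mpr ⟨mul_mem (inv_mem hcS) hvS, ?_⟩
        rw [← map_conj_eq_self_iff, hw, Transfer.Fusion.map_conj_mul, ← hR', hcR,
          Transfer.Fusion.map_conj_inv_cancel]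
      have hm : ⁅s, w⁆ ∈ ⁅N₀, N₀⁆ := commutator_mem_commutator (hSN₀ hs) hwN
      have hswS : ⁅s, w⁆ ∈ (S : Subgroup G) := by
        rw [commutatorElement_def, mul_assoc, mul_assoc]
        refine mul_mem hs ?_
        rw [← mul_assoc]
        exact (mem_normalizer_iff.mp (mem_inf.mp hwN).1 s⁻¹).mp (inv_mem hs)
      have e1 : (s : G) * c = c * s := mem_centralizer_iff.mp hcC s hs
      have e2 : ⁅s, w⁆ * (c : G) = c * ⁅s, w⁆ := mem_centralizer_iff.mp hcC _ hswS
      have e : ⁅s, v⁆ = ⁅s, w⁆ := by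
        calc ⁅s, v⁆ = (s * c) * (w * s⁻¹ * w⁻¹ * (c : G)⁻¹) := by rw [hw, commutatorElement_def]; group
          _ = (c * s) * (w * s⁻¹ * w⁻¹ * (c : G)⁻¹) := by rw [e1]
          _ = c * ⁅s, w⁆ * (c : G)⁻¹ := by rw [commutatorElement_def]; group
          _ = ⁅s, w⁆ := by rw [← e2, mul_inv_cancel_right]
      rw [e]; exact hm
    -- derived elements act on `R` as `r`-elements
    have hrp : r ≠ p := fun e => hKp (e ▸ hdv)
    have hrσ : r ∉ sigma M :=
      Compl.not_sigma h.hG h.hM hE hr (hdv.trans (card_dvd_of_le ((map_subtype_le _).trans hCE)))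
    have hR2 : PRankLE r 2 R := RankTwoFitting.pRankLE_mono
      ((map_subtype_le _).trans ((map_subtype_le _).trans h.hCA)) (SigmaCompl.rank_le h.hG h.hM hr hrσ)
    let φ : N₀ →* MulAut R := R.normalizerMonoidHom.comp (inclusion inf_le_right)
    refine mem_centralizer_iff.mpr fun s hs => ?_
    have hsd : (⟨s, hSN₀ hs⟩ : N₀) ∈ commutator N₀ := by
      rw [← mem_map_iff_mem N₀.subtype_injective, map_subtype_commutator]
      exact hSder hs
    obtain ⟨k, hk⟩ := (AutRankTwo.aut_rankTwo (Unique.ne_two h.hG hdv)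
      (R₀.isPGroup'.map K.subtype) hR2 (Sigma.odd_card h.hG N₀) φ).1 _ hsd
    obtain ⟨j, hj⟩ := S.isPGroup' ⟨s, hs⟩
    have h1 : φ ⟨s, hSN₀ hs⟩ = 1 := orderOf_eq_one_iff.mp (Nat.eq_one_of_dvd_coprimes
      (((Nat.coprime_primes hr hp.out).mpr hrp).pow k j) (orderOf_dvd_of_pow_eq_one hk)
      (orderOf_dvd_of_pow_eq_one (by
        rw [← map_pow, show (⟨s, hSN₀ hs⟩ : N₀) ^ p ^ j = 1 from Subtype.ext (by simpa using congrArg Subtype.val hj),
          map_one])))
    exact mul_inv_eq_iff_eq_mul.mp (show s * (y : G) * s⁻¹ = y from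
      congrArg Subtype.val (DFunLike.congr_fun h1 (⟨y, mem_map_of_mem _ hy⟩ : R)))
  -- Frattini
  have hEtop : E ≠ ⊤ := fun e => h.hM.1 (top_le_iff.mp (e ▸ hE.1))
  have hpl : PLengthLE p 1 E := S1410.result h.hG p E hEtop
  set S' : Sylow p E := S.subtype hSE with hS'
  have hS'map : (S' : Subgroup E).map E.subtype = S := by
    rw [hS', Sylow.coe_subtype, map_subgroupOf_eq_of_le hSE]
  have hle : pPrimeCore p E ≤ normalizer ((S' : Subgroup E) : Set E) := by
    refine fun x hx => ?_
    have hxC : (x : G) ∈ K := by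
      have : (pPrimeCore p E).Characteristic := PLocal.Cores.pPrimeCore_characteristic
      have hpc : (Nat.card ((pPrimeCore p E).map E.subtype : Subgroup G)).Coprime p := by
        rw [card_map_of_injective E.subtype_injective]
        exact PLocal.Cores.coprime_card_pPrimeCore
      set K₁ := (pPrimeCore p E).map E.subtype with hK₁
      have hEK₁ : E ≤ normalizer (K₁ : Set G) :=
        le_normalizer.trans (Coprime.OmegaDetect.normalizer_le_normalizer_char E _)
      have hK₁C : K₁ ≤ C := by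
        rw [hC, ← commutator_eq_bot_iff_le_centralizer, eq_bot_iff]
        refine le_trans (le_inf (Coprime.commutator_le_of_le_normalizer (hAE.trans hEK₁)) ?_)
          (disjoint_of_coprime_natCard ((h.hA.coprime_iff K₁).mpr
            (hp.out.coprime_iff_not_dvd.mp hpc.symm)).symm).le_bot
        rw [commutator_comm]
        exact Coprime.commutator_le_of_le_normalizer
          ((map_subtype_le _).trans (h.le_normalizer_compl hE hAE))
      have : (K₁.subgroupOf C).Normal :=
        (normal_subgroupOf_iff_le_normalizer hK₁C).mpr (hCE.trans hEK₁)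
      have hle' := PLocal.Cores.le_pPrimeCore (p := p) (N := K₁.subgroupOf C)
        (by rw [Nat.card_congr (subgroupOfEquivOfLe hK₁C).toEquiv]; exact hpc)
      exact ⟨⟨(x : G), hK₁C ⟨x, hx, rfl⟩⟩, hle' (mem_subgroupOf.mpr ⟨x, hx, rfl⟩), rfl⟩
    rw [hS', Sylow.coe_subtype, ← subgroupOf_normalizer_eq hSE]
    exact mem_subgroupOf.mpr (centralizer_le_normalizer _ (hKC hxC))
  have htop := OddLocal.pPrimeCore_sup_normalizer hpl S'
  intro x hx
  have h1 : (⟨x, hx⟩ : E) ∈ normalizer ((S' : Subgroup E) : Set E) := by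
    rw [show normalizer ((S' : Subgroup E) : Set E) = ⊤ from top_le_iff.mp (htop ▸ sup_le hle le_rfl)]
    exact mem_top _
  rw [hS', Sylow.coe_subtype, ← subgroupOf_normalizer_eq hSE] at h1
  exact mem_subgroupOf.mp h1

/-- An element of prime power order acting fixed-point-freely on `M_σ` normalises a line of `A`. -/
theorem Ctx.exists_invariant_line (h : Ctx p A M)
    (hab : ∀ S : Sylow p G, IsMulCommutative (S : Subgroup G)) (hE : IsComplIn E (sigmaCore M) M)
    (hAE : A ≤ E) {q : ℕ} [hq : Fact q.Prime] (hqσ : q ∉ sigma M) (hq1 : PRankLE q 1 M) {e : G} (he : e ∈ E)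
    (heq : IsPGroup q (zpowers e))
    (hfpf : ∀ x ∈ E, orderOf x = q → sigmaCore M ⊓ centralizer ({x} : Set G) = ⊥) :
    ∃ a ∈ A, a ≠ 1 ∧ e * a * e⁻¹ ∈ zpowers a := by
  by_contra hno
  push Not at hno
  have heN : e ∈ normalizer (A : Set G) := h.le_normalizer_compl hE hAE he
  have heC : e ∉ centralizer (A : Set G) := fun hc => by
    obtain ⟨a, ha, ha1⟩ := (bot_or_exists_ne_one A).resolve_left h.hA.ne_bot
    refine hno a ha ha1 ?_
    rw [← mem_centralizer_iff.mp hc a ha, mul_inv_cancel_right]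
    exact mem_zpowers a
  have hqp : q ≠ p := fun hh => h.hτ.2.2.2 (hh ▸ hq1)
  have hinv : ∀ U : Subgroup G, U ≤ A → (∀ a ∈ U, e * a * e⁻¹ ∈ U) → U = ⊥ ∨ U = A := by
    intro U hUA hU
    by_contra hcon
    push Not at hcon
    have hUc := h.hA.card_eq_of_lt hUA hcon.1 hcon.2
    obtain ⟨a, ha, ha1⟩ := (bot_or_exists_ne_one U).resolve_left hcon.1
    have heq' : zpowers a = U := eq_of_le_of_card_ge (zpowers_le.mpr ha)
      (by rw [hUc, h.hA.card_zpowers (hUA ha) ha1])
    exact hno a (hUA ha) ha1 (heq'.symm ▸ hU a ha)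
  -- the fixed points in `A` of elements of `N(A)` are invariant
  have hfix : ∀ g ∈ normalizer (A : Set G), g ∉ centralizer (A : Set G) →
      A ⊓ centralizer ({g} : Set G) = ⊥ := by
    intro g hg hgC
    refine (hinv _ inf_le_left fun a ha => mem_inf.mpr ⟨(mem_normalizer_iff.mp heN a).mp (mem_inf.mp ha).1,
      mem_centralizer_singleton_iff.mpr ?_⟩).resolve_right fun hh => hgC
        (mem_centralizer_iff.mpr fun a ha => mem_centralizer_singleton_iff.mp (hh.ge ha).2)
    have h1 : g * a = a * g := (mem_centralizer_singleton_iff.mp (mem_inf.mp ha).2).symm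
    have hb : e * a * e⁻¹ ∈ A := (mem_normalizer_iff.mp heN a).mp (mem_inf.mp ha).1
    have h2 := mem_centralizer_iff.mp (h.commutator_mem_centralizer hab hg heN) _ hb
    symm
    calc g * (e * a * e⁻¹) = ⁅g, e⁆ * e * (g * a) * g⁻¹ * e⁻¹ * ⁅g, e⁆⁻¹ * g := by
          rw [commutatorElement_def]; group
      _ = ⁅g, e⁆ * (e * a * e⁻¹) * ⁅g, e⁆⁻¹ * g := by rw [h1]; group
      _ = (e * a * e⁻¹) * g := by rw [← h2, mul_inv_cancel_right]
  have he1 : e ≠ 1 := fun hh => heC (hh ▸ one_mem _)
  obtain ⟨n, hn⟩ := heq.exists_card_eq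
  rw [Nat.card_zpowers] at hn
  have hn0 : n ≠ 0 := fun hh => he1 (orderOf_eq_one_iff.mp (by rw [hn, hh, pow_zero]))
  set x := e ^ (orderOf e / q) with hx
  have hxo : orderOf x = q := orderOf_pow_orderOf_div (orderOf_pos e).ne' (hn ▸ dvd_pow_self q hn0)
  have hxE : x ∈ E := pow_mem he _
  have hx1 : x ≠ 1 := fun hh => hq.out.ne_one (by rw [← hxo, hh, orderOf_one])
  have hσ := hfpf x hxE hxo
  have hxC : x ∈ centralizer (A : Set G) := by
    by_contra hxC
    have hxN : x ∈ normalizer (A : Set G) := pow_mem heN _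
    have hbot := hfix x hxN hxC
    have hc : (Nat.card (sigmaCore M)).Coprime (Nat.card A * Nat.card (zpowers x)) := by
      refine Nat.Coprime.mul_right h.coprime.symm ?_
      rw [Nat.card_zpowers, hxo]
      exact (hq.out.coprime_iff_not_dvd.mpr (Compl.not_dvd_sigmaCore hq.out hqσ)).symm
    have hH : FrobeniusFormula.Hyp (sigmaCore M) A (zpowers x) :=
      { hEU := zpowers_le.mpr hxN
        fpf := fun g hg hg1 u hu hcom => by
          have hgo : orderOf g = q := ((Nat.dvd_prime hq.out).mp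
            ((orderOf_dvd_natCard _ hg).trans (by rw [Nat.card_zpowers, hxo]))).resolve_left
              fun hh => hg1 (orderOf_eq_one_iff.mp hh)
          have hgz : zpowers g = zpowers x := eq_of_le_of_card_ge (zpowers_le.mpr hg)
            (by rw [Nat.card_zpowers, Nat.card_zpowers, hgo, hxo])
          have h1 : u ∈ centralizer (zpowers g : Set G) := by
            rw [TauTwo.centralizer_zpowers]; exact mem_centralizer_singleton_iff.mpr hcom.symm
          rw [hgz, TauTwo.centralizer_zpowers] at h1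
          have h2 : u ∈ A ⊓ centralizer ({x} : Set G) := mem_inf.mpr ⟨hu, h1⟩
          rwa [hbot, mem_bot] at h2
        hUH := h.hAM.trans (Sigma.le_normalizer_sigmaCore M)
        hEH := zpowers_le.mpr (Sigma.le_normalizer_sigmaCore M (hE.1 hxE))
        solv := Coprime.isSolvable_of_le (Sigma.sigmaCore_le M)
          (Transitivity.isSolvable_of_ne_top h.hG h.hM.1)
        cop := hc }
    have hf : FrobeniusFormula.Formula (sigmaCore M) A (zpowers x) := FrobeniusFormula.formula hH
    unfold FrobeniusFormula.Formula at hf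
    rw [TauTwo.centralizer_zpowers, hσ, h.inf_centralizer, FrobeniusFormula.centralizer_sup,
      ← inf_assoc, h.inf_centralizer, bot_inf_eq, card_bot, one_pow, one_mul, one_mul] at hf
    exact Sigma.sigmaCore_ne_bot h.hG h.hM (card_eq_one.mp hf)
  have hNx : ¬ normalizer (zpowers x : Set G) ≤ M := fun hle =>
    (S1409.result h.hG M h.hM q hqσ _ (by rw [Nat.card_zpowers, hxo]) hle).1.2 hq1
  obtain ⟨L, hL, hNL⟩ := (eq_top_or_exists_le_coatom (normalizer (zpowers x : Set G))).resolve_left
    (Transitivity.normalizer_ne_top h.hG (fun hh => hx1 (zpowers_eq_bot.mp hh))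
      fun hh => h.hM.1 (top_le_iff.mp (hh ▸ zpowers_le.mpr (hE.1 hxE))))
  have hne : L ≠ M := fun hh => hNx (hh ▸ hNL)
  have hCL : centralizer ({x} : Set G) ≤ L := by
    rw [← TauTwo.centralizer_zpowers]
    exact (centralizer_le_normalizer _).trans hNL
  have hAL : A ≤ L := fun a ha => hCL (mem_centralizer_singleton_iff.mpr
    (mem_centralizer_iff.mp hxC a ha))
  have heL : e ∈ L := hCL (mem_centralizer_singleton_iff.mpr ((Commute.refl e).pow_right _).eq)
  have hAeL : ∀ a ∈ A, ⁅e, a⁆ ∈ A := fun a ha =>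
    mul_mem ((mem_normalizer_iff.mp heN a).mp ha) (inv_mem ha)
  have hqL : q ∉ sigma L := fun hqL => heC (mem_centralizer_iff.mpr fun a ha => by
    have heσ : e ∈ sigmaCore L :=
      Sigma.sylow_le_sigmaCore h.hG hL hqL heq (zpowers_le.mpr heL) (mem_zpowers e)
    have hpow : ⁅e, a⁆ ^ p ^ 1 = 1 := by rw [pow_one]; exact h.hA.el.2 _ (hAeL a ha)
    by_cases hpL : p ∈ sigma L
    · refine (commute_of_not_beta h.hG hL (h.hA.dvd_card.trans (card_dvd_of_le hAL))
        (fun hb => (S1408.result h.hG M h.hM p h.hσ h.hτ.2.2.1 h.hτ.2.2.2).1 hb.2)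
        (Sigma.sigmaCore_le_commutator h.hG hL heσ) (Sigma.sigmaCore_le_commutator h.hG hL
          (Sigma.sylow_le_sigmaCore h.hG hL hpL h.hA.isPGroup hAL ha)) ?_ hpow).eq.symm
      rw [hn]
      exact ((Nat.coprime_primes hq.out hp.out).mpr hqp).pow_left n
    · have hcσ : ⁅e, a⁆ ∈ sigmaCore L := by
        have h1 := (mem_normalizer_iff.mp (Sigma.le_normalizer_sigmaCore L (hAL ha)) e⁻¹).mp (inv_mem heσ)
        simpa [commutatorElement_def, mul_assoc] using mul_mem heσ h1
      refine (commutatorElement_eq_one_iff_mul_comm.mp (orderOf_eq_one_iff.mp ?_)).symm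
      exact Nat.eq_one_of_dvd_coprimes ((hp.out.coprime_iff_not_dvd.mpr
        fun hd => hpL (Transitivity.isPi_piCoreOf (sigma L) L p hp.out hd)).pow_left 1)
        (orderOf_dvd_of_pow_eq_one hpow) (orderOf_dvd_natCard _ hcσ))
  have hqτ : q ∈ tau2 L := ⟨hq.out, hqL,
    (S1409.result h.hG L hL q hqL _ (by rw [Nat.card_zpowers, hxo]) hNL).1⟩
  have hpL : p ∈ sigma L := by
    by_contra hpL
    have h' : Ctx p A L := ⟨h.hG, hL, ⟨hp.out, hpL, SigmaCompl.rank_le h.hG hL hp.out hpL,
      Unique.not_pRankLE_of_elementary hAL h.hA.el h.hA.card.ge⟩, h.hA, hAL⟩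
    obtain ⟨E', hE', hAE'⟩ := Compl.exists_compl_ge h.hG hL hAL fun s hs hd =>
      (show s = p from (Cores.isPi_iff_isPGroup A).mpr h.hA.isPGroup s hs hd) ▸ hpL
    obtain ⟨B, hBE', hB⟩ := SigmaCompl.exists_ctx h.hG hL hE' hqτ
    have hBC : B ≤ centralizer (A : Set G) := by
      rw [← commutator_eq_bot_iff_le_centralizer, eq_bot_iff]
      refine le_trans (le_inf (Coprime.commutator_le_of_le_normalizer
        (hAE'.trans (hB.le_normalizer_compl hE' hBE'))) ?_)
        (IsPGroup.disjoint_of_ne q p hqp B A hB.hA.isPGroup h.hA.isPGroup).le_bot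
      rw [commutator_comm]
      exact Coprime.commutator_le_of_le_normalizer (hBE'.trans (h'.le_normalizer_compl hE' hAE'))
    exact Unique.not_pRankLE_of_elementary (hBC.trans h.hCA) hB.hA.el hB.hA.card.ge hq1
  obtain ⟨E', hE'⟩ := Compl.exists_compl h.hG hL
  obtain ⟨B, -, hB⟩ := SigmaCompl.exists_ctx h.hG hL hE' hqτ
  obtain ⟨T, hAT, hTL⟩ := Sigma.exists_sylow_ge hpL h.hA.isPGroup hAL
  have hBN : B ≤ normalizer (A : Set G) :=
    (hB.hAM.trans (hB.sylow_normal hpL T hTL)).trans (h.sylow_le_compl hab hE hAE T hAT).2.2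
  obtain ⟨b, hb, hbM⟩ := SetLike.not_le_iff_exists.mp fun hle : B ≤ M =>
    Unique.not_pRankLE_of_elementary hle hB.hA.el hB.hA.card.ge hq1
  -- a power of `e` inducing an automorphism of order `q`
  obtain ⟨j, hj1, hj2⟩ : ∃ j, e ^ q ^ j ∉ centralizer (A : Set G) ∧
      e ^ q ^ (j + 1) ∈ centralizer (A : Set G) := by
    by_contra hcon
    push Not at hcon
    have : ∀ j, e ^ q ^ j ∉ centralizer (A : Set G) := fun j => by
      induction j with
      | zero => simpa using heC
      | succ j ih => exact hcon j ih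
    exact this n (by rw [← hn, pow_orderOf_eq_one]; exact one_mem _)
  set e₁ := e ^ q ^ j with he₁
  have he₁E : e₁ ∈ E := pow_mem he _
  have he₁N : e₁ ∈ normalizer (A : Set G) := pow_mem heN _
  let _ : CommGroup A := { (inferInstance : Group A) with
    mul_comm := fun a b => Subtype.ext (Components.Hyperplane.mem_comm h.hA.el a.2 b.2) }
  set N := normalizer (A : Set G) with hN
  let φ : N →* MulAut A := A.normalizerMonoidHom
  have hker : ∀ g : N, φ g = 1 ↔ (g : G) ∈ centralizer (A : Set G) := by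
    intro g
    constructor
    · exact fun h1 => mem_centralizer_iff.mpr fun a ha => (mul_inv_eq_iff_eq_mul.mp
        (show (g : G) * a * (g : G)⁻¹ = a from congrArg Subtype.val (DFunLike.congr_fun h1 (⟨a, ha⟩ : A)))).symm
    · intro h1
      refine MulEquiv.ext fun a => Subtype.ext ?_
      show (g : G) * (a : G) * (g : G)⁻¹ = a
      rw [← mem_centralizer_iff.mp h1 _ a.2, mul_inv_cancel_right]
  let xb : φ.range := ⟨φ ⟨b, hBN hb⟩, _, rfl⟩
  let yb : φ.range := ⟨φ ⟨e₁, he₁N⟩, _, rfl⟩
  have hxy : Commute xb yb := by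
    refine Subtype.ext ?_
    show φ _ * φ _ = φ _ * φ _
    rw [← commutatorElement_eq_one_iff_mul_comm, ← map_commutatorElement, hker]
    exact h.commutator_mem_centralizer hab (hBN hb) he₁N
  have hyq : yb ^ q = 1 := Subtype.ext (by
    show φ _ ^ q = 1
    rw [← map_pow, hker]
    show e₁ ^ q ∈ _
    rw [he₁, ← pow_mul, ← pow_succ]; exact hj2)
  have hxq : xb ^ q = 1 := Subtype.ext (by
    show φ _ ^ q = 1
    rw [← map_pow, hker]
    show b ^ q ∈ _
    rw [hB.hA.el.2 b hb]; exact one_mem _)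
  have hy1 : yb ≠ 1 := fun hh => hj1 ((hker ⟨e₁, he₁N⟩).mp (congrArg Subtype.val hh))
  have hind : ∀ i : ℕ, xb * yb ^ i ≠ 1 := fun i hh => hbM (by
    have h1 : φ (⟨b, hBN hb⟩ * ⟨e₁, he₁N⟩ ^ i) = 1 := by
      rw [map_mul, map_pow]; exact congrArg Subtype.val hh
    have h2 : b * e₁ ^ i ∈ M := h.hCA ((hker _).mp h1)
    exact (mul_mem_cancel_right (pow_mem (hE.1 he₁E) i)).mp h2)
  obtain ⟨a, ha, ha1⟩ := (bot_or_exists_ne_one A).resolve_left h.hA.ne_bot
  have haq := Coprime.pow_mem_of_fixed_mem φ.range.subtype (⊥ : Subgroup A) hq.out hxy hyq hxq hy1 hind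
    (fun g v hg hgv => by
      obtain ⟨w, hw⟩ := g.2
      have hwC : (w : G) ∉ centralizer (A : Set G) := fun hh => hg (Subtype.ext (by
        rw [← hw]; exact (hker w).mpr hh))
      have h3 : (v : G) ∈ A ⊓ centralizer ({(w : G)} : Set G) := mem_inf.mpr ⟨v.2,
        mem_centralizer_singleton_iff.mpr (mul_inv_eq_iff_eq_mul.mp
          (show (w : G) * (v : G) * (w : G)⁻¹ = v from by
            have h4 : φ w v = v := by rw [hw]; exact hgv
            exact congrArg Subtype.val h4)).symm⟩
      rw [hfix w w.2 hwC, mem_bot] at h3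
      exact mem_bot.mpr (Subtype.ext h3)) ⟨a, ha⟩
  have h5 : a ^ q = 1 := congrArg Subtype.val (mem_bot.mp haq)
  exact ha1 (orderOf_eq_one_iff.mp (Nat.eq_one_of_dvd_coprimes ((Nat.coprime_primes hq.out hp.out).mpr hqp)
    (orderOf_dvd_of_pow_eq_one h5) (orderOf_dvd_of_pow_eq_one (h.hA.el.2 a ha))))

end Cfsg.Agent.OddLocal.TauTwo
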