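import Cfsg.Agent.OddLocal.TauTwoSylow
import Cfsg.Agent.Solvable.Thompson

/-! The core `M_σ` at a prime of `τ₂(M)` (BG 12.5). -/

set_option autoImplicit false
set_option linter.unusedSectionVars false

namespace Cfsg.Agent.OddLocal.TauTwo

open Cfsg Subgroup MaxStruct
open scoped commutatorElement
open Cfsg.Agent.Transfer.Fusion (map_conj_mul card_map_conj map_conj_eq_self_iff map_conj_inv_cancel)
open P2Elem (omegaCenter centralizer_singleton_le centralizer_le_singleton)

variable {G : Type*} [Group G] [Finite G] {p : ℕ} [hp : Fact p.Prime] {A M : Subgroup G}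

/-- The standing hypotheses of this file. -/
structure Ctx (p : ℕ) (A M : Subgroup G) : Prop where
  hG : IsMinSimpleOddOrder G
  hM : IsCoatom M
  hτ : p ∈ tau2 M
  hA : Max2 p A
  hAM : A ≤ M

theorem Ctx.mk' (hG : IsMinSimpleOddOrder G) (hM : IsCoatom M) (hτ : p ∈ tau2 M) (hAM : A ≤ M)
    (hAe : IsElementaryAbelian p A) (hAc : Nat.card A = p ^ 2) : Ctx p A M :=
  ⟨hG, hM, hτ, max2 hG hM hτ hAM hAe hAc, hAM⟩

theorem Ctx.hσ (h : Ctx p A M) : p ∉ sigma M := h.hτ.2.1

theorem Ctx.hα (h : Ctx p A M) : p ∉ alpha M := fun hα => hα.2 h.hτ.2.2.1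

theorem Ctx.hCA (h : Ctx p A M) : centralizer (A : Set G) ≤ M := centralizer_le h.hG h.hM h.hA h.hAM

theorem Ctx.coprime (h : Ctx p A M) : (Nat.card A).Coprime (Nat.card (sigmaCore M)) :=
  (h.hA.coprime_iff _).mpr fun hd => h.hσ (Transitivity.isPi_piCoreOf (sigma M) M p hp.out hd)

theorem Ctx.solvable (h : Ctx p A M) : Group.IsSolvable A :=
  @Coprime.isSolvable_of_isMulCommutative G _ A h.hA.comm

theorem Ctx.inf_centralizer (h : Ctx p A M) : sigmaCore M ⊓ centralizer (A : Set G) = ⊥ := by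
  by_contra hne
  obtain ⟨q, hq, hqd⟩ := Nat.exists_prime_and_dvd
    (fun e : Nat.card (sigmaCore M ⊓ centralizer (A : Set G) : Subgroup G) = 1 => hne (card_eq_one.mp e))
  have := Fact.mk hq
  obtain ⟨x, hx⟩ := exists_prime_orderOf_dvd_card' q hqd
  have hqσ : q ∈ sigma M := Transitivity.isPi_piCoreOf (sigma M) M q hq
    (hqd.trans (card_dvd_of_le inf_le_left))
  have hqp : q ≠ p := fun e => h.hσ (e ▸ hqσ)
  have hxq : IsPGroup q (zpowers (x : G)) :=
    IsPGroup.of_card (n := 1) (by rw [Nat.card_zpowers, orderOf_coe, hx, pow_one])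
  have hxA : A ≤ normalizer (zpowers (x : G) : Set G) :=
    (le_centralizer_iff.mp (zpowers_le.mpr (mem_inf.mp x.2).2)).trans (centralizer_le_normalizer _)
  obtain ⟨Q₀, hxQ, hAQ⟩ := Coprime.exists_invariant_sylow_ge
    (h.hAM.trans (Sigma.le_normalizer_sigmaCore M)) h.coprime (Or.inl h.solvable)
    (zpowers_le.mpr (mem_inf.mp x.2).1) hxq hxA
  obtain ⟨Q, hQ⟩ := exists_sylow_of_core h.hG h.hM hqσ Q₀
  rw [← hQ] at hxQ hAQ
  have hQM : (Q : Subgroup G) ≤ M := hQ ▸ (map_subtype_le _).trans (Sigma.sigmaCore_le M)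
  obtain ⟨n, hn, hnM⟩ := exists_not_mem h.hG h.hM h.hτ h.hA h.hAM
  obtain ⟨a, ha, ha1⟩ := (bot_or_exists_ne_one A).resolve_left h.hA.ne_bot
  have hne' : ∀ b ∈ A, (Q : Subgroup G) ⊓ centralizer ({b} : Set G) ≠ ⊥ := fun b hb e => hq.ne_one (by
    have h1 : (x : G) ∈ (⊥ : Subgroup G) :=
      e ▸ mem_inf.mpr ⟨hxQ (mem_zpowers _), centralizer_le_singleton hb (mem_inf.mp x.2).2⟩
    rw [← hx, ← orderOf_coe, mem_bot.mp h1, orderOf_one])
  exact hnM (h.hA.mem_of_meet h.hG hqp Q hAQ (Sigma.sylow_normalizer_le hqσ Q hQM) h.hCA hn ha ha1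
    (hne' a ha) (hne' _ ((mem_normalizer_iff.mp hn a).mp ha)))

variable {q : ℕ} [hq : Fact q.Prime]

/-- The main intersection step. -/
theorem Ctx.inter (h : Ctx p A M) (hqσ : q ∈ sigma M) (Q : Sylow q G) (hQM : (Q : Subgroup G) ≤ M)
    (hAQ : A ≤ normalizer ((Q : Subgroup G) : Set G))
    (hQu : ∀ H : Subgroup G, IsCoatom H → normalizer ((Q : Subgroup G) : Set G) ≤ H → H = M)
    (hCZ : centralizer (omegaCenter q (Q : Subgroup G) : Set G) ≤ M) {L : Subgroup G} (hL : IsCoatom L)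
    (hne : L ≠ M) (hAL : A ≤ L) {a : G} (ha : a ∈ A) (ha1 : a ≠ 1) :
    (Q : Subgroup G) ⊓ centralizer ({a} : Set G) ⊓ L = ⊥ := by
  by_contra hR1
  set R := (Q : Subgroup G) ⊓ centralizer ({a} : Set G) ⊓ L with hR
  have hqp : q ≠ p := fun e => h.hσ (e ▸ hqσ)
  have hAR : A ≤ normalizer (R : Set G) :=
    (le_inf (h.hA.le_normalizer_inf_centralizer hAQ ha) (hAL.trans le_normalizer)).trans
      inf_normalizer_le_normalizer_inf
  have hQσ : (Q : Subgroup G) ≤ sigmaCore M := Sigma.sylow_le_sigmaCore h.hG h.hM hqσ Q.isPGroup' hQM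
  have hfix : ∀ X : Subgroup G, X ≤ (Q : Subgroup G) → X ⊓ centralizer (A : Set G) = ⊥ := fun X hX =>
    le_bot_iff.mp ((inf_le_inf_right _ (hX.trans hQσ)).trans h.inf_centralizer.le)
  have hRQ : R ≤ (Q : Subgroup G) := inf_le_left.trans inf_le_left
  have hRA : ⁅R, A⁆ = R := h.hA.commutator_eq_self hAR
    (h.hA.coprime_of_isPGroup hqp (Q.isPGroup'.to_le hRQ)) (hfix R hRQ)
  have hside : Max2.Side p q A M L Q :=
    { hG := h.hG, hA := h.hA, hM := h.hM, hAM := h.hAM, hpα := h.hα, hqp := hqp, hqσ := hqσ, hQM := hQM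
      hAQ := hAQ, hQu := hQu, hL := hL, hne := hne, hAL := hAL
      hCA := centralizer_le h.hG hL h.hA hAL }
  obtain ⟨-, -, hinv⟩ := hside.main ha ha1 hR1 hRQ inf_le_right (inf_le_left.trans inf_le_right) hAR hRA
    fun hqL hpL hZ0 hZQ _ => hside.center_case (q := q) (Z₁ := omegaCenter q (Q : Subgroup G)) hqL
      (P2Elem.omegaCenter_le _) (P2Elem.omegaCenter_le_centralizer _)
      (hAQ.trans (P2Elem.normalizer_le_normalizer_omegaCenter _)) (hfix _ (P2Elem.omegaCenter_le _))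
      hCZ hpL hZ0 hZQ
  obtain ⟨n, hn, hnM⟩ := exists_not_mem h.hG h.hM h.hτ h.hA h.hAM
  have hmem : n * a * n⁻¹ ∈ zpowers a := (mem_normalizer_iff.mp (hinv hn) a).mp (mem_zpowers a)
  have hQa : (Q : Subgroup G) ⊓ centralizer ({a} : Set G) ≠ ⊥ := fun e => hR1 (le_bot_iff.mp (e ▸ inf_le_left))
  refine hnM (h.hA.mem_of_meet h.hG hqp Q hAQ (Sigma.sylow_normalizer_le hqσ Q hQM) h.hCA hn ha ha1 hQa
    fun e => hQa (le_bot_iff.mp (le_trans ?_ e.le)))
  refine inf_le_inf_left _ fun y hy => mem_centralizer_singleton_iff.mpr ?_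
  obtain ⟨i, hi⟩ := mem_zpowers_iff.mp hmem
  rw [← hi]
  exact ((show Commute y a from mem_centralizer_singleton_iff.mp hy).zpow_right i).eq

/-- A normal Hall subgroup of `M` inside `M_σ`, at whose primes the Sylow subgroups pin down `M`. -/
structure Good (M K : Subgroup G) : Prop where
  le : K ≤ sigmaCore M
  normal : M ≤ normalizer (K : Set G)
  hall : ∀ r : ℕ, r.Prime → r ∣ Nat.card K → ¬ r ∣ K.index
  uniq : ∀ (r : ℕ) [Fact r.Prime], r ∣ Nat.card K → ∀ Q : Sylow r G, (Q : Subgroup G) ≤ M →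
    (∀ H : Subgroup G, IsCoatom H → normalizer ((Q : Subgroup G) : Set G) ≤ H → H = M) ∧
      centralizer (omegaCenter r (Q : Subgroup G) : Set G) ≤ M

theorem Ctx.good_inf (h : Ctx p A M) {K : Subgroup G} (hK : Good M K) {L : Subgroup G} (hL : IsCoatom L)
    (hne : L ≠ M) (hAL : A ≤ L) : K ⊓ L = ⊥ := by
  by_contra hbot
  obtain ⟨r, hr, hrd⟩ := Nat.exists_prime_and_dvd
    (fun e : Nat.card (K ⊓ L : Subgroup G) = 1 => hbot (card_eq_one.mp e))
  have := Fact.mk hr
  have hrK : r ∣ Nat.card K := hrd.trans (card_dvd_of_le inf_le_left)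
  have hrσ : r ∈ sigma M := Transitivity.isPi_piCoreOf (sigma M) M r hr (hrK.trans (card_dvd_of_le hK.le))
  have hrp : r ≠ p := fun e => h.hσ (e ▸ hrσ)
  have hAK : A ≤ normalizer (K : Set G) := h.hAM.trans hK.normal
  have hcK : (Nat.card A).Coprime (Nat.card K) := h.coprime.coprime_dvd_right (card_dvd_of_le hK.le)
  have hAKL : A ≤ normalizer ((K ⊓ L : Subgroup G) : Set G) :=
    (le_inf hAK (hAL.trans le_normalizer)).trans inf_normalizer_le_normalizer_inf
  obtain ⟨R₀, hAR⟩ := Coprime.exists_invariant_sylow r hAKL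
    (hcK.coprime_dvd_right (card_dvd_of_le inf_le_left)) (Or.inl h.solvable)
  set R := (R₀ : Subgroup ↥(K ⊓ L)).map (K ⊓ L : Subgroup G).subtype with hR
  have hR1 : ¬ R ≤ ⊥ := fun e => R₀.ne_bot_of_dvd_card hrd
    ((map_eq_bot_iff_of_injective _ (Subgroup.subtype_injective _)).mp (le_bot_iff.mp e))
  have hRK : R ≤ K := (map_subtype_le _).trans inf_le_left
  obtain ⟨Q₀, hRQ, hAQ⟩ := Coprime.exists_invariant_sylow_ge hAK hcK (Or.inl h.solvable) hRK
    (R₀.isPGroup'.map _) hAR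
  set Q' := (Q₀ : Subgroup K).map K.subtype with hQ'
  have hQi : ¬ r ∣ Q'.index := by
    rw [hQ', index_map_subtype]
    exact fun hd => (hr.dvd_mul.mp hd).elim Q₀.not_dvd_index (hK.hall r hr hrK)
  set Q : Sylow r G := (Q₀.isPGroup'.map K.subtype).toSylow hQi with hQdef
  have hQM : (Q : Subgroup G) ≤ M := (map_subtype_le _).trans (hK.le.trans (Sigma.sigmaCore_le M))
  obtain ⟨hQu, hCZ⟩ := hK.uniq r hrK Q hQM
  have hcR : (Nat.card A).Coprime (Nat.card R) := hcK.coprime_dvd_right (card_dvd_of_le hRK)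
  obtain ⟨a, ha, ha1, hane⟩ := h.hA.exists_fixed hAR hcR hR1
  refine hane ((le_of_le_of_eq ?_ (h.inter hrσ Q hQM hAQ hQu hCZ hL hne hAL ha ha1)))
  exact le_inf (inf_le_inf_right _ hRQ) (inf_le_left.trans ((map_subtype_le _).trans inf_le_right))

theorem Ctx.good_unique (h : Ctx p A M) {K : Subgroup G} (hK : Good M K) {a : G} (ha : a ∈ A)
    (hne : K ⊓ centralizer ({a} : Set G) ≠ ⊥) {L : Subgroup G} (hL : IsCoatom L)
    (hCL : centralizer ({a} : Set G) ≤ L) : L = M := by
  by_contra hLM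
  exact hne (le_bot_iff.mp ((inf_le_inf_left K hCL).trans
    (h.good_inf hK hL hLM ((h.hA.le_centralizer_singleton ha).trans hCL)).le))

theorem Ctx.good_centralizer_le (h : Ctx p A M) {K : Subgroup G} (hK : Good M K) {a : G} (ha : a ∈ A)
    (ha1 : a ≠ 1) (hne : K ⊓ centralizer ({a} : Set G) ≠ ⊥) : centralizer ({a} : Set G) ≤ M := by
  obtain ⟨L, hL, hCL⟩ := (eq_top_or_exists_le_coatom (centralizer ({a} : Set G))).resolve_left
    (Max2.centralizer_ne_top h.hG ha1)
  exact h.good_unique hK ha hne hL hCL ▸ hCL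

theorem Ctx.exists_fpf (h : Ctx p A M) {K : Subgroup G} (hK : Good M K) {k : Subgroup G}
    (hk : ¬ A ≤ k) : ∃ a ∈ A, a ∉ k ∧ K ⊓ centralizer ({a} : Set G) = ⊥ := by
  obtain ⟨n, hn, hnM⟩ := exists_not_mem h.hG h.hM h.hτ h.hA h.hAM
  obtain ⟨a, ha, hak, hank⟩ := Max2.exists_avoid (A := A) hk
    (k₂ := k.map (MulAut.conj n⁻¹).toMonoidHom) fun hle => hk (by
      have h1 := map_mono (f := (MulAut.conj n).toMonoidHom) hle
      rwa [map_conj_eq_self_iff.mpr hn, ← map_conj_mul, mul_inv_cancel,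
        Transfer.Fusion.map_conj_one] at h1)
  have hank' : n * a * n⁻¹ ∉ k := fun h' => hank (by
    rw [Transfer.Fusion.mem_map_conj]; simpa using h')
  by_cases h1 : K ⊓ centralizer ({a} : Set G) = ⊥
  · exact ⟨a, ha, hak, h1⟩
  refine ⟨n * a * n⁻¹, (mem_normalizer_iff.mp hn a).mp ha, hank', ?_⟩
  by_contra h2
  have ha1 : a ≠ 1 := fun e => hank' (by rw [e, mul_one, mul_inv_cancel]; exact one_mem k)
  have hle := h.good_centralizer_le hK ha ha1 h1
  have hC : centralizer ({n * a * n⁻¹} : Set G) =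
      (centralizer ({a} : Set G)).map (MulAut.conj n).toMonoidHom := by
    ext y
    rw [Transfer.Fusion.mem_map_conj, mem_centralizer_singleton_iff, mem_centralizer_singleton_iff]
    constructor
    · intro e
      calc n⁻¹ * y * n * a = n⁻¹ * (y * (n * a * n⁻¹)) * n := by group
        _ = n⁻¹ * (n * a * n⁻¹ * y) * n := by rw [e]
        _ = a * (n⁻¹ * y * n) := by group
    · intro e
      calc y * (n * a * n⁻¹) = n * (n⁻¹ * y * n * a) * n⁻¹ := by group
        _ = n * (a * (n⁻¹ * y * n)) * n⁻¹ := by rw [e]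
        _ = n * a * n⁻¹ * y := by group
  have h3 := h.good_unique hK ((mem_normalizer_iff.mp hn a).mp ha) h2
    (Unique.isCoatom_map_conj h.hM n) (hC ▸ map_mono hle)
  refine hnM ?_
  rw [← Sigma.normalizer_eq_self h.hG h.hM]
  exact map_conj_eq_self_iff.mp h3

theorem Ctx.good_alpha (h : Ctx p A M) : Good M (alphaCore M) where
  le := Sigma.alphaCore_le_sigmaCore h.hG h.hM
  normal := Sigma.le_normalizer_alphaCore M
  hall := fun r hr hd => (Sigma.alphaCore_hall h.hG h.hM).2.2 r hr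
    (Transitivity.isPi_piCoreOf (alpha M) M r hr hd)
  uniq := by
    intro r hr hd Q hQM
    have hrα := Transitivity.isPi_piCoreOf (alpha M) M r hr.out hd
    obtain ⟨B, hBM, hBe, hBc⟩ := Unique.exists_elementary_of_not_pRankLE hrα.2
    obtain ⟨g, hg, hBQ⟩ := Transfer.Fusion.exists_conj_le_of_isPGroup Q hQM
      (Components.Hyperplane.isPGroup hBe) hBM
    have hBge : IsElementaryAbelian r (B.map (MulAut.conj g).toMonoidHom) := by
      refine ⟨?_, ?_⟩
      · have := hBe.1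
        exact map_isMulCommutative B _
      · rintro _ ⟨b, hb, rfl⟩
        rw [← map_pow, hBe.2 b hb, map_one]
    have hQ3 : ¬ PRankLE r 2 (Q : Subgroup G) :=
      Unique.not_pRankLE_of_elementary hBQ hBge (by rw [card_map_conj]; exact hBc.ge)
    have hU := Unique.uniqueness h.hG (K := (Q : Subgroup G))
      (fun e => h.hM.1 (top_le_iff.mp (e ▸ hQM)))
      (fun h => hQ3 fun E hE hE' =>
        (h r hr.out E hE hE').trans (Nat.pow_le_pow_right hr.out.pos (by norm_num)))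
      (Or.inl fun h => hQ3 (h r hr.out))
    refine ⟨fun H hH hN => hU.unique ⟨hH, le_normalizer.trans hN⟩ ⟨h.hM, hQM⟩, ?_⟩
    obtain ⟨z, hz, hz1⟩ := (bot_or_exists_ne_one _).resolve_left
      (P2Elem.omegaCenter_ne_bot (q := r) Q.isPGroup' (Unique.ne_bot h.hG hU))
    exact (centralizer_le_singleton hz).trans (Unique.le_max hU h.hM hQM
      (Transitivity.centralizer_ne_top h.hG rfl hz1) fun y hy =>
        mem_centralizer_singleton_iff.mpr (mem_centralizer_iff.mp hz.2.1 y hy))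

theorem Ctx.alphaCore_nilpotent (h : Ctx p A M) : Group.IsNilpotent (alphaCore M) := by
  obtain ⟨a, ha, ha1, hfix⟩ := h.exists_fpf h.good_alpha (k := ⊥) fun e => h.hA.ne_bot (le_bot_iff.mp e)
  set K := alphaCore M
  have haK : a ∈ normalizer (K : Set G) := Sigma.le_normalizer_alphaCore M (h.hAM ha)
  refine Solvable.Thompson.isNilpotent_of_fixedPointFree (K.normalizerMonoidHom ⟨a, haK⟩) hp.out
    (fun x hx => ?_) ?_
  · have h1 : (x : G) ∈ K ⊓ centralizer ({a} : Set G) := mem_inf.mpr ⟨x.2,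
      mem_centralizer_singleton_iff.mpr (mul_inv_eq_iff_eq_mul.mp
        (show a * (x : G) * a⁻¹ = x from congrArg Subtype.val hx)).symm⟩
    rw [hfix, mem_bot] at h1
    exact Subtype.ext h1
  · rw [← map_pow]
    refine (congrArg _ (Subtype.ext ?_)).trans (map_one _)
    exact h.hA.el.2 a ha

/-- `M' ∩ C(M_α)` is nilpotent. -/
theorem commutator_inf_centralizer_nilpotent (hG : IsMinSimpleOddOrder G) (hM : IsCoatom M) :
    Group.IsNilpotent ↥(⁅M, M⁆ ⊓ centralizer (alphaCore M : Set G)) := by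
  set Y := ⁅M, M⁆ ⊓ centralizer (alphaCore M : Set G) with hY
  have hYM : Y ≤ M := inf_le_left.trans (commutator_le_self M)
  have := (S1405.result hG M hM).2.2.2.2
  let f : Y →* ↥M ⧸ piCore (alpha M) ↥M := (QuotientGroup.mk' _).comp (inclusion hYM)
  have hrange : f.range ≤ (commutator ↥M).map (QuotientGroup.mk' (piCore (alpha M) ↥M)) := by
    rintro _ ⟨y, rfl⟩
    refine mem_map_of_mem _ ?_
    rw [← mem_map_iff_mem M.subtype_injective, map_subtype_commutator]
    exact (mem_inf.mp y.2).1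
  have hrn : Group.IsNilpotent f.range := Cores.isNilpotent_to_le hrange this
  refine Subgroup.isNilpotent_of_ker_le_center f.rangeRestrict ?_
  rw [MonoidHom.ker_rangeRestrict]
  intro y hy
  refine mem_center_iff.mpr fun z => Subtype.ext ?_
  have h1 : (y : G) ∈ alphaCore M := ⟨inclusion hYM y, (QuotientGroup.eq_one_iff _).mp hy, rfl⟩
  exact (mem_centralizer_iff.mp (mem_inf.mp z.2).2 _ h1).symm

theorem Ctx.sylow_le_centralizer_alphaCore (h : Ctx p A M) {r : ℕ} [hr : Fact r.Prime]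
    (hrσ : r ∈ sigma M) (hrα : r ∉ alpha M) :
    ∃ Q : Sylow r G, (Q : Subgroup G) ≤ sigmaCore M ∧
      (Q : Subgroup G) ≤ centralizer (alphaCore M : Set G) := by
  set K := alphaCore M with hK
  have hrp : r ≠ p := fun e => h.hσ (e ▸ hrσ)
  obtain ⟨Q₀, hAQ⟩ := Coprime.exists_invariant_sylow r (h.hAM.trans (Sigma.le_normalizer_sigmaCore M))
    h.coprime (Or.inl h.solvable)
  obtain ⟨Q, hQ⟩ := exists_sylow_of_core h.hG h.hM hrσ Q₀
  rw [← hQ] at hAQ
  have hQσ : (Q : Subgroup G) ≤ sigmaCore M := hQ ▸ map_subtype_le _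
  refine ⟨Q, hQσ, ?_⟩
  have hQM := hQσ.trans (Sigma.sigmaCore_le M)
  have hnil := h.alphaCore_nilpotent
  have hKM : K ≤ M := Sigma.alphaCore_le M
  have hpK : ∀ s : ℕ, s.Prime → s ∣ Nat.card K → s ∈ alpha M := Transitivity.isPi_piCoreOf (alpha M) M
  have hr2 : r ≠ 2 := Unique.ne_two h.hG hrσ.2.1
  -- an element without fixed points on `M_α` moves `Q` into the centraliser of `M_α`
  have hmove : ∀ b ∈ A, b ≠ 1 → K ⊓ centralizer ({b} : Set G) = ⊥ →
      ⁅(Q : Subgroup G), zpowers b⁆ ≤ centralizer (K : Set G) := by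
    intro b hb hb1 hbK
    rw [le_centralizer_iff]
    refine CN.le_of_forall_isPGroup fun s hs x hx hxs => ?_
    have := Fact.mk hs
    by_cases hsK : s ∣ Nat.card K
    swap
    · have hx1 : x = 1 := by
        obtain ⟨n, hn⟩ := hxs.exists_card_eq
        rw [Nat.card_zpowers] at hn
        rcases n.eq_zero_or_pos with rfl | hn0
        · exact orderOf_eq_one_iff.mp (by simpa using hn)
        · exact absurd ((hn ▸ dvd_pow_self s hn0.ne').trans (orderOf_dvd_natCard K hx)) hsK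
      rw [hx1]; exact one_mem _
    have hsα := hpK s hs hsK
    have hsr : s ≠ r := fun e => hrα (e ▸ hsα)
    have hsp : s ≠ p := fun e => h.hα (e ▸ hsα)
    set D := (pCore s K).map K.subtype with hD
    have hxD : x ∈ D := by
      obtain ⟨S, hS⟩ := (hxs.comap_subtype (K := K)).exists_le_sylow
      have hSn : (S : Subgroup K).Normal :=
        (Group.isNilpotent_of_finite_tfae.out 0 3 rfl rfl).1 hnil s inferInstance S
      exact ⟨⟨x, hx⟩, Cores.le_pCore (hN := hSn) S.isPGroup'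
        (hS (show (⟨x, hx⟩ : K) ∈ (zpowers x).comap K.subtype from mem_zpowers x)), rfl⟩
    have : (pCore s K).Characteristic := Cores.pCore_characteristic s
    have hMD : M ≤ normalizer (D : Set G) := (Sigma.le_normalizer_alphaCore M).trans
      (Coprime.OmegaDetect.normalizer_le_normalizer_char K (pCore s K))
    have hDM : D ≤ M := (map_subtype_le _).trans hKM
    have hDn : (D.subgroupOf M).Normal := (normal_subgroupOf_iff_le_normalizer hDM).mpr hMD
    have hbM : zpowers b ≤ M := zpowers_le.mpr (h.hAM hb)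
    have h' := FPFFitting.commutator_le_centralizer_sylow (q := r) (r := p) (s := s)
      (D := D.subgroupOf M) (Q := (Q : Subgroup G).subgroupOf M) (X := (zpowers b).subgroupOf M)
      ((Cores.pCore_isPGroup s).map K.subtype).comap_subtype Q.isPGroup'.comap_subtype
      (by rw [Nat.card_congr (subgroupOfEquivOfLe hbM).toEquiv, h.hA.card_zpowers hb hb1])
      hp.out hsr hsp hrp hr2
      (by
        rw [← subgroupOf_normalizer_eq hQM]
        exact comap_mono ((zpowers_le.mpr hb).trans hAQ))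
      (by
        rw [eq_bot_iff]
        intro y hy
        have h1 : (y : G) ∈ K ⊓ centralizer ({b} : Set G) :=
          mem_inf.mpr ⟨map_subtype_le _ (mem_inf.mp hy).1, mem_centralizer_singleton_iff.mpr
            (congrArg Subtype.val (mem_centralizer_iff.mp (mem_inf.mp hy).2 ⟨b, h.hAM hb⟩
              (mem_zpowers b))).symm⟩
        rw [hbK, mem_bot] at h1
        exact mem_bot.mpr (Subtype.ext h1))
    have h2 := map_mono (f := M.subtype) h'
    rw [Subgroup.map_commutator, map_subgroupOf_eq_of_le hQM, map_subgroupOf_eq_of_le hbM] at h2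
    refine mem_centralizer_iff.mpr fun t ht => ?_
    obtain ⟨t', ht', rfl⟩ := h2 ht
    exact (congrArg Subtype.val (mem_centralizer_iff.mp ht' ⟨x, hDM hxD⟩ hxD)).symm
  obtain ⟨a₁, ha₁, ha₁k, ha₁K⟩ := h.exists_fpf h.good_alpha (k := ⊥)
    fun e => h.hA.ne_bot (le_bot_iff.mp e)
  have ha₁1 : a₁ ≠ 1 := fun e => ha₁k (e ▸ one_mem _)
  obtain ⟨a₂, ha₂, ha₂k, ha₂K⟩ := h.exists_fpf h.good_alpha (h.hA.zpowers_ne ha₁)
  have ha₂1 : a₂ ≠ 1 := fun e => ha₂k (e ▸ one_mem _)
  set C := (Q : Subgroup G) ⊓ centralizer ({a₁} : Set G) with hC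
  have hAC : A ≤ normalizer (C : Set G) := h.hA.le_normalizer_inf_centralizer hAQ ha₁
  have hcQ := h.hA.coprime_of_isPGroup hrp Q.isPGroup'
  have hcC := hcQ.coprime_dvd_right (card_dvd_of_le (inf_le_left : C ≤ Q))
  have hCA : ⁅C, A⁆ = C := h.hA.commutator_eq_self hAC hcC
    (le_bot_iff.mp ((inf_le_inf_right _ (inf_le_left.trans hQσ)).trans h.inf_centralizer.le))
  have hCC : C ≤ centralizer (K : Set G) := by
    rw [← h.hA.commutator_zpowers_eq hAC hcC (zpowers_le.mpr ha₁) (h.hA.card_zpowers ha₁ ha₁1)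
      (zpowers_le.mpr (mem_centralizer_iff.mpr fun y hy =>
        mem_centralizer_singleton_iff.mp (mem_inf.mp hy).2)) hCA ha₂ ha₂k]
    exact (commutator_mono inf_le_left le_rfl).trans (hmove a₂ ha₂ ha₂1 ha₂K)
  intro y hy
  obtain ⟨c, hc, x, hx, rfl⟩ := Coprime.exists_eq_centralizer_mul_commutator
    ((zpowers_le.mpr ha₁).trans hAQ) (hcQ.coprime_dvd_left (card_dvd_of_le (zpowers_le.mpr ha₁)))
    (Or.inl inferInstance) hy
  refine mul_mem (hCC (mem_inf.mpr ⟨(mem_inf.mp hc).1, mem_centralizer_singleton_iff.mpr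
    (mem_centralizer_iff.mp (mem_inf.mp hc).2 a₁ (mem_zpowers a₁)).symm⟩)) (hmove a₁ ha₁ ha₁1 ha₁K hx)

omit hq in
/-- A nilpotent normal subgroup of `M` containing a Sylow subgroup of `G` makes it normal in `M`. -/
theorem le_normalizer_of_nilpotent {r : ℕ} [Fact r.Prime] {Y : Subgroup G} (hY : Group.IsNilpotent Y)
    (hMY : M ≤ normalizer (Y : Set G)) (Q : Sylow r G) (hQY : (Q : Subgroup G) ≤ Y) :
    M ≤ normalizer ((Q : Subgroup G) : Set G) := by
  intro m hm
  rw [← map_conj_eq_self_iff]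
  refine eq_of_le_of_card_ge ?_ (by rw [card_map_conj])
  refine Compl.le_of_nilpotent_hall hY hQY ?_ fun s hs hd => ?_
  · rw [← map_conj_eq_self_iff.mpr (hMY hm)]
    exact map_mono hQY
  · have : s = r := (Cores.isPi_iff_isPGroup _).mpr (Q.isPGroup'.map _) s hs hd
    subst this
    exact P2Elem.not_dvd_relIndex hQY Q.not_dvd_index

theorem Ctx.sylow_normal (h : Ctx p A M) {r : ℕ} [hr : Fact r.Prime] (hrσ : r ∈ sigma M) (Q : Sylow r G)
    (hQM : (Q : Subgroup G) ≤ M) : M ≤ normalizer ((Q : Subgroup G) : Set G) := by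
  by_cases hrα : r ∈ alpha M
  · exact le_normalizer_of_nilpotent h.alphaCore_nilpotent (Sigma.le_normalizer_alphaCore M) Q
      (Sigma.le_alphaCore h.hG h.hM hQM fun s hs hd =>
        ((Cores.isPi_iff_isPGroup (Q : Subgroup G)).mpr Q.isPGroup' s hs hd : s = r) ▸ hrα)
  obtain ⟨Q₁, hQ₁σ, hQ₁C⟩ := h.sylow_le_centralizer_alphaCore hrσ hrα
  set Y := ⁅M, M⁆ ⊓ centralizer (alphaCore M : Set G) with hY
  have hMY : M ≤ normalizer (Y : Set G) := by
    refine (le_inf ?_ ?_).trans inf_normalizer_le_normalizer_inf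
    · intro l hl
      rw [← map_conj_eq_self_iff, Subgroup.map_commutator, map_conj_eq_self_iff.mpr (le_normalizer hl)]
    · exact (Sigma.le_normalizer_alphaCore M).trans (CharP.normalizer_le_normalizer_centralizer _)
  have hQ₁n := le_normalizer_of_nilpotent (commutator_inf_centralizer_nilpotent h.hG h.hM) hMY Q₁
    (le_inf (hQ₁σ.trans (Sigma.sigmaCore_le_commutator h.hG h.hM)) hQ₁C)
  obtain ⟨m, hm, e⟩ := Transfer.Fusion.exists_conj_eq_of_le (hQ₁σ.trans (Sigma.sigmaCore_le M)) hQM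
  rw [map_conj_eq_self_iff.mpr (hQ₁n hm)] at e
  rwa [← e]

/-- `M_σ` is nilpotent. -/
theorem Ctx.sigmaCore_nilpotent (h : Ctx p A M) : Group.IsNilpotent (sigmaCore M) := by
  refine (Group.isNilpotent_of_finite_tfae.out 0 3 rfl rfl).2 fun r hr S => ?_
  have := hr
  by_cases hd : r ∣ Nat.card (sigmaCore M)
  swap
  · have : (S : Subgroup (sigmaCore M)) = ⊥ := by
      obtain ⟨n, hn⟩ := S.isPGroup'.exists_card_eq
      rcases n.eq_zero_or_pos with rfl | hn0
      · exact card_eq_one.mp (by simpa using hn)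
      · exact absurd ((hn ▸ dvd_pow_self r hn0.ne').trans (card_subgroup_dvd_card _)) hd
    rw [this]; infer_instance
  have hrσ := Transitivity.isPi_piCoreOf (sigma M) M r hr.out hd
  obtain ⟨Q, hQ⟩ := exists_sylow_of_core h.hG h.hM hrσ S
  have hle : (Q : Subgroup G) ≤ sigmaCore M := hQ ▸ map_subtype_le _
  have hn := (normal_subgroupOf_iff_le_normalizer hle).mpr
    ((Sigma.sigmaCore_le M).trans (h.sylow_normal hrσ Q (hle.trans (Sigma.sigmaCore_le M))))
  rwa [hQ, subgroupOf, comap_map_eq_self_of_injective (sigmaCore M).subtype_injective] at hn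

theorem Ctx.good_sigma (h : Ctx p A M) : Good M (sigmaCore M) where
  le := le_rfl
  normal := Sigma.le_normalizer_sigmaCore M
  hall := fun r hr hd => (Sigma.sigmaCore_hall h.hG h.hM).2.2 r hr
    (Transitivity.isPi_piCoreOf (sigma M) M r hr hd)
  uniq := by
    intro r hr hd Q hQM
    have hrσ := Transitivity.isPi_piCoreOf (sigma M) M r hr.out hd
    have hMQ := h.sylow_normal hrσ Q hQM
    have hQ1 : (Q : Subgroup G) ≠ ⊥ := Q.ne_bot_of_dvd_card (hd.trans (card_subgroup_dvd_card _))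
    have hNQ : normalizer ((Q : Subgroup G) : Set G) = M := (h.hM.le_iff.mp hMQ).resolve_left
      (Transitivity.normalizer_ne_top h.hG hQ1 fun e => h.hM.1 (top_le_iff.mp (e ▸ hQM)))
    refine ⟨fun H hH hN => (h.hM.le_iff.mp (hNQ ▸ hN)).resolve_left hH.1, ?_⟩
    refine (centralizer_le_normalizer _).trans ((h.hM.le_iff.mp (hMQ.trans
      (P2Elem.normalizer_le_normalizer_omegaCenter _))).resolve_left ?_).le
    exact Transitivity.normalizer_ne_top h.hG (P2Elem.omegaCenter_ne_bot Q.isPGroup' hQ1)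
      fun e => h.hM.1 (top_le_iff.mp (e ▸ (P2Elem.omegaCenter_le _).trans hQM))

theorem Ctx.sigma_inf (h : Ctx p A M) {L : Subgroup G} (hL : IsCoatom L) (hne : L ≠ M) (hAL : A ≤ L) :
    sigmaCore M ⊓ L = ⊥ := h.good_inf h.good_sigma hL hne hAL

end Cfsg.Agent.OddLocal.TauTwo
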