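import Cfsg.Agent.OddLocal.TransitivityHyp
import Cfsg.Agent.Lib.Components.Hyperplane

/-! Transitivity theorem for groups of odd order with solvable `p`-locals. -/

set_option autoImplicit false
set_option linter.unusedSectionVars false

namespace Cfsg.Agent.OddLocal.TransitivityLocal

open Cfsg Subgroup
open scoped commutatorElement

variable {G : Type*} [Group G] [Finite G] {p : ℕ} [hp : Fact p.Prime]

theorem solvable_centralizer
    (hloc : ∀ T : Subgroup G, IsPGroup p T → T ≠ ⊥ → Group.IsSolvable (normalizer (T : Set G)))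
    {b : G} (hb : IsPGroup p (zpowers b)) (hb1 : b ≠ 1) :
    Group.IsSolvable (centralizer ({b} : Set G)) := by
  have : Group.IsSolvable (normalizer (zpowers b : Set G)) :=
    hloc _ hb (zpowers_ne_bot.mpr hb1)
  refine Coprime.isSolvable_of_le ?_ this
  rw [← centralizer_closure, ← zpowers_eq_closure]
  exact centralizer_le_normalizer _

/-- `p`-local form: `A` is a self-centralising normal abelian subgroup of a Sylow subgroup of rank at
least two. -/
theorem le_core_of_scn (hodd : Odd (Nat.card G))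
    (hloc : ∀ T : Subgroup G, IsPGroup p T → T ≠ ⊥ → Group.IsSolvable (normalizer (T : Set G)))
    (P : Sylow p G) {A : Subgroup G}
    (hscn : IsSCN (P : Subgroup G) A) (hAc : IsMulCommutative A) (hrank : ¬ PRankLE p 1 A)
    {X Y : Subgroup G} (hX : Group.IsSolvable X) (hAX : A ≤ X) (hYX : Y ≤ X) (hY : (Nat.card Y).Coprime p)
    (hAY : A ≤ normalizer (Y : Set G)) : Y ≤ (pPrimeCore p X).map X.subtype := by
  obtain ⟨hAP, hPA, hself⟩ := hscn
  have hp2 : p ≠ 2 := by
    rintro rfl
    simp only [PRankLE, not_forall, not_le] at hrank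
    obtain ⟨B, -, hB, hlt⟩ := hrank
    have h2 : 2 ∣ Nat.card B := by
      rcases ((P.isPGroup'.to_le hAP).to_subgroup B).card_eq_or_dvd with h | h
      · simp [h] at hlt
      · exact h
    exact Nat.not_even_iff_odd.mpr hodd (even_iff_two_dvd.mpr
      (h2.trans ((card_subgroup_dvd_card B).trans (card_subgroup_dvd_card A))))
  -- a normal subgroup of order `p²` of exponent `p` inside `A`
  let Ω : Subgroup (P : Subgroup G) :=
    { carrier := {x | (x : G) ∈ A ∧ x ^ p = 1}
      one_mem' := ⟨A.one_mem, one_pow p⟩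
      mul_mem' := fun {a b} ha hb => ⟨A.mul_mem ha.1 hb.1, by
        have hc : Commute a b := Subtype.ext (setLike_mul_comm (s := A) ha.1 hb.1)
        rw [hc.mul_pow, ha.2, hb.2, one_mul]⟩
      inv_mem' := fun {a} ha => ⟨A.inv_mem ha.1, by rw [inv_pow, ha.2, inv_one]⟩ }
  have : Ω.Normal := ⟨fun x hx g => ⟨(mem_normalizer_iff.mp (hPA g.2) _).mp hx.1, by
    rw [conj_pow, hx.2, mul_one, mul_inv_cancel]⟩⟩
  have hΩ : p ^ 2 ≤ Nat.card Ω := by
    have hr := hrank
    simp only [PRankLE, not_forall, not_le] at hr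
    obtain ⟨B₀, -, hB₀, hlt⟩ := hr
    obtain ⟨m, hm⟩ := IsPGroup.iff_card.mp ((P.isPGroup'.to_le hAP).to_subgroup B₀)
    have hm2 : 1 < m := (Nat.pow_lt_pow_iff_right hp.out.one_lt).mp (hm ▸ hlt)
    refine le_trans (hm ▸ Nat.pow_le_pow_right hp.out.pos hm2 : p ^ 2 ≤ Nat.card B₀) ?_
    exact Nat.card_le_card_of_injective (fun b : B₀ => (⟨⟨((b : A) : G), hAP (b : A).2⟩,
      ⟨(b : A).2, Subtype.ext (congrArg Subtype.val (hB₀ b b.2) : ((b : A) : G) ^ p = 1)⟩⟩ : Ω))
      fun b c hbc => Subtype.ext (Subtype.ext (congrArg (fun w : Ω => ((w : (P : Subgroup G)) : G)) hbc))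
  obtain ⟨Bp, hBn, hBΩ, hBc⟩ := PGroups.Normal.exists_normal_le_card P.isPGroup' Ω 2 hΩ
  have := P.isPGroup'.isNilpotent
  have hBne : Bp ≠ ⊥ := fun h => by
    rw [h, card_bot] at hBc
    exact (Nat.one_lt_pow two_ne_zero hp.out.one_lt).ne hBc
  obtain ⟨zp, hzp, hzp1⟩ := (bot_or_exists_ne_one _).resolve_left
    (OddLocal.Coprime.inf_center_ne_bot hBn hBne)
  set z : G := (zp : G) with hz
  set B := Bp.map (P : Subgroup G).subtype with hBdef
  have hBA : B ≤ A := by
    rintro _ ⟨b, hb, rfl⟩
    exact (hBΩ hb).1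
  have hBe : IsElementaryAbelian p B := by
    refine ⟨⟨⟨fun a b => Subtype.ext (setLike_mul_comm (s := A) (hBA a.2) (hBA b.2))⟩⟩, ?_⟩
    rintro _ ⟨b, hb, rfl⟩
    exact congrArg Subtype.val (hBΩ hb).2
  have hBcard : Nat.card B = p ^ 2 := by
    rw [hBdef, card_map_of_injective (P : Subgroup G).subtype_injective, hBc]
  have hzB : z ∈ B := ⟨zp, hzp.1, rfl⟩
  have hz1 : z ≠ 1 := fun h => hzp1 (Subtype.ext h)
  have hzc : ∀ g ∈ (P : Subgroup G), g * z = z * g := fun g hg =>
    congrArg Subtype.val (mem_center_iff.mp hzp.2 ⟨g, hg⟩)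
  have hpz : IsPGroup p (zpowers z) := Components.Hyperplane.zpowers_isPGroup hBe hzB
  have hAcomm : ∀ a ∈ A, ∀ c ∈ A, a * c = c * a := fun a ha c hc => setLike_mul_comm (s := A) ha hc
  -- the key step for each `b`
  have key : ∀ b ∈ B, b ≠ 1 → Y ⊓ centralizer {b} ≤ (pPrimeCore p X).map X.subtype := by
    intro b hb hb1
    set H := centralizer ({b} : Set G) with hH
    have hHs : Group.IsSolvable H :=
      solvable_centralizer hloc (Components.Hyperplane.zpowers_isPGroup hBe hb) hb1
    have hAH : A ≤ H := fun a ha => mem_centralizer_singleton_iff.mpr (hAcomm a ha b (hBA hb))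
    set W := Y ⊓ H with hW
    have hWc : (Nat.card W).Coprime p := hY.coprime_dvd_left (card_dvd_of_le inf_le_left)
    have hAW : A ≤ normalizer (W : Set G) :=
      le_trans (le_inf hAY (hAH.trans le_normalizer)) inf_normalizer_le_normalizer_inf
    set T := (P : Subgroup G) ⊓ H with hT
    have hzT : z ∈ T := ⟨zp.2, hAH (hBA hzB)⟩
    -- `T` has index at most `p` in `P`
    have hidx : T.relIndex (P : Subgroup G) ≤ p := by
      have hlt : ⁅Bp, (⊤ : Subgroup (P : Subgroup G))⁆ < Bp := by
        have : Group.IsNilpotent (⊤ : Subgroup (P : Subgroup G)) :=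
          Group.nilpotent_of_mulEquiv Subgroup.topEquiv.symm
        exact Coprime.commutator_lt_of_isNilpotent le_top hBne le_normalizer_of_normal
      obtain ⟨j, hj, hjc⟩ := (Nat.dvd_prime_pow hp.out).mp
        (hBc ▸ card_dvd_of_le hlt.le : Nat.card ↥⁅Bp, (⊤ : Subgroup (P : Subgroup G))⁆ ∣ p ^ 2)
      have hj1 : j ≤ 1 := by
        by_contra hcon
        exact hlt.ne (Subgroup.eq_of_le_of_card_ge hlt.le (by
          rw [hjc, hBc, show j = 2 by omega]))
      obtain ⟨bp, hbp, hbpe⟩ := hb
      refine le_trans ?_ (le_trans (le_of_eq hjc) (le_trans (Nat.pow_le_pow_right hp.out.pos hj1)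
        (le_of_eq (pow_one p))))
      rw [relIndex, index]
      have hcomm : ∀ g : (P : Subgroup G), ⁅g, bp⁆ ∈ ⁅Bp, (⊤ : Subgroup (P : Subgroup G))⁆ := by
        intro g
        rw [commutator_comm]
        exact commutator_mem_commutator (mem_top g) hbp
      refine Nat.card_le_card_of_injective (fun q => ⟨⁅q.out, bp⁆, hcomm _⟩) fun q₁ q₂ h12 => ?_
      have h3 : q₁.out * bp * q₁.out⁻¹ = q₂.out * bp * q₂.out⁻¹ := by
        have := congrArg Subtype.val h12
        simp only [commutatorElement_def] at this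
        exact mul_right_cancel this
      rw [← q₁.out_eq, ← q₂.out_eq]
      refine Quotient.sound (QuotientGroup.leftRel_apply.mpr (mem_subgroupOf.mpr
        ⟨(q₁.out⁻¹ * q₂.out).2, mem_centralizer_singleton_iff.mpr ?_⟩))
      rw [← hbpe]
      refine congrArg Subtype.val (?_ : q₁.out⁻¹ * q₂.out * bp = bp * (q₁.out⁻¹ * q₂.out))
      calc q₁.out⁻¹ * q₂.out * bp = q₁.out⁻¹ * (q₂.out * bp * q₂.out⁻¹) * q₂.out := by group
        _ = q₁.out⁻¹ * (q₁.out * bp * q₁.out⁻¹) * q₂.out := by rw [h3]
        _ = bp * (q₁.out⁻¹ * q₂.out) := by group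
    -- a Sylow subgroup of `H` normalising `T`
    set TH := T.subgroupOf H with hTH
    have hTHp : IsPGroup p TH :=
      (P.isPGroup'.to_le inf_le_left).comap_of_injective H.subtype H.subtype_injective
    obtain ⟨S, hTS⟩ := hTHp.exists_le_sylow
    have hSnorm : (S : Subgroup H) ≤ normalizer (TH : Set H) := by
      rcases eq_or_lt_of_le hTS with heq | hlt
      · rw [← heq]; exact le_normalizer
      have hgt := Transitivity.inf_normalizer_gt S.isPGroup' hlt
      have hle : Nat.card (S : Subgroup H) ≤ p * Nat.card TH := by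
        have h1 : Nat.card ((S : Subgroup H).map H.subtype) ≤ Nat.card (P : Subgroup G) := by
          obtain ⟨Q, hQ⟩ := (S.isPGroup'.map H.subtype).exists_le_sylow
          refine (card_le_of_le hQ).trans (le_of_eq ?_)
          rw [Q.card_eq_multiplicity, P.card_eq_multiplicity]
        rw [card_map_of_injective H.subtype_injective] at h1
        refine h1.trans ?_
        rw [Nat.card_congr (subgroupOfEquivOfLe (inf_le_right : T ≤ H)).toEquiv,
          ← relIndex_bot_left (H := (P : Subgroup G)),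
          ← relIndex_mul_relIndex ⊥ T (P : Subgroup G) bot_le inf_le_left, relIndex_bot_left,
          mul_comm p]
        exact Nat.mul_le_mul_left _ hidx
      obtain ⟨i, hi⟩ := hTHp.exists_card_eq
      obtain ⟨j, hj⟩ := (S.isPGroup'.to_le
        (inf_le_right : normalizer (TH : Set H) ⊓ (S : Subgroup H) ≤ S)).exists_card_eq
      have hij : i < j := (Nat.pow_lt_pow_iff_right hp.out.one_lt).mp (hi ▸ hj ▸ hgt)
      have heq := Subgroup.eq_of_le_of_card_ge
        (inf_le_right : normalizer (TH : Set H) ⊓ (S : Subgroup H) ≤ S) (hle.trans (by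
          rw [hi, hj, ← pow_succ']
          exact Nat.pow_le_pow_right hp.out.pos hij))
      exact heq.ge.trans inf_le_left
    -- `z` lies in `O_{p',p}(H)`
    set K := pPrimeCore p H with hK
    set f := QuotientGroup.mk' K with hf
    set zH : H := ⟨z, hzT.2⟩ with hzH
    have hfz : f zH ∈ pCore p (H ⧸ K) := by
      refine Stability.quadratic_mem_pCore_of_pPrimeCore_eq_bot hp2
        (hodd.of_dvd_nat ((card_quotient_dvd_card K).trans (card_subgroup_dvd_card H)))
        (Cores.pPrimeCore_quotient_self p) fun u hu => ?_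
      obtain ⟨s, hs, rfl⟩ := PLocal.Cores.pCore_le_sylow
        (S.mapSurjective (QuotientGroup.mk'_surjective K)) hu
      have h1 : ⁅s, zH⁆ ∈ TH := by
        rw [commutatorElement_def]
        exact Subgroup.mul_mem _ ((mem_normalizer_iff.mp (hSnorm hs) zH).mp hzT)
          (Subgroup.inv_mem _ (show zH ∈ TH from hzT))
      have h2 : Commute ⁅s, zH⁆ zH := Subtype.ext (hzc _ (mem_subgroupOf.mp h1).1)
      have h3 := h2.map f
      rw [map_commutatorElement] at h3
      exact h3
    have hzW : zpowers z ≤ normalizer (W : Set G) := zpowers_le.mpr (hAW (hBA hzB))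
    have hcomW : ⁅W, zpowers z⁆ ≤ centralizerPPrimeCore p b := by
      rw [commutator_le]
      intro w hw y hy
      have hyH : y ∈ H := zpowers_le.mpr hzT.2 hy
      have hmemW : ⁅w, y⁆ ∈ W := by
        rw [commutatorElement_def, mul_assoc, mul_assoc, ← mul_assoc y]
        exact Subgroup.mul_mem _ hw
          ((mem_normalizer_iff.mp (hzW hy) _).mp (Subgroup.inv_mem _ hw))
      refine ⟨⟨⁅w, y⁆, hmemW.2⟩, ?_, rfl⟩
      refine (QuotientGroup.eq_one_iff _).mp ?_
      show f ⟨⁅w, y⁆, hmemW.2⟩ = 1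
      rw [← mem_bot, ← PLocal.Cores.inf_eq_bot_of_isPGroup_of_coprime
        (A := pCore p (H ⧸ K)) (B := (W.subgroupOf H).map f) PLocal.Cores.isPGroup_pCore
        (Nat.Coprime.coprime_dvd_left (card_map_dvd _ f) (by
          rw [Nat.card_congr (subgroupOfEquivOfLe (inf_le_right : W ≤ H)).toEquiv]; exact hWc))]
      refine ⟨?_, ⟨_, hmemW, rfl⟩⟩
      obtain ⟨m, rfl⟩ := mem_zpowers_iff.mp hy
      have e : (⟨⁅w, z ^ m⁆, hmemW.2⟩ : H) = ⟨w, hw.2⟩ * zH ^ m * (⟨w, hw.2⟩ : H)⁻¹ * (zH ^ m)⁻¹ :=
        Subtype.ext (by simp [hzH, commutatorElement_def])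
      rw [e, map_mul, map_mul, map_mul, map_inv, map_inv, map_zpow]
      exact Subgroup.mul_mem _ ((inferInstance : (pCore p (H ⧸ K)).Normal).conj_mem _
        (Subgroup.zpow_mem _ hfz m) _) (Subgroup.inv_mem _ (Subgroup.zpow_mem _ hfz m))
    -- the fixed points of `z`
    have hWz : W ⊓ centralizer (zpowers z : Set G) ≤ centralizerPPrimeCore p z := by
      set C := centralizer ({z} : Set G) with hC
      have hCs : Group.IsSolvable C := solvable_centralizer hloc hpz hz1
      have hPC : (P : Subgroup G) ≤ C := fun g hg =>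
        mem_centralizer_singleton_iff.mpr (hzc g hg)
      have hAC : A ≤ C := hAP.trans hPC
      set Y₀ := W ⊓ centralizer (zpowers z : Set G) with hY₀
      have hY₀C : Y₀ ≤ C := inf_le_right.trans
        (centralizer_le (Set.singleton_subset_iff.mpr (mem_zpowers z)))
      have hAY₀ : A ≤ normalizer (Y₀ : Set G) := by
        refine le_trans (le_inf hAW ?_) inf_normalizer_le_normalizer_inf
        intro a ha
        refine le_normalizer (mem_centralizer_iff.mpr fun y hy => ?_)
        obtain ⟨m, rfl⟩ := mem_zpowers_iff.mp hy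
        exact ((show Commute a z from hAcomm a ha z (hBA hzB)).zpow_right m).symm
      have h := TransitivityHyp.le_pPrimeCore_of_selfCentralizing (hodd.of_dvd_nat (card_subgroup_dvd_card C))
        (P.subtype hPC) (A := A.subgroupOf C) (Y := Y₀.subgroupOf C) ?_ ?_ ?_ ?_ ?_ ?_
      · rw [← map_subgroupOf_eq_of_le hY₀C]
        exact map_mono h
      · exact fun x hx => hAP hx
      · exact ⟨⟨fun a c => Subtype.ext (Subtype.ext (hAcomm _ a.2 _ c.2))⟩⟩
      · intro x hx
        rw [mem_normalizer_iff]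
        intro y
        simp only [mem_subgroupOf, Subgroup.coe_mul, Subgroup.coe_inv]
        exact mem_normalizer_iff.mp (hPA hx) (y : G)
      · ext x
        constructor
        · rintro ⟨hxP, hxC⟩
          show (x : G) ∈ A
          rw [← hself]
          exact ⟨hxP, mem_centralizer_iff.mpr fun a ha =>
            congrArg Subtype.val (mem_centralizer_iff.mp hxC ⟨a, hAC ha⟩ ha)⟩
        · intro hx
          exact ⟨hAP hx, mem_centralizer_iff.mpr fun y hy => Subtype.ext (hAcomm _ hy _ hx)⟩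
      · rw [Nat.card_congr (subgroupOfEquivOfLe hY₀C).toEquiv]
        exact hWc.coprime_dvd_left (card_dvd_of_le inf_le_left)
      · intro x hx
        rw [mem_normalizer_iff]
        intro y
        simp only [mem_subgroupOf, Subgroup.coe_mul, Subgroup.coe_inv]
        exact mem_normalizer_iff.mp (hAY₀ hx) (y : G)
    have hcop : (Nat.card (zpowers z)).Coprime (Nat.card W) := by
      obtain ⟨k, hk⟩ := hpz.exists_card_eq
      rw [hk]; exact hWc.symm.pow_left k
    have hXs := hX
    have hbp : IsPGroup p (zpowers b) := Components.Hyperplane.zpowers_isPGroup hBe hb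
    have hWX : W ≤ X := inf_le_left.trans hYX
    refine le_trans (le_of_eq (Coprime.commutator_sup_inf_centralizer hzW hcop
      (Or.inl inferInstance)).symm) (sup_le ?_ ?_)
    · exact (le_inf hcomW ((Coprime.commutator_le_of_le_normalizer hzW).trans hWX)).trans
        (TransitivityHyp.centralizerPPrimeCore_inf_le X hXs (hAX (hBA hb)) hbp)
    · exact (le_inf hWz (inf_le_left.trans hWX)).trans
        (TransitivityHyp.centralizerPPrimeCore_inf_le X hXs (hAX (hBA hzB)) hpz)
  have := hBe.1
  have hcop : (Nat.card B).Coprime (Nat.card Y) := by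
    rw [hBcard]; exact hY.symm.pow_left 2
  rw [← Coprime.fixedGen_eq (Components.Hyperplane.not_isCyclic hBe hBcard.ge) (hBA.trans hAY) hcop]
  exact iSup₂_le fun b hb => key b hb.1 hb.2

/-- Conjugacy by an element centralising `A`. -/
def Conj (A Q₁ Q₂ : Subgroup G) : Prop :=
  ∃ c ∈ centralizer (A : Set G), Q₂ = Q₁.map (MulAut.conj c).toMonoidHom

/-- The transitivity theorem: maximal `A`-invariant `q`-subgroups are conjugate under `C(A)`. -/
theorem transitive {A E : Subgroup G} (hAp : IsPGroup p A) (hEA : E ≤ A)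
    (hAE : A ≤ centralizer (E : Set G)) (hE : IsElementaryAbelian p E)
    (hEc : Nat.card E = p ^ 3) {q : ℕ} [hq : Fact q.Prime] (hqp : q ≠ p)
    (hcore : ∀ b ∈ E, b ≠ 1 → ∀ Y ≤ centralizer ({b} : Set G), (Nat.card Y).Coprime p →
      A ≤ normalizer (Y : Set G) → Y ≤ centralizerPPrimeCore p b)
    {Q₁ Q₂ : Subgroup G} (h₁ : Q₁ ∈ maxInvSubgroups ⊤ A {q})
    (h₂ : Q₂ ∈ maxInvSubgroups ⊤ A {q}) : Conj A Q₁ Q₂ := by
  induction hn : Nat.card G - Nat.card (Q₁ ⊓ Q₂ : Subgroup G) using Nat.strongRecOn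
    generalizing Q₁ Q₂ with
  | _ n ih =>
    by_cases heq : Q₁ = Q₂
    · exact ⟨1, one_mem _, by rw [Transitivity.map_conj_one, heq]⟩
    set D := Q₁ ⊓ Q₂ with hD
    have hlt₁ : D < Q₁ := inf_le_left.lt_of_ne fun h =>
      heq (h₁.2 Q₂ h₂.1 (inf_eq_left.mp h)).symm
    have hlt₂ : D < Q₂ := inf_le_right.lt_of_ne fun h =>
      heq (h₂.2 Q₁ h₁.1 (inf_eq_right.mp h))
    have hAD : A ≤ normalizer (D : Set G) :=
      le_trans (le_inf h₁.1.2.2 h₂.1.2.2) inf_normalizer_le_normalizer_inf
    have hcopp : ∀ Y : Subgroup G, IsPGroup q Y → (Nat.card Y).Coprime p := by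
      intro Y hY
      obtain ⟨k, hk⟩ := hY.exists_card_eq
      rw [hk]
      exact ((Nat.coprime_primes hq.out hp.out).mpr hqp).pow_left k
    have hEcop : ∀ Y : Subgroup G, (Nat.card Y).Coprime p → ¬ p ∣ Nat.card Y := fun Y hY hd =>
      hp.out.ne_one (Nat.eq_one_of_dvd_coprimes hY hd dvd_rfl)
    -- a fixed point set in `N_Q(D)` outside `D`
    have key : ∀ Q ∈ maxInvSubgroups ⊤ A {q}, D < Q → ∃ W : Subgroup G, W ≤ E ∧ Nat.card W = p ^ 2 ∧
        A ≤ normalizer ((normalizer (D : Set G) ⊓ Q : Subgroup G) : Set G) ∧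
        ¬ (normalizer (D : Set G) ⊓ Q) ⊓ centralizer (W : Set G) ≤ D := by
      intro Q hQ hlt
      have hQq := Transitivity.isPGroup_of_mem hQ.1.2.1
      set U := normalizer (D : Set G) ⊓ Q with hU
      have hAU : A ≤ normalizer (U : Set G) := by
        refine le_trans (le_inf ?_ hQ.1.2.2) inf_normalizer_le_normalizer_inf
        exact hAD.trans le_normalizer
      have hgt := Transitivity.inf_normalizer_gt hQq hlt
      by_contra hcon
      push Not at hcon
      have h := Components.Hyperplane.eq_iSup_hyperplane hE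
        (hEc ▸ Nat.pow_le_pow_right hp.out.pos (by norm_num))
        (hEcop U (hcopp U (hQq.to_le inf_le_right))) (hEA.trans hAU)
      have hle : U ≤ D := by
        rw [h]
        refine iSup_le fun ⟨W, hWE, hW⟩ => ?_
        refine hcon W hWE ?_ hAU
        have h := Subgroup.relIndex_mul_relIndex ⊥ W E bot_le hWE
        rw [Subgroup.relIndex_bot_left, Subgroup.relIndex_bot_left, hEc, hW, pow_succ] at h
        exact Nat.eq_of_mul_eq_mul_right hp.out.pos h
      exact absurd (card_le_of_le hle) (not_le.mpr hgt)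
    obtain ⟨W₁, hW₁, hc₁, hAU₁, hn₁⟩ := key Q₁ h₁ hlt₁
    obtain ⟨W₂, hW₂, hc₂, hAU₂, hn₂⟩ := key Q₂ h₂ hlt₂
    have hW : W₁ ⊓ W₂ ≠ ⊥ := by
      intro hbot
      have hN : W₂ ≤ normalizer (W₁ : Set G) := fun w hw => by
        refine centralizer_le_normalizer _ (mem_centralizer_iff.mpr fun v hv => ?_)
        exact Components.Hyperplane.mem_comm hE (hW₁ hv) (hW₂ hw)
      have hcard := Coprime.card_sup_of_disjoint hN (disjoint_iff.mpr hbot)
      have hle := card_le_of_le (sup_le hW₁ hW₂)
      rw [hcard, hc₁, hc₂, hEc, ← pow_add] at hle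
      exact absurd ((Nat.pow_le_pow_iff_right hp.out.one_lt).mp hle) (by norm_num)
    obtain ⟨b, hb, hb1⟩ := (bot_or_exists_ne_one _).resolve_left hW
    set C := centralizer ({b} : Set G) with hC
    have hAC : A ≤ C := fun a ha =>
      mem_centralizer_singleton_iff.mpr (mem_centralizer_iff.mp (hAE ha) b (hW₁ hb.1)).symm
    set L := centralizerPPrimeCore p b ⊓ normalizer (D : Set G) with hL
    have hAK : A ≤ normalizer (centralizerPPrimeCore p b : Set G) :=
      hAC.trans (Components.Balance.le_normalizer_centralizerPPrimeCore p b)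
    have hAL : A ≤ normalizer (L : Set G) :=
      le_trans (le_inf hAK (hAD.trans le_normalizer)) inf_normalizer_le_normalizer_inf
    set M := L ⊔ D with hM
    have hLD : L ≤ normalizer (D : Set G) := inf_le_right
    have hMcard : (Nat.card M).Coprime p := by
      have hdvd : Nat.card M ∣ Nat.card L * Nat.card D := by
        have : (D.subgroupOf (normalizer (D : Set G))).Normal := normal_in_normalizer
        have h := Cores.card_sup_dvd_mul (L.subgroupOf (normalizer (D : Set G)))
          (D.subgroupOf (normalizer (D : Set G)))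
        rw [← subgroupOf_sup hLD le_normalizer,
          Nat.card_congr (subgroupOfEquivOfLe hLD).toEquiv,
          Nat.card_congr (subgroupOfEquivOfLe (le_normalizer (H := D))).toEquiv,
          Nat.card_congr (subgroupOfEquivOfLe (sup_le hLD le_normalizer)).toEquiv] at h
        exact h
      have h := Nat.Coprime.coprime_dvd_left hdvd
        (Nat.Coprime.mul_left ((Components.Balance.centralizerPPrimeCore_coprime p b).coprime_dvd_left
          (card_dvd_of_le inf_le_left))
        (hcopp D ((Transitivity.isPGroup_of_mem h₁.1.2.1).to_le inf_le_left)))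
      exact h
    have hAM : A ≤ normalizer (M : Set G) := fun a ha => by
      rw [hM, mem_normalizer_iff_map_conj_eq, Subgroup.map_sup,
        mem_normalizer_iff_map_conj_eq.mp (hAL ha), mem_normalizer_iff_map_conj_eq.mp (hAD ha)]
    have hcop : (Nat.card A).Coprime (Nat.card M) := by
      obtain ⟨k, hk⟩ := hAp.exists_card_eq
      rw [hk]
      exact hMcard.symm.pow_left k
    have hsol : Group.IsSolvable A ∨ Group.IsSolvable M :=
      Or.inl (Coprime.isSolvable_of_isPGroup hAp)
    -- the two invariant subgroups of `M`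
    have hU : ∀ {Q W : Subgroup G}, Q ∈ maxInvSubgroups ⊤ A {q} → D ≤ Q → b ∈ W →
        A ≤ normalizer ((normalizer (D : Set G) ⊓ Q : Subgroup G) : Set G) →
        ¬ (normalizer (D : Set G) ⊓ Q) ⊓ centralizer (W : Set G) ≤ D →
        ∃ U : Subgroup G, U ≤ M ∧ U ≤ Q ∧ D < U ∧ A ≤ normalizer (U : Set G) := by
      intro Q W hQ hDQ hbW hAU hn
      set V := (normalizer (D : Set G) ⊓ Q) ⊓ C with hV
      have hAV : A ≤ normalizer (V : Set G) :=
        le_trans (le_inf hAU (hAC.trans le_normalizer)) inf_normalizer_le_normalizer_inf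
      have hVK : V ≤ centralizerPPrimeCore p b :=
        hcore b (hW₁ hb.1) hb1 V inf_le_right
          (hcopp V ((Transitivity.isPGroup_of_mem hQ.1.2.1).to_le (inf_le_left.trans inf_le_right))) hAV
      refine ⟨V ⊔ D, sup_le ((le_inf hVK (inf_le_left.trans inf_le_left)).trans le_sup_left)
        le_sup_right, sup_le (inf_le_left.trans inf_le_right) hDQ, ?_, fun a ha => ?_⟩
      · refine le_sup_right.lt_of_ne fun h => hn ?_
        refine le_trans ?_ (le_sup_left.trans h.ge)
        exact inf_le_inf_left _ (centralizer_le (Set.singleton_subset_iff.mpr hbW))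
      · rw [mem_normalizer_iff_map_conj_eq, Subgroup.map_sup,
          mem_normalizer_iff_map_conj_eq.mp (hAV ha), mem_normalizer_iff_map_conj_eq.mp (hAD ha)]
    obtain ⟨U₁, hU₁M, hU₁Q, hDU₁, hAU₁'⟩ := hU h₁ inf_le_left hb.1 hAU₁ hn₁
    obtain ⟨U₂, hU₂M, hU₂Q, hDU₂, hAU₂'⟩ := hU h₂ inf_le_right hb.2 hAU₂ hn₂
    obtain ⟨S₁, hS₁, hSA₁⟩ := Coprime.exists_invariant_sylow_ge hAM hcop hsol hU₁M
      ((Transitivity.isPGroup_of_mem h₁.1.2.1).to_le hU₁Q) hAU₁'
    obtain ⟨S₂, hS₂, hSA₂⟩ := Coprime.exists_invariant_sylow_ge hAM hcop hsol hU₂M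
      ((Transitivity.isPGroup_of_mem h₂.1.2.1).to_le hU₂Q) hAU₂'
    obtain ⟨c, hc, hcS⟩ := Coprime.exists_centralizer_conj_sylow hAM hcop hsol S₁ S₂ hSA₁ hSA₂
    have hcN : (c : G) ∈ normalizer (A : Set G) := centralizer_le_normalizer _ hc
    obtain ⟨Q₃, hQ₃, hRQ₃⟩ := Transitivity.exists_max_ge (A := A) (q := q)
      (Y := (S₂ : Subgroup M).map M.subtype) (Transitivity.mem_invSubgroups_iff.mpr
        ⟨Transitivity.isPi_of_isPGroup (S₂.isPGroup'.map _), hSA₂⟩)
    have hQ₁' := Transitivity.conj_mem_maxInvSubgroups hcN h₁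
    have hcU : U₁.map (MulAut.conj (c : G)).toMonoidHom ≤ (S₂ : Subgroup M).map M.subtype := by
      refine (map_mono hS₁).trans (le_of_eq ?_)
      rw [← hcS, Coprime.sylow_map_smul, Coprime.conj_smul_eq_map]
    have hbound : ∀ R₁ R₂ : Subgroup G, Nat.card (R₁ ⊓ R₂ : Subgroup G) ≤ Nat.card G := fun _ _ =>
      Nat.le_of_dvd Nat.card_pos (card_subgroup_dvd_card _)
    have hlt' : ∀ {U : Subgroup G}, D < U → Nat.card D < Nat.card U := fun h => by
      by_contra hle
      exact h.ne (eq_of_le_of_card_ge h.le (not_lt.mp hle))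
    have hbig₁ : Nat.card D < Nat.card (Q₁.map (MulAut.conj (c : G)).toMonoidHom ⊓ Q₃ : Subgroup G) := by
      refine lt_of_lt_of_le (hlt' hDU₁) ?_
      rw [← Transitivity.card_map_conj (c : G) U₁]
      exact card_le_of_le (le_inf (map_mono hU₁Q) (hcU.trans hRQ₃))
    have hbig₂ : Nat.card D < Nat.card (Q₃ ⊓ Q₂ : Subgroup G) :=
      lt_of_lt_of_le (hlt' hDU₂) (card_le_of_le (le_inf (hS₂.trans hRQ₃) hU₂Q))
    obtain ⟨d, hd, e₁⟩ := ih _ (by
      have := hbound (Q₁.map (MulAut.conj (c : G)).toMonoidHom) Q₃; omega) hQ₁' hQ₃ rfl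
    obtain ⟨d', hd', e₂⟩ := ih _ (by have := hbound Q₃ Q₂; omega) hQ₃ h₂ rfl
    exact ⟨d' * (d * c), mul_mem hd' (mul_mem hd hc),
      by rw [e₂, e₁, Transitivity.map_conj_map, Transitivity.map_conj_map, mul_assoc]⟩

end Cfsg.Agent.OddLocal.TransitivityLocal
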