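import Cfsg.Agent.OddLocal.UniqueBasic
import Cfsg.Agent.OddLocal.AutRankTwo
import Cfsg.Agent.OddLocal.Narrow
import Cfsg.Agent.Lib.Components.Hyperplane
import Cfsg.Agent.Lib.Components.Signalizer

/-! Coprime actions used in the uniqueness theorem. -/

set_option autoImplicit false
set_option linter.unusedSectionVars false

namespace Cfsg.Agent.OddLocal.Unique

open Cfsg Subgroup Cfsg.Agent.OddLocal.Bender
open scoped commutatorElement

variable {G : Type*} [Group G] [Finite G]

theorem mem_centralizer_of_action {X V : Subgroup G} (hX : X ≤ normalizer (V : Set G)) {x : G} (hx : x ∈ X)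
    (h : V.normalizerMonoidHom.comp (inclusion hX) ⟨x, hx⟩ = 1) : x ∈ centralizer (V : Set G) :=
  mem_centralizer_iff.mpr fun v hv => by
  have h1 := congrArg Subtype.val (DFunLike.congr_fun h ⟨v, hv⟩)
  rw [MonoidHom.comp_apply, MulAut.one_apply] at h1
  exact (mul_inv_eq_iff_eq_mul.mp (show x * v * x⁻¹ = v from h1)).symm

/-- Elements of order prime to `l` in the derived group centralize an `l`-group of rank two. -/
theorem mem_centralizer_of_rankTwo {l : ℕ} [Fact l.Prime] (hl2 : l ≠ 2) {X V : Subgroup G}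
    (hV : IsPGroup l V) (hr : PRankLE l 2 V) (hX : X ≤ normalizer (V : Set G))
    (hodd : Odd (Nat.card X)) {c : G} (hc : c ∈ ⁅X, X⁆) (hco : (orderOf c).Coprime l) :
    c ∈ centralizer (V : Set G) := by
  rw [← map_subtype_commutator] at hc
  obtain ⟨c', hc', rfl⟩ := hc
  refine mem_centralizer_of_action hX c'.2 ?_
  obtain ⟨k, hk⟩ := (AutRankTwo.aut_rankTwo hl2 hV hr hodd
    (V.normalizerMonoidHom.comp (inclusion hX))).1 c' hc'
  refine orderOf_eq_one_iff.mp (Nat.eq_one_of_dvd_coprimes (hco.pow_right k) ?_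
    (orderOf_dvd_of_pow_eq_one hk))
  exact (orderOf_map_dvd _ c').trans (dvd_of_eq (orderOf_coe c').symm)

/-- The same if the automorphism group has a normal subgroup with abelian quotient which is an `l`-group. -/
theorem mem_centralizer_of_kernel {l : ℕ} {X V : Subgroup G}
    (hX : X ≤ normalizer (V : Set G)) {K : Subgroup (MulAut V)} (hK : IsPGroup l K)
    (hKc : ∀ a b : MulAut V, ⁅a, b⁆ ∈ K) {c : G} (hc : c ∈ ⁅X, X⁆) (hco : (orderOf c).Coprime l) :
    c ∈ centralizer (V : Set G) := by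
  rw [← map_subtype_commutator] at hc
  obtain ⟨c', hc', rfl⟩ := hc
  refine mem_centralizer_of_action hX c'.2 ?_
  set φ := V.normalizerMonoidHom.comp (inclusion hX)
  have hmem : φ c' ∈ K := by
    have h1 : commutator X ≤ K.comap φ := by
      rw [commutator_def, commutator_le]
      intro a _ b _
      rw [mem_comap, map_commutatorElement]
      exact hKc _ _
    exact h1 hc'
  obtain ⟨k, hk⟩ := hK ⟨_, hmem⟩
  refine orderOf_eq_one_iff.mp (Nat.eq_one_of_dvd_coprimes (hco.pow_right k) ?_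
    (orderOf_dvd_of_pow_eq_one (congrArg Subtype.val hk)))
  exact (orderOf_map_dvd _ c').trans (dvd_of_eq (orderOf_coe c').symm)

theorem mem_zpowers_of_isCyclic {H : Type*} [Group H] [Finite H] [IsCyclic H] {q : ℕ} [hq : Fact q.Prime]
    {x y : H} (hx : x ^ q = 1) (hy : y ^ q = 1) (hx1 : x ≠ 1) : y ∈ zpowers x := by
  classical
  have : Fintype H := Fintype.ofFinite H
  have hle := IsCyclic.card_pow_eq_one_le (α := H) hq.out.pos
  have hsub : Finset.univ.filter (fun a : H => a ∈ zpowers x) ⊆ Finset.univ.filter (fun a : H => a ^ q = 1) := by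
    intro a ha
    rw [Finset.mem_filter] at ha ⊢
    obtain ⟨m, rfl⟩ := mem_zpowers_iff.mp ha.2
    exact ⟨Finset.mem_univ _, by rw [← zpow_natCast, ← zpow_mul, mul_comm, zpow_mul, zpow_natCast, hx, one_zpow]⟩
  have hc : (Finset.univ.filter (fun a : H => a ∈ zpowers x)).card = q := by
    rw [← Fintype.card_subtype, ← Nat.card_eq_fintype_card]
    exact (Nat.card_zpowers x).trans (orderOf_eq_prime hx hx1)
  have := Finset.eq_of_subset_of_card_le hsub (hle.trans hc.ge)
  have hy' : y ∈ Finset.univ.filter (fun a : H => a ^ q = 1) := by simp [hy]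
  rw [← this, Finset.mem_filter] at hy'
  exact hy'.2

/-- In a cyclic group subgroups are ordered by their orders. -/
theorem le_of_card_dvd {Z H K : Subgroup G} (hZ : IsCyclic Z) (hH : H ≤ Z) (hK : K ≤ Z)
    (hd : Nat.card H ∣ Nat.card K) : H ≤ K := by
  obtain ⟨k, hk⟩ := (isCyclic_of_injective (inclusion hK) (inclusion_injective hK) : IsCyclic K).exists_ofOrder_eq_natCard
  obtain ⟨g, hg⟩ := (isCyclic_of_injective (inclusion hH) (inclusion_injective hH) : IsCyclic H).exists_ofOrder_eq_natCard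
  classical
  have : Fintype Z := Fintype.ofFinite Z
  set kz : Z := inclusion hK k
  have hKc : Nat.card (zpowers kz) = Nat.card K := by
    rw [Nat.card_zpowers, orderOf_injective _ (inclusion_injective hK), hk]
  have hle := IsCyclic.card_pow_eq_one_le (α := Z) (Nat.card_pos (α := K))
  have hsub : Finset.univ.filter (fun a : Z => a ∈ zpowers kz) ⊆
      Finset.univ.filter (fun a : Z => a ^ Nat.card K = 1) := by
    intro a ha
    rw [Finset.mem_filter] at ha ⊢
    refine ⟨Finset.mem_univ _, orderOf_dvd_iff_pow_eq_one.mp ?_⟩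
    rw [← hKc]
    exact orderOf_dvd_natCard _ ha.2
  have hcard : (Finset.univ.filter (fun a : Z => a ∈ zpowers kz)).card = Nat.card K := by
    rw [← Fintype.card_subtype, ← Nat.card_eq_fintype_card]
    exact hKc
  have heq := Finset.eq_of_subset_of_card_le hsub (hle.trans hcard.ge)
  intro x hx
  have : (⟨x, hH hx⟩ : Z) ∈ Finset.univ.filter (fun a : Z => a ^ Nat.card K = 1) := by
    rw [Finset.mem_filter]
    refine ⟨Finset.mem_univ _, Subtype.ext (orderOf_dvd_iff_pow_eq_one.mp ((H.orderOf_dvd_natCard hx).trans hd))⟩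
  rw [← heq, Finset.mem_filter] at this
  obtain ⟨m, hm⟩ := mem_zpowers_iff.mp this.2
  have := congrArg Subtype.val hm
  rw [Subgroup.coe_zpow] at this
  have e : x = (k : G) ^ m := this.symm
  rw [e]
  exact K.zpow_mem k.2 m

variable {p : ℕ} [hp : Fact p.Prime]

/-- A noncyclic `q`-group acted on by an elementary abelian `p`-group of rank three has a noncyclic
centralizer of some nontrivial element. -/
theorem exists_noncyclic_inf_centralizer {q : ℕ} [hq : Fact q.Prime] (hqp : q ≠ p) {B Q : Subgroup G}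
    (hB : IsElementaryAbelian p B) (hB3 : p ^ 3 ≤ Nat.card B) (hQ : IsPGroup q Q)
    (hBQ : B ≤ normalizer (Q : Set G)) (hnc : ¬ IsCyclic Q) :
    ∃ b ∈ B, b ≠ 1 ∧ ¬ IsCyclic ↥(Q ⊓ centralizer ({b} : Set G)) := by
  by_contra hcon
  push Not at hcon
  have hQp : ¬ p ∣ Nat.card Q := fun h => by
    obtain ⟨k, hk⟩ := hQ.exists_card_eq
    exact hqp ((Nat.prime_dvd_prime_iff_eq hp.out hq.out).mp (hp.out.dvd_of_dvd_pow (hk ▸ h))).symm
  have h2 : p ^ 2 ≤ Nat.card B := (Nat.pow_le_pow_right hp.out.pos (by norm_num)).trans hB3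
  have hgen := Components.Hyperplane.eq_iSup_hyperplane hB h2 hQp hBQ
  have : Nonempty {D : Subgroup G // D ≤ B ∧ D.relIndex B = p} := by
    obtain ⟨b, hb, hb1⟩ := (bot_or_exists_ne_one B).resolve_left fun h =>
      Components.Hyperplane.not_isCyclic hB h2 (h ▸ inferInstance)
    obtain ⟨E, hEB, -, -, hE⟩ := Components.Hyperplane.exists_complement hB hb hb1
    refine ⟨⟨E, hEB, ?_⟩⟩
    have h1 := relIndex_mul_relIndex ⊥ E B bot_le hEB
    rw [relIndex_bot_left, relIndex_bot_left, hE, mul_comm p] at h1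
    exact Nat.eq_of_mul_eq_mul_left Nat.card_pos h1
  obtain ⟨D₀, hD₀⟩ := Finite.exists_max fun D : {D : Subgroup G // D ≤ B ∧ D.relIndex B = p} =>
    Nat.card (Q ⊓ centralizer ((D : Subgroup G) : Set G) : Subgroup G)
  refine hnc ?_
  have hle : Q ≤ Q ⊓ centralizer ((D₀ : Subgroup G) : Set G) := by
    refine hgen.le.trans (iSup_le fun D => ?_)
    obtain ⟨a, ha, ha1, haD, haD₀⟩ :=
      Components.Signalizer.exists_mem_two_hyperplanes hB hB3 D.2.1 D.2.2 D₀.2.1 D₀.2.2
    refine le_of_card_dvd (hcon a ha ha1)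
      (inf_le_inf_left _ (centralizer_le (Set.singleton_subset_iff.mpr haD)))
      (inf_le_inf_left _ (centralizer_le (Set.singleton_subset_iff.mpr haD₀))) ?_
    obtain ⟨i, hi⟩ := (hQ.to_le (inf_le_left : Q ⊓ centralizer ((D : Subgroup G) : Set G) ≤ Q)).exists_card_eq
    obtain ⟨j, hj⟩ := (hQ.to_le (inf_le_left : Q ⊓ centralizer ((D₀ : Subgroup G) : Set G) ≤ Q)).exists_card_eq
    have := hD₀ D
    rw [hi, hj] at this ⊢
    exact Nat.pow_dvd_pow q ((Nat.pow_le_pow_iff_right hq.out.one_lt).mp this)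
  obtain ⟨a, ha, ha1⟩ : ∃ a ∈ (D₀ : Subgroup G), a ≠ 1 := by
    obtain ⟨a, -, ha1, ha, -⟩ :=
      Components.Signalizer.exists_mem_two_hyperplanes hB hB3 D₀.2.1 D₀.2.2 D₀.2.1 D₀.2.2
    exact ⟨a, ha, ha1⟩
  have := hcon a (D₀.2.1 ha) ha1
  have hle' : Q ≤ Q ⊓ centralizer ({a} : Set G) :=
    hle.trans (inf_le_inf_left _ (centralizer_le (Set.singleton_subset_iff.mpr ha)))
  exact isCyclic_of_injective (inclusion hle') (inclusion_injective hle')

/-- A coprime action that is trivial on the Fitting subgroup of a solvable group is trivial. -/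
theorem commute_of_fitting {Y : Subgroup G} (hY : Group.IsSolvable Y) {e : G} (he : e ∈ normalizer (Y : Set G))
    (hcop : (orderOf e).Coprime (Nat.card Y))
    (h : ∀ r : ℕ, ∀ [Fact r.Prime], ∀ m ∈ pCoreOf r Y, Commute m e) : ∀ y ∈ Y, Commute y e := by
  intro y hy
  set F := fittingOf Y with hF
  have hFe : ∀ m ∈ F, Commute m e :=
    le_centralizer_of_parts le_rfl fun r _ m hm => h r m hm.2
  set c := e * y * e⁻¹ * y⁻¹ with hc
  have hcY : c ∈ Y := Y.mul_mem ((mem_normalizer_iff.mp he y).mp hy) (Y.inv_mem hy)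
  have hcF : c ∈ F := by
    refine ⟨⟨c, hcY⟩, Cores.centralizer_fittingSubgroup_le (mem_centralizer_iff.mpr fun x hx => Subtype.ext ?_), rfl⟩
    show (x : G) * c = c * x
    have hxF : (x : G) ∈ F := ⟨x, hx, rfl⟩
    have hx' : y⁻¹ * (x : G) * y ∈ F := by
      have := (mem_normalizer_iff.mp (le_normalizer_fittingOf Y (Y.inv_mem hy)) x).mp hxF
      rwa [inv_inv] at this
    have h1 : Commute (y⁻¹ * (x : G) * y) e⁻¹ := (hFe _ hx').inv_right
    have h2 : Commute (x : G) e := hFe _ hxF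
    calc (x : G) * c = (x : G) * e * y * e⁻¹ * y⁻¹ := by rw [hc]; group
      _ = e * y * ((y⁻¹ * (x : G) * y) * e⁻¹) * y⁻¹ := by rw [h2.eq]; group
      _ = e * y * (e⁻¹ * (y⁻¹ * (x : G) * y)) * y⁻¹ := by rw [h1.eq]
      _ = c * x := by rw [hc]; group
  have hce := hFe c hcF
  have hk : ∀ j : ℕ, e ^ j * y * (e ^ j)⁻¹ = c ^ j * y := by
    intro j
    induction j with
    | zero => simp
    | succ j ihj =>
      calc e ^ (j + 1) * y * (e ^ (j + 1))⁻¹ = e * (e ^ j * y * (e ^ j)⁻¹) * e⁻¹ := by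
            rw [pow_succ']; group
        _ = e * c ^ j * (y * e⁻¹) := by rw [ihj]; group
        _ = c ^ j * (e * y * e⁻¹) := by rw [(hce.pow_left j).eq.symm]; group
        _ = c ^ j * (c * y) := by rw [show e * y * e⁻¹ = c * y from (inv_mul_cancel_right _ y).symm]
        _ = c ^ (j + 1) * y := by rw [pow_succ]; exact (mul_assoc (c ^ j) c y).symm
  have h1 : c ^ orderOf e = 1 := by
    have := hk (orderOf e)
    rw [pow_orderOf_eq_one, one_mul, inv_one, mul_one] at this
    exact mul_eq_right.mp this.symm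
  have hc1 : c = 1 := orderOf_eq_one_iff.mp (Nat.eq_one_of_dvd_coprimes hcop
    (orderOf_dvd_of_pow_eq_one h1) (Y.orderOf_dvd_natCard hcY))
  rw [hc, mul_inv_eq_one, mul_inv_eq_iff_eq_mul] at hc1
  exact hc1.symm

end Cfsg.Agent.OddLocal.Unique
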