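import Cfsg.Agent.OddLocal.Uniqueness
import Cfsg.Agent.OddLocal.PLength
import Cfsg.Agent.OddLocal.RankThree
import Cfsg.Agent.OddLocal.Frattini
import Cfsg.Agent.OddLocal.RankTwoFitting
import Cfsg.Agent.Lib.PGroups.UniqueSubgroup
import Cfsg.Agent.Lib.PLocal.ThompsonSubgroup
import Cfsg.Agent.S1469

/-! Uniqueness subgroups: formal properties, and the cores `O_{p'}` of subgroups. -/

set_option autoImplicit false
set_option linter.unusedSectionVars false

namespace Cfsg.Agent.OddLocal.Unique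

open Cfsg Subgroup Cfsg.Agent.OddLocal.Bender Cfsg.Agent.OddLocal.Puig
open Cfsg.Agent.OddLocal.Uniqueness (puigCenter)

variable {G : Type*} [Group G] [Finite G] {p : ℕ} [hp : Fact p.Prime]

/-! ### `O_{p'}` of a subgroup -/

/-- `O_{p'}(X)` as a subgroup of `G`. -/
def primeCore (p : ℕ) (X : Subgroup G) : Subgroup G := (pPrimeCore p X).map X.subtype

theorem primeCore_le (X : Subgroup G) : primeCore p X ≤ X := map_subtype_le _

theorem le_normalizer_primeCore (X : Subgroup G) : X ≤ normalizer (primeCore p X : Set G) := by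
  refine le_normalizer_of_normal_subgroupOf (hK := ?_) (primeCore_le X)
  rw [primeCore, subgroupOf, comap_map_eq_self_of_injective X.subtype_injective]
  infer_instance

theorem primeCore_coprime (X : Subgroup G) : (Nat.card (primeCore p X)).Coprime p := by
  rw [primeCore, card_map_of_injective X.subtype_injective]
  exact Cores.pPrimeCore_card_coprime p

theorem primeCore_eq_bot {X : Subgroup G} : primeCore p X = ⊥ ↔ pPrimeCore p X = ⊥ :=
  map_eq_bot_iff_of_injective _ X.subtype_injective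

/-- A `p'`-subgroup normalized by a Sylow `p`-subgroup lies in `O_{p'}`. -/
theorem le_pPrimeCore_of_sylow {H : Type*} [Group H] [Finite H] [Group.IsSolvable H] (S : Sylow p H)
    {Y : Subgroup H} (hY : (Nat.card Y).Coprime p) (hn : (S : Subgroup H) ≤ normalizer (Y : Set H)) :
    Y ≤ pPrimeCore p H := by
  set f := QuotientGroup.mk' (pPrimeCore p H) with hf
  set R := pCore p (H ⧸ pPrimeCore p H) with hR
  have hYc : (Nat.card (Y.map f)).Coprime p := hY.coprime_dvd_left (card_map_dvd Y f)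
  have hdisj : R ⊓ Y.map f = ⊥ :=
    PLocal.Cores.inf_eq_bot_of_isPGroup_of_coprime PLocal.Cores.isPGroup_pCore hYc
  have hRS : R ≤ normalizer ((Y.map f : Subgroup (H ⧸ pPrimeCore p H)) : Set (H ⧸ pPrimeCore p H)) :=
    (PLocal.Cores.pCore_le_sylow (S.mapSurjective (QuotientGroup.mk'_surjective _))).trans
      ((map_mono hn).trans (le_normalizer_map _))
  have h1 : Y.map f ≤ R := (le_centralizer_of_mutual le_normalizer_of_normal hRS
    (by rw [inf_comm, hdisj])).trans
      (Solvable.Fitting.centralizer_pCore_le p (Cores.pPrimeCore_quotient_self p))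
  have : Y.map f = ⊥ := by rw [← hdisj, inf_eq_right.mpr h1]
  rwa [Subgroup.map_eq_bot_iff, hf, QuotientGroup.ker_mk'] at this

theorem le_primeCore_of_sylow {X Y : Subgroup G} (hX : Group.IsSolvable X) (S : Sylow p X) (hYX : Y ≤ X)
    (hY : (Nat.card Y).Coprime p)
    (hn : (S : Subgroup X).map X.subtype ≤ normalizer (Y : Set G)) : Y ≤ primeCore p X := by
  rw [← map_subgroupOf_eq_of_le hYX]
  refine map_mono (le_pPrimeCore_of_sylow S ?_ fun s hs => ?_)
  · rwa [Nat.card_congr (subgroupOfEquivOfLe hYX).toEquiv]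
  · exact le_normalizer_comap X.subtype (hn ⟨s, hs, rfl⟩)

/-- `X = O_{p'}(X) N_X(Z(L(S)))`. -/
theorem le_primeCore_sup_puigCenter {X : Subgroup G} (hX : Group.IsSolvable X)
    (hodd : Odd (Nat.card X)) (hp2 : p ≠ 2) (S : Sylow p X) :
    X ≤ primeCore p X ⊔ (X ⊓ normalizer (puigCenter ((S : Subgroup X).map X.subtype) : Set G)) := by
  have h := (S1469.result hodd p hp2 S).1
  set U : Subgroup (S : Subgroup X) := puigSubgroup ↥(S : Subgroup X)
  have e : ((center U).map U.subtype).map (S : Subgroup X).subtype =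
      upOf (S : Subgroup X) ⊓ centralizer (upOf (S : Subgroup X) : Set X) := by
    ext x
    constructor
    · rintro ⟨_, ⟨u, hu, rfl⟩, rfl⟩
      refine ⟨⟨u, u.2, rfl⟩, mem_centralizer_iff.mpr ?_⟩
      rintro _ ⟨v, hv, rfl⟩
      exact congrArg Subtype.val (congrArg Subtype.val (mem_center_iff.mp hu ⟨v, hv⟩))
    · rintro ⟨⟨u, hu, rfl⟩, hc⟩
      exact ⟨u, ⟨⟨u, hu⟩, mem_center_iff.mpr fun v => Subtype.ext (Subtype.ext
        (mem_centralizer_iff.mp hc _ ⟨v, v.2, rfl⟩)), rfl⟩, rfl⟩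
  have e' : puigCenter ((S : Subgroup X).map X.subtype) =
      (upOf (S : Subgroup X) ⊓ centralizer (upOf (S : Subgroup X) : Set X)).map X.subtype := by
    rw [puigCenter, CharP.map_centre_inf X.subtype_injective, upOf_map X.subtype_injective.injOn]
  rw [e] at h
  have h1 := congrArg (Subgroup.map X.subtype) h
  rw [Subgroup.map_sup, ← MonoidHom.range_eq_map, range_subtype] at h1
  refine h1.ge.trans (sup_le_sup le_rfl (le_inf (map_subtype_le _) ?_))
  rw [e']
  exact le_normalizer_map _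

/-- Frattini: `X = O_{p'}(X) N_X(S ∩ O_{p',p}(X))`. -/
theorem le_primeCore_sup_sylow_inf {X : Subgroup G} (hX : Group.IsSolvable X) (S : Sylow p X) :
    X ≤ primeCore p X ⊔
      (X ⊓ normalizer ((((S : Subgroup X) ⊓ pPrimePCore p X).map X.subtype : Subgroup G) : Set G)) := by
  set D := pPrimePCore p X with hD
  set K := pPrimeCore p X with hK
  have : D.Normal := by rw [hD, pPrimePCore]; infer_instance
  have hsup : ((S : Subgroup X) ⊓ D) ⊔ K = D := by
    refine le_antisymm (sup_le inf_le_right PLocal.Cores.pPrimeCore_le_pPrimePCore) fun d hd => ?_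
    obtain ⟨s, hs, he⟩ := PLocal.Cores.pCore_le_sylow
      (S.mapSurjective (QuotientGroup.mk'_surjective K)) (mem_comap.mp hd)
    have hk : s⁻¹ * d ∈ K := QuotientGroup.eq.mp he
    have hsD : s ∈ D := by
      have := Subgroup.mul_mem D hd (Subgroup.inv_mem D (PLocal.Cores.pPrimeCore_le_pPrimePCore hk))
      simpa [mul_assoc] using this
    have := Subgroup.mul_mem_sup (show s ∈ (S : Subgroup X) ⊓ D from ⟨hs, hsD⟩) hk
    simpa [mul_assoc] using this
  have hcop : (Nat.card K).Coprime (Nat.card ((S : Subgroup X) ⊓ D : Subgroup X)) := by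
    obtain ⟨k, hk⟩ := (S.isPGroup'.to_le (inf_le_left : (S : Subgroup X) ⊓ D ≤ S)).exists_card_eq
    rw [hk]
    exact (Cores.pPrimeCore_card_coprime p).pow_right k
  have h := sup_normalizer_eq_top_of_sup_normal (K := K) (W := (S : Subgroup X) ⊓ D)
    (by rw [hsup]; infer_instance) hcop (Or.inl inferInstance)
  have h1 := congrArg (Subgroup.map X.subtype) h
  rw [Subgroup.map_sup, ← MonoidHom.range_eq_map, range_subtype] at h1
  exact h1.ge.trans (sup_le_sup le_rfl (le_inf (map_subtype_le _) (le_normalizer_map _)))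

/-! ### Ranks -/

theorem exists_elementary_of_not_pRankLE {k : ℕ} {Z : Subgroup G} (h : ¬ PRankLE p k Z) :
    ∃ B : Subgroup G, B ≤ Z ∧ IsElementaryAbelian p B ∧ Nat.card B = p ^ (k + 1) := by
  simp only [PRankLE, not_forall, not_le] at h
  obtain ⟨B₀, hc, he, hlt⟩ := h
  obtain ⟨m, hm⟩ := (Components.Hyperplane.isPGroup (⟨hc, he⟩ : IsElementaryAbelian p B₀)).exists_card_eq
  have hkm : k < m := (Nat.pow_lt_pow_iff_right hp.out.one_lt).mp (hm ▸ hlt)
  obtain ⟨C, hC⟩ := Sylow.exists_subgroup_card_pow_prime p (n := k + 1) (G := B₀)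
    (hm ▸ Nat.pow_dvd_pow p hkm)
  refine ⟨(C.map B₀.subtype).map Z.subtype, map_subtype_le _, ⟨⟨⟨?_⟩⟩, ?_⟩, ?_⟩
  · rintro ⟨_, _, ⟨a, ha, rfl⟩, rfl⟩ ⟨_, _, ⟨b, hb, rfl⟩, rfl⟩
    exact Subtype.ext (congrArg (fun x : B₀ => ((x : Z) : G)) (hc.is_comm.comm a b))
  · rintro _ ⟨_, ⟨a, ha, rfl⟩, rfl⟩
    exact congrArg Subtype.val (he a a.2)
  · rw [card_map_of_injective Z.subtype_injective, card_map_of_injective B₀.subtype_injective, hC]

theorem not_pRankLE_of_elementary {k : ℕ} {B Z : Subgroup G} (hBZ : B ≤ Z)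
    (hB : IsElementaryAbelian p B) (h : p ^ (k + 1) ≤ Nat.card B) : ¬ PRankLE p k Z := by
  intro hr
  have := hB.1
  have h1 := hr (B.subgroupOf Z) ⟨⟨fun u v => Subtype.ext (Subtype.ext
    (setLike_mul_comm (s := B) u.2 v.2))⟩⟩ fun b hb => Subtype.ext (hB.2 _ hb)
  rw [Nat.card_congr (subgroupOfEquivOfLe hBZ).toEquiv] at h1
  exact absurd (h.trans h1) (not_le.mpr (Nat.pow_lt_pow_right hp.out.one_lt k.lt_succ_self))

/-- A noncyclic `p`-group contains a noncyclic elementary abelian subgroup (`p` odd). -/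
theorem not_pRankLE_one_of_not_isCyclic {R : Type*} [Group R] [Finite R] (hp2 : p ≠ 2)
    (hR : IsPGroup p R) (h : ¬ IsCyclic R) : ¬ PRankLE p 1 R := by
  intro hr
  have : Nontrivial R := not_subsingleton_iff_nontrivial.mp fun hs => h isCyclic_of_subsingleton
  obtain ⟨z, hz, hzp, hz1⟩ := RankThree.exists_center_order_p hR
  have hzo : orderOf z = p := orderOf_eq_prime hzp hz1
  have key : ∀ H : Subgroup R, Nat.card H = p → H = zpowers z := by
    intro H hH
    have hHe : IsElementaryAbelian p H := by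
      have : IsCyclic H := isCyclic_of_prime_card hH
      exact ⟨IsCyclic.isMulCommutative, fun x hx =>
        orderOf_dvd_iff_pow_eq_one.mp (hH ▸ H.orderOf_dvd_natCard hx)⟩
    have hZe : IsElementaryAbelian p (zpowers z) := by
      refine ⟨inferInstance, ?_⟩
      rintro _ ⟨m, rfl⟩
      show (z ^ m) ^ p = 1
      rw [← zpow_natCast, ← zpow_mul, mul_comm, zpow_mul, zpow_natCast, hzp, one_zpow]
    have hsup := PLocal.ThompsonSubgroup.IsElementaryAbelian.sup hHe hZe (fun x _ =>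
      mem_centralizer_iff.mpr fun y hy => (mem_center_iff.mp ((zpowers_le.mpr hz) hy) x).symm)
    have hle := hr _ hsup.1 hsup.2
    rw [pow_one] at hle
    have e1 : H = H ⊔ zpowers z := eq_of_le_of_card_ge le_sup_left (hle.trans hH.ge)
    have e2 : zpowers z = H ⊔ zpowers z := eq_of_le_of_card_ge le_sup_right
      (hle.trans (by rw [Nat.card_zpowers, hzo]))
    exact e1.trans e2.symm
  rcases PGroups.UniqueSubgroup.isCyclic_or_quaternion hR (fun H K hH hK => (key H hH).trans (key K hK).symm)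
    with h' | ⟨h', -⟩
  · exact h h'
  · exact hp2 h'

/-! ### Uniqueness subgroups -/

theorem ne_two (hG : IsMinSimpleOddOrder G) {X : Subgroup G} (h : p ∣ Nat.card X) : p ≠ 2 := by
  rintro rfl
  exact Nat.not_even_iff_odd.mpr hG.1 (even_iff_two_dvd.mpr (h.trans (card_subgroup_dvd_card X)))

theorem dvd_card_of_ne_bot {X : Subgroup G} (hX : IsPGroup p X) (h : X ≠ ⊥) : p ∣ Nat.card X := by
  obtain ⟨k, hk⟩ := hX.exists_card_eq
  exact hk ▸ dvd_pow_self p fun e => h (eq_bot_of_card_eq _ (by rw [hk, e, pow_zero]))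

theorem le_max {X M H : Subgroup G} (hX : InUniqueMaximal X) (hM : IsCoatom M) (hXM : X ≤ M)
    (hH : H ≠ ⊤) (hXH : X ≤ H) : H ≤ M := by
  obtain ⟨L, hL, hHL⟩ := (eq_top_or_exists_le_coatom H).resolve_left hH
  exact hHL.trans (hX.unique ⟨hL, hXH.trans hHL⟩ ⟨hM, hXM⟩).le

theorem ne_bot (hG : IsMinSimpleOddOrder G) {X : Subgroup G} (hX : InUniqueMaximal X) : X ≠ ⊥ := by
  rintro rfl
  obtain ⟨M, hM, -⟩ := hX.exists
  refine hM.1 (eq_top_iff.mpr fun g _ => ?_)
  refine le_max hX hM bot_le (fun h => hG.2.2.1 ⟨⟨fun a b => ?_⟩⟩) bot_le (mem_zpowers g)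
  exact (setLike_mul_comm (s := zpowers g) (by rw [h]; trivial) (by rw [h]; trivial))

theorem ne_top {X : Subgroup G} (hX : InUniqueMaximal X) : X ≠ ⊤ := by
  obtain ⟨M, hM, hXM⟩ := hX.exists
  exact fun h => hM.1 (top_le_iff.mp (h ▸ hXM))

theorem mono {X Y : Subgroup G} (hX : InUniqueMaximal X) (hXY : X ≤ Y) (hY : Y ≠ ⊤) :
    InUniqueMaximal Y := by
  obtain ⟨L, hL, hYL⟩ := (eq_top_or_exists_le_coatom Y).resolve_left hY
  exact ⟨L, ⟨hL, hYL⟩, fun L' hL' => hX.unique ⟨hL'.1, hXY.trans hL'.2⟩ ⟨hL, hXY.trans hYL⟩⟩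

theorem isCoatom_map_conj {M : Subgroup G} (hM : IsCoatom M) (g : G) :
    IsCoatom (M.map (MulAut.conj g).toMonoidHom) :=
  ((MulAut.conj g).mapSubgroup.isCoatom_iff M).mpr hM

theorem conj {X : Subgroup G} (hX : InUniqueMaximal X) (g : G) :
    InUniqueMaximal (X.map (MulAut.conj g).toMonoidHom) := by
  obtain ⟨M, hM, hXM⟩ := hX.exists
  refine ⟨M.map (MulAut.conj g).toMonoidHom, ⟨isCoatom_map_conj hM g, map_mono hXM⟩, fun L hL => ?_⟩
  have e : L.map (MulAut.conj g⁻¹).toMonoidHom = M := hX.unique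
    ⟨isCoatom_map_conj hL.1 g⁻¹, by
      have := map_mono (f := (MulAut.conj g⁻¹).toMonoidHom) hL.2
      rwa [Transitivity.map_conj_map, inv_mul_cancel, Transitivity.map_conj_one] at this⟩ ⟨hM, hXM⟩
  rw [← e, Transitivity.map_conj_map, mul_inv_cancel, Transitivity.map_conj_one]

theorem inf_centralizer_self {A : Subgroup G} (hA : IsMulCommutative A) :
    A ⊓ centralizer (A : Set G) = A := inf_eq_left.mpr (le_centralizer A)

end Cfsg.Agent.OddLocal.Unique
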