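import Cfsg.Agent.OddLocal.UniqueBasic
import Cfsg.Agent.OddLocal.TransitivityHyp
import Cfsg.Agent.OddLocal.NarrowSolvable
import Cfsg.Agent.S1393
import Cfsg.Agent.S1396
import Cfsg.Agent.S1457

/-! A `p`-subgroup all of whose invariant `p'`-subgroups lie in one maximal subgroup. -/

set_option autoImplicit false
set_option linter.unusedSectionVars false

namespace Cfsg.Agent.OddLocal.Unique

open Cfsg Subgroup Cfsg.Agent.OddLocal.Bender Cfsg.Agent.OddLocal.Puig
open Cfsg.Agent.OddLocal.Uniqueness (puigCenter lt_inf_normalizer)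

variable {G : Type*} [Group G] [Finite G] {p : ℕ} [hp : Fact p.Prime]

theorem prime_dvd_card_iff {A : Subgroup G} (hA : IsPGroup p A) (h : A ≠ ⊥) {r : ℕ} (hr : r.Prime) :
    r ∣ Nat.card A ↔ r = p := by
  refine ⟨fun hd => ?_, fun e => e ▸ dvd_card_of_ne_bot hA h⟩
  obtain ⟨k, hk⟩ := hA.exists_card_eq
  exact (Nat.prime_dvd_prime_iff_eq hr hp.out).mp (hr.dvd_of_dvd_pow (hk ▸ hd))

theorem coprime_card_of_pGroup {A Y : Subgroup G} (hA : IsPGroup p A) (hY : (Nat.card Y).Coprime p) :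
    (Nat.card A).Coprime (Nat.card Y) := by
  obtain ⟨k, hk⟩ := hA.exists_card_eq
  exact hk ▸ hY.symm.pow_left k

theorem not_dvd_of_coprime {Y : Subgroup G} (hY : (Nat.card Y).Coprime p) {r : ℕ} (hr : r.Prime)
    (hd : r ∣ Nat.card Y) : r ≠ p := fun e =>
  (hp.out.coprime_iff_not_dvd.mp hY.symm) (e ▸ hd)

theorem coprime_of_primesNotDvd {A Y : Subgroup G} (hA : IsPGroup p A) (h : A ≠ ⊥)
    (hY : ∀ r : ℕ, r.Prime → r ∣ Nat.card Y → r ∈ primesNotDvd (Nat.card A)) :
    (Nat.card Y).Coprime p :=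
  Nat.coprime_of_dvd fun r hr h1 h2 => (hY r hr h1).2
    ((prime_dvd_card_iff hA h hr).mpr ((Nat.prime_dvd_prime_iff_eq hr hp.out).mp h2))

theorem ne_bot_of_not_pRankLE {k : ℕ} {A : Subgroup G} (h : ¬ PRankLE p k A) : A ≠ ⊥ := fun e =>
  h fun B _ _ => by
    subst e
    exact ((card_le_card_group B).trans (card_bot (G := G)).le).trans (Nat.one_le_pow _ _ hp.out.pos)

theorem not_rankLE_of_not_pRankLE {k : ℕ} {H : Type*} [Group H] (h : ¬ PRankLE p k H) :
    ¬ RankLE k H := fun hr => h (hr p hp.out)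

theorem not_pRankLE_mono {j k : ℕ} {H : Type*} [Group H] (hjk : j ≤ k) (h : ¬ PRankLE p k H) :
    ¬ PRankLE p j H := fun hj => h fun B hB hB' =>
  (hj B hB hB').trans (Nat.pow_le_pow_right hp.out.pos hjk)

theorem isMulCommutative_of_scn {P A : Subgroup G} (hA : IsSCN P A) : IsMulCommutative A :=
  ⟨⟨fun a b => Subtype.ext (mem_centralizer_iff.mp (hA.2.2.ge b.2).2 a a.2)⟩⟩

theorem transitivityHypothesis_of_scn (hG : IsMinSimpleOddOrder G) (P : Sylow p G) {A : Subgroup G}
    (hA : IsSCN (P : Subgroup G) A) (hA1 : ¬ PRankLE p 1 A) : TransitivityHypothesis A :=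
  S1396.result hG p ((dvd_card_of_ne_bot (P.isPGroup'.to_le hA.1) (ne_bot_of_not_pRankLE hA1)).trans
    (card_subgroup_dvd_card A)) A (P.isPGroup'.to_le hA.1) (isMulCommutative_of_scn hA)
    (Or.inr ⟨P, hA, hA1⟩)

/-- `A`-invariant `p'`-subgroups of a proper subgroup containing `A` lie in its `O_{p'}`. -/
theorem le_primeCore_of_scn (hG : IsMinSimpleOddOrder G) (P : Sylow p G) {A : Subgroup G}
    (hA : IsSCN (P : Subgroup G) A) (hA1 : ¬ PRankLE p 1 A) {X Y : Subgroup G} (hX : X ≠ ⊤)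
    (hAX : A ≤ X) (hYX : Y ≤ X) (hY : (Nat.card Y).Coprime p) (hAY : A ≤ normalizer (Y : Set G)) :
    Y ≤ primeCore p X :=
  TransitivityHyp.le_core_of_scn hG P hA (isMulCommutative_of_scn hA) hA1 hX hAX hYX hY hAY

theorem normalizer_le_piCoreOf (π : Set ℕ) (X : Subgroup G) :
    normalizer (X : Set G) ≤ normalizer (piCoreOf π X : Set G) :=
  Coprime.OmegaDetect.normalizer_le_normalizer_char X (piCore π X)

/-- `O_{p'}(C(A))` is a `p'`-group normalized by the Sylow subgroup. -/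
theorem core_centralizer_facts (P : Sylow p G) {A : Subgroup G} (hA : IsSCN (P : Subgroup G) A)
    (hA1 : ¬ PRankLE p 1 A) :
    (Nat.card (piCoreOf (primesNotDvd (Nat.card A)) (centralizer (A : Set G)))).Coprime p ∧
      (P : Subgroup G) ≤ normalizer (piCoreOf (primesNotDvd (Nat.card A)) (centralizer (A : Set G)) : Set G) :=
  ⟨coprime_of_primesNotDvd (P.isPGroup'.to_le hA.1) (ne_bot_of_not_pRankLE hA1)
    (Transitivity.isPi_piCoreOf _ _),
   (hA.2.1.trans (CharP.normalizer_le_normalizer_centralizer A)).trans (normalizer_le_piCoreOf _ _)⟩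

/-- For each prime `q ≠ p` a maximal `A`-invariant `q`-subgroup is normalized by `P`. -/
theorem exists_sylow_invariant (hG : IsMinSimpleOddOrder G) (P : Sylow p G) {A : Subgroup G}
    (hA : IsSCN (P : Subgroup G) A) (hA3 : ¬ PRankLE p 2 A) {q : ℕ} (hq : q.Prime) (hqp : q ≠ p) :
    ∃ Q ∈ maxInvSubgroups ⊤ A {q}, (P : Subgroup G) ≤ normalizer (Q : Set G) := by
  have hA1 := not_pRankLE_mono one_le_two hA3
  have hAp := P.isPGroup'.to_le hA.1
  have hA0 := ne_bot_of_not_pRankLE hA1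
  have hTH := transitivityHypothesis_of_scn hG P hA hA1
  have hrank : ¬ RankLE 2 (A ⊓ centralizer (A : Set G) : Subgroup G) := by
    rw [inf_centralizer_self (isMulCommutative_of_scn hA)]
    exact not_rankLE_of_not_pRankLE hA3
  have htr := S1393.result hG A hTH hrank q hq fun h => hqp ((prime_dvd_card_iff hAp hA0 hq).mp h)
  have hPπ : ∀ r : ℕ, r.Prime → r ∣ Nat.card (P : Subgroup G) → r ∣ Nat.card A := fun r hr hd => by
    refine (prime_dvd_card_iff hAp hA0 hr).mpr ?_
    obtain ⟨k, hk⟩ := P.isPGroup'.exists_card_eq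
    exact (Nat.prime_dvd_prime_iff_eq hr hp.out).mp (hr.dvd_of_dvd_pow (hk ▸ hd))
  have := P.isPGroup'.isNilpotent
  exact (TransitivityP.trans_top hG hTH htr hPπ hA.1 (Uniqueness.isSubnormal_of_isNilpotent _)).1

/-- All maximal `A`-invariant `q`-subgroups lie in `M` as soon as one does and `O_{p'}(C(A)) ≤ M`. -/
theorem max_le_of_scn (hG : IsMinSimpleOddOrder G) (P : Sylow p G) {A M : Subgroup G}
    (hA : IsSCN (P : Subgroup G) A) (hA3 : ¬ PRankLE p 2 A) {q : ℕ} [Fact q.Prime] (hqp : q ≠ p)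
    (hD : piCoreOf (primesNotDvd (Nat.card A)) (centralizer (A : Set G)) ≤ M)
    {Q : Subgroup G} (hQ : Q ∈ maxInvSubgroups ⊤ A {q}) (hQM : Q ≤ M) {R : Subgroup G}
    (hR : IsPGroup q R) (hAR : A ≤ normalizer (R : Set G)) : R ≤ M := by
  have hA1 := not_pRankLE_mono one_le_two hA3
  have hrank : ¬ RankLE 2 (A ⊓ centralizer (A : Set G) : Subgroup G) := by
    rw [inf_centralizer_self (isMulCommutative_of_scn hA)]
    exact not_rankLE_of_not_pRankLE hA3
  obtain ⟨R', hR', hle⟩ := Transitivity.exists_max_ge (show R ∈ invSubgroups ⊤ A {q} from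
    ⟨le_top, Transitivity.isPi_of_isPGroup hR, hAR⟩)
  obtain ⟨k, hk, rfl⟩ := S1393.result hG A (transitivityHypothesis_of_scn hG P hA hA1) hrank q Fact.out
    (fun h => hqp ((prime_dvd_card_iff (P.isPGroup'.to_le hA.1) (ne_bot_of_not_pRankLE hA1) Fact.out).mp h))
    Q hQ R' hR'
  refine hle.trans ?_
  rintro _ ⟨x, hx, rfl⟩
  exact M.mul_mem (M.mul_mem (hD hk) (hQM hx)) (M.inv_mem (hD hk))

/-- All `A`-invariant `p'`-subgroups lie in `M` if the maximal `q`-ones normalized by `P` do. -/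
theorem inv_le_of_scn (hG : IsMinSimpleOddOrder G) (P : Sylow p G) {A M : Subgroup G}
    (hA : IsSCN (P : Subgroup G) A) (hA3 : ¬ PRankLE p 2 A)
    (hD : piCoreOf (primesNotDvd (Nat.card A)) (centralizer (A : Set G)) ≤ M)
    (hQ : ∀ q : ℕ, q.Prime → q ≠ p → ∃ Q ∈ maxInvSubgroups ⊤ A {q}, Q ≤ M)
    {Y : Subgroup G} (hY : (Nat.card Y).Coprime p) (hAY : A ≤ normalizer (Y : Set G)) : Y ≤ M := by
  have hA0 := ne_bot_of_not_pRankLE hA3
  have hYtop : Y ≠ ⊤ := fun h => (hp.out.coprime_iff_not_dvd.mp hY.symm) (by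
    rw [h, card_top]
    exact (dvd_card_of_ne_bot (P.isPGroup'.to_le hA.1) hA0).trans (card_subgroup_dvd_card A))
  refine Uniqueness.le_of_forall_qSubgroup hAY (coprime_card_of_pGroup (P.isPGroup'.to_le hA.1) hY)
    (Transitivity.isSolvable_of_ne_top hG hYtop) fun q _ hd R _ hR hAR => ?_
  obtain ⟨Q, hQ, hQM⟩ := hQ q Fact.out (not_dvd_of_coprime hY Fact.out hd)
  exact max_le_of_scn hG P hA hA3 (not_dvd_of_coprime hY Fact.out hd) hD hQ hQM hR hAR

/-- A self-centralizing normal abelian subgroup of rank three. -/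
theorem exists_scn (hp2 : p ≠ 2) {P : Subgroup G} (hP : IsPGroup p P) (hr : ¬ PRankLE p 2 P) :
    ∃ A : Subgroup G, IsSCN P A ∧ ¬ PRankLE p 2 A := by
  obtain ⟨A, -, hAn, hAc, hA3⟩ := RankThree.exists_scn_three hp2 hP hr ⊥
    ⟨inferInstance, fun a ha => by rw [mem_bot] at ha; rw [ha, one_pow]⟩
  refine ⟨A.map P.subtype, ⟨map_subtype_le _, ?_, ?_⟩, fun h => ?_⟩
  · exact le_normalizer_of_normal_subgroupOf (hK := by
      rw [subgroupOf, comap_map_eq_self_of_injective P.subtype_injective]; infer_instance)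
      (map_subtype_le _)
  · ext x
    constructor
    · rintro ⟨hxP, hx⟩
      refine ⟨⟨x, hxP⟩, ?_, rfl⟩
      rw [SetLike.mem_coe, ← hAc]
      exact mem_centralizer_iff.mpr fun a ha => Subtype.ext (mem_centralizer_iff.mp hx a ⟨a, ha, rfl⟩)
    · rintro ⟨a, ha, rfl⟩
      refine ⟨a.2, mem_centralizer_iff.mpr ?_⟩
      rintro _ ⟨b, hb, rfl⟩
      exact congrArg Subtype.val (mem_centralizer_iff.mp (hAc.ge ha) b hb)
  · refine hA3 fun B hB hB' => ?_
    let e := A.equivMapOfInjective P.subtype P.subtype_injective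
    rw [← card_map_of_injective (K := B) (f := e.toMonoidHom) e.injective]
    refine h _ (map_isMulCommutative B _) ?_
    rintro _ ⟨b, hb, rfl⟩
    rw [← map_pow, hB' b hb, map_one]

theorem conj_primeCore_inv {X K : Subgroup G} {g : G} (hg : g ∈ normalizer (X : Set G))
    (hX : X ≤ normalizer (K : Set G)) :
    X ≤ normalizer (K.map (MulAut.conj g).toMonoidHom : Set G) := by
  conv_lhs => rw [← mem_normalizer_iff_map_conj_eq.mp hg]
  exact (map_mono hX).trans (le_normalizer_map _)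

variable (hG : IsMinSimpleOddOrder G) {M X : Subgroup G} (hM : IsCoatom M) (hXp : IsPGroup p X)
  (hX0 : X ≠ ⊥) (hinv : ∀ Y : Subgroup G, (Nat.card Y).Coprime p → X ≤ normalizer (Y : Set G) → Y ≤ M)
include hG hM hXp hX0 hinv

theorem sylow_facts (S : Sylow p M) (hXS : X ≤ (S : Subgroup M).map M.subtype) :
    normalizer (((S : Subgroup M).map M.subtype : Subgroup G) : Set G) ≤ M ∧
      ∃ PG : Sylow p G, (PG : Subgroup G) = (S : Subgroup M).map M.subtype := by
  set T := (S : Subgroup M).map M.subtype with hT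
  have hTp : IsPGroup p T := S.isPGroup'.map M.subtype
  have hT0 : T ≠ ⊥ := fun h => hX0 (le_bot_iff.mp (h ▸ hXS))
  have hMs := Transitivity.isSolvable_of_ne_top hG hM.1
  have hmax : ∀ T' : Subgroup G, IsPGroup p T' → T' ≤ M → T ≤ T' → T' = T := by
    intro T' hT' hT'M hle
    have h1 := S.3 (hT'.comap_subtype : IsPGroup p (T'.subgroupOf M)) (fun x hx => hle ⟨x, hx, rfl⟩)
    exact ((map_subgroupOf_eq_of_le hT'M).symm.trans (congrArg (·.map M.subtype) h1))
  have hN : normalizer (T : Set G) ≤ M := by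
    by_cases hK : primeCore p M = ⊥
    · exact (Uniqueness.normalizer_le_puigCenter T).trans
        (Uniqueness.maximal_pGroup hG hM (primeCore_eq_bot.mp hK) hTp hT0 (map_subtype_le _) hmax).1.le
    intro g hg
    rw [← BenderUnique.normalizer_eq_of_coatom hG hM hK (primeCore_le M) (le_normalizer_primeCore M)]
    have hTn := conj_primeCore_inv hg ((map_subtype_le _).trans (le_normalizer_primeCore (p := p) M) :
      T ≤ normalizer (primeCore p M : Set G))
    have hcop : (Nat.card ((primeCore p M).map (MulAut.conj g).toMonoidHom)).Coprime p := by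
      rw [Transitivity.card_map_conj]; exact primeCore_coprime M
    have hle := le_primeCore_of_sylow hMs S (hinv _ hcop (hXS.trans hTn)) hcop hTn
    exact mem_normalizer_iff_map_conj_eq.mpr (eq_of_le_of_card_ge hle (Transitivity.card_map_conj g _).ge)
  refine ⟨hN, ⟨T, hTp, fun {Q} hQ hle => ?_⟩, rfl⟩
  by_contra hne
  have hlt := lt_inf_normalizer hQ (lt_of_le_of_ne hle (Ne.symm hne))
  exact hlt.ne' (hmax _ (hQ.to_le inf_le_left) (inf_le_right.trans hN) hlt.le)

/-- A maximal subgroup containing a Sylow subgroup of `M` through `X` is `M`. -/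
theorem eq_of_sylow_le (S : Sylow p M) (hXS : X ≤ (S : Subgroup M).map M.subtype) {H : Subgroup G}
    (hH : IsCoatom H) (hSH : (S : Subgroup M).map M.subtype ≤ H) : H = M := by
  obtain ⟨hN, PG, hPG⟩ := sylow_facts hG hM hXp hX0 hinv S hXS
  set T := (S : Subgroup M).map M.subtype with hT
  have hTp : IsPGroup p T := S.isPGroup'.map M.subtype
  have hT0 : T ≠ ⊥ := fun h => hX0 (le_bot_iff.mp (h ▸ hXS))
  have hTM : T ≤ M := map_subtype_le _
  have hp2 := ne_two hG (dvd_card_of_ne_bot hXp hX0)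
  have hMs := Transitivity.isSolvable_of_ne_top hG hM.1
  have hHs := Transitivity.isSolvable_of_ne_top hG hH.1
  have hcore : primeCore p H ≤ primeCore p M :=
    le_primeCore_of_sylow hMs S (hinv _ (primeCore_coprime H)
      ((hXS.trans hSH).trans (le_normalizer_primeCore H))) (primeCore_coprime H)
      (hSH.trans (le_normalizer_primeCore H))
  have hmaxG : ∀ T' : Subgroup G, IsPGroup p T' → T ≤ T' → T' = T := fun T' hT' hle => by
    rw [← hPG] at hle ⊢
    exact PG.3 hT' hle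
  by_contra hne
  refine hne ((le_iff_eq_or_lt.mp (?_ : H ≤ M)).resolve_right fun hlt => hM.1 (hH.2 M hlt))
  by_cases hK : primeCore p M = ⊥
  · have h1 := Uniqueness.maximal_pGroup hG hM (primeCore_eq_bot.mp hK) hTp hT0 hTM
      fun T' hT' _ hle => hmaxG T' hT' hle
    have h2 := Uniqueness.maximal_pGroup hG hH (primeCore_eq_bot.mp (le_bot_iff.mp (hK ▸ hcore))) hTp
      hT0 hSH fun T' hT' _ hle => hmaxG T' hT' hle
    exact (h2.1.symm.trans h1.1).le
  have hHT : ((PG.subtype (hPG.le.trans hSH) : Sylow p H) : Subgroup H).map H.subtype = T := by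
    rw [Sylow.coe_subtype, map_subgroupOf_eq_of_le (hPG.le.trans hSH), hPG]
  by_cases hr : PRankLE p 2 (PG : Subgroup G)
  · have hodd : Odd (Nat.card H) := hG.1.of_dvd_nat (card_subgroup_dvd_card H)
    have hrH : PRankLE p 2 H := RankTwoFitting.pRankLE_of_le (NarrowSolvable.pRankLE_of_sylow PG hr)
    have hdH : p ∣ Nat.card H := (dvd_card_of_ne_bot hTp hT0).trans (card_dvd_of_le hSH)
    have hlen := OddLocal.pLengthLE_one_iff.mpr (RankTwoSolvable.structure_rankTwo hodd hdH hrH).2.1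
    have h := congrArg (Subgroup.map H.subtype)
      (OddLocal.pPrimeCore_sup_normalizer hlen (PG.subtype (hPG.le.trans hSH)))
    rw [Subgroup.map_sup, ← MonoidHom.range_eq_map, range_subtype] at h
    refine h.ge.trans (sup_le (hcore.trans (primeCore_le M)) ((le_normalizer_map _).trans ?_))
    rw [hHT]; exact hN
  obtain ⟨A, hA, hA3⟩ := exists_scn hp2 PG.isPGroup' hr
  have hA1 := not_pRankLE_mono one_le_two hA3
  have hD : piCoreOf (primesNotDvd (Nat.card A)) (centralizer (A : Set G)) ≤ M :=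
    hinv _ (core_centralizer_facts PG hA hA1).1
      ((hXS.trans hPG.ge).trans (core_centralizer_facts PG hA hA1).2)
  have hAinv : ∀ Y : Subgroup G, (Nat.card Y).Coprime p → A ≤ normalizer (Y : Set G) → Y ≤ M :=
    fun Y hY hAY => inv_le_of_scn hG PG hA hA3 hD (fun q hq hqp => by
      have := Fact.mk hq
      obtain ⟨Q, hQ, hPQ⟩ := exists_sylow_invariant hG PG hA hA3 hq hqp
      refine ⟨Q, hQ, hinv Q ?_ ((hXS.trans hPG.ge).trans hPQ)⟩
      obtain ⟨k, hk⟩ := (Transitivity.isPGroup_of_mem hQ.1.2.1 : IsPGroup q Q).exists_card_eq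
      rw [hk]
      exact ((Nat.coprime_primes hq hp.out).mpr hqp).pow_left k) hY hAY
  refine (le_primeCore_sup_sylow_inf hHs (PG.subtype (hPG.le.trans hSH))).trans
    (sup_le (hcore.trans (primeCore_le M)) ?_)
  set S' := PG.subtype (hPG.le.trans hSH) with hS'
  set R := ((S' : Subgroup H) ⊓ pPrimePCore p H).map H.subtype with hR
  have hAH : A ≤ H := hA.1.trans (hPG.le.trans hSH)
  have hAR : A ≤ R := by
    rw [← map_subgroupOf_eq_of_le hAH]
    refine map_mono (le_inf (fun x hx => hA.1 hx) ?_)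
    refine S1457.result (hG.1.of_dvd_nat (card_subgroup_dvd_card H)) p S' _ (fun x hx => hA.1 hx) ?_
      (fun x hx => le_normalizer_comap H.subtype (hA.2.1 hx))
    have := isMulCommutative_of_scn hA
    exact ⟨⟨fun a b => Subtype.ext (Subtype.ext (setLike_mul_comm (s := A) a.2 b.2))⟩⟩
  have hRM : R ≤ M := (map_mono inf_le_left).trans (hHT.le.trans hTM)
  rintro g ⟨-, hg⟩
  rw [← BenderUnique.normalizer_eq_of_coatom hG hM hK (primeCore_le M) (le_normalizer_primeCore M)]
  have hcop : (Nat.card ((primeCore p M).map (MulAut.conj g).toMonoidHom)).Coprime p := by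
    rw [Transitivity.card_map_conj]; exact primeCore_coprime M
  have hn := hAR.trans (conj_primeCore_inv hg (hRM.trans (le_normalizer_primeCore (p := p) M)))
  have hle := le_primeCore_of_scn hG PG hA hA1 hM.1 (hA.1.trans (hPG.le.trans hTM))
    (hAinv _ hcop hn) hcop hn
  exact mem_normalizer_iff_map_conj_eq.mpr (eq_of_le_of_card_ge hle (Transitivity.card_map_conj g _).ge)

/-- The basic uniqueness criterion. -/
theorem unique_of_inv (hXM : X ≤ M) : InUniqueMaximal X := by
  have hp2 := ne_two hG (dvd_card_of_ne_bot hXp hX0)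
  refine ⟨M, ⟨hM, hXM⟩, fun L hL => by_contra fun hLM => ?_⟩
  obtain ⟨U, -, ⟨hUp, hXU, hUM, L, hLc, hLM, hUL⟩, hUmax⟩ := (Set.toFinite {U : Subgroup G |
      IsPGroup p U ∧ X ≤ U ∧ U ≤ M ∧ ∃ L : Subgroup G, IsCoatom L ∧ L ≠ M ∧ U ≤ L}).exists_le_maximal
    (show X ∈ _ from ⟨hXp, le_rfl, hXM, L, hL.1, hLM, hL.2⟩)
  have hU0 : U ≠ ⊥ := fun h => hX0 (le_bot_iff.mp (h ▸ hXU))
  have hbig : ∀ U' : Subgroup G, IsPGroup p U' → U < U' → U' ≤ M → ∀ K : Subgroup G, IsCoatom K → U' ≤ K →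
      K = M := fun U' hU' hlt hU'M K hK hU'K => by_contra fun hne =>
    hlt.not_ge (hUmax ⟨hU', hXU.trans hlt.le, hU'M, K, hK, hne, hU'K⟩ hlt.le)
  obtain ⟨S, hUS⟩ := (hUp.comap_subtype : IsPGroup p (U.subgroupOf M)).exists_le_sylow
  have hUT : U ≤ (S : Subgroup M).map M.subtype :=
    (map_subgroupOf_eq_of_le hUM).ge.trans (map_mono hUS)
  rcases eq_or_lt_of_le hUT with he | hlt
  · exact hLM (eq_of_sylow_le hG hM hXp hX0 hinv S (hXU.trans hUT) hLc (he ▸ hUL))
  set U' := (S : Subgroup M).map M.subtype ⊓ normalizer (U : Set G) with hU'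
  have hlt' : U < U' := lt_inf_normalizer (S.isPGroup'.map M.subtype) hlt
  have hU'p : IsPGroup p U' := (S.isPGroup'.map M.subtype).to_le inf_le_left
  have hU'M : U' ≤ M := inf_le_left.trans (map_subtype_le _)
  have hnle : ∀ Z : Subgroup G, Z ≠ ⊥ → Z ≤ M → normalizer (U : Set G) ≤ normalizer (Z : Set G) →
      normalizer (Z : Set G) ≤ M := by
    intro Z hZ hZM hUZ
    obtain ⟨K, hK, hNK⟩ := (eq_top_or_exists_le_coatom (normalizer (Z : Set G))).resolve_left
      (Transitivity.normalizer_ne_top hG hZ fun e => hM.1 (top_le_iff.mp (e ▸ hZM)))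
    exact hNK.trans (hbig U' hU'p hlt' hU'M K hK ((inf_le_right.trans hUZ).trans hNK)).le
  obtain ⟨SL, hUSL⟩ := (hUp.comap_subtype : IsPGroup p (U.subgroupOf L)).exists_le_sylow
  have hSLe : (SL : Subgroup L).map L.subtype = U := by
    by_contra hne
    have hlt2 := lt_inf_normalizer (SL.isPGroup'.map L.subtype)
      (lt_of_le_of_ne ((map_subgroupOf_eq_of_le hUL).ge.trans (map_mono hUSL)) (Ne.symm hne))
    refine hLM (hbig _ ((SL.isPGroup'.map L.subtype).to_le inf_le_left) hlt2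
      (inf_le_right.trans (hnle U hU0 hUM le_rfl)) L hLc (inf_le_left.trans (map_subtype_le _)))
  have hdec := le_primeCore_sup_puigCenter (Transitivity.isSolvable_of_ne_top hG hLc.1)
    (hG.1.of_dvd_nat (card_subgroup_dvd_card L)) hp2 SL
  rw [hSLe] at hdec
  have hLle : L ≤ M := hdec.trans (sup_le
    (hinv _ (primeCore_coprime L) ((hXU.trans hUL).trans (le_normalizer_primeCore L)))
    (inf_le_right.trans (hnle _ (Uniqueness.puigCenter_ne_bot hUp hU0)
      ((Uniqueness.puigCenter_le U).trans hUM) (Uniqueness.normalizer_le_puigCenter U))))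
  exact hM.1 (hLc.2 M (lt_of_le_of_ne hLle hLM))

end Cfsg.Agent.OddLocal.Unique
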