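import Cfsg.Agent.OddLocal.UniqueInv
import Cfsg.Agent.Lib.PGroups.AbelianNormal
import Cfsg.Agent.Lib.PGroups.Normal

/-! Uniqueness subgroups from rank conditions. -/

set_option autoImplicit false
set_option linter.unusedSectionVars false

namespace Cfsg.Agent.OddLocal.Unique

open Cfsg Subgroup Cfsg.Agent.OddLocal.Bender

variable {G : Type*} [Group G] [Finite G] {p : ℕ} [hp : Fact p.Prime]

/-- An elementary abelian noncyclic subgroup all of whose centralizers lie in `M`, or all of whose
invariant `p'`-subgroups lie in `M`. -/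
theorem unique_of_elementary (hG : IsMinSimpleOddOrder G) {M B : Subgroup G} (hM : IsCoatom M)
    (hBM : B ≤ M) (hBe : IsElementaryAbelian p B) (hB : ¬ IsCyclic B)
    (h : (∀ b ∈ B, b ≠ 1 → centralizer ({b} : Set G) ≤ M) ∨
      ∀ Y : Subgroup G, (Nat.card Y).Coprime p → B ≤ normalizer (Y : Set G) → Y ≤ M) :
    InUniqueMaximal B := by
  have hB0 : B ≠ ⊥ := fun e => hB (e ▸ inferInstance)
  refine unique_of_inv hG hM (Components.Hyperplane.isPGroup hBe) hB0 (fun Y hY hBY => ?_) hBM
  rcases h with h | h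
  · have := hBe.1
    rw [← Coprime.fixedGen_eq hB hBY (coprime_card_of_pGroup (Components.Hyperplane.isPGroup hBe) hY)]
    exact iSup₂_le fun b hb => inf_le_right.trans (h b hb.1 hb.2)
  · exact h Y hY hBY

/-- A subgroup of rank two centralizing a uniqueness subgroup is a uniqueness subgroup. -/
theorem unique_of_le_centralizer (hG : IsMinSimpleOddOrder G) {L K : Subgroup G} (hL : InUniqueMaximal L)
    (hK : K ≤ centralizer (L : Set G)) (hKr : ¬ RankLE 1 K) : InUniqueMaximal K := by
  obtain ⟨q, B, hq, hBK, hBe, hBc⟩ := Transitivity.exists_elementary_of_not_rankLE hKr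
  have := Fact.mk hq
  obtain ⟨M, hM, hLM⟩ := hL.exists
  have hB : ¬ IsCyclic B := Components.Hyperplane.not_isCyclic hBe hBc.ge
  have hLC : ∀ b ∈ B, L ≤ centralizer ({b} : Set G) := fun b hb l hl =>
    mem_centralizer_singleton_iff.mpr (mem_centralizer_iff.mp (hK (hBK hb)) l hl)
  have hC : ∀ b ∈ B, b ≠ 1 → centralizer ({b} : Set G) ≤ M := fun b hb hb1 =>
    le_max hL hM hLM (Transitivity.centralizer_ne_top hG (Set.mem_singleton b) hb1) (hLC b hb)
  have hB0 : B ≠ ⊥ := fun e => hB (e ▸ inferInstance)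
  obtain ⟨b, hb, hb1⟩ := (bot_or_exists_ne_one B).resolve_left hB0
  have hBM : B ≤ M := le_trans (fun x hx => by
    have := hBe.1
    exact mem_centralizer_singleton_iff.mpr (setLike_mul_comm (s := B) hx hb)) (hC b hb hb1)
  obtain ⟨l, hl, hl1⟩ := (bot_or_exists_ne_one L).resolve_left (ne_bot hG hL)
  exact mono (unique_of_elementary hG hM hBM hBe hB (Or.inl hC)) hBK
    fun e => Transitivity.centralizer_ne_top hG hl hl1 (top_le_iff.mp (e ▸ hK))

theorem elementary_ne_top (hG : IsMinSimpleOddOrder G) {D : Subgroup G} (hD : IsElementaryAbelian p D) :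
    D ≠ ⊤ := fun e => hG.2.2.1 ⟨⟨fun a b => by
  have := hD.1
  exact setLike_mul_comm (s := D) (e ▸ mem_top a) (e ▸ mem_top b)⟩⟩

/-- A normal subgroup of order `p²` cuts every elementary abelian subgroup down by at most `p`. -/
theorem le_card_inf_centralizer {P E D : Subgroup G} (hP : IsPGroup p P) (hEP : E ≤ P)
    (hPE : P ≤ normalizer (E : Set G)) (hE : IsMulCommutative E) (hEc : Nat.card E = p ^ 2)
    (hDP : D ≤ P) : Nat.card D ≤ p * Nat.card (D ⊓ centralizer (E : Set G) : Subgroup G) := by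
  have hn : (E.subgroupOf P).Normal := (normal_subgroupOf_iff_le_normalizer hEP).mpr hPE
  have hc : IsMulCommutative (E.subgroupOf P) :=
    ⟨⟨fun u v => Subtype.ext (Subtype.ext (setLike_mul_comm (s := E) u.2 v.2))⟩⟩
  have hidx := PGroups.AbelianNormal.index_centralizer_le hP (E.subgroupOf P) (a := 2)
    (by rw [Nat.card_congr (subgroupOfEquivOfLe hEP).toEquiv, hEc])
  have he : centralizer (E.subgroupOf P : Set P) = (centralizer (E : Set G)).subgroupOf P := by
    ext x
    refine ⟨fun hx => mem_centralizer_iff.mpr fun e he => congrArg Subtype.val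
      (mem_centralizer_iff.mp hx ⟨e, hEP he⟩ he), fun hx => mem_centralizer_iff.mpr fun e he =>
      Subtype.ext (mem_centralizer_iff.mp hx e he)⟩
  rw [he] at hidx
  have h1 : (centralizer (E : Set G)).relIndex D ≤ p :=
    (relIndex_le_of_le_right hDP (index_ne_zero_of_finite (H := (centralizer (E : Set G)).subgroupOf P))).trans
      (hidx.trans (le_of_eq (by simp)))
  rw [← relIndex_bot_left (H := D), ← relIndex_mul_relIndex ⊥ (D ⊓ centralizer (E : Set G)) D bot_le inf_le_left,
    relIndex_bot_left, inf_relIndex_left, mul_comm p]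
  exact Nat.mul_le_mul_left _ h1

/-- A noncyclic `p`-subgroup with a centralizer of rank three is a uniqueness subgroup, once some
abelian subgroup of rank three is. -/
theorem unique_of_rank (hG : IsMinSimpleOddOrder G) {A B : Subgroup G} (hAp : IsPGroup p A)
    (hAc : IsMulCommutative A) (hA3 : ¬ PRankLE p 2 A) (hAU : InUniqueMaximal A) (hBp : IsPGroup p B)
    (hB : ¬ IsCyclic B) (hB3 : ¬ PRankLE p 2 (centralizer (B : Set G))) : InUniqueMaximal B := by
  have hp2 := ne_two hG (dvd_card_of_ne_bot hAp (ne_bot_of_not_pRankLE hA3))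
  obtain ⟨P, hAP⟩ := hAp.exists_le_sylow
  have hP3 : ¬ PRankLE p 2 (P : Subgroup G) := fun h => hA3 (RankTwoFitting.pRankLE_mono hAP h)
  obtain ⟨A₀, -, hA₀n, hA₀e, h3⟩ := RankThree.exists_normal_elementary hp2 P.isPGroup' hP3 ⊥
    ⟨inferInstance, fun a ha => by rw [mem_bot] at ha; rw [ha, one_pow]⟩
  obtain ⟨E₀, hE₀n, hE₀A, hE₀c⟩ := PGroups.Normal.exists_normal_le_card P.isPGroup' A₀ 2
    ((Nat.pow_le_pow_right hp.out.pos (by norm_num)).trans h3)
  set E := E₀.map (P : Subgroup G).subtype with hE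
  have hEP : E ≤ (P : Subgroup G) := map_subtype_le _
  have hPE : (P : Subgroup G) ≤ normalizer (E : Set G) := le_normalizer_of_normal_subgroupOf (hK := by
    rw [subgroupOf, hE, comap_map_eq_self_of_injective (P : Subgroup G).subtype_injective]; exact hE₀n) hEP
  have hEe : IsElementaryAbelian p E := by
    have hE₀e := Components.Hyperplane.isElementaryAbelian_of_le hA₀e hE₀A
    have := hE₀e.1
    refine ⟨map_isMulCommutative E₀ _, ?_⟩
    rintro _ ⟨e, he, rfl⟩
    rw [← map_pow, hE₀e.2 e he, map_one]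
  have hEc : Nat.card E = p ^ 2 := by
    rw [hE, card_map_of_injective (P : Subgroup G).subtype_injective, hE₀c]
  have hcut : ∀ D : Subgroup G, D ≤ (P : Subgroup G) → IsElementaryAbelian p D → Nat.card D = p ^ (2 + 1) →
      ∃ D' : Subgroup G, D' ≤ D ∧ D' ≤ centralizer (E : Set G) ∧ ¬ RankLE 1 D' := by
    intro D hDP hDe hDc
    refine ⟨D ⊓ centralizer (E : Set G), inf_le_left, inf_le_right, not_rankLE_of_not_pRankLE
      (not_pRankLE_of_elementary le_rfl (Components.Hyperplane.isElementaryAbelian_of_le hDe inf_le_left) ?_)⟩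
    have h1 := le_card_inf_centralizer P.isPGroup' hEP hPE hEe.1 hEc hDP
    rw [hDc, pow_succ' p 2] at h1
    exact Nat.le_of_mul_le_mul_left h1 hp.out.pos
  obtain ⟨A₁, hA₁A, hA₁e, hA₁c⟩ := exists_elementary_of_not_pRankLE hA3
  obtain ⟨A', hA'A, hA'E, hA'r⟩ := hcut A₁ (hA₁A.trans hAP) hA₁e hA₁c
  have hA'U := unique_of_le_centralizer hG hAU ((hA'A.trans hA₁A).trans (le_centralizer A)) hA'r
  have hEU := unique_of_le_centralizer hG hA'U (fun e he => mem_centralizer_iff.mpr fun a ha =>
    (mem_centralizer_iff.mp (hA'E ha) e he).symm)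
    (not_rankLE_of_not_pRankLE (not_pRankLE_of_elementary le_rfl hEe hEc.ge))
  obtain ⟨D, hDC, hDe, hDc⟩ := exists_elementary_of_not_pRankLE hB3
  obtain ⟨S, hDS⟩ := (Components.Hyperplane.isPGroup hDe).exists_le_sylow
  obtain ⟨g, hg⟩ := MulAction.exists_smul_eq G S P
  set D₁ := D.map (MulAut.conj g).toMonoidHom with hD₁
  have hD₁P : D₁ ≤ (P : Subgroup G) := by
    rw [← hg]
    exact map_mono hDS
  have hD₁e : IsElementaryAbelian p D₁ := by
    have := hDe.1
    refine ⟨map_isMulCommutative D _, ?_⟩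
    rintro _ ⟨e, he, rfl⟩
    rw [← map_pow, hDe.2 e he, map_one]
  obtain ⟨D', hD'D, hD'E, hD'r⟩ := hcut D₁ hD₁P hD₁e (by rw [Transitivity.card_map_conj, hDc])
  have hD₁U := mono (unique_of_le_centralizer hG hEU hD'E hD'r) hD'D (elementary_ne_top hG hD₁e)
  have hDU := conj hD₁U g⁻¹
  rw [Transitivity.map_conj_map, inv_mul_cancel, Transitivity.map_conj_one] at hDU
  exact unique_of_le_centralizer hG hDU
    (fun b hb => mem_centralizer_iff.mpr fun d hd => (mem_centralizer_iff.mp (hDC hd) b hb).symm)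
    (not_rankLE_of_not_pRankLE (not_pRankLE_one_of_not_isCyclic hp2 hBp hB))

/-- If a maximal subgroup has Fitting subgroup of `p`-rank at least three, all abelian `p`-subgroups of
rank at least three are uniqueness subgroups. -/
theorem unique_of_fitting (hG : IsMinSimpleOddOrder G) {M : Subgroup G} (hM : IsCoatom M)
    (hF : ¬ PRankLE p 2 (fittingOf M)) {A : Subgroup G} (hAp : IsPGroup p A) (hAc : IsMulCommutative A)
    (hA3 : ¬ PRankLE p 2 A) : InUniqueMaximal A := by
  have hA1 : ¬ IsCyclic A := fun hcy => by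
    obtain ⟨B, hBA, hBe, hBc⟩ := exists_elementary_of_not_pRankLE hA3
    exact Components.Hyperplane.not_isCyclic hBe (by rw [hBc]; exact Nat.pow_le_pow_right hp.out.pos (by norm_num))
      (isCyclic_of_injective (inclusion hBA) (inclusion_injective hBA))
  have hA3' : ¬ PRankLE p 2 (centralizer (A : Set G)) := fun h =>
    hA3 (RankTwoFitting.pRankLE_mono (le_centralizer A) h)
  obtain ⟨A₀, hA₀, hA₀e, hA₀c⟩ := exists_elementary_of_not_pRankLE hF
  by_cases hnp : IsPGroup p (fittingOf M)
  · obtain ⟨S⟩ : Nonempty (Sylow p M) := inferInstance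
    set T := (S : Subgroup M).map M.subtype with hT
    have hF0 : fittingOf M ≠ ⊥ := ne_bot_of_not_pRankLE hF
    have hFT : fittingOf M ≤ T := map_mono ((hnp.of_equiv
      ((fittingSubgroup M).equivMapOfInjective M.subtype M.subtype_injective).symm).le_sylow_of_normal S)
    have hT3 : ¬ PRankLE p 2 T := fun h => hF (RankTwoFitting.pRankLE_mono hFT h)
    have hTp : IsPGroup p T := S.isPGroup'.map M.subtype
    obtain ⟨A', hA', hA'3⟩ := exists_scn (ne_two hG (dvd_card_of_ne_bot hTp
      (ne_bot_of_not_pRankLE hT3))) hTp hT3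
    have hA'U := (((Uniqueness.unique_of_scn hG hM hnp hF0 S).2 A' hA' hA'3)).2
    exact unique_of_rank hG (hTp.to_le hA'.1) (isMulCommutative_of_scn hA') hA'3 hA'U hAp hA1 hA3'
  · have hU := Uniqueness.unique_of_centralizer hG hM hA₀ hA₀e hA₀c.ge hnp
    have hA₀3 : ¬ PRankLE p 2 A₀ := not_pRankLE_of_elementary le_rfl hA₀e hA₀c.ge
    have hA₀U := unique_of_le_centralizer hG hU (fun a ha => mem_centralizer_iff.mpr fun x hx =>
      (mem_centralizer_iff.mp hx.2 a ha).symm) (not_rankLE_of_not_pRankLE (not_pRankLE_mono one_le_two hA₀3))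
    exact unique_of_rank hG (Components.Hyperplane.isPGroup hA₀e) hA₀e.1 hA₀3 hA₀U hAp hA1 hA3'

end Cfsg.Agent.OddLocal.Unique
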