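import Cfsg.Agent.OddLocal.UniqueInv
import Cfsg.Agent.OddLocal.UniqueRank
import Cfsg.Agent.OddLocal.UniqueFocal
import Cfsg.Agent.OddLocal.UniqueActions
import Cfsg.Agent.OddLocal.FrobeniusFix
import Cfsg.Agent.GenA.InvariantHall
import Cfsg.Agent.S1395

/-! Members of `SCN₃` are uniqueness subgroups. -/

set_option autoImplicit false
set_option linter.unusedSectionVars false

namespace Cfsg.Agent.OddLocal.Unique

open Cfsg Subgroup Cfsg.Agent.OddLocal.Bender
open scoped commutatorElement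

variable {G : Type*} [Group G] [Finite G] {p : ℕ} [hp : Fact p.Prime]

/-- `O_{p'}(C(b))`. -/
def locCore (p : ℕ) (b : G) : Subgroup G := primeCore p (centralizer ({b} : Set G))

/-- A member of `SCN₃` that is not a uniqueness subgroup. -/
structure Config (P : Sylow p G) (A B : Subgroup G) : Prop where
  minSimple : IsMinSimpleOddOrder G
  scn : IsSCN (P : Subgroup G) A
  rank : ¬ PRankLE p 2 A
  fail : ¬ InUniqueMaximal A
  le : B ≤ A
  elem : IsElementaryAbelian p B
  card : Nat.card B = p ^ 3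

/-- A maximal subgroup containing `P` in its derived group. -/
def DerivedMax (P : Sylow p G) (L : Subgroup G) : Prop :=
  IsCoatom L ∧ (P : Subgroup G) ≤ ⁅L, L⁆

/-- `q` is a prime for which `O_q(L)` has rank at least three. -/
def LargePrime (p : ℕ) (L : Subgroup G) (q : ℕ) : Prop :=
  q.Prime ∧ q ≠ p ∧ ¬ PRankLE q 2 (fittingOf L)

variable {P : Sylow p G} {A B : Subgroup G} (hc : Config P A B)
include hc

theorem Config.ne_two : p ≠ 2 :=
  Unique.ne_two hc.minSimple (dvd_card_of_ne_bot (P.isPGroup'.to_le hc.scn.1) (ne_bot_of_not_pRankLE hc.rank))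

theorem Config.isPGroup : IsPGroup p A := P.isPGroup'.to_le hc.scn.1

theorem Config.le_centralizer_singleton {b : G} (hb : b ∈ A) : A ≤ centralizer ({b} : Set G) := fun a ha => by
  have := isMulCommutative_of_scn hc.scn
  exact mem_centralizer_singleton_iff.mpr (setLike_mul_comm (s := A) ha hb)

theorem Config.centralizer_ne_top {b : G} (hb1 : b ≠ 1) : centralizer ({b} : Set G) ≠ ⊤ :=
  Transitivity.centralizer_ne_top hc.minSimple (Set.mem_singleton b) hb1

theorem Config.le_normalizer_inf {b : G} (hb : b ∈ A) {Y : Subgroup G} (hY : A ≤ normalizer (Y : Set G)) :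
    A ≤ normalizer ((Y ⊓ centralizer ({b} : Set G) : Subgroup G) : Set G) :=
  (le_inf hY ((hc.le_centralizer_singleton hb).trans le_normalizer)).trans inf_normalizer_le_normalizer_inf

/-- Invariant `p'`-subgroups of `C(b)` lie in `O_{p'}(C(b))`. -/
theorem Config.le_locCore {b : G} (hb : b ∈ A) (hb1 : b ≠ 1) {Y : Subgroup G} (hY : (Nat.card Y).Coprime p)
    (hAY : A ≤ normalizer (Y : Set G)) : Y ⊓ centralizer ({b} : Set G) ≤ locCore p b :=
  le_primeCore_of_scn hc.minSimple P hc.scn (not_pRankLE_mono one_le_two hc.rank) (hc.centralizer_ne_top hb1)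
    (hc.le_centralizer_singleton hb) inf_le_right (hY.coprime_dvd_left (card_dvd_of_le inf_le_left))
    (hc.le_normalizer_inf hb hAY)

theorem Config.pRankLE_fitting {L : Subgroup G} (hL : IsCoatom L) : PRankLE p 2 (fittingOf L) :=
  by_contra fun h => hc.fail
    (unique_of_fitting hc.minSimple hL h hc.isPGroup (isMulCommutative_of_scn hc.scn) hc.rank)

theorem Config.false_of_good {L E : Subgroup G} (hL : IsCoatom L) (hAL : A ≤ L) (hEA : E ≤ A)
    (hEe : IsElementaryAbelian p E) (hE : ¬ IsCyclic E)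
    (h : ∀ b ∈ E, b ≠ 1 → locCore p b ≤ L) : False := by
  refine hc.fail (unique_of_inv hc.minSimple hL hc.isPGroup (ne_bot_of_not_pRankLE hc.rank) (fun Y hY hAY => ?_) hAL)
  have := hEe.1
  rw [← Coprime.fixedGen_eq hE (hEA.trans hAY)
    (coprime_card_of_pGroup (Components.Hyperplane.isPGroup hEe) hY)]
  exact iSup₂_le fun b hb => (hc.le_locCore (hEA hb.1) hb.2 hY hAY).trans (h b hb.1 hb.2)

theorem DerivedMax.sylow_le {L : Subgroup G} (hL : DerivedMax P L) : (P : Subgroup G) ≤ L :=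
  hL.2.trans (Coprime.commutator_le_of_le_normalizer le_normalizer)

/-- Every maximal `A`-invariant `q`-subgroup normalized by `P` has `P` in the derived group of its
normalizer. -/
theorem Config.exists_invariant_derived {M₀ : Subgroup G} (hM₀ : DerivedMax P M₀) {q : ℕ} (hq : q.Prime)
    (hqp : q ≠ p) :
    ∃ Q ∈ maxInvSubgroups ⊤ A {q}, (P : Subgroup G) ≤ normalizer (Q : Set G) ∧
      (P : Subgroup G) ≤ ⁅normalizer (Q : Set G), normalizer (Q : Set G)⁆ := by
  have hG := hc.minSimple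
  obtain ⟨Q, hQ, hPQ⟩ := exists_sylow_invariant hG P hc.scn hc.rank hq hqp
  refine ⟨Q, hQ, hPQ, ?_⟩
  have hA1 := not_pRankLE_mono one_le_two hc.rank
  have hA0 := ne_bot_of_not_pRankLE hA1
  have hPM := hM₀.sylow_le hc
  have hMs := Transitivity.isSolvable_of_ne_top hG hM₀.1.1
  set S := P.subtype hPM with hS
  set R := ((S : Subgroup M₀) ⊓ pPrimePCore p M₀).map M₀.subtype with hR
  have hSP : (S : Subgroup M₀).map M₀.subtype = (P : Subgroup G) := by
    rw [hS, Sylow.coe_subtype, map_subgroupOf_eq_of_le hPM]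
  have hRP : R ≤ (P : Subgroup G) := (map_mono inf_le_left).trans hSP.le
  have hPR : (P : Subgroup G) ≤ normalizer (R : Set G) := by
    rw [← hSP]
    refine (map_mono ?_).trans (le_normalizer_map _)
    have : (pPrimePCore p M₀).Normal := by rw [pPrimePCore]; infer_instance
    exact (le_inf le_normalizer le_normalizer_of_normal).trans inf_normalizer_le_normalizer_inf
  have hAM : A ≤ M₀ := hc.scn.1.trans hPM
  have hAR : A ≤ R := by
    rw [← map_subgroupOf_eq_of_le hAM]
    refine map_mono (le_inf (fun x hx => hc.scn.1 hx) ?_)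
    refine S1457.result (hG.1.of_dvd_nat (card_subgroup_dvd_card M₀)) p S _ (fun x hx => hc.scn.1 hx) ?_
      (fun x hx => le_normalizer_comap M₀.subtype (hc.scn.2.1 hx))
    have := isMulCommutative_of_scn hc.scn
    exact ⟨⟨fun a b => Subtype.ext (Subtype.ext (setLike_mul_comm (s := A) a.2 b.2))⟩⟩
  have hRp : IsPGroup p R := P.isPGroup'.to_le hRP
  have hRtop : R ≠ ⊤ := fun h => sylow_ne_top hG P (top_le_iff.mp (h ▸ hRP))
  have hR0 : R ≠ ⊥ := fun h => hA0 (le_bot_iff.mp (h ▸ hAR))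
  have hTH := transitivityHypothesis_of_scn hG P hc.scn hA1
  have hrk : ¬ RankLE 2 (A ⊓ centralizer (A : Set G) : Subgroup G) := by
    rw [inf_centralizer_self (isMulCommutative_of_scn hc.scn)]
    exact not_rankLE_of_not_pRankLE hc.rank
  have hqA : ¬ q ∣ Nat.card A := fun h => hqp ((prime_dvd_card_iff hc.isPGroup hA0 hq).mp h)
  have hRπ : ∀ r : ℕ, r.Prime → r ∣ Nat.card R → r ∣ Nat.card A := fun r hr hd =>
    (prime_dvd_card_iff hc.isPGroup hA0 hr).mpr ((prime_dvd_card_iff hRp hR0 hr).mp hd)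
  have := hRp.isNilpotent
  have hQR : Q ∈ maxInvSubgroups ⊤ R {q} :=
    ⟨⟨le_top, hQ.1.2.1, hRP.trans hPQ⟩, fun Z hZ hle => hQ.2 Z ⟨le_top, hZ.2.1, hAR.trans hZ.2.2⟩ hle⟩
  have hdec := ((S1395.result hG A hTH q hq hqA R hRtop hRπ hAR (Uniqueness.isSubnormal_of_isNilpotent _)
    (S1393.result hG A hTH hrk q hq hqA)).2.2.2 Q hQR).2
  set π := primesNotDvd (Nat.card A)
  set N := normalizer (R : Set G) with hN
  have hNs := Transitivity.isSolvable_of_ne_top hG (Transitivity.normalizer_ne_top hG hR0 hRtop)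
  have h1 : (P : Subgroup G) ≤ ⁅N, N⁆ := by
    have hX := inf_commutator_of_sup (U := M₀ ⊓ N) hMs (primeCore_le (p := p) M₀) (le_normalizer_primeCore M₀)
      inf_le_left ?_ (le_inf hPM hPR) ?_
    · exact (le_inf le_rfl hM₀.2).trans (hX.le.trans (inf_le_right.trans (commutator_mono inf_le_right inf_le_right)))
    · exact le_primeCore_sup_sylow_inf hMs S
    · exact coprime_card_of_pGroup P.isPGroup' (primeCore_coprime M₀)
  have hX := inf_commutator_of_sup (K := piCoreOf π (centralizer (R : Set G)))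
    (U := N ⊓ normalizer (Q : Set G)) hNs
    ((Transitivity.piCoreOf_le _ _).trans (centralizer_le_normalizer _))
    ((CharP.normalizer_le_normalizer_centralizer R).trans (normalizer_le_piCoreOf _ _))
    inf_le_left hdec.le (le_inf hPR hPQ)
    (coprime_card_of_pGroup P.isPGroup' (coprime_of_primesNotDvd hc.isPGroup hA0 (Transitivity.isPi_piCoreOf _ _)))
  exact (le_inf le_rfl h1).trans (hX.le.trans (inf_le_right.trans (commutator_mono inf_le_right inf_le_right)))

theorem Config.exists_large {L : Subgroup G} (hL : DerivedMax P L) : ∃ q, LargePrime p L q := by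
  by_contra hcon
  simp only [LargePrime, not_exists, not_and, not_not] at hcon
  have hLs := Transitivity.isSolvable_of_ne_top hc.minSimple hL.1.1
  have hrk : ∀ q : ℕ, q.Prime → PRankLE q 2 (fittingSubgroup L) := fun q hq => by
    have h : PRankLE q 2 (fittingOf L) := by
      rcases eq_or_ne q p with rfl | hne
      · exact hc.pRankLE_fitting hL.1
      · exact hcon q hq hne
    intro C hC hC'
    let e := (fittingSubgroup L).equivMapOfInjective L.subtype L.subtype_injective
    rw [← card_map_of_injective (K := C) (f := e.toMonoidHom) e.injective]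
    refine h _ (map_isMulCommutative C _) ?_
    rintro _ ⟨u, hu, rfl⟩
    exact (map_pow e.toMonoidHom u q).symm.trans ((congrArg e.toMonoidHom (hC' u hu)).trans (map_one _))
  have hle : commutator L ≤ fittingSubgroup L :=
    RankTwoFitting.commutator_le_fitting (hc.minSimple.1.of_dvd_nat (card_subgroup_dvd_card L)) hrk
  have hPF : (P : Subgroup G) ≤ fittingOf L :=
    hL.2.trans ((map_subtype_commutator L).ge.trans (map_mono hle))
  exact hc.rank (RankTwoFitting.pRankLE_mono (hc.scn.1.trans hPF) (hc.pRankLE_fitting hL.1))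

theorem Config.centralizes_small {L : Subgroup G} (hL : DerivedMax P L) {r : ℕ} [Fact r.Prime] (hrp : r ≠ p)
    (hr : PRankLE r 2 (fittingOf L)) : (P : Subgroup G) ≤ centralizer (pCoreOf r L : Set G) := by
  intro x hx
  by_cases h0 : pCoreOf r L = ⊥
  · refine mem_centralizer_iff.mpr fun v hv => ?_
    rw [h0, SetLike.mem_coe, mem_bot] at hv
    rw [hv, one_mul, mul_one]
  refine mem_centralizer_of_rankTwo ?_ (CharP.isPGroup_pCoreOf r L) ?_ (CharP.le_normalizer_pCoreOf r L)
    (hc.minSimple.1.of_dvd_nat (card_subgroup_dvd_card L)) (hL.2 hx) ?_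
  · exact Unique.ne_two hc.minSimple (dvd_card_of_ne_bot (CharP.isPGroup_pCoreOf r L) h0)
  · exact RankTwoFitting.pRankLE_mono (pCoreOf_le_fittingOf r L) hr
  · exact (coprime_of_isPGroup (IsPGroup.to_le P.isPGroup' (zpowers_le.mpr hx))
      (fun h => hrp ((Nat.prime_dvd_prime_iff_eq hp.out Fact.out).mp h).symm) |>
      (Nat.card_zpowers x ▸ ·))

section Large

variable {M : Subgroup G} (hM : DerivedMax P M) {q : ℕ} (hq : LargePrime p M q)
include hM hq

omit hc hM in
theorem LargePrime.fact : Fact q.Prime := ⟨hq.1⟩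

theorem Config.le_M : A ≤ M := hc.scn.1.trans (hM.sylow_le hc)

theorem Config.exists_elementary_large :
    ∃ E : Subgroup G, E ≤ pCoreOf q M ∧ IsElementaryAbelian q E ∧ Nat.card E = q ^ 3 ∧ InUniqueMaximal E := by
  have := hq.fact
  obtain ⟨E, hE, hEe, hEc⟩ := exists_elementary_of_not_pRankLE hq.2.2
  exact ⟨E, le_pCoreOf_of_le_fittingOf hE (Components.Hyperplane.isPGroup hEe), hEe, hEc,
    unique_of_fitting hc.minSimple hM.1 hq.2.2 (Components.Hyperplane.isPGroup hEe) hEe.1
      (not_pRankLE_of_elementary le_rfl hEe hEc.ge)⟩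

theorem Config.large_ne_two : q ≠ 2 := by
  have := hq.fact
  obtain ⟨E, -, hEe, hEc, -⟩ := hc.exists_elementary_large hM hq
  refine Unique.ne_two hc.minSimple (X := E) ?_
  rw [hEc]; exact dvd_pow_self q (by norm_num)

theorem Config.le_of_le_large {H : Subgroup G} (hH : H ≠ ⊤) (hle : pCoreOf q M ≤ H) : H ≤ M := by
  obtain ⟨E, hE, -, -, hEU⟩ := hc.exists_elementary_large hM hq
  exact le_max hEU hM.1 (hE.trans (CharP.pCoreOf_le q M)) hH (hE.trans hle)

theorem Config.centralizer_omega_le {w : G} (hw : w ∈ pCoreOf q M) (hwo : orderOf w = q) :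
    centralizer ({w} : Set G) ≤ M := by
  have := hq.fact
  have hG := hc.minSimple
  have hw1 : w ≠ 1 := fun h => hq.1.ne_one (by rw [← hwo, h, orderOf_one])
  have hCtop := hc.centralizer_ne_top hw1
  set Q := pCoreOf q M with hQ
  have hQp : IsPGroup q Q := CharP.isPGroup_pCoreOf q M
  by_cases hr : PRankLE q 2 (Q ⊓ centralizer ({w} : Set G) : Subgroup G)
  swap
  · obtain ⟨E, hE, hEe, hEc⟩ := exists_elementary_of_not_pRankLE hr
    exact le_max (unique_of_fitting hG hM.1 hq.2.2 (Components.Hyperplane.isPGroup hEe) hEe.1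
      (not_pRankLE_of_elementary le_rfl hEe hEc.ge)) hM.1
      ((hE.trans inf_le_left).trans (CharP.pCoreOf_le q M)) hCtop (hE.trans inf_le_right)
  exfalso
  obtain ⟨E₀, hE₀, hE₀e, hE₀c, -⟩ := hc.exists_elementary_large hM hq
  have hQr : ¬ PRankLE q 2 Q := not_pRankLE_of_elementary hE₀ hE₀e hE₀c.ge
  have : Nontrivial Q := (nontrivial_iff_ne_bot _).mpr (ne_bot_of_not_pRankLE hQr)
  obtain ⟨z, hz, hzq, hz1⟩ := RankThree.exists_center_order_p hQp
  set w' : Q := ⟨w, hw⟩ with hw'
  have hzw : z ∉ zpowers w' := by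
    intro hzw
    refine hQr (RankTwoFitting.pRankLE_mono (le_inf le_rfl fun v hv => ?_) hr)
    have hwz : w' ∈ zpowers z := by
      have hcard : Nat.card (zpowers z) = Nat.card (zpowers w') := by
        rw [Nat.card_zpowers, Nat.card_zpowers, orderOf_eq_prime hzq hz1, hw', Subgroup.orderOf_mk, hwo]
      rw [eq_of_le_of_card_ge (zpowers_le.mpr hzw) hcard.ge]
      exact mem_zpowers w'
    exact mem_centralizer_singleton_iff.mpr
      (congrArg Subtype.val (mem_center_iff.mp ((zpowers_le.mpr hz) hwz) ⟨v, hv⟩))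
  have hWe : IsElementaryAbelian q (zpowers w') := by
    refine ⟨inferInstance, ?_⟩
    rintro _ ⟨m, rfl⟩
    show (w' ^ m) ^ q = 1
    rw [← zpow_natCast, ← zpow_mul, mul_comm, zpow_mul, zpow_natCast,
      show w' ^ q = 1 from Subtype.ext (by rw [← hwo]; exact pow_orderOf_eq_one w), one_zpow]
  have hZe : IsElementaryAbelian q (zpowers z) := by
    refine ⟨inferInstance, ?_⟩
    rintro _ ⟨m, rfl⟩
    show (z ^ m) ^ q = 1
    rw [← zpow_natCast, ← zpow_mul, mul_comm, zpow_mul, zpow_natCast, hzq, one_zpow]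
  set E := zpowers w' ⊔ zpowers z with hE
  have hEe : IsElementaryAbelian q E := PLocal.ThompsonSubgroup.IsElementaryAbelian.sup hWe hZe
    fun x _ => mem_centralizer_iff.mpr fun y hy => (mem_center_iff.mp ((zpowers_le.mpr hz) hy) x).symm
  have hsmall : ∀ B₁ : Subgroup Q, IsElementaryAbelian q B₁ → E ≤ B₁ → Nat.card B₁ ≤ q ^ 2 := by
    intro B₁ hB₁ hle
    by_contra hlt
    have hB₁c : IsMulCommutative B₁ := hB₁.1
    obtain ⟨m, hm⟩ := (Components.Hyperplane.isPGroup hB₁).exists_card_eq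
    have hmap : B₁.map Q.subtype ≤ Q ⊓ centralizer ({w} : Set G) := by
      rintro _ ⟨u, hu, rfl⟩
      exact ⟨u.2, mem_centralizer_singleton_iff.mpr (congrArg Subtype.val
        (setLike_mul_comm (s := B₁) hu (hle ((le_sup_left : zpowers w' ≤ E) (mem_zpowers w')))))⟩
    refine not_pRankLE_of_elementary hmap ⟨map_isMulCommutative B₁ _, ?_⟩ ?_ hr
    · rintro _ ⟨u, hu, rfl⟩
      rw [← map_pow, hB₁.2 u hu, map_one]
    · rw [card_map_of_injective Q.subtype_injective, hm]
      refine Nat.pow_le_pow_right hq.1.pos ?_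
      rw [hm, not_le] at hlt
      exact (Nat.pow_lt_pow_iff_right hq.1.one_lt).mp hlt
  obtain ⟨m, hm⟩ := (Components.Hyperplane.isPGroup hEe).exists_card_eq
  have hm2 : 2 ≤ m := by
    by_contra h
    have h1 : Nat.card E ≤ Nat.card (zpowers w') := by
      rw [hm, Nat.card_zpowers, hw', Subgroup.orderOf_mk, hwo]
      calc q ^ m ≤ q ^ 1 := Nat.pow_le_pow_right hq.1.pos (by omega)
        _ = q := pow_one q
    exact hzw ((eq_of_le_of_card_ge le_sup_left h1).ge (le_sup_right (a := zpowers w') (mem_zpowers z)))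
  have hE2 : Nat.card E = q ^ 2 := le_antisymm (hsmall E hEe le_rfl) (hm ▸ Nat.pow_le_pow_right hq.1.pos hm2)
  obtain ⟨K, hKp, hKc, -⟩ := Narrow.exists_kernel_of_maximal (hc.large_ne_two hM hq) hQp hQr E hEe hE2
    fun B₁ hB₁ hle => (eq_of_le_of_card_ge hle (hE2 ▸ hsmall B₁ hB₁ hle)).symm
  have hPC : (P : Subgroup G) ≤ centralizer (Q : Set G) := fun x hx =>
    mem_centralizer_of_kernel (CharP.le_normalizer_pCoreOf q M) hKp hKc (hM.2 hx)
      (coprime_of_isPGroup (IsPGroup.to_le P.isPGroup' (zpowers_le.mpr hx))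
        (fun h => hq.2.1 ((Nat.prime_dvd_prime_iff_eq hp.out hq.1).mp h).symm) |>
        (Nat.card_zpowers x ▸ ·))
  have hB3 : p ^ 2 ≤ Nat.card B := hc.card ▸ Nat.pow_le_pow_right hp.out.pos (by norm_num)
  refine hc.false_of_good hM.1 (hc.le_M hM hq) hc.le hc.elem (Components.Hyperplane.not_isCyclic hc.elem hB3)
    fun b hb hb1 => (primeCore_le _).trans (hc.le_of_le_large hM hq (hc.centralizer_ne_top hb1) fun v hv => ?_)
  exact mem_centralizer_singleton_iff.mpr (mem_centralizer_iff.mp (hPC (hc.scn.1 (hc.le hb))) v hv)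

theorem Config.le_of_noncyclic {W H : Subgroup G} (hW : W ≤ pCoreOf q M) (hnc : ¬ IsCyclic W) (hH : H ≠ ⊤)
    (hWH : W ≤ H) : H ≤ M := by
  have := hq.fact
  obtain ⟨E, hE, hEe, hEc⟩ := exists_elementary_of_not_pRankLE (not_pRankLE_one_of_not_isCyclic
    (hc.large_ne_two hM hq) ((CharP.isPGroup_pCoreOf q M).to_le hW) hnc)
  have hEU := unique_of_elementary hc.minSimple hM.1 ((hE.trans hW).trans (CharP.pCoreOf_le q M)) hEe
    (Components.Hyperplane.not_isCyclic hEe hEc.ge)
    (Or.inl fun e he he1 => hc.centralizer_omega_le hM hq (hW (hE he))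
      (orderOf_eq_prime (hEe.2 e he) he1))
  exact le_max hEU hM.1 ((hE.trans hW).trans (CharP.pCoreOf_le q M)) hH (hE.trans hWH)

theorem Config.le_normalizer_large : A ≤ normalizer (pCoreOf q M : Set G) :=
  (hc.le_M hM hq).trans (CharP.le_normalizer_pCoreOf q M)

theorem Config.core_le : piCoreOf (primesNotDvd (Nat.card A)) (centralizer (A : Set G)) ≤ M := by
  have := hq.fact
  obtain ⟨E, hE, hEe, hEc, -⟩ := hc.exists_elementary_large hM hq
  obtain ⟨b, hb, hb1, hnc⟩ := exists_noncyclic_inf_centralizer hq.2.1 hc.elem hc.card.ge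
    (CharP.isPGroup_pCoreOf q M) (hc.le.trans (hc.le_normalizer_large hM hq)) fun h =>
      Components.Hyperplane.not_isCyclic hEe (by rw [hEc]; exact Nat.pow_le_pow_right hq.1.pos (by norm_num))
        (isCyclic_of_injective (inclusion hE) (inclusion_injective hE))
  refine le_trans ?_ (hc.le_of_noncyclic hM hq inf_le_left hnc (hc.centralizer_ne_top hb1) inf_le_right)
  exact (Transitivity.piCoreOf_le _ _).trans (centralizer_le (Set.singleton_subset_iff.mpr (hc.le hb)))

theorem Config.inv_le {R : Subgroup G} (hR : IsPGroup q R) (hAR : A ≤ normalizer (R : Set G)) : R ≤ M := by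
  have := hq.fact
  have hG := hc.minSimple
  obtain ⟨Q, hQ, hle⟩ := Transitivity.exists_max_ge (show pCoreOf q M ∈ invSubgroups ⊤ A {q} from
    ⟨le_top, Transitivity.isPi_of_isPGroup (CharP.isPGroup_pCoreOf q M), hc.le_normalizer_large hM hq⟩)
  have hQtop : Q ≠ ⊤ := fun h => by
    have hd : p ∣ Nat.card Q := by
      rw [h, card_top]
      exact (dvd_card_of_ne_bot hc.isPGroup (ne_bot_of_not_pRankLE hc.rank)).trans (card_subgroup_dvd_card A)
    exact hq.2.1 (Set.mem_singleton_iff.mp (hQ.1.2.1 p hp.out hd)).symm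
  exact max_le_of_scn hG P hc.scn hc.rank hq.2.1 (hc.core_le hM hq) hQ (hc.le_of_le_large hM hq hQtop hle) hR hAR

/-- An element with small signalizer centralizes the cyclic centralizers in `O_q(M)`. -/
theorem Config.good_centralizes_bad {e b : G} (he : e ∈ B) (he1 : e ≠ 1) (hgood : locCore p e ≤ M)
    (hb : b ∈ B) (hb1 : b ≠ 1) (hbad : ¬ locCore p b ≤ M) :
    pCoreOf q M ⊓ centralizer ({b} : Set G) ≤ centralizer ({e} : Set G) := by
  have := hq.fact
  have hG := hc.minSimple
  set W := pCoreOf q M ⊓ centralizer ({b} : Set G) with hW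
  have hWc : IsCyclic W := by
    by_contra hnc
    exact hbad ((primeCore_le _).trans (hc.le_of_noncyclic hM hq inf_le_left hnc (hc.centralizer_ne_top hb1)
      inf_le_right))
  by_contra hnot
  have hWp : IsPGroup q W := (CharP.isPGroup_pCoreOf q M).to_le inf_le_left
  have hAW : A ≤ normalizer (W : Set G) := hc.le_normalizer_inf (hc.le hb) (hc.le_normalizer_large hM hq)
  have hep : e ^ p = 1 := hc.elem.2 e he
  have heo : orderOf e = p := orderOf_eq_prime hep he1
  obtain ⟨ω, hωW, hωq, hωe⟩ : ∃ ω ∈ W, ω ^ q = 1 ∧ ¬ Commute e ω := by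
    by_contra hall
    push Not at hall
    refine hnot fun x hx => ?_
    have hcent := Coprime.le_centralizer_of_fix_order_p (hc.large_ne_two hM hq) hWp
      (A := zpowers e) ((zpowers_le.mpr (hAW (hc.le he)))) (by
        rw [Nat.card_zpowers, heo]; exact (Nat.coprime_primes hp.out hq.1).mpr hq.2.1.symm)
      fun y hy hyq a ha => by
        obtain ⟨m, rfl⟩ := mem_zpowers_iff.mp ha
        exact ((hall y hy hyq).zpow_left m).eq
    exact mem_centralizer_singleton_iff.mpr (mem_centralizer_iff.mp (hcent (mem_zpowers e)) x hx)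
  have hω1 : ω ≠ 1 := fun h => hωe (h ▸ Commute.one_right e)
  have hωo : orderOf ω = q := orderOf_eq_prime hωq hω1
  have hωM : centralizer ({ω} : Set G) ≤ M := hc.centralizer_omega_le hM hq hωW.1 hωo
  have hωn : ∀ a ∈ A, a * ω * a⁻¹ ∈ zpowers ω := by
    intro a ha
    have hmem := (mem_normalizer_iff.mp (hAW ha) ω).mp hωW
    have h := mem_zpowers_of_isCyclic (x := (⟨ω, hωW⟩ : W)) (y := ⟨_, hmem⟩) (q := q) (Subtype.ext hωq)
      (Subtype.ext (by rw [SubgroupClass.coe_pow, conj_pow, hωq, mul_one, mul_inv_cancel]; rfl))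
      (fun h => hω1 (congrArg Subtype.val h))
    obtain ⟨m, hm⟩ := mem_zpowers_iff.mp h
    exact mem_zpowers_iff.mpr ⟨m, by simpa using congrArg Subtype.val hm⟩
  set Y := locCore p b with hY
  have hAY : A ≤ normalizer (Y : Set G) := (hc.le_centralizer_singleton (hc.le hb)).trans (le_normalizer_primeCore _)
  have hYc : (Nat.card Y).Coprime p := primeCore_coprime _
  have hYC : Y ≤ centralizer ({b} : Set G) := primeCore_le _
  have hYs : Group.IsSolvable Y := Coprime.isSolvable_of_le hYC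
    (Transitivity.isSolvable_of_ne_top hG (hc.centralizer_ne_top hb1))
  have hWY : W ≤ Y := by
    refine hc.le_locCore (hc.le hb) hb1 ?_ (hc.le_normalizer_large hM hq)
    obtain ⟨k, hk⟩ := (CharP.isPGroup_pCoreOf q M).exists_card_eq
    rw [hk]
    exact ((Nat.coprime_primes hq.1 hp.out).mpr hq.2.1).pow_left k
  have hωY : ω ∈ Y := hWY hωW
  have hCe : ∀ {V : Subgroup G}, V ≤ Y → A ≤ normalizer (V : Set G) →
      V ⊓ centralizer ({e} : Set G) ≤ M := fun {V} hV hAV =>
    (hc.le_locCore (hc.le he) he1 (hYc.coprime_dvd_left (card_dvd_of_le hV)) hAV).trans hgood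
  have hAcore : ∀ l : ℕ, A ≤ normalizer (pCoreOf l Y : Set G) := fun l =>
    hAY.trans (Coprime.OmegaDetect.normalizer_le_normalizer_char Y (pCore l Y))
  -- the other primary parts of `F(Y)` centralize `ω`
  have hparts : ∀ l : ℕ, ∀ [Fact l.Prime], l ≠ q → ∀ x ∈ pCoreOf l Y, Commute ω x := by
    intro l _ hlq
    have hVY := CharP.pCoreOf_le l Y
    refine FrobeniusFix.le_centralizer_of_fixed hep hωq (hωn e (hc.le he)) hωe
      (Coprime.isSolvable_of_le hVY hYs) (hYc.coprime_dvd_left (card_dvd_of_le hVY)) ?_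
      (hAcore l (hc.le he)) (CharP.le_normalizer_pCoreOf l Y hωY) fun x hx hxe => ?_
    · obtain ⟨k, hk⟩ := (CharP.isPGroup_pCoreOf l Y).exists_card_eq
      rw [hk]
      exact ((Nat.coprime_primes Fact.out hq.1).mpr hlq).pow_left k
    · have hxM : x ∈ M := hCe hVY (hAcore l) ⟨hx, mem_centralizer_singleton_iff.mpr hxe.eq.symm⟩
      have h1 : ω * x * ω⁻¹ * x⁻¹ ∈ pCoreOf q M ⊓ pCoreOf l Y := by
        refine ⟨?_, (pCoreOf l Y).mul_mem ((mem_normalizer_iff.mp (CharP.le_normalizer_pCoreOf l Y hωY) x).mp hx)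
          ((pCoreOf l Y).inv_mem hx)⟩
        have := (pCoreOf q M).mul_mem hωW.1 ((mem_normalizer_iff.mp (CharP.le_normalizer_pCoreOf q M hxM) ω⁻¹).mp
          ((pCoreOf q M).inv_mem hωW.1))
        simpa [mul_assoc] using this
      rw [Bender.inf_eq_bot_of_coprime, mem_bot, mul_inv_eq_one, mul_inv_eq_iff_eq_mul] at h1
      · exact h1
      · obtain ⟨i, hi⟩ := (CharP.isPGroup_pCoreOf q M).exists_card_eq
        obtain ⟨j, hj⟩ := (CharP.isPGroup_pCoreOf l Y).exists_card_eq
        rw [hi, hj]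
        exact Nat.coprime_pow_primes i j hq.1 Fact.out hlq.symm
  set O := pCoreOf q Y with hO
  have hOM : O ≤ M := hc.inv_le hM hq (CharP.isPGroup_pCoreOf q Y) (hAcore q)
  have hOr : PRankLE q 2 O := by
    by_contra hr
    obtain ⟨E, hE, hEe, hEc⟩ := exists_elementary_of_not_pRankLE hr
    have hEU := unique_of_fitting hG hM.1 hq.2.2 (Components.Hyperplane.isPGroup hEe) hEe.1
      (not_pRankLE_of_elementary le_rfl hEe hEc.ge)
    refine hbad ((CharP.le_normalizer_pCoreOf q Y).trans (le_max hEU hM.1 (hE.trans hOM) ?_ (hE.trans le_normalizer)))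
    refine Transitivity.normalizer_ne_top hG (ne_bot_of_not_pRankLE hr) fun h => hM.1.1 (top_le_iff.mp (h ▸ hOM))
  set X := Y ⊔ zpowers e with hX
  have hXC : X ≤ centralizer ({b} : Set G) :=
    sup_le hYC (zpowers_le.mpr (hc.le_centralizer_singleton (hc.le hb) (hc.le he)))
  have hXO : X ≤ normalizer (O : Set G) :=
    sup_le (CharP.le_normalizer_pCoreOf q Y) (zpowers_le.mpr (hAcore q (hc.le he)))
  have hderiv : ∀ x ∈ ⁅X, X⁆, (orderOf x).Coprime q → x ∈ centralizer (O : Set G) := fun x hx hco =>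
    mem_centralizer_of_rankTwo (hc.large_ne_two hM hq) (CharP.isPGroup_pCoreOf q Y) hOr hXO
      (hG.1.of_dvd_nat (card_subgroup_dvd_card X)) hx hco
  set J := ⁅Y, zpowers e⁆ with hJ
  have heY : zpowers e ≤ normalizer (Y : Set G) := zpowers_le.mpr (hAY (hc.le he))
  have hJY : J ≤ Y := Coprime.commutator_le_of_le_normalizer heY
  have hJX : J ≤ ⁅X, X⁆ := commutator_mono le_sup_left le_sup_right
  have hYJ : Y ≤ normalizer (J : Set G) := normalizer_commutator_ge_left Y (zpowers e)
  have hAJ : A ≤ normalizer (J : Set G) := fun a ha => mem_normalizer_iff_map_conj_eq.mpr (by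
    rw [hJ, Subgroup.map_commutator, mem_normalizer_iff_map_conj_eq.mp (hAY ha), MonoidHom.map_zpowers]
    congr 2
    have := isMulCommutative_of_scn hc.scn
    show a * e * a⁻¹ = e
    rw [setLike_mul_comm (s := A) ha (hc.le he), mul_inv_cancel_right])
  have hωJ : ω ∈ J := by
    have h1 : ω * e * ω⁻¹ * e⁻¹ ∈ J := by
      rw [hJ, ← commutatorElement_def]
      exact commutator_mem_commutator hωY (mem_zpowers e)
    have h2 : ω * e * ω⁻¹ * e⁻¹ ∈ zpowers ω := by
      have := (zpowers ω).mul_mem (mem_zpowers ω) ((zpowers ω).inv_mem (hωn e (hc.le he)))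
      convert this using 1
      group
    have h3 : ω * e * ω⁻¹ * e⁻¹ ≠ 1 := fun h => hωe (by
      rw [mul_inv_eq_one, mul_inv_eq_iff_eq_mul] at h
      exact h.symm)
    have h4 : zpowers (ω * e * ω⁻¹ * e⁻¹) = zpowers ω := by
      refine eq_of_le_of_card_ge (zpowers_le.mpr h2) ?_
      rw [Nat.card_zpowers, Nat.card_zpowers, hωo]
      have hd : orderOf (ω * e * ω⁻¹ * e⁻¹) ∣ q := by
        have := (zpowers ω).orderOf_dvd_natCard h2
        rwa [Nat.card_zpowers, hωo] at this
      rcases (Nat.dvd_prime hq.1).mp hd with h | h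
      · exact absurd (orderOf_eq_one_iff.mp h) h3
      · exact h.ge
    exact zpowers_le.mpr h1 (h4.ge (mem_zpowers ω))
  -- `ω` lies in `O_q(Y)`
  set others : Set G := {x : G | ∃ l : ℕ, l.Prime ∧ l ≠ q ∧ x ∈ pCoreOf l Y} with hothers
  set N₁ := J ⊓ centralizer others with hN₁
  have hωN : ω ∈ N₁ := ⟨hωJ, mem_centralizer_iff.mpr fun x hx => by
    obtain ⟨l, hl, hlq, hx⟩ := hx
    have := Fact.mk hl
    exact (hparts l hlq x hx).eq.symm⟩
  have hYN : Y ≤ normalizer (N₁ : Set G) := by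
    refine (le_inf hYJ fun y hy => ?_).trans inf_normalizer_le_normalizer_inf
    have hconj : ∀ z ∈ Y, ∀ x ∈ others, z * x * z⁻¹ ∈ others := by
      rintro z hz x ⟨l, hl, hlq, hx⟩
      exact ⟨l, hl, hlq, (mem_normalizer_iff.mp (CharP.le_normalizer_pCoreOf l Y hz) x).mp hx⟩
    refine mem_normalizer_iff.mpr fun u => ⟨fun hu => mem_centralizer_iff.mpr fun x hx => ?_,
      fun hu => mem_centralizer_iff.mpr fun x hx => ?_⟩
    · have := mem_centralizer_iff.mp hu _ (hconj y⁻¹ (Y.inv_mem hy) x hx)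
      calc x * (y * u * y⁻¹) = y * (y⁻¹ * x * y⁻¹⁻¹ * u) * y⁻¹ := by group
        _ = y * (u * (y⁻¹ * x * y⁻¹⁻¹)) * y⁻¹ := by rw [this]
        _ = y * u * y⁻¹ * x := by group
    · have := mem_centralizer_iff.mp hu _ (hconj y hy x hx)
      calc x * u = y⁻¹ * ((y * x * y⁻¹) * (y * u * y⁻¹)) * y := by group
        _ = y⁻¹ * ((y * u * y⁻¹) * (y * x * y⁻¹)) * y := by rw [this]
        _ = u * x := by group
  have hN₁Y : N₁ ≤ Y := inf_le_left.trans hJY
  obtain ⟨T, hTω⟩ := (IsPGroup.of_card (n := 1) (by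
    rw [Nat.card_zpowers, Subgroup.orderOf_mk, hωo, pow_one]) :
      IsPGroup q (zpowers (⟨ω, hωN⟩ : N₁))).exists_le_sylow
  have hTn : (T : Subgroup N₁).Normal := by
    refine normalizer_eq_top_iff.mp (Cores.eq_top_of_sylow_le fun r hr _ => ?_)
    have := Fact.mk hr
    rcases eq_or_ne r q with rfl | hrq
    · exact ⟨T, le_normalizer⟩
    obtain ⟨S⟩ := (inferInstance : Nonempty (Sylow r N₁))
    refine ⟨S, fun x hx => ?_⟩
    have hxY : (x : G) ∈ Y := hN₁Y x.2
    have hxo : (orderOf (x : G)).Coprime q := by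
      obtain ⟨k, hk⟩ := S.isPGroup'.exists_card_eq
      rw [orderOf_coe]
      exact ((((Nat.coprime_primes hr hq.1).mpr hrq).pow_left k).coprime_dvd_left
        (hk ▸ (S : Subgroup N₁).orderOf_dvd_natCard hx))
    have hxO := hderiv _ (hJX x.2.1) hxo
    have hxF : (x : G) ∈ fittingOf Y := by
      have hcomm : ∀ m ∈ fittingOf Y, Commute m (x : G) := le_centralizer_of_parts le_rfl fun l hl' m hm => by
        rcases eq_or_ne l q with rfl | hlq
        · exact mem_centralizer_iff.mp hxO m hm.2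
        · exact mem_centralizer_iff.mp x.2.2 m ⟨l, hl'.out, hlq, hm.2⟩
      exact ⟨⟨x, hxY⟩, Cores.centralizer_fittingSubgroup_le (mem_centralizer_iff.mpr fun m hm =>
        Subtype.ext (hcomm _ ⟨m, hm, rfl⟩).eq), rfl⟩
    have hxr : (x : G) ∈ pCoreOf r Y := le_pCoreOf_of_le_fittingOf (zpowers_le.mpr hxF) (by
      obtain ⟨k, hk⟩ := S.isPGroup'.exists_card_eq
      obtain ⟨i, -, hi⟩ := (Nat.dvd_prime_pow hr).mp (hk ▸ (S : Subgroup N₁).orderOf_dvd_natCard hx)
      exact IsPGroup.of_card (n := i) (by rw [Nat.card_zpowers, orderOf_coe, hi])) (mem_zpowers _)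
    refine centralizer_le_normalizer _ (mem_centralizer_iff.mpr fun t _ => Subtype.ext ?_)
    exact (mem_centralizer_iff.mp t.2.2 x ⟨r, hr, hrq, hxr⟩).symm
  have hωO : ω ∈ O := by
    have h1 : pCoreOf q N₁ ≤ O := CharP.le_pCoreOf ((CharP.pCoreOf_le q N₁).trans hN₁Y)
      (hYN.trans (Coprime.OmegaDetect.normalizer_le_normalizer_char N₁ (pCore q N₁)))
      (CharP.isPGroup_pCoreOf q N₁)
    exact h1 ⟨⟨ω, hωN⟩, Cores.le_pCore T.isPGroup' (hTω (mem_zpowers _)), rfl⟩
  have hJM : J ≤ M := by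
    refine Uniqueness.le_of_forall_qSubgroup hAJ
      (coprime_card_of_pGroup hc.isPGroup (hYc.coprime_dvd_left (card_dvd_of_le hJY)))
      (Coprime.isSolvable_of_le hJY hYs) fun r _ _ R hRJ hR hAR => ?_
    rcases eq_or_ne r q with rfl | hrq
    · exact hc.inv_le hM hq hR hAR
    intro x hx
    refine hωM (mem_centralizer_singleton_iff.mpr ?_)
    have hxo : (orderOf x).Coprime q := by
      obtain ⟨k, hk⟩ := hR.exists_card_eq
      exact ((((Nat.coprime_primes Fact.out hq.1).mpr hrq).pow_left k).coprime_dvd_left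
        (hk ▸ R.orderOf_dvd_natCard hx))
    exact (mem_centralizer_iff.mp (hderiv x (hJX (hRJ hx)) hxo) ω hωO).symm
  refine hbad ?_
  have hcop : (Nat.card (zpowers e)).Coprime (Nat.card Y) := by
    rw [Nat.card_zpowers, heo]; exact hYc.symm
  rw [← Coprime.commutator_sup_inf_centralizer heY hcop (Or.inr hYs)]
  refine sup_le hJM ((inf_le_inf_left _ (centralizer_le (Set.singleton_subset_iff.mpr (mem_zpowers e)))).trans
    (hCe le_rfl hAY))

/-- An element with small signalizer centralizes `O_q(M)`. -/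
theorem Config.good_centralizes {e : G} (he : e ∈ B) (he1 : e ≠ 1) (hgood : locCore p e ≤ M) :
    pCoreOf q M ≤ centralizer ({e} : Set G) := by
  have := hq.fact
  have hQp : ¬ p ∣ Nat.card (pCoreOf q M) := fun h => by
    obtain ⟨k, hk⟩ := (CharP.isPGroup_pCoreOf q M).exists_card_eq
    exact hq.2.1 ((Nat.prime_dvd_prime_iff_eq hp.out hq.1).mp (hp.out.dvd_of_dvd_pow (hk ▸ h))).symm
  have h2 : p ^ 2 ≤ Nat.card B := hc.card ▸ Nat.pow_le_pow_right hp.out.pos (by norm_num)
  rw [Components.Hyperplane.eq_iSup_hyperplane hc.elem h2 hQp (hc.le.trans (hc.le_normalizer_large hM hq))]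
  refine iSup_le fun U => ?_
  by_cases hall : ∀ b ∈ (U : Subgroup G), b ≠ 1 → locCore p b ≤ M
  · exfalso
    refine hc.false_of_good hM.1 (hc.le_M hM hq) (U.2.1.trans hc.le)
      (Components.Hyperplane.isElementaryAbelian_of_le hc.elem U.2.1) (Components.Hyperplane.not_isCyclic
        (Components.Hyperplane.isElementaryAbelian_of_le hc.elem U.2.1) ?_) hall
    have h1 := relIndex_mul_relIndex ⊥ (U : Subgroup G) B bot_le U.2.1
    rw [relIndex_bot_left, relIndex_bot_left, U.2.2, hc.card, pow_succ] at h1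
    exact (Nat.eq_of_mul_eq_mul_right hp.out.pos h1).ge
  push Not at hall
  obtain ⟨b, hb, hb1, hbad⟩ := hall
  exact (inf_le_inf_left _ (centralizer_le (Set.singleton_subset_iff.mpr hb))).trans
    (hc.good_centralizes_bad hM hq he he1 hgood (U.2.1 hb) hb1 hbad)

theorem Config.exists_good :
    ∃ e ∈ B, e ≠ 1 ∧ locCore p e ≤ M ∧ centralizer ({e} : Set G) ≤ M := by
  have := hq.fact
  obtain ⟨E, hE, hEe, hEc, -⟩ := hc.exists_elementary_large hM hq
  obtain ⟨b, hb, hb1, hnc⟩ := exists_noncyclic_inf_centralizer hq.2.1 hc.elem hc.card.ge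
    (CharP.isPGroup_pCoreOf q M) (hc.le.trans (hc.le_normalizer_large hM hq)) fun h =>
      Components.Hyperplane.not_isCyclic hEe (by rw [hEc]; exact Nat.pow_le_pow_right hq.1.pos (by norm_num))
        (isCyclic_of_injective (inclusion hE) (inclusion_injective hE))
  have hle := hc.le_of_noncyclic hM hq inf_le_left hnc (hc.centralizer_ne_top hb1) inf_le_right
  exact ⟨b, hb, hb1, (primeCore_le _).trans hle, hle⟩

end Large

/-- A good element centralizes every invariant `p'`-subgroup of `M`. -/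
theorem Config.good_commute {M : Subgroup G} (hM : DerivedMax P M) {e : G} (he : e ∈ B) (he1 : e ≠ 1)
    (hgood : locCore p e ≤ M) {Y : Subgroup G} (hY : (Nat.card Y).Coprime p) (hYM : Y ≤ M)
    (hAY : A ≤ normalizer (Y : Set G)) : ∀ y ∈ Y, Commute y e := by
  have hMs := Transitivity.isSolvable_of_ne_top hc.minSimple hM.1.1
  have hAM : A ≤ M := hc.scn.1.trans (hM.sylow_le hc)
  have hK : ∀ y ∈ primeCore p M, Commute y e := by
    refine commute_of_fitting (Coprime.isSolvable_of_le (primeCore_le M) hMs)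
      (le_normalizer_primeCore M (hAM (hc.le he))) ?_ fun r hr m hm => ?_
    · rw [orderOf_eq_prime (hc.elem.2 e he) he1]; exact (primeCore_coprime M).symm
    have hle : pCoreOf r (primeCore p M) ≤ pCoreOf r M :=
      CharP.le_pCoreOf ((CharP.pCoreOf_le r _).trans (primeCore_le M))
        ((le_normalizer_primeCore M).trans (Coprime.OmegaDetect.normalizer_le_normalizer_char _ (pCore r _)))
        (CharP.isPGroup_pCoreOf r _)
    by_cases hm1 : m = 1
    · exact hm1 ▸ Commute.one_left e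
    have hrp : r ≠ p := by
      intro hrp
      obtain ⟨k, hk⟩ := (CharP.isPGroup_pCoreOf r (primeCore p M)).exists_card_eq
      have hk0 : k ≠ 0 := fun h => hm1 (by
        have hb0 : pCoreOf r (primeCore p M) = ⊥ := eq_bot_of_card_eq _ (by rw [hk, h, pow_zero])
        rw [hb0, mem_bot] at hm; exact hm)
      exact not_dvd_of_coprime (primeCore_coprime (p := p) M) hr.out
        ((dvd_pow_self r hk0).trans (hk ▸ card_dvd_of_le (CharP.pCoreOf_le r (primeCore p M)))) hrp
    by_cases hsmall : PRankLE r 2 (fittingOf M)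
    · exact mem_centralizer_iff.mp (hc.centralizes_small hM hrp hsmall (hc.scn.1 (hc.le he))) m (hle hm)
    · exact mem_centralizer_singleton_iff.mp
        (hc.good_centralizes hM ⟨hr.out, hrp, hsmall⟩ he he1 hgood (hle hm))
  intro y hy
  exact hK y (le_primeCore_of_scn hc.minSimple P hc.scn (not_pRankLE_mono one_le_two hc.rank) hM.1.1 hAM hYM hY
    hAY hy)

theorem Config.false : False := by
  have hG := hc.minSimple
  obtain ⟨M, hMc, hMd⟩ := exists_derived_max hG P hc.ne_two
    (fun h => ne_bot_of_not_pRankLE hc.rank (le_bot_iff.mp (h ▸ hc.scn.1)))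
  have hM : DerivedMax P M := ⟨hMc, hMd⟩
  obtain ⟨q, hq⟩ := hc.exists_large hM
  have := hq.fact
  -- a second maximal subgroup
  obtain ⟨H, hH, hHM⟩ : ∃ H : Subgroup G, DerivedMax P H ∧ H ≠ M := by
    by_contra hcon
    push Not at hcon
    refine hc.fail (unique_of_inv hG hMc hc.isPGroup (ne_bot_of_not_pRankLE hc.rank) (fun Y hY hAY => ?_)
      (hc.le_M hM hq))
    refine inv_le_of_scn hG P hc.scn hc.rank (hc.core_le hM hq) (fun r hr hrp => ?_) hY hAY
    obtain ⟨Q, hQ, -, hPd⟩ := hc.exists_invariant_derived hM hr hrp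
    refine ⟨Q, hQ, ?_⟩
    by_cases hQ0 : Q = ⊥
    · rw [hQ0]; exact bot_le
    have hQtop : Q ≠ ⊤ := fun h => by
      have hd : p ∣ Nat.card Q := by
        rw [h, card_top]
        exact (dvd_card_of_ne_bot hc.isPGroup (ne_bot_of_not_pRankLE hc.rank)).trans (card_subgroup_dvd_card A)
      exact hrp (Set.mem_singleton_iff.mp (hQ.1.2.1 p hp.out hd)).symm
    obtain ⟨L, hL, hNL⟩ := (eq_top_or_exists_le_coatom (normalizer (Q : Set G))).resolve_left
      (Transitivity.normalizer_ne_top hG hQ0 hQtop)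
    rw [← hcon L ⟨hL, hPd.trans (commutator_mono hNL hNL)⟩]
    exact le_normalizer.trans hNL
  obtain ⟨s, hs⟩ := hc.exists_large hH
  have := hs.fact
  have hne : ∀ {X : Subgroup G}, IsCoatom X → X ≤ M → X = M := fun {X} hX hle =>
    (le_iff_eq_or_lt.mp hle).resolve_right fun hlt => hMc.1 (hX.2 M hlt)
  have hqs : q ≠ s := by
    intro hqs
    subst hqs
    exact hHM (hne hH.1 (hc.le_of_le_large hH hs hMc.1
      (hc.inv_le hM hq (CharP.isPGroup_pCoreOf q H) (hc.le_normalizer_large hH hs)) |> fun h =>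
        ((le_iff_eq_or_lt.mp h).resolve_right fun hlt => hH.1.1 (hMc.2 H hlt)).ge))
  obtain ⟨e, he, he1, heg, heC⟩ := hc.exists_good hM hq
  obtain ⟨f, hf, hf1, hfg, hfC⟩ := hc.exists_good hH hs
  have hQf : ¬ pCoreOf q M ≤ centralizer ({f} : Set G) := fun h =>
    hHM (hne hH.1 (((le_iff_eq_or_lt.mp (hc.le_of_le_large hM hq hH.1.1 (h.trans hfC))).elim
      (fun h' => h'.le) fun hlt => absurd (hH.1.2 M hlt) hMc.1)))
  have hRe : ¬ pCoreOf s H ≤ centralizer ({e} : Set G) := fun h =>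
    hHM (hne hH.1 ((le_iff_eq_or_lt.mp (hc.le_of_le_large hH hs hMc.1 (h.trans heC))).elim
      (fun h' => h'.ge) fun hlt => absurd (hMc.2 H hlt) hH.1.1))
  have h2 : p ^ 2 ≤ Nat.card B := hc.card ▸ Nat.pow_le_pow_right hp.out.pos (by norm_num)
  have hmove : ∀ {K : Subgroup G} {C : Subgroup G}, ¬ p ∣ Nat.card K → B ≤ normalizer (K : Set G) → ¬ K ≤ C →
      ∃ U : Subgroup G, U ≤ B ∧ U.relIndex B = p ∧ ¬ K ⊓ centralizer (U : Set G) ≤ C := by
    intro K C hK hBK hKC
    by_contra hcon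
    push Not at hcon
    rw [Components.Hyperplane.eq_iSup_hyperplane hc.elem h2 hK hBK] at hKC
    exact hKC (iSup_le fun U => hcon U U.2.1 U.2.2)
  have hnp : ∀ {r : ℕ} [Fact r.Prime], r ≠ p → ∀ {K : Subgroup G}, IsPGroup r K → (Nat.card K).Coprime p := by
    intro r _ hrp K hK
    obtain ⟨k, hk⟩ := hK.exists_card_eq
    rw [hk]
    exact ((Nat.coprime_primes Fact.out hp.out).mpr hrp).pow_left k
  have hQc := hnp hq.2.1 (CharP.isPGroup_pCoreOf q M)
  have hRc := hnp hs.2.1 (CharP.isPGroup_pCoreOf s H)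
  obtain ⟨U₁, hU₁, hi₁, hU₁f⟩ := hmove (hp.out.coprime_iff_not_dvd.mp hQc.symm)
    (hc.le.trans (hc.le_normalizer_large hM hq)) hQf
  obtain ⟨U₂, hU₂, hi₂, hU₂e⟩ := hmove (hp.out.coprime_iff_not_dvd.mp hRc.symm)
    (hc.le.trans (hc.le_normalizer_large hH hs)) hRe
  obtain ⟨b, hb, hb1, hb₁, hb₂⟩ :=
    Components.Signalizer.exists_mem_two_hyperplanes hc.elem hc.card.ge hU₁ hi₁ hU₂ hi₂
  set W := pCoreOf q M ⊓ centralizer ({b} : Set G) with hW
  set V := pCoreOf s H ⊓ centralizer ({b} : Set G) with hV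
  obtain ⟨w, hw, hwf⟩ : ∃ w ∈ W, ¬ Commute w f := by
    by_contra hcon
    push Not at hcon
    exact hU₁f fun x hx => mem_centralizer_singleton_iff.mpr (hcon x
      ⟨hx.1, centralizer_le (Set.singleton_subset_iff.mpr hb₁) hx.2⟩).eq
  obtain ⟨u, hu, hue⟩ : ∃ u ∈ V, ¬ Commute u e := by
    by_contra hcon
    push Not at hcon
    exact hU₂e fun x hx => mem_centralizer_singleton_iff.mpr (hcon x
      ⟨hx.1, centralizer_le (Set.singleton_subset_iff.mpr hb₂) hx.2⟩).eq
  have hAW := hc.le_normalizer_inf (hc.le hb) (hc.le_normalizer_large hM hq)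
  have hAV := hc.le_normalizer_inf (hc.le hb) (hc.le_normalizer_large hH hs)
  set Y := locCore p b with hY
  have hWY : W ≤ Y := hc.le_locCore (hc.le hb) hb1 hQc (hc.le_normalizer_large hM hq)
  have hVY : V ≤ Y := hc.le_locCore (hc.le hb) hb1 hRc (hc.le_normalizer_large hH hs)
  have hAY : A ≤ normalizer (Y : Set G) :=
    (hc.le_centralizer_singleton (hc.le hb)).trans (le_normalizer_primeCore _)
  have hYc : (Nat.card Y).Coprime p := primeCore_coprime _
  have hYs : Group.IsSolvable Y := Coprime.isSolvable_of_le (primeCore_le _)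
    (Transitivity.isSolvable_of_ne_top hG (hc.centralizer_ne_top hb1))
  have hcop := coprime_card_of_pGroup hc.isPGroup hYc
  have hpi : ∀ {r : ℕ} [Fact r.Prime] {K : Subgroup G}, IsPGroup r K → (r = q ∨ r = s) →
      ∀ l : ℕ, l.Prime → l ∣ Nat.card K → l ∈ ({q, s} : Set ℕ) := by
    intro r _ K hK hr l hl hd
    obtain ⟨k, hk⟩ := hK.exists_card_eq
    have := (Nat.prime_dvd_prime_iff_eq hl Fact.out).mp (hl.dvd_of_dvd_pow (hk ▸ hd))
    rcases hr with hr | hr <;> simp [this, hr]
  obtain ⟨H₁, hH₁, hAH₁, hWH₁⟩ := GenA.InvariantHall.exists_ge A _ Y W le_rfl hAY hcop hYs hWY hAW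
    (hpi ((CharP.isPGroup_pCoreOf q M).to_le inf_le_left) (Or.inl rfl))
  obtain ⟨H₂, hH₂, hAH₂, hVH₂⟩ := GenA.InvariantHall.exists_ge A _ Y V le_rfl hAY hcop hYs hVY hAV
    (hpi ((CharP.isPGroup_pCoreOf s H).to_le inf_le_left) (Or.inr rfl))
  obtain ⟨c, hc', hcH⟩ := GenA.InvariantHall.exists_conj A Y hAY hcop hYs hH₂ hAH₂ hH₁ hAH₁
  have hcD : c ∈ piCoreOf (primesNotDvd (Nat.card A)) (centralizer (A : Set G)) :=
    Transitivity.le_core_centralizer hG (transitivityHypothesis_of_scn hG P hc.scn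
      (not_pRankLE_mono one_le_two hc.rank)) inf_le_right (fun r hr hd => ⟨hr, fun h =>
        not_dvd_of_coprime hYc hr (hd.trans (card_dvd_of_le inf_le_left))
          ((prime_dvd_card_iff hc.isPGroup (ne_bot_of_not_pRankLE hc.rank) hr).mp h)⟩) hc'
  set u' := c * u * c⁻¹ with hu'
  have hu'H : u' ∈ H₁ := by
    rw [← hcH]
    exact Coprime.conj_mem_conj_smul (hVH₂ hu)
  have hu'R : u' ∈ pCoreOf s H :=
    (mem_normalizer_iff.mp (CharP.le_normalizer_pCoreOf s H (hc.core_le hH hs hcD)) u).mp hu.1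
  have hu'e : ¬ Commute u' e := by
    intro h
    have hce : c * e = e * c := (mem_centralizer_iff.mp hc'.2 e (hc.le he)).symm
    refine hue ?_
    have hce' : Commute c⁻¹ e := (Commute.inv_left hce)
    have : u = c⁻¹ * u' * c := by rw [hu']; group
    rw [this]
    exact (hce'.mul_left h).mul_left hce
  have hH₁Y := hH₁.1
  have hH₁c : (Nat.card H₁).Coprime p := hYc.coprime_dvd_left (card_dvd_of_le hH₁Y)
  have hAcore : ∀ r : ℕ, A ≤ normalizer (pCoreOf r H₁ : Set G) := fun r =>
    hAH₁.trans (Coprime.OmegaDetect.normalizer_le_normalizer_char H₁ (pCore r H₁))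
  have hOq : ∀ m ∈ pCoreOf q H₁, Commute m e := hc.good_commute hM he he1 heg
    (hH₁c.coprime_dvd_left (card_dvd_of_le (CharP.pCoreOf_le q H₁)))
    (hc.inv_le hM hq (CharP.isPGroup_pCoreOf q H₁) (hAcore q)) (hAcore q)
  have hOs : ∀ m ∈ pCoreOf s H₁, Commute m f := hc.good_commute hH hf hf1 hfg
    (hH₁c.coprime_dvd_left (card_dvd_of_le (CharP.pCoreOf_le s H₁)))
    (hc.inv_le hH hs (CharP.isPGroup_pCoreOf s H₁) (hAcore s)) (hAcore s)
  -- `O_q(H₁)` lies in `H`
  have hOqH : pCoreOf q H₁ ≤ H := by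
    set d := e * u' * e⁻¹ * u'⁻¹ with hd
    have heR : e ∈ normalizer (pCoreOf s H : Set G) := hc.le_normalizer_large hH hs (hc.le he)
    have hdR : d ∈ pCoreOf s H :=
      (pCoreOf s H).mul_mem ((mem_normalizer_iff.mp heR u').mp hu'R) ((pCoreOf s H).inv_mem hu'R)
    have hd1 : d ≠ 1 := fun h => hu'e (by
      rw [hd, mul_inv_eq_one, mul_inv_eq_iff_eq_mul] at h
      exact h.symm)
    have hdC : ∀ m ∈ pCoreOf q H₁, Commute m d := by
      intro m hm
      have hm' : u'⁻¹ * m * u' ∈ pCoreOf q H₁ := by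
        have := (mem_normalizer_iff.mp (CharP.le_normalizer_pCoreOf q H₁ (H₁.inv_mem hu'H)) m).mp hm
        rwa [inv_inv] at this
      have h1 : Commute (u'⁻¹ * m * u') e⁻¹ := (hOq _ hm').inv_right
      have h2 : Commute m e := hOq m hm
      show m * d = d * m
      calc m * d = m * e * u' * e⁻¹ * u'⁻¹ := by rw [hd]; group
        _ = e * u' * ((u'⁻¹ * m * u') * e⁻¹) * u'⁻¹ := by rw [h2.eq]; group
        _ = e * u' * (e⁻¹ * (u'⁻¹ * m * u')) * u'⁻¹ := by rw [h1.eq]
        _ = d * m := by rw [hd]; group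
    obtain ⟨k, hk⟩ := (CharP.isPGroup_pCoreOf s H).exists_card_eq
    obtain ⟨i, -, hi⟩ := (Nat.dvd_prime_pow hs.1).mp (hk ▸ (pCoreOf s H).orderOf_dvd_natCard hdR)
    have hi0 : i ≠ 0 := fun h => hd1 (orderOf_eq_one_iff.mp (by rw [hi, h, pow_zero]))
    have hdo : orderOf (d ^ s ^ (i - 1)) = s := by
      rw [orderOf_pow, hi, Nat.gcd_eq_right (Nat.pow_dvd_pow s (Nat.sub_le i 1)),
        Nat.pow_div (Nat.sub_le i 1) hs.1.pos, show i - (i - 1) = 1 by omega, pow_one]
    refine le_trans (fun m hm => ?_) (hc.centralizer_omega_le hH hs ((pCoreOf s H).pow_mem hdR _) hdo)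
    exact mem_centralizer_singleton_iff.mpr ((hdC m hm).pow_right _).eq
  have hfF : ∀ r : ℕ, ∀ [Fact r.Prime], ∀ m ∈ pCoreOf r H₁, Commute m f := by
    intro r hr m hm
    by_cases hm1 : m = 1
    · exact hm1 ▸ Commute.one_left f
    have hrd : r ∣ Nat.card H₁ := (dvd_card_of_ne_bot (CharP.isPGroup_pCoreOf r H₁)
      fun h => hm1 (by rw [h, mem_bot] at hm; exact hm)).trans (card_dvd_of_le (CharP.pCoreOf_le r H₁))
    rcases hH₁.2.1 r hr.out hrd with rfl | hrs
    · exact hc.good_commute hH hf hf1 hfg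
        (hH₁c.coprime_dvd_left (card_dvd_of_le (CharP.pCoreOf_le r H₁))) hOqH (hAcore r) m hm
    · rw [Set.mem_singleton_iff] at hrs
      subst hrs
      exact hOs m hm
  exact hwf (commute_of_fitting (Coprime.isSolvable_of_le hH₁Y hYs) (hAH₁ (hc.le hf))
    (by rw [orderOf_eq_prime (hc.elem.2 f hf) hf1]; exact hH₁c.symm) hfF w (hWH₁ hw))

omit hc in
/-- Members of `SCN₃` are uniqueness subgroups. -/
theorem unique_of_scn_three (hG : IsMinSimpleOddOrder G) (P : Sylow p G) {A : Subgroup G}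
    (hA : IsSCN (P : Subgroup G) A) (hA3 : ¬ PRankLE p 2 A) : InUniqueMaximal A := by
  by_contra hfail
  obtain ⟨B, hBA, hBe, hBc⟩ := exists_elementary_of_not_pRankLE hA3
  exact (show Config P A B from ⟨hG, hA, hA3, hfail, hBA, hBe, hBc⟩).false

end Cfsg.Agent.OddLocal.Unique
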