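import Cfsg.Agent.OddLocal.UniqueSCN

/-! The uniqueness theorem. -/

set_option autoImplicit false
set_option linter.unusedSectionVars false

namespace Cfsg.Agent.OddLocal.Unique

open Cfsg Subgroup Cfsg.Agent.OddLocal.Bender

variable {G : Type*} [Group G] [Finite G]

/-- Abelian `p`-subgroups of rank at least three are uniqueness subgroups. -/
theorem unique_of_abelian_rank_three {p : ℕ} [Fact p.Prime] (hG : IsMinSimpleOddOrder G) {A : Subgroup G}
    (hAp : IsPGroup p A) (hAc : IsMulCommutative A) (hA3 : ¬ PRankLE p 2 A) : InUniqueMaximal A := by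
  have hp2 := ne_two hG (dvd_card_of_ne_bot hAp (ne_bot_of_not_pRankLE hA3))
  obtain ⟨P, hAP⟩ := hAp.exists_le_sylow
  obtain ⟨A', hA', hA'3⟩ := exists_scn hp2 P.isPGroup' fun h => hA3 (RankTwoFitting.pRankLE_mono hAP h)
  refine unique_of_rank hG (P.isPGroup'.to_le hA'.1) (isMulCommutative_of_scn hA') hA'3
    (unique_of_scn_three hG P hA' hA'3) hAp (fun hcy => ?_) fun h =>
      hA3 (RankTwoFitting.pRankLE_mono (le_centralizer A) h)
  obtain ⟨B, hBA, hBe, hBc⟩ := exists_elementary_of_not_pRankLE hA3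
  exact Components.Hyperplane.not_isCyclic hBe
    (by rw [hBc]; exact Nat.pow_le_pow_right (Fact.out : p.Prime).pos (by norm_num))
    (isCyclic_of_injective (inclusion hBA) (inclusion_injective hBA))

theorem exists_unique_le_of_rank_three (hG : IsMinSimpleOddOrder G) {X : Subgroup G} (h : ¬ RankLE 2 X) :
    ∃ E : Subgroup G, E ≤ X ∧ InUniqueMaximal E := by
  obtain ⟨p, E, hp, hE, hEe, hEc⟩ := Transitivity.exists_elementary_of_not_rankLE h
  have := Fact.mk hp
  exact ⟨E, hE, unique_of_abelian_rank_three hG (Components.Hyperplane.isPGroup hEe) hEe.1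
    (not_pRankLE_of_elementary le_rfl hEe hEc.ge)⟩

/-- The uniqueness theorem. -/
theorem uniqueness (hG : IsMinSimpleOddOrder G) {K : Subgroup G} (hK : K ≠ ⊤) (hK2 : ¬ RankLE 1 K)
    (hK3 : ¬ RankLE 2 K ∨ ¬ RankLE 2 (centralizer (K : Set G))) : InUniqueMaximal K := by
  rcases hK3 with h | h
  · obtain ⟨E, hE, hEU⟩ := exists_unique_le_of_rank_three hG h
    exact mono hEU hE hK
  · obtain ⟨E, hE, hEU⟩ := exists_unique_le_of_rank_three hG h
    exact unique_of_le_centralizer hG hEU
      (fun k hk => mem_centralizer_iff.mpr fun x hx => (mem_centralizer_iff.mp (hE hx) k hk).symm) hK2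

end Cfsg.Agent.OddLocal.Unique
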