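import Cfsg.Agent.Lib.Components.Hyperplane
import Cfsg.Agent.Lib.Coprime.FrobeniusPGroup
import Cfsg.Agent.Lib.Transfer.Fusion
import Cfsg.Agent.Lib.CharP.PReduced

/-! Weight spaces of an elementary abelian group on a module on which an element of prime order
has at most one line of fixed points. -/

set_option autoImplicit false
set_option linter.unusedSectionVars false

namespace Cfsg.Agent.OddLocal.WeightSpaces

open Cfsg Subgroup
open Cfsg.Agent.Transfer.Fusion (map_conj_mul map_conj_one mem_map_conj conj_mem_map_conj card_map_conj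
  map_conj_eq_self_iff)

variable {G : Type*} [Group G] [Finite G]

/-- The data. -/
structure Setting (p q r : ℕ) (V E X : Subgroup G) : Prop where
  hp : p.Prime
  hq : q.Prime
  hr : r.Prime
  hpq : p ≠ q
  hpr : p ≠ r
  hqr : q ≠ r
  hV : IsElementaryAbelian p V
  hE : IsElementaryAbelian q E
  hX : Nat.card X = r
  hEV : E ≤ normalizer (V : Set G)
  hXV : X ≤ normalizer (V : Set G)
  hXE : X ≤ normalizer (E : Set G)
  hCE : V ⊓ centralizer (E : Set G) = ⊥
  hC : Nat.card (V ⊓ centralizer (X : Set G) : Subgroup G) ≤ p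

/-- The weight space of a hyperplane. -/
def weight (V M : Subgroup G) : Subgroup G := V ⊓ centralizer (M : Set G)

/-- A hyperplane with nontrivial weight space. -/
def Relevant (q : ℕ) (V E M : Subgroup G) : Prop := M ≤ E ∧ M.relIndex E = q ∧ weight V M ≠ ⊥

/-- `M` contributes a fixed point of `X`. -/
def Contributes (V E X M : Subgroup G) : Prop := ¬ X ≤ normalizer (M : Set G) ∨ ¬ ⁅E, X⁆ ≤ M

variable {p q r : ℕ} {V E X : Subgroup G}

theorem relIndex_map_conj {M : Subgroup G} {y : G} (hy : y ∈ normalizer (E : Set G)) :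
    (M.map (MulAut.conj y).toMonoidHom).relIndex E = M.relIndex E := by
  conv_lhs => rw [← map_conj_eq_self_iff.mpr hy]
  exact relIndex_map_map_of_injective _ _ (MulAut.conj y).injective

theorem relevant_conj {M : Subgroup G} (hM : Relevant q V E M) {y : G} (hyE : y ∈ normalizer (E : Set G))
    (hyV : y ∈ normalizer (V : Set G)) : Relevant q V E (M.map (MulAut.conj y).toMonoidHom) := by
  obtain ⟨h1, h2, h3⟩ := hM
  refine ⟨(map_mono h1).trans (map_conj_eq_self_iff.mpr hyE).le, (relIndex_map_conj hyE).trans h2, fun e => h3 ?_⟩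
  rw [Subgroup.eq_bot_iff_forall] at e ⊢
  intro v hv
  have h := e (y * v * y⁻¹) ⟨(mem_normalizer_iff.mp hyV v).mp hv.1, mem_centralizer_iff.mpr fun m hm => by
    have hc := mem_centralizer_iff.mp hv.2 _ (mem_map_conj.mp hm)
    calc m * (y * v * y⁻¹) = y * (y⁻¹ * m * y * v) * y⁻¹ := by group
      _ = y * (v * (y⁻¹ * m * y)) * y⁻¹ := by rw [hc]
      _ = y * v * y⁻¹ * m := by group⟩
  exact conj_eq_one_iff.mp h

theorem sup_eq {M M' : Subgroup G} (hq : q.Prime) (hM : M ≤ E) (hi : M.relIndex E = q) (hM' : M' ≤ E)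
    (hi' : M'.relIndex E = q) (hne : M ≠ M') : M ⊔ M' = E := by
  have hle : M ⊔ M' ≤ E := sup_le hM hM'
  have h := relIndex_mul_relIndex M (M ⊔ M') E le_sup_left hle
  rw [hi] at h
  rcases (Nat.dvd_prime hq).mp (Dvd.intro_left _ h) with h1 | h1
  · exact le_antisymm hle (relIndex_eq_one.mp h1)
  · exfalso
    rw [h1] at h
    have h2 : M.relIndex (M ⊔ M') = 1 := by
      exact Nat.eq_of_mul_eq_mul_right hq.pos (h.trans (one_mul q).symm)
    have hle' : M' ≤ M := le_sup_right.trans (relIndex_eq_one.mp h2)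
    have h3 := relIndex_mul_relIndex M' M E hle' hM
    rw [hi, hi'] at h3
    have h4 : M'.relIndex M = 1 := Nat.eq_of_mul_eq_mul_right hq.pos (h3.trans (one_mul q).symm)
    exact hne (le_antisymm (relIndex_eq_one.mp h4) hle')

/-- The norm of `M` on `V`, computed in `G`. -/
theorem exists_norm (hVc : IsMulCommutative V) {M : Subgroup G} (hMV : M ≤ normalizer (V : Set G)) :
    ∃ N : V →* V, (∀ v : V, (v : G) ∈ centralizer (M : Set G) → N v = v ^ Nat.card M) ∧
      (∀ v : V, (N v : G) ∈ centralizer (M : Set G)) ∧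
      ∀ (M' : Subgroup G) (v : V), (∀ a ∈ M, ∀ b ∈ M', a * b = b * a) →
        (v : G) ∈ centralizer (M' : Set G) → (N v : G) ∈ centralizer (M' : Set G) := by
  classical
  let : CommGroup V := { (inferInstance : Group V) with mul_comm := hVc.is_comm.comm }
  have := Fintype.ofFinite M
  let φ : M →* MulAut V := V.normalizerMonoidHom.comp (inclusion hMV)
  have hφ : ∀ (m : M) (v : V), (φ m v : G) = m * v * (m : G)⁻¹ := fun _ _ => rfl
  have hfix : ∀ (g : G) (v : V), (v : G) ∈ centralizer ({g} : Set G) ↔ g * v * g⁻¹ = v := fun g v => by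
    rw [mem_centralizer_singleton_iff, mul_inv_eq_iff_eq_mul]
    exact eq_comm
  refine ⟨{ toFun := fun v => ∏ m : M, φ m v
            map_one' := by simp
            map_mul' := fun v w => by simp [Finset.prod_mul_distrib] }, ?_, ?_, ?_⟩
  · intro v hv
    show ∏ m : M, φ m v = _
    rw [Finset.prod_congr rfl (g := fun _ => v) fun m _ => Subtype.ext (by
      rw [hφ, mem_centralizer_iff.mp hv m m.2, mul_inv_cancel_right]), Finset.prod_const, Finset.card_univ,
      Nat.card_eq_fintype_card]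
  · intro v
    rw [mem_centralizer_iff]
    intro g hg
    have h : φ ⟨g, hg⟩ (∏ m : M, φ m v) = ∏ m : M, φ m v := by
      rw [map_prod]
      refine Fintype.prod_equiv (Equiv.mulLeft (⟨g, hg⟩ : M)) _ _ fun m => ?_
      rw [Equiv.coe_mulLeft, map_mul, MulAut.mul_apply]
    have h' := congrArg Subtype.val h
    rw [hφ] at h'
    exact mul_inv_eq_iff_eq_mul.mp h'
  · intro M' v hcomm hv
    rw [mem_centralizer_iff]
    intro g hg
    refine mul_inv_eq_iff_eq_mul.mp ?_
    have hgV : ∀ (m : M), g * (φ m v : G) * g⁻¹ = φ m v := fun m => by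
      have h1 := mem_centralizer_iff.mp hv g hg
      rw [hφ]
      calc g * (m * v * (m : G)⁻¹) * g⁻¹ = (g * m) * v * (g * m)⁻¹ := by group
        _ = (m * g) * v * ((m : G) * g)⁻¹ := by rw [hcomm m m.2 g hg]
        _ = m * (g * v) * g⁻¹ * (m : G)⁻¹ := by group
        _ = m * (v * g) * g⁻¹ * (m : G)⁻¹ := by rw [h1]
        _ = _ := by group
    show g * ((∏ m : M, φ m v : V) : G) * g⁻¹ = ((∏ m : M, φ m v : V) : G)
    refine Finset.induction_on (Finset.univ : Finset M) (by simp) fun m s hm ih => ?_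
    rw [Finset.prod_insert hm, coe_mul]
    calc g * ((φ m v : G) * ((∏ x ∈ s, φ x v : V) : G)) * g⁻¹ =
        (g * (φ m v : G) * g⁻¹) * (g * ((∏ x ∈ s, φ x v : V) : G) * g⁻¹) := by group
      _ = _ := by rw [hgV, ih]

theorem Setting.card_coprime (h : Setting p q r V E X) {M : Subgroup G} (hM : M ≤ E) (v : V) :
    (Nat.card M).Coprime (orderOf v) := by
  have := Fact.mk h.hq
  obtain ⟨k, hk⟩ := ((Components.Hyperplane.isPGroup h.hE).to_le hM).exists_card_eq
  refine (Nat.Coprime.coprime_dvd_right ?_ (show (Nat.card M).Coprime p from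
    hk ▸ ((Nat.coprime_primes h.hq h.hp).mpr (Ne.symm h.hpq)).pow_left k))
  exact orderOf_dvd_of_pow_eq_one (Subtype.ext (by simpa using h.hV.2 _ v.2))

theorem Setting.norm_eq_one (h : Setting p q r V E X) {M M' : Subgroup G} (hM : M ≤ E)
    (hi : M.relIndex E = q) (hM' : M' ≤ E) (hi' : M'.relIndex E = q) (hne : M ≠ M') {N : V →* V}
    (hN : (∀ v : V, (N v : G) ∈ centralizer (M : Set G)) ∧
      ∀ (M' : Subgroup G) (v : V), (∀ a ∈ M, ∀ b ∈ M', a * b = b * a) →
        (v : G) ∈ centralizer (M' : Set G) → (N v : G) ∈ centralizer (M' : Set G))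
    {v : V} (hv : (v : G) ∈ centralizer (M' : Set G)) : N v = 1 := by
  refine Subtype.ext ?_
  have h1 : (N v : G) ∈ V ⊓ centralizer (E : Set G) := by
    refine ⟨(N v).2, ?_⟩
    rw [← sup_eq h.hq hM hi hM' hi' hne]
    have ha := hN.1 v
    have hb := hN.2 M' v (fun a ha b hb => Components.Hyperplane.mem_comm h.hE (hM ha) (hM' hb)) hv
    show _ ∈ centralizer _
    rw [mem_centralizer_iff]
    intro y hy
    have hle : M ⊔ M' ≤ centralizer ({(N v : G)} : Set G) :=
      sup_le (fun z hz => mem_centralizer_singleton_iff.mpr (mem_centralizer_iff.mp ha z hz))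
        (fun z hz => mem_centralizer_singleton_iff.mpr (mem_centralizer_iff.mp hb z hz))
    exact mem_centralizer_singleton_iff.mp (hle hy)
  rwa [h.hCE, mem_bot] at h1

theorem Setting.eq_one_of_pow_card (h : Setting p q r V E X) {M : Subgroup G} (hM : M ≤ E) {v : V}
    (hv : v ^ Nat.card M = 1) : v = 1 :=
  orderOf_eq_one_iff.mp (Nat.eq_one_of_dvd_coprimes (h.card_coprime hM v) (orderOf_dvd_of_pow_eq_one hv) dvd_rfl)

theorem Setting.exists_gen (h : Setting p q r V E X) : ∃ x : G, zpowers x = X ∧ orderOf x = r := by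
  have := Fact.mk h.hr
  obtain ⟨x, hx⟩ := isCyclic_iff_exists_zpowers_eq_top.mp (isCyclic_of_prime_card (α := X) h.hX)
  have hgen : zpowers (x : G) = X := by
    rw [← coe_subtype, ← MonoidHom.map_zpowers, hx, ← MonoidHom.range_eq_map, range_subtype]
  exact ⟨x, hgen, by rw [← Nat.card_zpowers, hgen, h.hX]⟩

/-- A contributing hyperplane gives a fixed point of `X`, killed by the norms off its orbit, and the
weight space injects into the fixed points when `X` moves the hyperplane. -/
theorem Setting.contrib (h : Setting p q r V E X) {M : Subgroup G} (hM : Relevant q V E M)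
    (hc : Contributes V E X M) :
    (∃ c : V, (c : G) ∈ centralizer (X : Set G) ∧ c ≠ 1 ∧
      (∀ N : V →* V, (∀ v : V, (v : G) ∈ centralizer (M : Set G) → N v = v ^ Nat.card M) →
        ((∀ v : V, (N v : G) ∈ centralizer (M : Set G)) ∧
          ∀ (M' : Subgroup G) (v : V), (∀ a ∈ M, ∀ b ∈ M', a * b = b * a) →
            (v : G) ∈ centralizer (M' : Set G) → (N v : G) ∈ centralizer (M' : Set G)) → N c ≠ 1) ∧
      ∀ M' : Subgroup G, M' ≤ E → M'.relIndex E = q →
        (∀ y ∈ X, M.map (MulAut.conj y).toMonoidHom ≠ M') → ∀ N : V →* V,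
          ((∀ v : V, (N v : G) ∈ centralizer (M' : Set G)) ∧
            ∀ (M'' : Subgroup G) (v : V), (∀ a ∈ M', ∀ b ∈ M'', a * b = b * a) →
              (v : G) ∈ centralizer (M'' : Set G) → (N v : G) ∈ centralizer (M'' : Set G)) → N c = 1) ∧
    (¬ X ≤ normalizer (M : Set G) → Nat.card (weight V M) ≤ p) := by
  classical
  obtain ⟨x, hgen, hxr⟩ := h.exists_gen
  have hxX : x ∈ X := hgen ▸ mem_zpowers x
  obtain ⟨hME, hMi, hMw⟩ := hM
  let : CommGroup V := { (inferInstance : Group V) with mul_comm := h.hV.1.is_comm.comm }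
  set b : MulAut V := V.normalizerMonoidHom ⟨x, h.hXV hxX⟩ with hb
  have hbpow : ∀ (i : ℕ) (v : V), ((b ^ i) v : G) = x ^ i * v * (x ^ i)⁻¹ := by
    intro i v
    induction i with
    | zero => simp
    | succ i ih =>
      rw [pow_succ', MulAut.mul_apply, pow_succ']
      show x * ((b ^ i) v : G) * x⁻¹ = _
      rw [ih]; group
  have hbr : b ^ r = 1 := by
    refine MulEquiv.ext fun v => Subtype.ext ?_
    rw [hbpow, ← hxr, pow_orderOf_eq_one]
    simp
  set τ : V → V := fun v => ∏ i ∈ Finset.range r, (b ^ i) v with hτ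
  have hτC : ∀ v, (τ v : G) ∈ centralizer (X : Set G) := by
    intro v
    have h1 : b (τ v) = τ v := by
      simp only [hτ, map_prod, ← MulAut.mul_apply, ← pow_succ']
      obtain ⟨r', hr'⟩ := Nat.exists_eq_add_of_le' h.hr.one_le
      rw [hr'] at hbr ⊢
      rw [Finset.prod_range_succ, Finset.prod_range_succ' (fun i => (b ^ i) v) r', hbr, pow_zero]
    have h2 : x * (τ v : G) * x⁻¹ = τ v := congrArg Subtype.val h1
    rw [← hgen, zpowers_eq_closure, centralizer_closure, mem_centralizer_singleton_iff]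
    exact (mul_inv_eq_iff_eq_mul.mp h2).symm
  have hweight : ∀ (i : ℕ) (v : V), (v : G) ∈ centralizer (M : Set G) →
      ((b ^ i) v : G) ∈ centralizer ((M.map (MulAut.conj (x ^ i)).toMonoidHom : Subgroup G) : Set G) := by
    intro i v hv
    rw [hbpow, mem_centralizer_iff]
    intro m hm
    have hc := mem_centralizer_iff.mp hv _ (mem_map_conj.mp hm)
    calc m * (x ^ i * v * (x ^ i)⁻¹) = x ^ i * ((x ^ i)⁻¹ * m * x ^ i * v) * (x ^ i)⁻¹ := by group
      _ = x ^ i * (v * ((x ^ i)⁻¹ * m * x ^ i)) * (x ^ i)⁻¹ := by rw [hc]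
      _ = _ := by group
  have hxE : ∀ i : ℕ, x ^ i ∈ normalizer (E : Set G) := fun i => pow_mem (h.hXE hxX) i
  by_cases hfix : X ≤ normalizer (M : Set G)
  · -- the fixed case: the Frobenius group `E/M ⋊ X` acts on the weight space
    have hEX : ¬ ⁅E, X⁆ ≤ M := hc.resolve_left (fun hn => hn hfix)
    refine ⟨?_, fun hn => absurd hfix hn⟩
    suffices hex : ∃ c : V, (c : G) ∈ centralizer (M : Set G) ∧ (c : G) ∈ centralizer (X : Set G) ∧ c ≠ 1 by
      obtain ⟨c, hcM, hcX, hc1⟩ := hex
      refine ⟨c, hcX, hc1, fun N hN _ e => hc1 (h.eq_one_of_pow_card hME ((hN c hcM).symm.trans e)),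
        fun M' hM'E hM'i hne N hN => ?_⟩
      refine h.norm_eq_one hM'E hM'i hME hMi ?_ hN hcM
      intro e
      exact hne 1 (one_mem X) (by rw [map_conj_one, e])
    by_contra hcon
    set W := weight V M with hW
    let : CommGroup W := { (inferInstance : Group W) with
      mul_comm := fun a b => Subtype.ext (congrArg Subtype.val
        (h.hV.1.is_comm.comm (⟨a, a.2.1⟩ : V) ⟨b, b.2.1⟩) :) }
    have hEN : E ⊔ X ≤ normalizer (W : Set G) := by
      refine sup_le ?_ ?_
      · refine le_trans (le_inf h.hEV ?_) inf_normalizer_le_normalizer_inf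
        intro e he
        exact le_normalizer (mem_centralizer_iff.mpr fun m hm => Components.Hyperplane.mem_comm h.hE (hME hm) he)
      · exact le_trans (le_inf h.hXV (hfix.trans (CharP.normalizer_le_normalizer_centralizer M)))
          inf_normalizer_le_normalizer_inf
    let ψ : ↥(E ⊔ X) →* MulAut W := W.normalizerMonoidHom.comp (inclusion hEN)
    have hψ : ∀ (g : ↥(E ⊔ X)) (w : W), (ψ g w : G) = g * w * (g : G)⁻¹ := fun _ _ => rfl
    set R : Subgroup (MulAut W) := (E.subgroupOf (E ⊔ X)).map ψ with hR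
    set bW : MulAut W := ψ ⟨x, mem_sup_right hxX⟩ with hbW
    have hC0 : ∀ w : W, ψ ⟨x, mem_sup_right hxX⟩ w = w → w = 1 := by
      intro w hw
      by_contra hw1
      refine hcon ⟨⟨w, w.2.1⟩, w.2.2, ?_, fun e => hw1 (Subtype.ext (congrArg Subtype.val e :))⟩
      rw [← hgen, zpowers_eq_closure, centralizer_closure, mem_centralizer_singleton_iff]
      exact (mul_inv_eq_iff_eq_mul.mp (congrArg Subtype.val hw : x * (w : G) * x⁻¹ = w)).symm
    have hRcard : (Nat.card R).Coprime (Nat.card W) := by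
      have := Fact.mk h.hq
      have := Fact.mk h.hp
      obtain ⟨j, hj⟩ := ((Components.Hyperplane.isPGroup h.hE).comap_subtype (K := E ⊔ X)).map ψ |>.exists_card_eq
      obtain ⟨k, hk⟩ := ((Components.Hyperplane.isPGroup h.hV).to_le (inf_le_left : W ≤ V)).exists_card_eq
      rw [hR, subgroupOf, hj]
      have hk' : Nat.card W = p ^ k := hk
      rw [hk']
      exact ((Nat.coprime_primes h.hq h.hp).mpr (Ne.symm h.hpq)).pow _ _
    -- elements of `M` act trivially; `E = M⟨ω⟩`
    have hMtriv : ∀ (e : G) (he : e ∈ E ⊔ X), e ∈ M → ψ ⟨e, he⟩ = 1 := fun e he hem =>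
      MulEquiv.ext fun w => Subtype.ext (by
        rw [hψ, MulAut.one_apply, mem_centralizer_iff.mp w.2.2 e hem, mul_inv_cancel_right])
    have hall : ∀ w : W, w ∈ (⊥ : Subgroup W) := fun w => by
      have := Fact.mk h.hr
      refine Coprime.FrobeniusPGroup.mem_of_norms (M := MulAut W) (MonoidHom.id _) R bW (p := r) ?_ ?_ ?_ hRcard ⊥
        (fun _ _ w hw => by rw [mem_bot] at hw ⊢; rw [hw, map_one]) ?_ ?_ w
      · rw [hbW, ← map_pow, show (⟨x, mem_sup_right hxX⟩ : ↥(E ⊔ X)) ^ r = 1 from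
          Subtype.ext (by simp [← hxr, pow_orderOf_eq_one]), map_one]
      · rintro _ ⟨⟨e, he'⟩, he, rfl⟩
        refine ⟨⟨x, mem_sup_right hxX⟩ * ⟨e, he'⟩ * ⟨x, mem_sup_right hxX⟩⁻¹, ?_, by simp only [hbW, map_mul, map_inv]⟩
        exact (mem_normalizer_iff.mp (h.hXE hxX) e).mp he
      · rintro _ ⟨⟨e, he'⟩, he, rfl⟩ hcomm
        -- `e` acts trivially
        by_cases heM : e ∈ M
        · exact hMtriv e he' heM
        exfalso
        -- `x` centralizes `e` modulo the kernel, hence `[E,X] ≤ M`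
        set K := (ψ.ker.map (E ⊔ X).subtype) ⊓ E with hK
        have hMK : M ≤ K := le_inf (fun m hm => ⟨⟨m, mem_sup_left (hME hm)⟩, hMtriv m _ hm, rfl⟩) hME
        have hKne : K ≠ E := by
          intro hKE
          refine hMw ((Subgroup.eq_bot_iff_forall _).mpr fun v hv => ?_)
          have : v ∈ V ⊓ centralizer (E : Set G) := ⟨hv.1, mem_centralizer_iff.mpr fun y hy => by
            obtain ⟨z, hz, rfl⟩ := (hKE.ge hy).1
            exact mul_inv_eq_iff_eq_mul.mp (congrArg Subtype.val (DFunLike.congr_fun hz (⟨v, hv⟩ : W)) :)⟩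
          rwa [h.hCE, mem_bot] at this
        have hKM : K = M := by
          have h' := relIndex_mul_relIndex M K E hMK inf_le_right
          rw [hMi] at h'
          rcases (Nat.dvd_prime h.hq).mp (Dvd.intro _ h') with h1 | h1
          · exact le_antisymm (relIndex_eq_one.mp h1) hMK
          · rw [h1] at h'
            have h2 : K.relIndex E = 1 := Nat.eq_of_mul_eq_mul_left h.hq.pos (h'.trans (mul_one q).symm)
            exact absurd (le_antisymm inf_le_right (relIndex_eq_one.mp h2)) hKne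
        have hxe : x * e * x⁻¹ * e⁻¹ ∈ M := by
          rw [← hKM]
          have hE' : x * e * x⁻¹ * e⁻¹ ∈ E :=
            mul_mem ((mem_normalizer_iff.mp (h.hXE hxX) e).mp he : x * e * x⁻¹ ∈ E) (inv_mem he : e⁻¹ ∈ E)
          refine ⟨⟨⟨x, mem_sup_right hxX⟩ * ⟨e, he'⟩ * ⟨x, mem_sup_right hxX⟩⁻¹ * ⟨e, he'⟩⁻¹, ?_, rfl⟩, hE'⟩
          show _ = 1
          simp only [map_mul, map_inv]
          rw [← hbW, hcomm, mul_inv_cancel_right, mul_inv_cancel]
        refine hEX (commutator_le.mpr fun a ha y hy => ?_)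
        have hEM : ∀ a ∈ E, ∀ m ∈ M, a * m * a⁻¹ = m := fun a ha m hm => by
          rw [Components.Hyperplane.mem_comm h.hE ha (hME hm), mul_inv_cancel_right]
        have hsup : M ⊔ zpowers e = E := by
          have hle : M ⊔ zpowers e ≤ E := sup_le hME (zpowers_le.mpr he)
          have h' := relIndex_mul_relIndex M (M ⊔ zpowers e) E le_sup_left hle
          rw [hMi] at h'
          rcases (Nat.dvd_prime h.hq).mp (Dvd.intro_left _ h') with h1 | h1
          · exact le_antisymm hle (relIndex_eq_one.mp h1)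
          · rw [h1] at h'
            have h2 := Nat.eq_of_mul_eq_mul_right h.hq.pos (h'.trans (one_mul q).symm)
            exact absurd (relIndex_eq_one.mp h2 (mem_sup_right (mem_zpowers e))) heM
        -- the set of elements of `E` fixed modulo `M` by `y`
        let S : Subgroup G :=
          { carrier := {a | a ∈ E ∧ ∀ y ∈ X, y * a * y⁻¹ * a⁻¹ ∈ M}
            one_mem' := ⟨one_mem _, fun y _ => by simp⟩
            mul_mem' := fun {a a'} ha ha' => ⟨mul_mem ha.1 ha'.1, fun y hy => by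
              have hm := ha'.2 y hy
              have e1 : y * (a * a') * y⁻¹ * (a * a')⁻¹ =
                  (y * a * y⁻¹ * a⁻¹) * (a * (y * a' * y⁻¹ * a'⁻¹) * a⁻¹) := by group
              rw [e1, hEM a ha.1 _ hm]
              exact mul_mem (ha.2 y hy) hm⟩
            inv_mem' := fun {a} ha => ⟨inv_mem ha.1, fun y hy => by
              have hm := inv_mem (ha.2 y hy)
              have e1 : y * a⁻¹ * y⁻¹ * a⁻¹⁻¹ = a⁻¹ * (a * (y * a * y⁻¹)⁻¹) * a⁻¹⁻¹ := by group
              rw [e1, hEM _ (inv_mem ha.1) _ (by simpa [mul_inv_rev, mul_assoc] using hm)]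
              simpa [mul_inv_rev, mul_assoc] using hm⟩ }
        have hES : E ≤ S := by
          rw [← hsup]
          refine sup_le (fun m hm => ⟨hME hm, fun y hy => mul_mem ((mem_normalizer_iff.mp (hfix hy) m).mp hm)
            (inv_mem hm)⟩) (zpowers_le.mpr ⟨he, fun y hy => ?_⟩)
          obtain ⟨n, rfl⟩ : ∃ n : ℕ, x ^ n = y :=
            mem_powers_iff_mem_zpowers.mpr (hgen.ge hy)
          induction n with
          | zero => simp
          | succ n ih =>
            have e1 : x ^ (n + 1) * e * (x ^ (n + 1))⁻¹ * e⁻¹ =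
                x * (x ^ n * e * (x ^ n)⁻¹ * e⁻¹) * x⁻¹ * (x * e * x⁻¹ * e⁻¹) := by
              rw [pow_succ']; group
            rw [e1]
            exact mul_mem ((mem_normalizer_iff.mp (hfix hxX) _).mp (ih (pow_mem hxX n))) hxe
        have h1 := inv_mem ((hES ha).2 y hy)
        rw [commutatorElement_def]
        simpa [mul_assoc] using h1
      · intro w
        rw [mem_bot]
        refine hC0 _ ?_
        show bW (∏ i ∈ Finset.range r, (bW ^ i) w) = ∏ i ∈ Finset.range r, (bW ^ i) w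
        have hbWr : bW ^ r = 1 := by
          rw [hbW, ← map_pow, show (⟨x, mem_sup_right hxX⟩ : ↥(E ⊔ X)) ^ r = 1 from
            Subtype.ext (by simp [← hxr, pow_orderOf_eq_one]), map_one]
        simp only [map_prod, ← MulAut.mul_apply, ← pow_succ']
        obtain ⟨r', hr'⟩ := Nat.exists_eq_add_of_le' h.hr.one_le
        rw [hr'] at hbWr ⊢
        rw [Finset.prod_range_succ, Finset.prod_range_succ' (fun i => (bW ^ i) w) r', hbWr, pow_zero]
      · intro w hw
        refine Subtype.ext ?_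
        have : (w : G) ∈ V ⊓ centralizer (E : Set G) := ⟨w.2.1, mem_centralizer_iff.mpr fun y hy => by
          have := hw (ψ ⟨y, mem_sup_left hy⟩) ⟨⟨y, mem_sup_left hy⟩, hy, rfl⟩
          exact mul_inv_eq_iff_eq_mul.mp (congrArg Subtype.val this :)⟩
        rwa [h.hCE, mem_bot] at this
    exact hMw ((Subgroup.eq_bot_iff_forall _).mpr fun v hv =>
      congrArg Subtype.val (mem_bot.mp (hall ⟨v, hv⟩)))
  · -- the moved case
    have hdist : ∀ i, i < r → i ≠ 0 → M.map (MulAut.conj (x ^ i)).toMonoidHom ≠ M := by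
      intro i hi hi0 e
      refine hfix fun y hy => ?_
      obtain ⟨k, -, hk⟩ := Nat.exists_mul_mod_eq_one_of_coprime
        ((h.hr.coprime_iff_not_dvd.mpr fun hd => hi0 (Nat.eq_zero_of_dvd_of_lt hd hi)).symm) h.hr.one_lt
      have h1 : x ∈ normalizer (M : Set G) := by
        have h2 := pow_mem (map_conj_eq_self_iff.mp e) k
        rwa [← pow_mul, ← pow_mod_orderOf, hxr, hk, pow_one] at h2
      exact (zpowers_le.mpr h1) (hgen.ge hy)
    have hNτ : ∀ (v : V), (v : G) ∈ centralizer (M : Set G) → ∀ N : V →* V,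
        (∀ v : V, (v : G) ∈ centralizer (M : Set G) → N v = v ^ Nat.card M) →
        ((∀ v : V, (N v : G) ∈ centralizer (M : Set G)) ∧
          ∀ (M' : Subgroup G) (v : V), (∀ a ∈ M, ∀ b ∈ M', a * b = b * a) →
            (v : G) ∈ centralizer (M' : Set G) → (N v : G) ∈ centralizer (M' : Set G)) →
        N (τ v) = v ^ Nat.card M := by
      intro v hv N hN1 hN2
      rw [hτ, map_prod, Finset.prod_eq_single 0]
      · simpa using hN1 v hv
      · intro i hi hi0
        refine h.norm_eq_one hME hMi ((map_mono hME).trans (map_conj_eq_self_iff.mpr (hxE i)).le)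
          ((relIndex_map_conj (hxE i)).trans hMi) (Ne.symm (hdist i (Finset.mem_range.mp hi) hi0)) hN2 (hweight i v hv)
      · intro h0
        exact absurd (Finset.mem_range.mpr h.hr.pos) h0
    obtain ⟨N, hN1, hN2⟩ := exists_norm h.hV.1 (hME.trans h.hEV)
    have hinj : ∀ v : V, (v : G) ∈ centralizer (M : Set G) → τ v = 1 → v = 1 := fun v hv e =>
      h.eq_one_of_pow_card hME (by rw [← hNτ v hv N hN1 hN2, e, map_one])
    refine ⟨?_, fun _ => ?_⟩
    · obtain ⟨v, hv, hv1⟩ := (bot_or_exists_ne_one _).resolve_left hMw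
      refine ⟨τ ⟨v, hv.1⟩, hτC _, fun e => hv1 (congrArg Subtype.val (hinj ⟨v, hv.1⟩ hv.2 e)), ?_, ?_⟩
      · intro N' hN1' hN2' e
        rw [hNτ _ hv.2 N' hN1' hN2'] at e
        exact hv1 (congrArg Subtype.val (h.eq_one_of_pow_card hME e))
      · intro M' hM'E hM'i hne N' hN'
        rw [hτ, map_prod]
        refine Finset.prod_eq_one fun i _ => ?_
        exact h.norm_eq_one hM'E hM'i ((map_mono hME).trans (map_conj_eq_self_iff.mpr (hxE i)).le)
          ((relIndex_map_conj (hxE i)).trans hMi) (Ne.symm (hne _ (pow_mem hxX i))) hN' (hweight i _ hv.2)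
    · refine le_trans (Nat.card_le_card_of_injective
        (fun v : weight V M => (⟨(τ ⟨v, v.2.1⟩ : V), (τ _).2, hτC _⟩ : (V ⊓ centralizer (X : Set G) : Subgroup G))) ?_) h.hC
      intro v w e
      have e1 : τ ⟨v, v.2.1⟩ = τ ⟨w, w.2.1⟩ := Subtype.ext (congrArg Subtype.val e :)
      have hmul : τ (⟨v, v.2.1⟩ * (⟨w, w.2.1⟩ : V)⁻¹) = τ ⟨v, v.2.1⟩ * (τ ⟨w, w.2.1⟩)⁻¹ := by
        simp only [hτ, map_mul, map_inv, Finset.prod_mul_distrib, Finset.prod_inv_distrib]
      have h1 := hinj (⟨v, v.2.1⟩ * (⟨w, w.2.1⟩ : V)⁻¹) (mul_mem v.2.2 (inv_mem w.2.2)) (by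
        rw [hmul, e1, mul_inv_cancel])
      exact Subtype.ext (mul_inv_eq_one.mp (congrArg Subtype.val h1) :)

theorem Setting.no_fixed_points (h : Setting p q r V E X) (hC : V ⊓ centralizer (X : Set G) = ⊥)
    {M : Subgroup G} (hM : Relevant q V E M) : X ≤ normalizer (M : Set G) ∧ ⁅E, X⁆ ≤ M := by
  by_contra hc
  obtain ⟨⟨c, hcX, hc1, -⟩, -⟩ := h.contrib hM (not_and_or.mp hc)
  have : (c : G) ∈ V ⊓ centralizer (X : Set G) := ⟨c.2, hcX⟩
  rw [hC, mem_bot] at this
  exact hc1 (Subtype.ext this)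

/-- All contributing hyperplanes form one orbit. -/
theorem Setting.one_orbit (h : Setting p q r V E X) {M M' : Subgroup G} (hM : Relevant q V E M)
    (hc : Contributes V E X M) (hM' : Relevant q V E M') (hc' : Contributes V E X M') :
    ∃ y ∈ X, M.map (MulAut.conj y).toMonoidHom = M' := by
  by_contra hcon
  have hne : ∀ y ∈ X, M.map (MulAut.conj y).toMonoidHom ≠ M' := fun y hy e => hcon ⟨y, hy, e⟩
  obtain ⟨⟨c, hcX, hc1, -, hcK⟩, -⟩ := h.contrib hM hc
  obtain ⟨⟨c', hc'X, hc'1, hc'N, -⟩, -⟩ := h.contrib hM' hc'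
  obtain ⟨N, hN1, hN2⟩ := exists_norm h.hV.1 (hM'.1.trans h.hEV)
  have hcord : orderOf (c : G) = p := by
    have := Fact.mk h.hp
    exact orderOf_eq_prime (h.hV.2 _ c.2) fun e => hc1 (Subtype.ext e)
  have heq : zpowers (c : G) = V ⊓ centralizer (X : Set G) :=
    eq_of_le_of_card_ge (zpowers_le.mpr ⟨c.2, hcX⟩) (by rw [Nat.card_zpowers, hcord]; exact h.hC)
  obtain ⟨k, hk⟩ := mem_zpowers_iff.mp (heq.ge ⟨c'.2, hc'X⟩)
  have hk' : c ^ k = c' := Subtype.ext (by simpa using hk)
  exact hc'N N hN1 hN2 (by rw [← hk', map_zpow, hcK M' hM'.1 hM'.2.1 hne N hN2, one_zpow])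

/-- If every relevant hyperplane contains `T`, then `T` centralizes `V`. -/
theorem Setting.le_centralizer (h : Setting p q r V E X) {T : Subgroup G} (hTE : T ≤ E) (hT : T ≠ ⊥ → V ≠ ⊥)
    (hall : ∀ M, Relevant q V E M → T ≤ M) : T ≤ centralizer (V : Set G) := by
  have := Fact.mk h.hq
  rcases eq_or_ne T ⊥ with rfl | hT0
  · exact bot_le
  have hV0 := hT hT0
  have hEd : q ∣ Nat.card E := by
    obtain ⟨t, ht, ht1⟩ := (bot_or_exists_ne_one _).resolve_left hT0
    rw [← Components.Hyperplane.orderOf_eq h.hE (hTE ht) ht1]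
    exact E.orderOf_dvd_natCard (hTE ht)
  obtain ⟨n, hn⟩ := (Components.Hyperplane.isPGroup h.hE).exists_card_eq
  by_cases hE2 : q ^ 2 ≤ Nat.card E
  · have hqV : ¬ q ∣ Nat.card V := by
      have := Fact.mk h.hp
      obtain ⟨k, hk⟩ := (Components.Hyperplane.isPGroup h.hV).exists_card_eq
      rw [hk]
      exact fun hd => h.hpq ((Nat.prime_dvd_prime_iff_eq h.hq h.hp).mp (h.hq.dvd_of_dvd_pow hd)).symm
    have heq := Components.Hyperplane.eq_iSup_hyperplane h.hE hE2 hqV h.hEV
    rw [le_centralizer_iff, heq]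
    refine iSup_le fun D => ?_
    by_cases hD : weight V D = ⊥
    · exact (show V ⊓ centralizer ((D : Subgroup G) : Set G) = ⊥ from hD).le.trans bot_le
    · exact inf_le_right.trans (centralizer_le (hall D ⟨D.2.1, D.2.2, hD⟩))
  · exfalso
    refine hT0 (le_bot_iff.mp (hall ⊥ ⟨bot_le, ?_, ?_⟩))
    · rw [relIndex_bot_left]
      have hn1 : n ≠ 0 := fun e => by
        rw [e, pow_zero] at hn
        rw [hn] at hEd
        exact h.hq.ne_one (Nat.dvd_one.mp hEd)
      have hn2 : n < 2 := (Nat.pow_lt_pow_iff_right h.hq.one_lt).mp (hn ▸ not_le.mp hE2)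
      rw [hn, show n = 1 by omega, pow_one]
    · intro e
      refine hV0 (le_bot_iff.mp ?_)
      rw [← e]
      exact le_inf le_rfl fun v _ => mem_centralizer_iff.mpr fun y hy => by
        rw [SetLike.mem_coe, mem_bot] at hy
        simp [hy]

end Cfsg.Agent.OddLocal.WeightSpaces
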